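import Cfsg.Agent.Omega.NSix.Base

/-!
# OMEGA N6: elementary facts on `zz`, `rr`, `NN`, `WW`, `UU`
-/

set_option autoImplicit false

namespace Cfsg.Agent.Omega.NSix.Basic

open Subgroup Cfsg.Agent.Omega.S5.Def Cfsg.Agent.Omega.NSix.Base

universe u

variable {G : Type u} [Group G] {n : ℕ} {V L : Subgroup G} {ε : (Fin n → ZMod 2) → G}

theorem exists_perm {ι : Type*} [DecidableEq ι] {k l k' l' : ι} (h : k ≠ l) (h' : k' ≠ l') :
    ∃ σ : Equiv.Perm ι, σ k = k' ∧ σ l = l' ∧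
      ∀ i, i ≠ k → i ≠ l → i ≠ k' → i ≠ l' → σ i = i := by
  have h0 : Equiv.swap k k' l ≠ k' := by
    intro h1
    have h2 : Equiv.swap k k' l = Equiv.swap k k' k := by rw [h1, Equiv.swap_apply_left]
    exact h ((Equiv.swap k k').injective h2).symm
  refine ⟨Equiv.swap (Equiv.swap k k' l) l' * Equiv.swap k k', ?_, ?_, ?_⟩
  · rw [Equiv.Perm.mul_apply, Equiv.swap_apply_left, Equiv.swap_apply_of_ne_of_ne h0.symm h']
  · rw [Equiv.Perm.mul_apply, Equiv.swap_apply_left]
  · intro i h1 h2 h3 h4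
    rw [Equiv.Perm.mul_apply, Equiv.swap_apply_of_ne_of_ne h1 h3]
    apply Equiv.swap_apply_of_ne_of_ne _ h4
    by_cases e1 : l = k'
    · rw [e1, Equiv.swap_apply_right]; exact h1
    · rw [Equiv.swap_apply_of_ne_of_ne h.symm e1]; exact h2

section

variable (h : EvenSet n V L ε)
include h

theorem zz_mem (i : Fin n) : zz ε i ∈ V := h.mem _

theorem zz_comm (i j : Fin n) : zz ε i * zz ε j = zz ε j * zz ε i := h.comm _ _

theorem zz_sq (i : Fin n) : zz ε i * zz ε i = 1 := h.sq _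

theorem zz_inv (i : Fin n) : (zz ε i)⁻¹ = zz ε i := h.inv _

theorem rr_mem (i j : Fin n) : rr ε i j ∈ V := V.mul_mem (h.mem _) (h.mem _)

theorem rr_symm (i j : Fin n) : rr ε i j = rr ε j i := h.comm _ _

theorem rr_sq (i j : Fin n) : rr ε i j * rr ε i j = 1 := h.sq_mem (rr_mem h i j)

theorem rr_inv (i j : Fin n) : (rr ε i j)⁻¹ = rr ε i j := inv_eq_of_mul_eq_one_left (rr_sq h i j)

theorem rr_add (i j k : Fin n) : rr ε i j * rr ε j k = rr ε i k := by
  unfold rr
  rw [mul_assoc, ← mul_assoc (zz ε j), zz_sq h, one_mul]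

theorem rr_ne_one (hn : 3 ≤ n) {i j : Fin n} (hij : i ≠ j) : rr ε i j ≠ 1 := by
  intro h0
  apply hij
  apply h.single_inj hn
  have h1 : zz ε i * zz ε j = 1 := h0
  rw [← mul_inv_eq_one]
  change zz ε i * (zz ε j)⁻¹ = 1
  rw [zz_inv h, h1]

theorem zz_ne_one (hn : 3 ≤ n) (i : Fin n) : zz ε i ≠ 1 := h.single_ne_one hn i

theorem NN_symm (i j : Fin n) : NN ε i j = NN ε j i := by
  unfold NN
  rw [rr_symm h]

theorem WW_symm (i j : Fin n) : WW V ε i j = WW V ε j i := by
  unfold WW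
  rw [NN_symm h]

theorem UU_symm (i j : Fin n) : UU ε i j = UU ε j i := by
  unfold UU
  rw [NN_symm h]
  congr 1
  ext x
  constructor
  · rintro ⟨g, hg, k, h1, h2, h3⟩
    exact ⟨g, hg, k, h2, h1, h3⟩
  · rintro ⟨g, hg, k, h1, h2, h3⟩
    exact ⟨g, hg, k, h2, h1, h3⟩

end

theorem zz_conj {g : G} {σ : Equiv.Perm (Fin n)} (hg : Acts ε g σ) (i : Fin n) :
    g * zz ε i * g⁻¹ = zz ε (σ i) := hg.single i

theorem rr_conj {g : G} {σ : Equiv.Perm (Fin n)} (hg : Acts ε g σ) (i j : Fin n) :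
    g * rr ε i j * g⁻¹ = rr ε (σ i) (σ j) := by
  unfold rr
  rw [← zz_conj hg, ← zz_conj hg]
  group

theorem mem_NN {i j : Fin n} {g : G} : g ∈ NN ε i j ↔ g * rr ε i j = rr ε i j * g := by
  unfold NN
  rw [mem_centralizer_singleton_iff]

theorem mem_NN' {i j : Fin n} {g : G} : g ∈ NN ε i j ↔ g * rr ε i j * g⁻¹ = rr ε i j := by
  rw [mem_NN, mul_inv_eq_iff_eq_mul]

theorem conj_NN {g x : G} {σ : Equiv.Perm (Fin n)} (hg : Acts ε g σ) {i j : Fin n}
    (hx : x ∈ NN ε i j) : g * x * g⁻¹ ∈ NN ε (σ i) (σ j) := by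
  rw [mem_NN'] at hx ⊢
  rw [← rr_conj hg]
  calc g * x * g⁻¹ * (g * rr ε i j * g⁻¹) * (g * x * g⁻¹)⁻¹
      = g * (x * rr ε i j * x⁻¹) * g⁻¹ := by group
    _ = _ := by rw [hx]

theorem V_le_WW (i j : Fin n) : V ≤ WW V ε i j := fun v hv =>
  subset_closure ⟨1, one_mem _, v, hv, by group⟩

theorem WW_normal {i j : Fin n} {g x : G} (hg : g ∈ NN ε i j) (hx : x ∈ WW V ε i j) :
    g * x * g⁻¹ ∈ WW V ε i j := by
  unfold WW at hx ⊢
  induction hx using closure_induction with
  | mem x hx =>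
    obtain ⟨k, hk, v, hv, rfl⟩ := hx
    exact subset_closure ⟨g * k, mul_mem hg hk, v, hv, by group⟩
  | one => rw [mul_one, mul_inv_cancel]; exact one_mem _
  | mul x y _ _ hx hy =>
    have : g * (x * y) * g⁻¹ = (g * x * g⁻¹) * (g * y * g⁻¹) := by group
    rw [this]; exact mul_mem hx hy
  | inv x _ hx =>
    have : g * x⁻¹ * g⁻¹ = (g * x * g⁻¹)⁻¹ := by group
    rw [this]; exact inv_mem hx

theorem WW_conj {i j : Fin n} {g x : G} (hg : g ∈ normalizer (V : Set G))
    {σ : Equiv.Perm (Fin n)} (hs : Acts ε g σ) (hx : x ∈ WW V ε i j) :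
    g * x * g⁻¹ ∈ WW V ε (σ i) (σ j) := by
  unfold WW at hx ⊢
  induction hx using closure_induction with
  | mem x hx =>
    obtain ⟨k, hk, v, hv, rfl⟩ := hx
    exact subset_closure ⟨g * k * g⁻¹, conj_NN hs hk, g * v * g⁻¹,
      (mem_normalizer_iff.mp hg v).mp hv, by group⟩
  | one => rw [mul_one, mul_inv_cancel]; exact one_mem _
  | mul x y _ _ hx hy =>
    have : g * (x * y) * g⁻¹ = (g * x * g⁻¹) * (g * y * g⁻¹) := by group
    rw [this]; exact mul_mem hx hy
  | inv x _ hx =>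
    have : g * x⁻¹ * g⁻¹ = (g * x * g⁻¹)⁻¹ := by group
    rw [this]; exact inv_mem hx

theorem zz_mem_UU {i j k : Fin n} (h1 : k ≠ i) (h2 : k ≠ j) : zz ε k ∈ UU ε i j :=
  subset_closure ⟨1, one_mem _, k, h1, h2, by group⟩

theorem rr_mem_UU {i j k l : Fin n} (h1 : k ≠ i) (h2 : k ≠ j) (h3 : l ≠ i) (h4 : l ≠ j) :
    rr ε k l ∈ UU ε i j := mul_mem (zz_mem_UU h1 h2) (zz_mem_UU h3 h4)

theorem UU_normal {i j : Fin n} {g x : G} (hg : g ∈ NN ε i j) (hx : x ∈ UU ε i j) :
    g * x * g⁻¹ ∈ UU ε i j := by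
  unfold UU at hx ⊢
  induction hx using closure_induction with
  | mem x hx =>
    obtain ⟨k, hk, l, h1, h2, rfl⟩ := hx
    exact subset_closure ⟨g * k, mul_mem hg hk, l, h1, h2, by group⟩
  | one => rw [mul_one, mul_inv_cancel]; exact one_mem _
  | mul x y _ _ hx hy =>
    have : g * (x * y) * g⁻¹ = (g * x * g⁻¹) * (g * y * g⁻¹) := by group
    rw [this]; exact mul_mem hx hy
  | inv x _ hx =>
    have : g * x⁻¹ * g⁻¹ = (g * x * g⁻¹)⁻¹ := by group
    rw [this]; exact inv_mem hx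

theorem UU_conj {i j : Fin n} {g x : G} {σ : Equiv.Perm (Fin n)} (hs : Acts ε g σ)
    (hx : x ∈ UU ε i j) : g * x * g⁻¹ ∈ UU ε (σ i) (σ j) := by
  unfold UU at hx ⊢
  induction hx using closure_induction with
  | mem x hx =>
    obtain ⟨k, hk, l, h1, h2, rfl⟩ := hx
    refine subset_closure ⟨g * k * g⁻¹, conj_NN hs hk, σ l, fun h0 => h1 (σ.injective h0),
      fun h0 => h2 (σ.injective h0), ?_⟩
    rw [← zz_conj hs]
    group
  | one => rw [mul_one, mul_inv_cancel]; exact one_mem _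
  | mul x y _ _ hx hy =>
    have : g * (x * y) * g⁻¹ = (g * x * g⁻¹) * (g * y * g⁻¹) := by group
    rw [this]; exact mul_mem hx hy
  | inv x _ hx =>
    have : g * x⁻¹ * g⁻¹ = (g * x * g⁻¹)⁻¹ := by group
    rw [this]; exact inv_mem hx

theorem UU_le_WW (h : EvenSet n V L ε) (i j : Fin n) : UU ε i j ≤ WW V ε i j := by
  unfold UU
  rw [closure_le]
  rintro x ⟨g, hg, k, -, -, rfl⟩
  exact WW_normal hg (V_le_WW i j (zz_mem h k))

/-- an element acting as a permutation normalises `V` -/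
theorem acts_norm (h : EvenSet n V L ε) {g : G} {σ : Equiv.Perm (Fin n)} (hg : Acts ε g σ) :
    g ∈ normalizer (V : Set G) := by
  have key : ∀ {g : G} {σ : Equiv.Perm (Fin n)}, Acts ε g σ → ∀ v ∈ V, g * v * g⁻¹ ∈ V := by
    intro g σ hg v hv
    obtain ⟨x, rfl⟩ := h.surj v hv
    rw [hg x]
    exact h.mem _
  rw [mem_normalizer_iff]
  refine fun v => ⟨key hg v, fun hv => ?_⟩
  have h1 := key hg.inv _ hv
  have h2 : g⁻¹ * (g * v * g⁻¹) * g⁻¹⁻¹ = v := by group
  rwa [h2] at h1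

section W

variable {W : Fin n → Fin n → Subgroup G}

theorem uu_le_w (b : Base V L ε W) {i j : Fin n} (hij : i ≠ j) : UU ε i j ≤ W i j := by
  unfold UU
  rw [closure_le]
  rintro x ⟨g, hg, k, -, -, rfl⟩
  exact b.wn i j hij g hg _ (b.Vle i j hij (zz_mem b.ev k))

theorem w_symm (b : Base V L ε W) {i j : Fin n} (hij : i ≠ j) : W i j = W j i := by
  have key : ∀ i j, i ≠ j → W i j ≤ W j i := by
    intro i j hij x hx
    obtain ⟨g, -, hg⟩ := b.ev.full (Equiv.swap i j)
    have h1 : g ∈ NN ε i j := by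
      rw [mem_NN', rr_conj hg, Equiv.swap_apply_left, Equiv.swap_apply_right, rr_symm b.ev]
    have h2 := b.wn i j hij _ (inv_mem h1) x hx
    have h3 := b.wc g _ hg i j hij _ h2
    rw [Equiv.swap_apply_left, Equiv.swap_apply_right] at h3
    have h4 : g * (g⁻¹ * x * g⁻¹⁻¹) * g⁻¹ = x := by group
    rwa [h4] at h3
  exact le_antisymm (key i j hij) (key j i hij.symm)

end W

/-! ### sums -/

/-- `r_ij` is the product of the points different from `i`, `j`. -/
theorem compl_rr (h : EvenSet n V L ε) {i j : Fin n} (hij : i ≠ j) (P : ℕ → G → Prop)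
    (h0 : P 0 1)
    (hs : ∀ k, k ≠ i → k ≠ j → ∀ t x, P t x → P (t + 1) (zz ε k * x)) :
    P (n - 2) (rr ε i j) := by
  have key : ∀ S : Finset (Fin n), i ∉ S → j ∉ S →
      P S.card (ε (∑ k ∈ S, Pi.single k 1)) := by
    intro S
    induction S using Finset.induction_on with
    | empty =>
      intro _ _
      rw [Finset.sum_empty, h.zero, Finset.card_empty]
      exact h0
    | insert k S hk ih =>
      intro h1 h2
      rw [Finset.mem_insert, not_or] at h1 h2
      rw [Finset.sum_insert hk, h.add, Finset.card_insert_of_notMem hk]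
      exact hs k (Ne.symm h1.1) (Ne.symm h2.1) _ _ (ih h1.2 h2.2)
  have h1 := key (Finset.univ \ {i, j}) (by simp) (by simp)
  have h2 : (Finset.univ \ {i, j} : Finset (Fin n)).card = n - 2 := by
    rw [Finset.card_sdiff_of_subset (Finset.subset_univ _), Finset.card_univ, Fintype.card_fin,
      Finset.card_pair hij]
  rw [h2] at h1
  have h3 : ε (∑ k ∈ Finset.univ \ {i, j}, Pi.single k 1) = rr ε i j := by
    change _ = ε _ * ε _
    rw [← h.add, h.eq_iff]
    right
    funext m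
    rw [Finset.sum_apply, Pi.add_apply, Pi.add_apply, Pi.one_apply]
    by_cases hm : m = i
    · subst hm
      rw [Pi.single_eq_same, Pi.single_eq_of_ne hij, Finset.sum_eq_zero]
      · decide
      · intro k hk
        have : m ≠ k := by rintro rfl; simp at hk
        exact Pi.single_eq_of_ne this _
    by_cases hm' : m = j
    · subst hm'
      rw [Pi.single_eq_same, Pi.single_eq_of_ne hm, Finset.sum_eq_zero]
      · decide
      · intro k hk
        have : m ≠ k := by rintro rfl; simp at hk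
        exact Pi.single_eq_of_ne this _
    · rw [Pi.single_eq_of_ne hm, Pi.single_eq_of_ne hm', Finset.sum_eq_single m]
      · rw [Pi.single_eq_same]; decide
      · intro k _ hk
        exact Pi.single_eq_of_ne (Ne.symm hk) _
      · intro h0
        exfalso
        apply h0
        simp [hm, hm']
  rwa [h3] at h1

theorem rr_self_mem_UU (h : EvenSet n V L ε) {i j : Fin n} (hij : i ≠ j) :
    rr ε i j ∈ UU ε i j :=
  compl_rr h hij (fun _ x => x ∈ UU ε i j) (one_mem _)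
    fun _ h1 h2 _ _ hx => mul_mem (zz_mem_UU h1 h2) hx

end Cfsg.Agent.Omega.NSix.Basic
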