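import Cfsg.Agent.Omega.S5.Syl
import Cfsg.Agent.Omega.NSix.Basic

/-!
# OMEGA N6, the action of `C_P(r_ij)` on `O₂(C_G(r_ij))` (#13864 (A1), (A2))

`Hyp V P S W ε i j` : `V` is the even-subset module of degree `2^m + 1`, `m ≥ 2`, for `P ≥ S`, `S` a Sylow
2-subgroup of `G` which fixes the label `0` and induces the transposition `(i j)`; `W` is a 2-subgroup of
`C_G(r_ij)` normalised by `C_G(r_ij)`.

* `relIndex_le` : `|W : W ∩ P| ≤ 2^(m-1)`;
* `exists_cycle` : every 3-cycle of the labels `≠ i, j` is induced by some `e ∈ C_P(r_ij)` with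
  `[W, e] ≤ C_G(V)`;
* `p1` : `[W, v] ≤ C_G(V)` for `v ∈ V0 = ⟨z_k, k ≠ i, j⟩`;
* `p2` : `w ∈ W` commuting with one `r_kl`, `k, l ≠ i, j`, centralises `V0`.
-/

set_option autoImplicit false
set_option linter.dupNamespace false

namespace Cfsg.Agent.Omega.NSix.CosetAct

open Subgroup Cfsg.Agent.Omega.S5.Def Cfsg.Agent.Omega.S5.Syl Cfsg.Agent.Omega.NSix.Base
open Cfsg.Agent.Omega.NSix.Basic

universe u

/-! ### Permutations -/

/-- A group inducing `Sym(Λ)`, `|Λ| = 2^m - 1`, on `Λ` and acting on a set with at most `2^(m-1)` elements: every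
3-cycle on `Λ` is induced by an element acting trivially on the small set. -/
theorem exists_threeCycle {Λ : Type*} [Fintype Λ] [DecidableEq Λ] {A : Type*} [Group A]
    (ψ : A →* Equiv.Perm Λ) (hψ : Function.Surjective ψ) (X : Type*) [Finite X] [MulAction A X] {m : ℕ}
    (hm : 2 ≤ m) (hΛ : Fintype.card Λ = 2 ^ m - 1) (hX : Nat.card X ≤ 2 ^ (m - 1)) {c : Equiv.Perm Λ}
    (hc : c.IsThreeCycle) : ∃ e : A, (∀ x : X, e • x = x) ∧ ψ e = c := by
  classical
  have : Fintype X := Fintype.ofFinite X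
  set K : Subgroup A := (MulAction.toPermHom A X).ker with hK
  set N : Subgroup (Equiv.Perm Λ) := K.map ψ with hN
  have hNn : N.Normal := Subgroup.Normal.map (MonoidHom.normal_ker _) ψ hψ
  have hKi : K.index ∣ (Nat.card X).factorial := by
    rw [hK, Subgroup.index_ker]
    have h1 := Subgroup.card_subgroup_dvd_card (MulAction.toPermHom A X).range
    rwa [Nat.card_eq_fintype_card (α := Equiv.Perm X), Fintype.card_perm, ← Nat.card_eq_fintype_card] at h1
  have hNi : N.index ∣ (Nat.card X).factorial := by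
    have h1 : N.index = (K ⊔ ψ.ker).index := by
      rw [hN, Subgroup.index_map, MonoidHom.range_eq_top.mpr hψ, Subgroup.index_top, mul_one]
    rw [h1]
    exact (Subgroup.index_dvd_of_le le_sup_left).trans hKi
  have hcN : c ∈ N := by
    by_cases h2 : m = 2
    · subst h2
      have h3 : N.index ∣ 2 := by
        refine hNi.trans ?_
        have h4 : Nat.card X ≤ 2 := by simpa using hX
        have h5 := Nat.factorial_dvd_factorial h4
        simpa using h5
      have h4 : c * c ∈ N := by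
        rcases (Nat.dvd_prime Nat.prime_two).mp h3 with h5 | h5
        · rw [Subgroup.index_eq_one.mp h5]
          exact mem_top _
        · have h6 := Subgroup.sq_mem_of_index_two h5 c
          rwa [pow_two] at h6
      have h5 : c = c * c * (c * c) := by
        have h6 : c ^ 3 = 1 := by rw [← hc.orderOf]; exact pow_orderOf_eq_one c
        calc c = c ^ 3 * c := by rw [h6, one_mul]
          _ = c * c * (c * c) := by rw [pow_succ, pow_two]; simp only [mul_assoc]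
      rw [h5]
      exact N.mul_mem h4 h4
    · have h3 : 3 ≤ m := by omega
      have h8 : 2 ^ 3 ≤ 2 ^ m := Nat.pow_le_pow_right (by norm_num) h3
      have hcard : 5 ≤ Nat.card Λ := by rw [Nat.card_eq_fintype_card, hΛ]; omega
      have hnt : Nontrivial N := by
        rw [Subgroup.nontrivial_iff_ne_bot]
        intro h0
        rw [h0, Subgroup.index_bot, Nat.card_eq_fintype_card, Fintype.card_perm, hΛ] at hNi
        have h4 := Nat.le_of_dvd (Nat.factorial_pos _) hNi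
        have h5 := Nat.factorial_le hX
        have h6 : (2 : ℕ) ^ m = 2 * 2 ^ (m - 1) := by
          rw [← pow_succ']; congr 1; omega
        have h7 : 2 ^ (m - 1) < 2 ^ m - 1 := by omega
        have h9 : (2 ^ (m - 1)).factorial < (2 ^ m - 1).factorial :=
          (Nat.factorial_lt (by positivity)).mpr h7
        omega
      exact Equiv.Perm.alternatingGroup_le_of_normal hcard hnt
        (Equiv.Perm.mem_alternatingGroup.mpr hc.sign)
  obtain ⟨e, he, hec⟩ := hcN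
  refine ⟨e, fun x => ?_, hec⟩
  have h1 : MulAction.toPermHom A X e = 1 := he
  have h2 := congrArg (fun f : Equiv.Perm X => f x) h1
  simpa using h2

/-! ### The setting -/

variable {G : Type u} [Group G]

structure Hyp {m : ℕ} (V P S W : Subgroup G) (ε : (Fin (2 ^ m + 1) → ZMod 2) → G)
    (i j : Fin (2 ^ m + 1)) : Prop where
  even : EvenSet (2 ^ m + 1) V P ε
  VP : V ≤ P
  two_le : 2 ≤ m
  le : S ≤ P
  isP : IsPGroup 2 S
  max : ∀ T : Subgroup G, IsPGroup 2 T → Nat.card T ≤ Nat.card S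
  fix0 : Fix0 ε S
  ne : i ≠ j
  swap : ∃ a ∈ S, Acts ε a (Equiv.swap i j)
  isPW : IsPGroup 2 W
  leW : W ≤ centralizer ({rr ε i j} : Set G)
  norm : centralizer ({rr ε i j} : Set G) ≤ normalizer (W : Set G)

/-- `⟨z_k : k ≠ i, j⟩` -/
def V0 {n : ℕ} (ε : (Fin n → ZMod 2) → G) (i j : Fin n) : Subgroup G :=
  closure {x | ∃ k, k ≠ i ∧ k ≠ j ∧ x = zz ε k}

/-- `C_P(r_ij)` -/
def A {n : ℕ} (P : Subgroup G) (ε : (Fin n → ZMod 2) → G) (i j : Fin n) : Subgroup G :=
  P ⊓ centralizer ({rr ε i j} : Set G)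

theorem conj_cent {V : Subgroup G} {a c : G} (ha : a ∈ normalizer (V : Set G))
    (hc : c ∈ centralizer (V : Set G)) : a * c * a⁻¹ ∈ centralizer (V : Set G) := by
  rw [mem_centralizer_iff] at hc ⊢
  intro v hv
  have h1 : a⁻¹ * v * a ∈ V := by
    have h2 := (mem_normalizer_iff.mp (inv_mem ha) v).mp hv
    rwa [inv_inv] at h2
  have h2 := hc _ h1
  calc v * (a * c * a⁻¹) = a * ((a⁻¹ * v * a) * c) * a⁻¹ := by group
    _ = a * (c * (a⁻¹ * v * a)) * a⁻¹ := by rw [h2]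
    _ = a * c * a⁻¹ * v := by group

namespace Hyp

variable {m : ℕ} {V P S W : Subgroup G} {ε : (Fin (2 ^ m + 1) → ZMod 2) → G} {i j : Fin (2 ^ m + 1)}
  (h : Hyp V P S W ε i j)
include h

theorem five : 5 ≤ 2 ^ m + 1 := five_le h.two_le

theorem three : 3 ≤ 2 ^ m + 1 := three_le (by have := h.two_le; omega)

theorem conjW {g w : G} (hg : g ∈ centralizer ({rr ε i j} : Set G)) (hw : w ∈ W) : g * w * g⁻¹ ∈ W :=
  (mem_normalizer_iff.mp (h.norm hg) w).mp hw

/-! ### The pair -/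

omit h in
theorem mem_A {g : G} : g ∈ A P ε i j ↔ g ∈ P ∧ g * rr ε i j = rr ε i j * g := by
  unfold A
  rw [mem_inf, mem_centralizer_singleton_iff]

/-- Elements of `C(r_ij)` preserve the pair `{i, j}`. -/
theorem pair_of_acts {g : G} {σ : Equiv.Perm (Fin (2 ^ m + 1))} (hσ : Acts ε g σ)
    (hg : g * rr ε i j = rr ε i j * g) : (σ i = i ∧ σ j = j) ∨ (σ i = j ∧ σ j = i) := by
  have hev := h.even
  have h1 := rr_conj hσ i j
  rw [hg, mul_inv_cancel_right] at h1
  -- `single i + single j = single (σ i) + single (σ j)` or the complement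
  have h2 : ε (Pi.single i 1 + Pi.single j 1) = ε (Pi.single (σ i) 1 + Pi.single (σ j) 1) := by
    rw [hev.add, hev.add]
    exact h1
  have hne : σ i ≠ σ j := fun h0 => h.ne (σ.injective h0)
  have hcount : ∃ k, k ≠ i ∧ k ≠ j ∧ k ≠ σ i ∧ k ≠ σ j := by
    have hcard : ({i, j, σ i, σ j} : Finset (Fin (2 ^ m + 1))).card <
        (Finset.univ : Finset (Fin (2 ^ m + 1))).card := by
      rw [Finset.card_univ, Fintype.card_fin]
      exact lt_of_le_of_lt Finset.card_le_four (by have := h.five; omega)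
    obtain ⟨k, -, hk⟩ := Finset.exists_mem_notMem_of_card_lt_card hcard
    simp only [Finset.mem_insert, Finset.mem_singleton, not_or] at hk
    exact ⟨k, hk.1, hk.2.1, hk.2.2.1, hk.2.2.2⟩
  obtain ⟨k, k1, k2, k3, k4⟩ := hcount
  have h3 : (Pi.single i 1 + Pi.single j 1 : Fin (2 ^ m + 1) → ZMod 2) =
      Pi.single (σ i) 1 + Pi.single (σ j) 1 := by
    rcases hev.eq_iff.mp h2 with h4 | h4
    · exact h4
    · exfalso
      have h5 := congrFun h4 k
      simp only [Pi.add_apply, Pi.single_eq_of_ne k1, Pi.single_eq_of_ne k2, Pi.single_eq_of_ne k3,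
        Pi.single_eq_of_ne k4, Pi.one_apply, add_zero, zero_add] at h5
      exact zero_ne_one h5
  have h4 := congrFun h3 (σ i)
  have h5 := congrFun h3 (σ j)
  simp only [Pi.add_apply, Pi.single_eq_same, Pi.single_eq_of_ne hne, Pi.single_eq_of_ne hne.symm, add_zero,
    zero_add] at h4 h5
  have key : ∀ x : Fin (2 ^ m + 1), (Pi.single i 1 : Fin (2 ^ m + 1) → ZMod 2) x +
      (Pi.single j 1 : Fin (2 ^ m + 1) → ZMod 2) x = 1 → x = i ∨ x = j := by
    intro x hx
    by_contra hcon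
    push Not at hcon
    rw [Pi.single_eq_of_ne hcon.1, Pi.single_eq_of_ne hcon.2, add_zero] at hx
    exact zero_ne_one hx
  rcases key _ h4 with e1 | e1 <;> rcases key _ h5 with e2 | e2
  · exact absurd (e1.trans e2.symm) hne
  · exact Or.inl ⟨e1, e2⟩
  · exact Or.inr ⟨e1, e2⟩
  · exact absurd (e1.trans e2.symm) hne

/-- The action of `C_P(r_ij)` on the labels. -/
noncomputable def phi : A P ε i j →* Equiv.Perm (Fin (2 ^ m + 1)) :=
  (h.even.hom h.three).comp (Subgroup.inclusion inf_le_left)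

theorem acts_phi (g : A P ε i j) : Acts ε (g : G) (h.phi g) :=
  h.even.acts_hom h.three (Subgroup.inclusion inf_le_left g)

theorem phi_pair (g : A P ε i j) :
    (h.phi g i = i ∧ h.phi g j = j) ∨ (h.phi g i = j ∧ h.phi g j = i) :=
  h.pair_of_acts (h.acts_phi g) (mem_A.mp g.2).2

theorem phi_Lam (g : A P ε i j) (k : Fin (2 ^ m + 1)) :
    (h.phi g k ≠ i ∧ h.phi g k ≠ j) ↔ (k ≠ i ∧ k ≠ j) := by
  rcases h.phi_pair g with ⟨h1, h2⟩ | ⟨h1, h2⟩
  · constructor
    · rintro ⟨h3, h4⟩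
      exact ⟨fun h0 => h3 (by rw [h0, h1]), fun h0 => h4 (by rw [h0, h2])⟩
    · rintro ⟨h3, h4⟩
      exact ⟨fun h0 => h3 ((h.phi g).injective (h0.trans h1.symm)),
        fun h0 => h4 ((h.phi g).injective (h0.trans h2.symm))⟩
  · constructor
    · rintro ⟨h3, h4⟩
      exact ⟨fun h0 => h4 (by rw [h0, h1]), fun h0 => h3 (by rw [h0, h2])⟩
    · rintro ⟨h3, h4⟩
      exact ⟨fun h0 => h4 ((h.phi g).injective (h0.trans h2.symm)),
        fun h0 => h3 ((h.phi g).injective (h0.trans h1.symm))⟩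

/-- The action of `C_P(r_ij)` on the labels `≠ i, j`. -/
noncomputable def psi : A P ε i j →* Equiv.Perm {k : Fin (2 ^ m + 1) // k ≠ i ∧ k ≠ j} where
  toFun g := (h.phi g).subtypePerm fun k => h.phi_Lam g k
  map_one' := by
    ext k
    simp
  map_mul' a b := by
    ext k
    simp
    rfl

theorem psi_apply (g : A P ε i j) (k : {k : Fin (2 ^ m + 1) // k ≠ i ∧ k ≠ j}) :
    ((h.psi g k : {k : Fin (2 ^ m + 1) // k ≠ i ∧ k ≠ j}) : Fin (2 ^ m + 1)) = h.phi g k := rfl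

theorem psi_surj : Function.Surjective h.psi := by
  intro τ
  obtain ⟨g, hg, hσ⟩ := h.even.full (Equiv.Perm.ofSubtype τ)
  have h1 : Equiv.Perm.ofSubtype τ i = i :=
    Equiv.Perm.ofSubtype_apply_of_not_mem τ (by simp)
  have h2 : Equiv.Perm.ofSubtype τ j = j :=
    Equiv.Perm.ofSubtype_apply_of_not_mem τ (by simp)
  have hA : g ∈ A P ε i j := by
    rw [mem_A]
    refine ⟨hg, ?_⟩
    have h3 := rr_conj hσ i j
    rw [h1, h2] at h3
    rw [← h3]
    simp only [inv_mul_cancel_right]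
    rw [h3]
  refine ⟨⟨g, hA⟩, ?_⟩
  ext k
  rw [psi_apply]
  have h4 : h.phi ⟨g, hA⟩ = Equiv.Perm.ofSubtype τ :=
    h.even.acts_unique h.three (h.acts_phi ⟨g, hA⟩) hσ
  rw [h4, Equiv.Perm.ofSubtype_apply_coe]

theorem card_Lam : Fintype.card {k : Fin (2 ^ m + 1) // k ≠ i ∧ k ≠ j} = 2 ^ m - 1 := by
  classical
  rw [Fintype.card_subtype]
  have h1 : (Finset.univ.filter fun k : Fin (2 ^ m + 1) => k ≠ i ∧ k ≠ j) = ({i, j} : Finset _)ᶜ := by
    ext k
    simp
  rw [h1, Finset.card_compl, Fintype.card_fin, Finset.card_pair h.ne]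
  omega

/-! ### `W ∩ P` -/

theorem WP_le : W ⊓ P ≤ A P ε i j := fun _ hx => ⟨hx.2, h.leW hx.1⟩

/-- `W ∩ P` fixes the labels `≠ i, j`. -/
theorem fix_of_mem [Finite G] {w : G} (hw : w ∈ W ⊓ P) {k : Fin (2 ^ m + 1)} (hk : k ≠ i ∧ k ≠ j) :
    h.phi ⟨w, h.WP_le hw⟩ k = k := by
  classical
  have h2 : Fact (Nat.Prime 2) := ⟨Nat.prime_two⟩
  let f : ↥(W ⊓ P) →* Equiv.Perm {k : Fin (2 ^ m + 1) // k ≠ i ∧ k ≠ j} :=
    h.psi.comp (Subgroup.inclusion h.WP_le)
  let act : MulAction ↥(W ⊓ P) {k : Fin (2 ^ m + 1) // k ≠ i ∧ k ≠ j} := MulAction.compHom _ f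
  have hp : IsPGroup 2 ↥(W ⊓ P) := h.isPW.to_le inf_le_left
  have hcard : ¬ 2 ∣ Nat.card {k : Fin (2 ^ m + 1) // k ≠ i ∧ k ≠ j} := by
    rw [Nat.card_eq_fintype_card, h.card_Lam]
    have h3 := h.two_le
    have h4 : 2 ∣ 2 ^ m := dvd_pow_self 2 (by omega)
    have h5 : 0 < 2 ^ m := by positivity
    omega
  obtain ⟨x₀, hx₀⟩ := hp.nonempty_fixed_point_of_prime_not_dvd_card _ hcard
  -- every label is a conjugate of `x₀`
  obtain ⟨g, hg⟩ := h.psi_surj (Equiv.swap x₀ ⟨k, hk⟩)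
  have hgx : h.psi g x₀ = ⟨k, hk⟩ := by rw [hg, Equiv.swap_apply_left]
  have hgP : (g : G) ∈ P := (mem_A.mp g.2).1
  have hgC : (g : G) ∈ centralizer ({rr ε i j} : Set G) := g.2.2
  have hw' : (g : G)⁻¹ * w * (g : G) ∈ W ⊓ P := by
    refine ⟨?_, P.mul_mem (P.mul_mem (P.inv_mem hgP) hw.2) hgP⟩
    have h3 := h.conjW (inv_mem hgC) hw.1
    rwa [inv_inv] at h3
  have h3 : f ⟨_, hw'⟩ x₀ = x₀ := hx₀ ⟨_, hw'⟩
  have h4 : h.psi ⟨w, h.WP_le hw⟩ ⟨k, hk⟩ = ⟨k, hk⟩ := by
    have h5 : (⟨w, h.WP_le hw⟩ : A P ε i j) = g * ⟨(g : G)⁻¹ * w * (g : G), h.WP_le hw'⟩ * g⁻¹ := by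
      apply Subtype.ext
      change w = (g : G) * ((g : G)⁻¹ * w * (g : G)) * (g : G)⁻¹
      group
    have h6 : h.psi ⟨(g : G)⁻¹ * w * (g : G), h.WP_le hw'⟩ x₀ = x₀ := h3
    have h7 : (h.psi g)⁻¹ ⟨k, hk⟩ = x₀ := by
      rw [Equiv.Perm.inv_eq_iff_eq]
      exact hgx.symm
    rw [h5, map_mul, map_mul, map_inv, Equiv.Perm.mul_apply, Equiv.Perm.mul_apply, h7, h6, hgx]
  have h5 := congrArg Subtype.val h4
  exact h5

theorem acts_WP [Finite G] {w : G} (hw : w ∈ W ⊓ P) : Acts ε w 1 ∨ Acts ε w (Equiv.swap i j) := by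
  have h1 := h.acts_phi ⟨w, h.WP_le hw⟩
  rcases h.phi_pair ⟨w, h.WP_le hw⟩ with ⟨h2, h3⟩ | ⟨h2, h3⟩
  · left
    have h4 : h.phi ⟨w, h.WP_le hw⟩ = 1 := by
      ext k
      congr 1
      by_cases hi : k = i
      · rw [hi, h2]; rfl
      · by_cases hj : k = j
        · rw [hj, h3]; rfl
        · exact h.fix_of_mem hw ⟨hi, hj⟩
    rwa [h4] at h1
  · right
    have h4 : h.phi ⟨w, h.WP_le hw⟩ = Equiv.swap i j := by
      ext k
      congr 1
      by_cases hi : k = i
      · rw [hi, h2, Equiv.swap_apply_left]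
      · by_cases hj : k = j
        · rw [hj, h3, Equiv.swap_apply_right]
        · rw [Equiv.swap_apply_of_ne_of_ne hi hj]
          exact h.fix_of_mem hw ⟨hi, hj⟩
    rwa [h4] at h1

/-! ### The cosets -/

/-- `C_P(r_ij)` acts on `W / (W ∩ P)`. -/
@[instance_reducible]
noncomputable def act : MulAction (A P ε i j) (W ⧸ P.subgroupOf W) where
  smul g := Quotient.map' (fun w : W => (⟨(g : G) * w * (g : G)⁻¹, h.conjW g.2.2 w.2⟩ : W)) (by
    intro a b hab
    rw [QuotientGroup.leftRel_apply, mem_subgroupOf] at hab ⊢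
    have h1 := P.mul_mem (P.mul_mem g.2.1 hab) (P.inv_mem g.2.1)
    have h2 : (((⟨(g : G) * a * (g : G)⁻¹, h.conjW g.2.2 a.2⟩ : W)⁻¹ *
        (⟨(g : G) * b * (g : G)⁻¹, h.conjW g.2.2 b.2⟩ : W) : W) : G) =
        (g : G) * ((a⁻¹ * b : W) : G) * (g : G)⁻¹ := by
      push_cast
      group
    rw [h2]
    exact h1)
  one_smul := by
    intro x
    refine Quotient.inductionOn' x fun w => ?_
    change (Quotient.mk'' _ : W ⧸ P.subgroupOf W) = _
    congr 1
    apply Subtype.ext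
    simp
  mul_smul := by
    intro a b x
    refine Quotient.inductionOn' x fun w => ?_
    change (Quotient.mk'' _ : W ⧸ P.subgroupOf W) = Quotient.mk'' _
    congr 1
    apply Subtype.ext
    simp [mul_assoc]

/-- `e` acts trivially on `V` up to `W`: `[W, e] ≤ C_G(V)`. -/
def Good (V W : Subgroup G) (e : G) : Prop := ∀ w ∈ W, w⁻¹ * e * w * e⁻¹ ∈ centralizer (V : Set G)

theorem exists_good [Finite G] (hidx : P.relIndex W ≤ 2 ^ (m - 1))
    {c : Equiv.Perm {k : Fin (2 ^ m + 1) // k ≠ i ∧ k ≠ j}} (hc : c.IsThreeCycle) :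
    ∃ e : A P ε i j, h.psi e = c ∧ Good V W (e : G) := by
  classical
  let _ := h.act
  have hX : Nat.card (W ⧸ P.subgroupOf W) ≤ 2 ^ (m - 1) := hidx
  obtain ⟨e, he1, he2⟩ := exists_threeCycle h.psi h.psi_surj (W ⧸ P.subgroupOf W) h.two_le h.card_Lam hX
    hc.inv
  refine ⟨e * e, ?_, ?_⟩
  · rw [map_mul, he2]
    have h6 : c ^ 3 = 1 := by rw [← hc.orderOf]; exact pow_orderOf_eq_one c
    have h7 : c * (c * c) = 1 := by
      rw [← h6, pow_succ, pow_two]; simp only [mul_assoc]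
    have h8 : c⁻¹ = c * c := (eq_inv_of_mul_eq_one_right h7).symm
    calc c⁻¹ * c⁻¹ = c * (c * (c * c)) := by rw [h8]; simp only [mul_assoc]
      _ = c := by rw [h7, mul_one]
  · intro w hw
    have ha : w⁻¹ * (e : G) * w * (e : G)⁻¹ ∈ W ⊓ P := by
      constructor
      · have h1 := W.mul_mem (W.inv_mem hw) (h.conjW e.2.2 hw)
        have h2 : w⁻¹ * ((e : G) * w * (e : G)⁻¹) = w⁻¹ * (e : G) * w * (e : G)⁻¹ := by group
        rwa [h2] at h1
      · have h1 := he1 (Quotient.mk'' ⟨w, hw⟩)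
        have h2 : (Quotient.mk'' (⟨(e : G) * w * (e : G)⁻¹, h.conjW e.2.2 hw⟩ : W) : W ⧸ P.subgroupOf W) =
            Quotient.mk'' ⟨w, hw⟩ := h1
        have h3 := Quotient.exact' h2.symm
        rw [QuotientGroup.leftRel_apply, mem_subgroupOf] at h3
        have h4 : (((⟨w, hw⟩ : W)⁻¹ * (⟨(e : G) * w * (e : G)⁻¹, h.conjW e.2.2 hw⟩ : W) : W) : G) =
            w⁻¹ * (e : G) * w * (e : G)⁻¹ := by
          push_cast
          group
        rwa [h4] at h3
    set a := w⁻¹ * (e : G) * w * (e : G)⁻¹ with ha'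
    have hk : w⁻¹ * ((e * e : A P ε i j) : G) * w * ((e * e : A P ε i j) : G)⁻¹ =
        a * ((e : G) * a * (e : G)⁻¹) := by
      rw [ha']
      push_cast
      group
    rw [hk, ← h.even.acts_one_iff]
    have hσ := h.acts_phi e
    rcases h.acts_WP ha with h1 | h1
    · have h2 := h1.mul (hσ.conj h1)
      simpa using h2
    · have h2 := h1.mul (hσ.conj h1)
      have h3 : Equiv.swap i j * (h.phi e * Equiv.swap i j * (h.phi e)⁻¹) = 1 := by
        have h4 : h.phi e * Equiv.swap i j * (h.phi e)⁻¹ = Equiv.swap i j := by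
          rw [← Equiv.swap_apply_apply]
          rcases h.phi_pair e with ⟨h5, h6⟩ | ⟨h5, h6⟩
          · rw [h5, h6]
          · rw [h5, h6, Equiv.swap_comm]
        rw [h4, Equiv.swap_mul_self]
      rwa [h3] at h2

/-- A 3-cycle `k → l → a → k` of labels `≠ i, j`. -/
theorem exists_cycle [Finite G] (hidx : P.relIndex W ≤ 2 ^ (m - 1)) {k l a : Fin (2 ^ m + 1)}
    (hk : k ≠ i ∧ k ≠ j) (hl : l ≠ i ∧ l ≠ j) (ha : a ≠ i ∧ a ≠ j) (hkl : k ≠ l) (hka : k ≠ a)
    (hla : l ≠ a) : ∃ e ∈ A P ε i j, Good V W e ∧ e * zz ε k * e⁻¹ = zz ε l ∧ e * zz ε l * e⁻¹ = zz ε a ∧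
      e * zz ε a * e⁻¹ = zz ε k := by
  classical
  have hc := Equiv.Perm.isThreeCycle_swap_mul_swap_same (a := (⟨l, hl⟩ : {k // k ≠ i ∧ k ≠ j}))
    (b := ⟨k, hk⟩) (c := ⟨a, ha⟩) (fun h0 => hkl (congrArg Subtype.val h0).symm)
    (fun h0 => hla (congrArg Subtype.val h0)) (fun h0 => hka (congrArg Subtype.val h0))
  obtain ⟨e, he, hg⟩ := h.exists_good hidx hc
  have key : ∀ x y : {k : Fin (2 ^ m + 1) // k ≠ i ∧ k ≠ j}, h.psi e x = y →
      (e : G) * zz ε x * (e : G)⁻¹ = zz ε y := by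
    intro x y hxy
    rw [zz_conj (h.acts_phi e), ← h.psi_apply, hxy]
  refine ⟨e, e.2, hg, key ⟨k, hk⟩ ⟨l, hl⟩ ?_, key ⟨l, hl⟩ ⟨a, ha⟩ ?_, key ⟨a, ha⟩ ⟨k, hk⟩ ?_⟩
  · have h1 : Equiv.swap (⟨l, hl⟩ : {k // k ≠ i ∧ k ≠ j}) ⟨a, ha⟩ ⟨k, hk⟩ = ⟨k, hk⟩ :=
      Equiv.swap_apply_of_ne_of_ne (fun h0 => hkl (congrArg Subtype.val h0))
        (fun h0 => hka (congrArg Subtype.val h0))
    rw [he, Equiv.Perm.mul_apply, h1, Equiv.swap_apply_right]
  · have h1 : Equiv.swap (⟨l, hl⟩ : {k // k ≠ i ∧ k ≠ j}) ⟨k, hk⟩ ⟨a, ha⟩ = ⟨a, ha⟩ :=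
      Equiv.swap_apply_of_ne_of_ne (fun h0 => hla (congrArg Subtype.val h0).symm)
        (fun h0 => hka (congrArg Subtype.val h0).symm)
    rw [he, Equiv.Perm.mul_apply, Equiv.swap_apply_left, h1]
  · rw [he, Equiv.Perm.mul_apply, Equiv.swap_apply_right, Equiv.swap_apply_left]

/-! ### `V0` -/

/-- `{e ∈ C_P(r_ij) : [W, e] ≤ C_G(V)}` -/
def E : Subgroup G where
  carrier := {e | e ∈ A P ε i j ∧ Good V W e}
  mul_mem' := by
    rintro a b ⟨ha, ha'⟩ ⟨hb, hb'⟩
    refine ⟨mul_mem ha hb, fun w hw => ?_⟩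
    have h1 : w⁻¹ * (a * b) * w * (a * b)⁻¹ = (w⁻¹ * a * w * a⁻¹) * (a * (w⁻¹ * b * w * b⁻¹) * a⁻¹) := by
      group
    rw [h1]
    exact mul_mem (ha' w hw) (conj_cent (h.even.le_normalizer ha.1) (hb' w hw))
  one_mem' := by
    refine ⟨one_mem _, fun w _ => ?_⟩
    have h1 : w⁻¹ * 1 * w * (1 : G)⁻¹ = 1 := by group
    rw [h1]
    exact one_mem _
  inv_mem' := by
    rintro a ⟨ha, ha'⟩
    refine ⟨inv_mem ha, fun w hw => ?_⟩
    have h1 : w⁻¹ * a⁻¹ * w * a⁻¹⁻¹ = a⁻¹ * (w⁻¹ * a * w * a⁻¹)⁻¹ * a⁻¹⁻¹ := by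
      group
    rw [h1]
    exact conj_cent (inv_mem (h.even.le_normalizer ha.1)) (inv_mem (ha' w hw))

theorem mem_E {e : G} : e ∈ h.E ↔ e ∈ A P ε i j ∧ Good V W e := Iff.rfl

theorem V_le_A : V ≤ A P ε i j := fun _ hv =>
  mem_A.mpr ⟨h.VP hv, h.even.comm_mem hv (rr_mem h.even i j)⟩

theorem conj_E {v e : G} (hv : v ∈ A P ε i j) (he : e ∈ h.E) : v * e * v⁻¹ ∈ h.E := by
  refine ⟨mul_mem (mul_mem hv he.1) (inv_mem hv), fun w hw => ?_⟩
  have h1 : w⁻¹ * (v * e * v⁻¹) * w * (v * e * v⁻¹)⁻¹ =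
      v * ((v⁻¹ * w * v)⁻¹ * e * (v⁻¹ * w * v) * e⁻¹) * v⁻¹ := by
    group
  rw [h1]
  have h2 := h.conjW (inv_mem hv.2) hw
  rw [inv_inv] at h2
  exact conj_cent (h.even.le_normalizer hv.1) (he.2 _ h2)

theorem rr_mem_E : rr ε i j ∈ h.E := by
  refine ⟨h.V_le_A (rr_mem h.even i j), fun w hw => ?_⟩
  have h1 : w * rr ε i j = rr ε i j * w := mem_centralizer_singleton_iff.mp (h.leW hw)
  have h2 : w⁻¹ * rr ε i j * w * (rr ε i j)⁻¹ = 1 := by
    rw [mul_assoc w⁻¹, ← h1]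
    group
  rw [h2]
  exact one_mem _

/-- a third label `≠ i, j` -/
theorem exists_third (a b : Fin (2 ^ m + 1)) : ∃ k, (k ≠ i ∧ k ≠ j) ∧ k ≠ a ∧ k ≠ b := by
  have hcard : ({i, j, a, b} : Finset (Fin (2 ^ m + 1))).card <
      (Finset.univ : Finset (Fin (2 ^ m + 1))).card := by
    rw [Finset.card_univ, Fintype.card_fin]
    exact lt_of_le_of_lt Finset.card_le_four (by have := h.five; omega)
  obtain ⟨k, -, hk⟩ := Finset.exists_mem_notMem_of_card_lt_card hcard
  simp only [Finset.mem_insert, Finset.mem_singleton, not_or] at hk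
  exact ⟨k, ⟨hk.1, hk.2.1⟩, hk.2.2.1, hk.2.2.2⟩

theorem rr_mem_E' [Finite G] (hidx : P.relIndex W ≤ 2 ^ (m - 1)) {a b : Fin (2 ^ m + 1)}
    (ha : a ≠ i ∧ a ≠ j) (hb : b ≠ i ∧ b ≠ j) (hab : a ≠ b) : rr ε a b ∈ h.E := by
  obtain ⟨c, hc, hca, hcb⟩ := h.exists_third a b
  obtain ⟨e, he1, he2, he3, -, -⟩ := h.exists_cycle hidx ha hb hc hab hca.symm hcb.symm
  have heE : e ∈ h.E := ⟨he1, he2⟩
  have h1 := h.conj_E (h.V_le_A (zz_mem h.even a)) heE
  have h2 := mul_mem h1 (inv_mem heE)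
  have h3 : zz ε a * e * (zz ε a)⁻¹ * e⁻¹ = rr ε a b := by
    unfold rr
    rw [← he3, zz_inv h.even a]
    group
  rwa [h3] at h2

end Hyp

/-! ### Labels in a subgroup -/

section labels

variable {n : ℕ} {V P : Subgroup G} {ε : (Fin n → ZMod 2) → G}

/-- the vectors with `ε x ∈ K` -/
def pre (h : EvenSet n V P ε) (K : Subgroup G) : AddSubgroup (Fin n → ZMod 2) where
  carrier := {x | ε x ∈ K}
  add_mem' {a b} ha hb := by
    change ε (a + b) ∈ K
    rw [h.add]
    exact K.mul_mem ha hb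
  zero_mem' := by
    change ε 0 ∈ K
    rw [h.zero]
    exact K.one_mem
  neg_mem' {a} ha := by
    have h1 : -a = a := by
      funext k
      exact CharTwo.neg_eq _
    rw [h1]
    exact ha

theorem mem_pre (h : EvenSet n V P ε) {K : Subgroup G} {x : Fin n → ZMod 2} : x ∈ pre h K ↔ ε x ∈ K :=
  Iff.rfl

/-- `z_k` is a product of `r_ij` and of some `r_kb`. -/
theorem zz_mem_of_rr (h : EvenSet n V P ε) (hn : Odd n) {K : Subgroup G} {i j k : Fin n} (hij : i ≠ j)
    (hk : k ≠ i ∧ k ≠ j) (h1 : rr ε i j ∈ K) (h2 : ∀ b, b ≠ i → b ≠ j → b ≠ k → rr ε k b ∈ K) :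
    zz ε k ∈ K := by
  classical
  have e1 : (Pi.single i 1 + Pi.single j 1 : Fin n → ZMod 2) ∈ pre h K := by
    rw [mem_pre, h.add]
    exact h1
  have e2 : ∀ b ∈ (Finset.univ.filter fun b : Fin n => b ≠ i ∧ b ≠ j ∧ b ≠ k),
      (Pi.single k 1 + Pi.single b 1 : Fin n → ZMod 2) ∈ pre h K := by
    intro b hb
    rw [Finset.mem_filter] at hb
    rw [mem_pre, h.add]
    exact h2 b hb.2.1 hb.2.2.1 hb.2.2.2
  have e3 : (1 : Fin n → ZMod 2) ∈ pre h K := by
    rw [mem_pre, h.one]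
    exact K.one_mem
  have e4 := add_mem (add_mem e1 (sum_mem e2)) e3
  have hcard : ((Finset.univ.filter fun b : Fin n => b ≠ i ∧ b ≠ j ∧ b ≠ k).card : ZMod 2) = 0 := by
    have h3 : (Finset.univ.filter fun b : Fin n => b ≠ i ∧ b ≠ j ∧ b ≠ k) = ({i, j, k} : Finset _)ᶜ := by
      ext b
      simp
    have h4 : ({i, j, k} : Finset (Fin n)).card = 3 :=
      Finset.card_eq_three.mpr ⟨i, j, k, hij, hk.1.symm, hk.2.symm, rfl⟩
    have h5 : 3 ≤ n := by
      have := Finset.card_le_univ ({i, j, k} : Finset (Fin n))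
      rw [h4, Fintype.card_fin] at this
      exact this
    rw [h3, Finset.card_compl, Fintype.card_fin, h4]
    obtain ⟨r, rfl⟩ := hn
    have h6 : 2 * r + 1 - 3 = 2 * (r - 1) := by omega
    rw [h6]
    push_cast
    have h7 : (2 : ZMod 2) = 0 := by decide
    rw [h7, zero_mul]
  have e5 : (Pi.single i 1 + Pi.single j 1 + ∑ b ∈ (Finset.univ.filter fun b : Fin n => b ≠ i ∧ b ≠ j ∧ b ≠ k),
      (Pi.single k 1 + Pi.single b 1) + 1 : Fin n → ZMod 2) = Pi.single k 1 := by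
    rw [Finset.sum_add_distrib, Finset.sum_const, ← Nat.cast_smul_eq_nsmul (ZMod 2), hcard, zero_smul,
      zero_add]
    funext b
    simp only [Pi.add_apply, Finset.sum_apply, Pi.one_apply]
    have h11 : (1 : ZMod 2) + 1 = 0 := by decide
    by_cases hbi : b = i
    · subst hbi
      rw [Pi.single_eq_same, Pi.single_eq_of_ne hij, Pi.single_eq_of_ne hk.1.symm, Finset.sum_eq_zero]
      · rw [add_zero, add_zero, h11]
      · intro c hc
        rw [Finset.mem_filter] at hc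
        exact Pi.single_eq_of_ne hc.2.1.symm _
    · by_cases hbj : b = j
      · subst hbj
        rw [Pi.single_eq_same, Pi.single_eq_of_ne hij.symm, Pi.single_eq_of_ne hk.2.symm, Finset.sum_eq_zero]
        · rw [zero_add, add_zero, h11]
        · intro c hc
          rw [Finset.mem_filter] at hc
          exact Pi.single_eq_of_ne hc.2.2.1.symm _
      · by_cases hbk : b = k
        · subst hbk
          rw [Pi.single_eq_same, Pi.single_eq_of_ne hbi, Pi.single_eq_of_ne hbj, Finset.sum_eq_zero]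
          · rw [add_zero, zero_add, zero_add]
          · intro c hc
            rw [Finset.mem_filter] at hc
            exact Pi.single_eq_of_ne hc.2.2.2.symm _
        · rw [Pi.single_eq_of_ne hbi, Pi.single_eq_of_ne hbj, Pi.single_eq_of_ne hbk, Finset.sum_eq_single b]
          · rw [Pi.single_eq_same, add_zero, zero_add, h11]
          · intro c _ hcb
            exact Pi.single_eq_of_ne hcb.symm _
          · intro hb
            exact absurd (Finset.mem_filter.mpr ⟨Finset.mem_univ _, hbi, hbj, hbk⟩) hb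
  rw [e5] at e4
  exact e4

/-- `x i = x j` implies `ε x ∈ V0`. -/
theorem mem_V0 (h : EvenSet n V P ε) {i j : Fin n} {x : Fin n → ZMod 2} (hx : x i = x j) :
    ε x ∈ V0 ε i j := by
  classical
  have key : ∀ y : Fin n → ZMod 2, y i = 0 → y j = 0 → ε y ∈ V0 ε i j := by
    intro y hi hj
    have h1 : y = ∑ k : Fin n, y k • (Pi.single k 1 : Fin n → ZMod 2) := by
      funext b
      simp only [Finset.sum_apply, Pi.smul_apply, smul_eq_mul]
      rw [Finset.sum_eq_single b]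
      · rw [Pi.single_eq_same, mul_one]
      · intro c _ hcb
        rw [Pi.single_eq_of_ne hcb.symm, mul_zero]
      · intro hb
        exact absurd (Finset.mem_univ b) hb
    change y ∈ pre h (V0 ε i j)
    rw [h1]
    refine sum_mem fun k _ => ?_
    have h01 : ∀ a : ZMod 2, a = 0 ∨ a = 1 := by decide
    rcases h01 (y k) with h2 | h2
    · rw [h2, zero_smul]
      exact zero_mem _
    · rw [h2, one_smul]
      refine subset_closure ⟨k, ?_, ?_, rfl⟩
      · rintro rfl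
        rw [hi] at h2
        exact zero_ne_one h2
      · rintro rfl
        rw [hj] at h2
        exact zero_ne_one h2
  have h01 : ∀ a : ZMod 2, a = 0 ∨ a = 1 := by decide
  rcases h01 (x i) with h1 | h1
  · exact key x h1 (hx ▸ h1)
  · have h2 := key (x + 1) (by rw [Pi.add_apply, h1, Pi.one_apply]; decide)
      (by rw [Pi.add_apply, ← hx, h1, Pi.one_apply]; decide)
    rwa [h.add, h.one, mul_one] at h2

end labels

theorem odd_n {m : ℕ} (hm : 1 ≤ m) : Odd (2 ^ m + 1) := by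
  have h1 : Even (2 ^ m) := (Nat.even_pow.mpr ⟨even_two, by omega⟩)
  exact h1.add_one

namespace Hyp

variable {m : ℕ} {V P S W : Subgroup G} {ε : (Fin (2 ^ m + 1) → ZMod 2) → G} {i j : Fin (2 ^ m + 1)}
  (h : Hyp V P S W ε i j)
include h

/-! ### (A1), (A2) from the index bound -/

theorem V0_le_E [Finite G] (hidx : P.relIndex W ≤ 2 ^ (m - 1)) : V0 ε i j ≤ h.E := by
  unfold V0
  rw [closure_le]
  rintro x ⟨k, hki, hkj, rfl⟩
  have hm := h.two_le
  exact zz_mem_of_rr h.even (odd_n (by omega)) h.ne ⟨hki, hkj⟩ h.rr_mem_E fun b hbi hbj hbk =>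
    h.rr_mem_E' hidx ⟨hki, hkj⟩ ⟨hbi, hbj⟩ hbk.symm

/-- `[W, v] ≤ C_G(V)` for `v ∈ V0`. -/
theorem p1_of [Finite G] (hidx : P.relIndex W ≤ 2 ^ (m - 1)) {u w : G} (hu : u ∈ V0 ε i j) (hw : w ∈ W) :
    w⁻¹ * u * w * u⁻¹ ∈ centralizer (V : Set G) := (h.V0_le_E hidx hu).2 w hw

/-- `E` commutes with the conjugation by `W` on `V`. -/
theorem equiv [Finite G] {e w v : G} (he : e ∈ h.E) (hw : w ∈ W) (hv : v ∈ V) :
    e * (w * v * w⁻¹) * e⁻¹ = w * (e * v * e⁻¹) * w⁻¹ := by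
  have hκ := he.2 w hw
  rw [mem_centralizer_iff] at hκ
  have h1 := hκ _ ((mem_normalizer_iff.mp (h.even.le_normalizer he.1.1) v).mp hv)
  set κ := w⁻¹ * e * w * e⁻¹ with hκ'
  have h2 : e * w = w * κ * e := by rw [hκ']; group
  calc e * (w * v * w⁻¹) * e⁻¹ = (e * w) * v * (e * w)⁻¹ := by group
    _ = w * (κ * (e * v * e⁻¹)) * κ⁻¹ * w⁻¹ := by rw [h2]; group
    _ = w * (e * v * e⁻¹ * κ) * κ⁻¹ * w⁻¹ := by rw [h1]
    _ = w * (e * v * e⁻¹) * w⁻¹ := by group

/-- If `w` commutes with `v ∈ V`, it commutes with `v ^ e`, `e ∈ E`. -/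
theorem comm_conj [Finite G] {e w v : G} (he : e ∈ h.E) (hw : w ∈ W) (hv : v ∈ V) (hc : w * v = v * w) :
    w * (e * v * e⁻¹) = e * v * e⁻¹ * w := by
  have h1 := h.equiv he hw hv
  have h2 : w * v * w⁻¹ = v := by rw [hc, mul_inv_cancel_right]
  rw [h2] at h1
  calc w * (e * v * e⁻¹) = w * (e * v * e⁻¹) * w⁻¹ * w := by group
    _ = e * v * e⁻¹ * w := by rw [← h1]

/-- `w ∈ W` commuting with one `r_kl` centralises `V0`. -/
theorem p2_of [Finite G] (hidx : P.relIndex W ≤ 2 ^ (m - 1)) {w : G} (hw : w ∈ W) {k l : Fin (2 ^ m + 1)}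
    (hk : k ≠ i ∧ k ≠ j) (hl : l ≠ i ∧ l ≠ j) (hkl : k ≠ l) (hc : w * rr ε k l = rr ε k l * w) :
    ∀ u ∈ V0 ε i j, w * u = u * w := by
  have hev := h.even
  -- `w` commutes with all `r_la`
  have h1 : ∀ a, a ≠ i ∧ a ≠ j → rr ε l a ∈ centralizer ({w} : Set G) := by
    intro a ha
    rw [mem_centralizer_singleton_iff]
    by_cases hal : a = l
    · subst hal
      have h0 : rr ε a a = 1 := zz_sq hev a
      rw [h0, one_mul, mul_one]
    · by_cases hak : a = k
      · subst hak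
        rw [rr_symm hev l a]
        exact hc.symm
      · obtain ⟨e, he1, he2, he3, he4, -⟩ := h.exists_cycle hidx hk hl ha hkl (Ne.symm hak) (Ne.symm hal)
        have h2 := h.comm_conj (e := e) ⟨he1, he2⟩ hw (rr_mem hev k l) hc
        have h3 : e * rr ε k l * e⁻¹ = rr ε l a := by
          unfold rr
          rw [← he4]
          nth_rewrite 2 [← he3]
          group
        rw [h3] at h2
        exact h2.symm
  have h2 : ∀ a b, a ≠ i ∧ a ≠ j → b ≠ i ∧ b ≠ j → rr ε a b ∈ centralizer ({w} : Set G) := by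
    intro a b ha hb
    rw [← rr_add hev a l b, rr_symm hev a l]
    exact mul_mem (h1 a ha) (h1 b hb)
  have hij : rr ε i j ∈ centralizer ({w} : Set G) := by
    rw [mem_centralizer_singleton_iff]
    exact (mem_centralizer_singleton_iff.mp (h.leW hw)).symm
  have h3 : V0 ε i j ≤ centralizer ({w} : Set G) := by
    unfold V0
    rw [closure_le]
    rintro x ⟨c, hci, hcj, rfl⟩
    have hm := h.two_le
    exact zz_mem_of_rr hev (odd_n (by omega)) h.ne ⟨hci, hcj⟩ hij fun b hbi hbj _ =>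
      h2 c b ⟨hci, hcj⟩ ⟨hbi, hbj⟩
  intro u hu
  exact (mem_centralizer_singleton_iff.mp (h3 hu)).symm

/-! ### The index bound -/

omit h in
theorem card_mul_relIndex' {H K : Subgroup G} (h : H ≤ K) : Nat.card H * H.relIndex K = Nat.card K := by
  rw [Subgroup.relIndex, ← Nat.card_congr (Subgroup.subgroupOfEquivOfLe h).toEquiv]
  exact Subgroup.card_mul_index _

omit h in
theorem card_sup_mul' {K H : Subgroup G} (h' : H ≤ normalizer (K : Set G)) :
    Nat.card (K ⊔ H : Subgroup G) * Nat.card (K ⊓ H : Subgroup G) = Nat.card K * Nat.card H := by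
  have hKn : (K.subgroupOf (K ⊔ H)).Normal :=
    normal_subgroupOf_of_le_normalizer (sup_le le_normalizer h')
  have h1 := relIndex_sup_left (H.subgroupOf (K ⊔ H)) (K.subgroupOf (K ⊔ H))
  rw [← Subgroup.subgroupOf_sup le_sup_left le_sup_right, Subgroup.subgroupOf_self,
    Subgroup.relIndex_subgroupOf le_sup_right, relIndex_top_right] at h1
  have h2 : Nat.card K * K.relIndex H = Nat.card (K ⊔ H : Subgroup G) := by
    rw [← h1]
    exact card_mul_relIndex' le_sup_left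
  have h3 : Nat.card (K ⊓ H : Subgroup G) * K.relIndex H = Nat.card H := by
    rw [← inf_relIndex_right]
    exact card_mul_relIndex' inf_le_right
  rw [← h2, ← h3]
  ring

theorem i_ne_zero : i ≠ 0 := by
  obtain ⟨a, ha, hσ⟩ := h.swap
  have h1 := h.fix0 a ha _ hσ
  rintro rfl
  rw [Equiv.swap_apply_left] at h1
  exact h.ne h1.symm

theorem j_ne_zero : j ≠ 0 := by
  obtain ⟨a, ha, hσ⟩ := h.swap
  have h1 := h.fix0 a ha _ hσ
  rintro rfl
  rw [Equiv.swap_apply_right] at h1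
  exact h.ne h1

/-- an element of `S` fixing `i` fixes `j` -/
theorem fix_j {s : G} (hs : s ∈ S) {σ : Equiv.Perm (Fin (2 ^ m + 1))} (hσ : Acts ε s σ) (hi : σ i = i) :
    σ j = j := by
  classical
  by_contra hj
  have hji : σ j ≠ i := fun h0 => h.ne (σ.injective (hi.trans h0.symm))
  obtain ⟨a, ha, hτ⟩ := h.swap
  have h1 : a * (s * a * s⁻¹) ∈ S := mul_mem ha (mul_mem (mul_mem hs ha) (inv_mem hs))
  have h2 := hτ.mul (hσ.conj hτ)
  have h3 : σ * Equiv.swap i j * σ⁻¹ = Equiv.swap i (σ j) := by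
    rw [← Equiv.swap_apply_apply, hi]
  rw [h3] at h2
  have h4 : (Equiv.swap i j * Equiv.swap i (σ j)).IsThreeCycle :=
    Equiv.Perm.isThreeCycle_swap_mul_swap_same h.ne hji.symm (Ne.symm hj)
  obtain ⟨k, hk⟩ := h.isP ⟨_, h1⟩
  have h5 : (a * (s * a * s⁻¹)) ^ 2 ^ k = 1 := congrArg Subtype.val hk
  have h6 : ∀ N : ℕ, Acts ε ((a * (s * a * s⁻¹)) ^ N) ((Equiv.swap i j * Equiv.swap i (σ j)) ^ N) := by
    intro N
    induction N with
    | zero =>
      rw [pow_zero, pow_zero]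
      exact Acts.one
    | succ N ih =>
      rw [pow_succ, pow_succ]
      exact ih.mul h2
  have h7 := h6 (2 ^ k)
  rw [h5] at h7
  have h8 := h.even.acts_unique h.three h7 Acts.one
  have h9 := orderOf_dvd_of_pow_eq_one h8
  rw [h4.orderOf] at h9
  have h10 := Nat.Prime.dvd_of_dvd_pow Nat.prime_three h9
  omega

theorem swap_mem_cent {a : G} (hσ : Acts ε a (Equiv.swap i j)) :
    a ∈ centralizer ({rr ε i j} : Set G) := by
  rw [mem_centralizer_singleton_iff]
  have h1 := rr_conj hσ i j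
  rw [Equiv.swap_apply_left, Equiv.swap_apply_right, rr_symm h.even j i] at h1
  calc a * rr ε i j = a * rr ε i j * a⁻¹ * a := by group
    _ = rr ε i j * a := by rw [h1]

/-- `|S : C_S(r_ij)| ≤ 2^(m-1)` -/
theorem relIndex_S_le [Finite G] : (S ⊓ centralizer ({rr ε i j} : Set G)).relIndex S ≤ 2 ^ (m - 1) := by
  classical
  set T := S ⊓ centralizer ({rr ε i j} : Set G) with hT
  let f : S →* Equiv.Perm (Fin (2 ^ m + 1)) := (h.even.hom h.three).comp (Subgroup.inclusion h.le)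
  have hf : ∀ s : S, Acts ε (s : G) (f s) := fun s => h.even.acts_hom h.three (Subgroup.inclusion h.le s)
  let act : MulAction S (Fin (2 ^ m + 1)) := MulAction.compHom _ f
  have hact : ∀ (s : S) (k : Fin (2 ^ m + 1)), s • k = f s k := fun s k => rfl
  let Si : Subgroup S := MulAction.stabilizer S i
  have h1 : Si.index ≤ 2 ^ m := by
    have h2 : Si.index = (MulAction.orbit S i).ncard := by
      rw [← MulAction.index_stabilizer (G := S) (x := i)]
    have hsub : MulAction.orbit S i ⊆ {0}ᶜ := by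
      rintro k ⟨s, rfl⟩ hk
      have h3 : f s i = 0 := hk
      have h4 : f s 0 = 0 := h.fix0 s s.2 _ (hf s)
      exact h.i_ne_zero ((f s).injective (h3.trans h4.symm))
    rw [h2]
    refine (Set.ncard_le_ncard hsub (Set.toFinite _)).trans ?_
    rw [Set.ncard_compl, Set.ncard_singleton, Nat.card_fin]
    simp
  have h2 : Si ≤ T.subgroupOf S := by
    intro s hs
    have h3 : f s i = i := hs
    have h4 := h.fix_j s.2 (hf s) h3
    rw [mem_subgroupOf, hT]
    refine ⟨s.2, mem_centralizer_singleton_iff.mpr ?_⟩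
    have h5 := rr_conj (hf s) i j
    rw [h3, h4] at h5
    calc (s : G) * rr ε i j = s * rr ε i j * (s : G)⁻¹ * s := by group
      _ = rr ε i j * s := by rw [h5]
  have h3 : Si.relIndex (T.subgroupOf S) * (T.subgroupOf S).index = Si.index := relIndex_mul_index h2
  have h4 : 2 ≤ Si.relIndex (T.subgroupOf S) := by
    by_contra hcon
    push Not at hcon
    have h5 : Si.relIndex (T.subgroupOf S) ≠ 0 := by
      rw [relIndex]
      exact FiniteIndex.index_ne_zero
    have h6 : Si.relIndex (T.subgroupOf S) = 1 := by omega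
    have h7 := relIndex_eq_one.mp h6
    obtain ⟨a, ha, hσ⟩ := h.swap
    have h8 : (⟨a, ha⟩ : S) ∈ T.subgroupOf S := by
      rw [mem_subgroupOf, hT]
      exact ⟨ha, h.swap_mem_cent hσ⟩
    have h9 : f ⟨a, ha⟩ i = i := h7 h8
    have h10 : f ⟨a, ha⟩ = Equiv.swap i j := h.even.acts_unique h.three (hf ⟨a, ha⟩) hσ
    rw [h10, Equiv.swap_apply_left] at h9
    exact h.ne h9.symm
  have h5 : 2 * T.relIndex S ≤ 2 ^ m := by
    calc 2 * T.relIndex S ≤ Si.relIndex (T.subgroupOf S) * (T.subgroupOf S).index :=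
          Nat.mul_le_mul_right _ h4
      _ = Si.index := h3
      _ ≤ 2 ^ m := h1
  have h6 : (2 : ℕ) ^ m = 2 * 2 ^ (m - 1) := by
    rw [← pow_succ']
    congr 1
    have := h.two_le
    omega
  omega

/-- `|W : W ∩ P| ≤ 2^(m-1)` -/
theorem relIndex_le [Finite G] : P.relIndex W ≤ 2 ^ (m - 1) := by
  have h2 : Fact (Nat.Prime 2) := ⟨Nat.prime_two⟩
  set T := S ⊓ centralizer ({rr ε i j} : Set G) with hT
  have hTW : T ≤ normalizer (W : Set G) := inf_le_right.trans h.norm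
  have hTp : IsPGroup 2 T := h.isP.to_le inf_le_left
  have h1 : IsPGroup 2 (W ⊔ T : Subgroup G) := by
    have := h.isPW.to_sup_of_normal_left' hTp hTW
    exact this
  have h3 := h.max _ h1
  have h4 := card_sup_mul' hTW
  have h5 : Nat.card T * T.relIndex S = Nat.card S := card_mul_relIndex' inf_le_left
  have h6 : Nat.card (W ⊓ T : Subgroup G) * (W ⊓ T).relIndex W = Nat.card W :=
    card_mul_relIndex' inf_le_left
  rw [inf_relIndex_left] at h6
  have h7 : T.relIndex W ≤ T.relIndex S := by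
    have hTpos : 0 < Nat.card T := Nat.card_pos
    have hWpos : 0 < Nat.card (W ⊓ T : Subgroup G) := Nat.card_pos
    have h8 : Nat.card T * T.relIndex W * Nat.card (W ⊓ T : Subgroup G) ≤
        Nat.card T * T.relIndex S * Nat.card (W ⊓ T : Subgroup G) := by
      calc Nat.card T * T.relIndex W * Nat.card (W ⊓ T : Subgroup G)
          = Nat.card (W ⊓ T : Subgroup G) * T.relIndex W * Nat.card T := by ring
        _ = Nat.card (W ⊔ T : Subgroup G) * Nat.card (W ⊓ T : Subgroup G) := by rw [h6, h4]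
        _ ≤ Nat.card S * Nat.card (W ⊓ T : Subgroup G) := Nat.mul_le_mul_right _ h3
        _ = _ := by rw [← h5]
    have h9 := Nat.le_of_mul_le_mul_right h8 hWpos
    exact Nat.le_of_mul_le_mul_left h9 hTpos
  have h8 : P.relIndex W ≤ T.relIndex W := by
    refine relIndex_le_of_le_left (inf_le_left.trans h.le) ?_
    rw [relIndex]
    exact FiniteIndex.index_ne_zero
  exact (h8.trans h7).trans h.relIndex_S_le

/-! ### (A1), (A2) -/

/-- `[W, v] ≤ C_G(V)` for `v ∈ V0`. -/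
theorem p1 [Finite G] {u w : G} (hu : u ∈ V0 ε i j) (hw : w ∈ W) :
    w⁻¹ * u * w * u⁻¹ ∈ centralizer (V : Set G) := h.p1_of h.relIndex_le hu hw

/-- `w ∈ W` commuting with one `r_kl` centralises `V0`. -/
theorem p2 [Finite G] {w : G} (hw : w ∈ W) {k l : Fin (2 ^ m + 1)}
    (hk : k ≠ i ∧ k ≠ j) (hl : l ≠ i ∧ l ≠ j) (hkl : k ≠ l) (hc : w * rr ε k l = rr ε k l * w) :
    ∀ u ∈ V0 ε i j, w * u = u * w := h.p2_of h.relIndex_le hw hk hl hkl hc

/-- `w v w⁻¹` commutes with `V` for `v ∈ V0`, `w ∈ W`. -/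
theorem comm_V [Finite G] {u v w : G} (hu : u ∈ V) (hv : v ∈ V0 ε i j) (hw : w ∈ W) :
    u * (w * v * w⁻¹) = w * v * w⁻¹ * u := by
  have h1 := h.p1 hv (inv_mem hw)
  rw [inv_inv, mem_centralizer_iff] at h1
  have hvV : v ∈ V := by
    have h2 : V0 ε i j ≤ V := by
      unfold V0
      rw [closure_le]
      rintro x ⟨k, -, -, rfl⟩
      exact zz_mem h.even k
    exact h2 hv
  have h2 := h1 u hu
  calc u * (w * v * w⁻¹) = u * (w * v * w⁻¹ * v⁻¹) * v := by group
    _ = w * v * w⁻¹ * v⁻¹ * (u * v) := by rw [h2]; group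
    _ = w * v * w⁻¹ * v⁻¹ * (v * u) := by rw [h.even.comm_mem hu hvV]
    _ = w * v * w⁻¹ * u := by group

/-- `E = {e ∈ C_P(r_ij) : [W, e] ≤ C_G(V)}` induces every 3-cycle off `{i, j}`. -/
theorem cycle_mem_E [Finite G] {k l a : Fin (2 ^ m + 1)}
    (hk : k ≠ i ∧ k ≠ j) (hl : l ≠ i ∧ l ≠ j) (ha : a ≠ i ∧ a ≠ j) (hkl : k ≠ l) (hka : k ≠ a)
    (hla : l ≠ a) : ∃ e ∈ h.E, e * zz ε k * e⁻¹ = zz ε l ∧ e * zz ε l * e⁻¹ = zz ε a ∧
      e * zz ε a * e⁻¹ = zz ε k := by
  obtain ⟨e, h1, h2, h3⟩ := h.exists_cycle h.relIndex_le hk hl ha hkl hka hla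
  exact ⟨e, ⟨h1, h2⟩, h3⟩

end Hyp

end Cfsg.Agent.Omega.NSix.CosetAct
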