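import Mathlib

/-!
# OMEGA N6, (A3) of #13864: the stabiliser of a pair in the symmetric group

A subgroup of odd index of the stabiliser of `{i, j}` containing all 3-cycles off `{i, j}` is the whole stabiliser.
-/

set_option autoImplicit false

namespace Cfsg.Agent.Omega.NSix.StabPerm

open Equiv

variable {Ω : Type} [DecidableEq Ω]

/-- The stabiliser of the set `{i, j}`. -/
def St (i j : Ω) : Subgroup (Perm Ω) where
  carrier := {σ | (σ i = i ∧ σ j = j) ∨ (σ i = j ∧ σ j = i)}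
  one_mem' := Or.inl ⟨rfl, rfl⟩
  mul_mem' := by
    rintro a b (⟨ha, ha'⟩ | ⟨ha, ha'⟩) (⟨hb, hb'⟩ | ⟨hb, hb'⟩)
    · left
      rw [Perm.mul_apply, Perm.mul_apply, hb, hb']
      exact ⟨ha, ha'⟩
    · right
      rw [Perm.mul_apply, Perm.mul_apply, hb, hb']
      exact ⟨ha', ha⟩
    · right
      rw [Perm.mul_apply, Perm.mul_apply, hb, hb']
      exact ⟨ha, ha'⟩
    · left
      rw [Perm.mul_apply, Perm.mul_apply, hb, hb']
      exact ⟨ha', ha⟩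
  inv_mem' := by
    rintro a (⟨ha, ha'⟩ | ⟨ha, ha'⟩)
    · left
      rw [Perm.inv_eq_iff_eq, Perm.inv_eq_iff_eq]
      exact ⟨ha.symm, ha'.symm⟩
    · right
      rw [Perm.inv_eq_iff_eq, Perm.inv_eq_iff_eq]
      exact ⟨ha'.symm, ha.symm⟩

omit [DecidableEq Ω] in
theorem mem_St {i j : Ω} {σ : Perm Ω} : σ ∈ St i j ↔ (σ i = i ∧ σ j = j) ∨ (σ i = j ∧ σ j = i) := Iff.rfl

omit [DecidableEq Ω] in
theorem ne_of_mem {i j : Ω} {σ : Perm Ω} (h : σ ∈ St i j) {k : Ω} (hk : k ≠ i ∧ k ≠ j) : σ k ≠ i ∧ σ k ≠ j := by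
  rcases h with ⟨h1, h2⟩ | ⟨h1, h2⟩
  · exact ⟨fun h0 => hk.1 (σ.injective (h0.trans h1.symm)), fun h0 => hk.2 (σ.injective (h0.trans h2.symm))⟩
  · exact ⟨fun h0 => hk.2 (σ.injective (h0.trans h2.symm)), fun h0 => hk.1 (σ.injective (h0.trans h1.symm))⟩

/-- A permutation fixing `i` and `j` is a product of transpositions off `{i, j}`. -/
theorem mem_of_swaps [Finite Ω] {i j : Ω} {H : Subgroup (Perm Ω)}
    (h : ∀ a b, (a ≠ i ∧ a ≠ j) → (b ≠ i ∧ b ≠ j) → a ≠ b → swap a b ∈ H) {σ : Perm Ω} (h1 : σ i = i)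
    (h2 : σ j = j) : σ ∈ H := by
  have key : ∀ τ : Perm {x : Ω // x ≠ i ∧ x ≠ j}, Perm.ofSubtype τ ∈ H := by
    intro τ
    induction τ using Perm.swap_induction_on with
    | one =>
      rw [map_one]
      exact H.one_mem
    | swap_mul f x y hxy hf =>
      rw [map_mul, Perm.ofSubtype_swap_eq]
      exact H.mul_mem (h x y x.2 y.2 fun h0 => hxy (Subtype.ext h0)) hf
  have h3 : ∀ x, x ≠ i ∧ x ≠ j ↔ σ x ≠ i ∧ σ x ≠ j := by
    intro x
    constructor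
    · exact fun hx => ne_of_mem (Or.inl ⟨h1, h2⟩) hx
    · rintro ⟨h4, h5⟩
      exact ⟨fun h0 => h4 (by rw [h0, h1]), fun h0 => h5 (by rw [h0, h2])⟩
  have h4 := key (σ.subtypePerm fun x => (h3 x).symm)
  rwa [Perm.ofSubtype_subtypePerm] at h4
  intro x hx
  exact ⟨fun h0 => hx (by rw [h0, h1]), fun h0 => hx (by rw [h0, h2])⟩

omit [DecidableEq Ω] in
theorem exists_conj [Finite Ω] {K H : Subgroup (Perm Ω)} (hodd : ¬ 2 ∣ H.relIndex K) {τ : Perm Ω}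
    (hτ : τ ∈ K) (h2 : τ * τ = 1) : ∃ g ∈ K, g⁻¹ * τ * g ∈ H := by
  have hf : Fact (Nat.Prime 2) := ⟨Nat.prime_two⟩
  have hp : IsPGroup 2 (Subgroup.zpowers (⟨τ, hτ⟩ : K)) := by
    have h1 : (⟨τ, hτ⟩ : K) ^ 2 = 1 := Subtype.ext (by rw [pow_two]; exact h2)
    rintro ⟨x, k, rfl⟩
    refine ⟨1, Subtype.ext ?_⟩
    change ((⟨τ, hτ⟩ : K) ^ k) ^ (2 ^ 1) = 1
    rw [pow_one, ← zpow_natCast, ← zpow_mul, mul_comm, zpow_mul, zpow_natCast, h1, one_zpow]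
  obtain ⟨x, hx⟩ := hp.nonempty_fixed_point_of_prime_not_dvd_card (K ⧸ H.subgroupOf K) (by
    intro h0
    exact hodd h0)
  obtain ⟨g, rfl⟩ := QuotientGroup.mk_surjective x
  refine ⟨g, g.2, ?_⟩
  have h3 := hx ⟨⟨τ, hτ⟩, Subgroup.mem_zpowers _⟩
  change ((((⟨τ, hτ⟩ : K) * g : K)) : K ⧸ H.subgroupOf K) = (g : K ⧸ H.subgroupOf K) at h3
  have h4 := (QuotientGroup.eq.mp h3.symm)
  rw [Subgroup.mem_subgroupOf] at h4
  have h5 : (((g⁻¹ * (⟨τ, hτ⟩ * g) : K)) : Perm Ω) = (g : Perm Ω)⁻¹ * τ * g := by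
    change (g : Perm Ω)⁻¹ * (τ * g) = _
    group
  rwa [h5] at h4

theorem swap_mem_St {i j a b : Ω} (ha : a ≠ i ∧ a ≠ j) (hb : b ≠ i ∧ b ≠ j) : swap a b ∈ St i j :=
  Or.inl ⟨swap_apply_of_ne_of_ne ha.1.symm hb.1.symm, swap_apply_of_ne_of_ne ha.2.symm hb.2.symm⟩

theorem conj_swap (g : Perm Ω) (a b : Ω) : g⁻¹ * swap a b * g = swap (g⁻¹ a) (g⁻¹ b) := by
  have h1 := Equiv.swap_apply_apply g⁻¹ a b
  rw [h1, inv_inv]

/-- A subgroup of odd index of the stabiliser of `{i, j}` containing all 3-cycles off `{i, j}` is everything. -/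
theorem St_le [Finite Ω] {i j k l : Ω} (hk : k ≠ i ∧ k ≠ j) (hl : l ≠ i ∧ l ≠ j) (hkl : k ≠ l)
    {H : Subgroup (Perm Ω)} (hodd : ¬ 2 ∣ H.relIndex (St i j))
    (h3 : ∀ a b c, (a ≠ i ∧ a ≠ j) → (b ≠ i ∧ b ≠ j) → (c ≠ i ∧ c ≠ j) → a ≠ b → b ≠ c → a ≠ c →
      swap a b * swap b c ∈ H) : St i j ≤ H := by
  have hij : swap i j ∈ H := by
    obtain ⟨g, hg, h1⟩ := exists_conj (K := St i j) (H := H) hodd (τ := swap i j)
      (Or.inr ⟨swap_apply_left i j, swap_apply_right i j⟩) (swap_mul_self i j)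
    rw [conj_swap] at h1
    rcases (St i j).inv_mem hg with ⟨h2, h4⟩ | ⟨h2, h4⟩
    · rwa [h2, h4] at h1
    · rwa [h2, h4, swap_comm] at h1
  obtain ⟨g, hg, h1⟩ := exists_conj (K := St i j) (H := H) hodd (swap_mem_St hk hl) (swap_mul_self k l)
  rw [conj_swap] at h1
  have hk' := ne_of_mem ((St i j).inv_mem hg) hk
  have hl' := ne_of_mem ((St i j).inv_mem hg) hl
  have hkl' : g⁻¹ k ≠ g⁻¹ l := fun h0 => hkl (g⁻¹.injective h0)
  generalize g⁻¹ k = k' at h1 hk' hkl'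
  generalize g⁻¹ l = l' at h1 hl' hkl'
  have step : ∀ a b c, (a ≠ i ∧ a ≠ j) → (b ≠ i ∧ b ≠ j) → (c ≠ i ∧ c ≠ j) → a ≠ b → b ≠ c → a ≠ c →
      swap a b ∈ H → swap b c ∈ H := by
    intro a b c ha hb hc hab hbc hac h4
    have h5 := H.mul_mem h4 (h3 a b c ha hb hc hab hbc hac)
    rwa [← mul_assoc, swap_mul_self, one_mul] at h5
  have hA : ∀ p, (p ≠ i ∧ p ≠ j) → p ≠ k' → swap k' p ∈ H := by
    intro p hp hpk
    by_cases hpl : p = l'
    · rwa [hpl]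
    · exact step l' k' p hl' hk' hp hkl'.symm hpk.symm (Ne.symm hpl) (by rwa [swap_comm])
  have hB : ∀ a b, (a ≠ i ∧ a ≠ j) → (b ≠ i ∧ b ≠ j) → a ≠ b → swap a b ∈ H := by
    intro a b ha hb hab
    by_cases hak : a = k'
    · subst hak
      exact hA b hb hab.symm
    by_cases hbk : b = k'
    · subst hbk
      rw [swap_comm]
      exact hA a ha hab
    exact step k' a b hk' ha hb (Ne.symm hak) hab (Ne.symm hbk) (hA a ha hak)
  intro σ hσ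
  rcases hσ with ⟨h4, h5⟩ | ⟨h4, h5⟩
  · exact mem_of_swaps hB h4 h5
  · have h6 : swap i j * σ ∈ H := by
      refine mem_of_swaps hB ?_ ?_
      · rw [Perm.mul_apply, h4, swap_apply_right]
      · rw [Perm.mul_apply, h5, swap_apply_left]
    have h7 := H.mul_mem hij h6
    rwa [← mul_assoc, swap_mul_self, one_mul] at h7

end Cfsg.Agent.Omega.NSix.StabPerm
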