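import Cfsg.Agent.Omega.NSix.FixHom
import Cfsg.Agent.Omega.NSix.StabPerm
import Cfsg.Agent.Omega.NSix.Basic
import Cfsg.Agent.Omega.S5.Syl
import Cfsg.Agent.Omega.NSix.CosetAct

/-!
# OMEGA N6, bb #13864 (A3), inside a group

`V` is the even-subset module of `P` of degree `2 ^ m + 1 ≥ 5`, `r_ij` the pair `{i, j}`, `V_n = ⟨r_kl ; k, l ∉ {i, j}⟩`,
`W` a normal 2-subgroup of `C_G(r_ij)` containing its centraliser, `E` normal in `C_P(r_ij)`, inducing all 3-cycles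
off `{i, j}`, with `[W, E] ≤ C(V)` and `⟨V_n ^ W⟩` abelian.  Then there is an injective homomorphism
`φ : V_n → Z(W) ∩ Z(Q)` (`Q` a normal self-centralising 2-subgroup of `P`), which commutes with elements of `P`
inducing all permutations preserving `{i, j}`.
-/

set_option autoImplicit false

namespace Cfsg.Agent.Omega.NSix.FixApp

open Subgroup Cfsg.Agent.Omega.S5.Def Cfsg.Agent.Omega.S5.Syl Cfsg.Agent.Omega.NSix.Base
  Cfsg.Agent.Omega.NSix.Basic Cfsg.Agent.Omega.NSix.FixHom Cfsg.Agent.Omega.NSix.CosetAct Cfsg.Agent.Omega.NSix.StabPerm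

universe u

variable {G : Type u} [Group G]

/-- `V_n`, `n = {i, j}`: the even subsets off `{i, j}`. -/
def Vn {n : ℕ} (ε : (Fin n → ZMod 2) → G) (i j : Fin n) : Subgroup G :=
  closure {y | ∃ k l, (k ≠ i ∧ k ≠ j) ∧ (l ≠ i ∧ l ≠ j) ∧ y = rr ε k l}

section

variable {n : ℕ} {ε : (Fin n → ZMod 2) → G} {V P : Subgroup G} {i j : Fin n}

theorem rr_mem_Vn {k l : Fin n} (hk : k ≠ i ∧ k ≠ j) (hl : l ≠ i ∧ l ≠ j) : rr ε k l ∈ Vn ε i j :=
  subset_closure ⟨k, l, hk, hl, rfl⟩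

theorem Vn_le (h : EvenSet n V P ε) : Vn ε i j ≤ V := by
  rw [Vn, closure_le]
  rintro _ ⟨k, l, -, -, rfl⟩
  exact rr_mem h k l

/-- An element of `C_P(r_ij)` preserves `{i, j}`. -/
theorem mem_St_of (hn : 5 ≤ n) (h : EvenSet n V P ε) (hij : i ≠ j) {g : G} {σ : Equiv.Perm (Fin n)}
    (hg : Acts ε g σ) (hgN : g ∈ NN ε i j) : σ ∈ St i j := by
  have h1 := mem_NN'.mp hgN
  rw [rr_conj hg] at h1
  have hσ : σ i ≠ σ j := fun h0 => hij (σ.injective h0)
  have h2 : ε (Pi.single (σ i) 1 + Pi.single (σ j) 1) = ε (Pi.single i 1 + Pi.single j 1) := by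
    rw [h.add, h.add]
    exact h1
  have hc : ∀ a b c d : Fin n, ∃ k, k ≠ a ∧ k ≠ b ∧ k ≠ c ∧ k ≠ d := by
    intro a b c d
    have hcard : ({a, b, c, d} : Finset (Fin n)).card < (Finset.univ : Finset (Fin n)).card := by
      rw [Finset.card_univ, Fintype.card_fin]
      exact lt_of_le_of_lt Finset.card_le_four (by omega)
    obtain ⟨k, -, hk⟩ := Finset.exists_mem_notMem_of_card_lt_card hcard
    simp only [Finset.mem_insert, Finset.mem_singleton, not_or] at hk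
    exact ⟨k, hk.1, hk.2.1, hk.2.2.1, hk.2.2.2⟩
  have h3 : (Pi.single (σ i) 1 + Pi.single (σ j) 1 : Fin n → ZMod 2) = Pi.single i 1 + Pi.single j 1 := by
    rcases h.eq_iff.mp h2 with h3 | h3
    · exact h3
    · exfalso
      obtain ⟨k, k1, k2, k3, k4⟩ := hc (σ i) (σ j) i j
      have h4 := congrFun h3 k
      simp only [Pi.add_apply, Pi.single_eq_of_ne k1, Pi.single_eq_of_ne k2, Pi.single_eq_of_ne k3,
        Pi.single_eq_of_ne k4, Pi.one_apply, add_zero, zero_add] at h4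
      exact zero_ne_one h4
  have h4 : ∀ k, k = σ i ∨ k = σ j → k = i ∨ k = j := by
    intro k hk
    by_contra h0
    push Not at h0
    have h5 := congrFun h3 k
    rw [Pi.add_apply, Pi.add_apply, Pi.single_eq_of_ne h0.1, Pi.single_eq_of_ne h0.2] at h5
    rcases hk with rfl | rfl
    · rw [Pi.single_eq_same, Pi.single_eq_of_ne hσ] at h5
      exact one_ne_zero h5
    · rw [Pi.single_eq_same, Pi.single_eq_of_ne hσ.symm] at h5
      exact one_ne_zero h5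
  rcases h4 _ (Or.inl rfl) with h5 | h5 <;> rcases h4 _ (Or.inr rfl) with h6 | h6
  · exact absurd (h5.trans h6.symm) hσ
  · exact Or.inl ⟨h5, h6⟩
  · exact Or.inr ⟨h5, h6⟩
  · exact absurd (h5.trans h6.symm) hσ

theorem mem_NN_of (h : EvenSet n V P ε) {g : G} {σ : Equiv.Perm (Fin n)} (hg : Acts ε g σ) (hσ : σ ∈ St i j) :
    g ∈ NN ε i j := by
  rw [mem_NN', rr_conj hg]
  rcases hσ with ⟨h1, h2⟩ | ⟨h1, h2⟩
  · rw [h1, h2]
  · rw [h1, h2, rr_symm h]

theorem Vn_conj {g : G} {σ : Equiv.Perm (Fin n)} (hg : Acts ε g σ) (hσ : σ ∈ St i j) {v : G}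
    (hv : v ∈ Vn ε i j) : g * v * g⁻¹ ∈ Vn ε i j := by
  unfold Vn at hv
  induction hv using closure_induction with
  | mem x hx =>
    obtain ⟨k, l, hk, hl, rfl⟩ := hx
    rw [rr_conj hg]
    exact rr_mem_Vn (ne_of_mem hσ hk) (ne_of_mem hσ hl)
  | one =>
    rw [mul_one, mul_inv_cancel]
    exact one_mem _
  | mul x y _ _ hx hy =>
    have : g * (x * y) * g⁻¹ = (g * x * g⁻¹) * (g * y * g⁻¹) := by group
    rw [this]
    exact mul_mem hx hy
  | inv x _ hx =>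
    have : g * x⁻¹ * g⁻¹ = (g * x * g⁻¹)⁻¹ := by group
    rw [this]
    exact inv_mem hx

/-- The elements of `V_n` are the `ε x` with `x` even and trivial on `{i, j}`. -/
theorem Vn_repr (h : EvenSet n V P ε) {v : G} (hv : v ∈ Vn ε i j) :
    ∃ x : Fin n → ZMod 2, v = ε x ∧ x i = 0 ∧ x j = 0 ∧ ∑ k, x k = 0 := by
  unfold Vn at hv
  induction hv using closure_induction with
  | mem x hx =>
    obtain ⟨k, l, hk, hl, rfl⟩ := hx
    refine ⟨Pi.single k 1 + Pi.single l 1, ?_, ?_, ?_, ?_⟩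
    · rw [h.add]
      rfl
    · rw [Pi.add_apply, Pi.single_eq_of_ne hk.1.symm, Pi.single_eq_of_ne hl.1.symm, add_zero]
    · rw [Pi.add_apply, Pi.single_eq_of_ne hk.2.symm, Pi.single_eq_of_ne hl.2.symm, add_zero]
    · simp only [Pi.add_apply, Finset.sum_add_distrib, Finset.sum_pi_single', Finset.mem_univ, if_true]
      exact CharTwo.add_self_eq_zero 1
  | one => exact ⟨0, h.zero.symm, rfl, rfl, by simp⟩
  | mul x y _ _ hx hy =>
    obtain ⟨x', rfl, x1, x2, x3⟩ := hx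
    obtain ⟨y', rfl, y1, y2, y3⟩ := hy
    refine ⟨x' + y', (h.add _ _).symm, ?_, ?_, ?_⟩
    · rw [Pi.add_apply, x1, y1, add_zero]
    · rw [Pi.add_apply, x2, y2, add_zero]
    · simp only [Pi.add_apply, Finset.sum_add_distrib, x3, y3, add_zero]
  | inv x _ hx =>
    obtain ⟨x', rfl, x1, x2, x3⟩ := hx
    exact ⟨x', h.inv _, x1, x2, x3⟩

/-- An equivariant homomorphism on `V_n` which is not trivial is injective (`n` odd). -/
theorem phi_inj (hodd : n % 2 = 1) (h : EvenSet n V P ε) (hij : i ≠ j) {φ : G → G} {R : Subgroup G}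
    (hmul : ∀ v ∈ Vn ε i j, ∀ w ∈ Vn ε i j, φ (v * w) = φ v * φ w) (hne : ∃ v ∈ Vn ε i j, φ v ≠ 1)
    (hR : ∀ g ∈ R, ∀ v ∈ Vn ε i j, φ (g * v * g⁻¹) = g * φ v * g⁻¹)
    (hfull : ∀ σ ∈ St i j, ∃ g ∈ R, Acts ε g σ) {v : G} (hv : v ∈ Vn ε i j) (hv1 : φ v = 1) : v = 1 := by
  by_contra hne1
  obtain ⟨x, rfl, x1, x2, x3⟩ := Vn_repr h hv
  have h01 : ∀ a : ZMod 2, a ≠ 0 → a = 1 := by decide
  have hk : ∃ k, x k ≠ 0 := by
    by_contra h0
    push Not at h0
    apply hne1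
    have : x = 0 := funext h0
    rw [this, h.zero]
  obtain ⟨k, hk⟩ := hk
  have hki : k ≠ i ∧ k ≠ j := ⟨fun h0 => hk (by rw [h0, x1]), fun h0 => hk (by rw [h0, x2])⟩
  have hl : ∃ l, (l ≠ i ∧ l ≠ j) ∧ x l = 0 := by
    by_contra h0
    push Not at h0
    have h1 : x = 1 + Pi.single i 1 + Pi.single j 1 := by
      funext a
      rw [Pi.add_apply, Pi.add_apply, Pi.one_apply]
      by_cases hai : a = i
      · subst hai
        rw [x1, Pi.single_eq_same, Pi.single_eq_of_ne hij]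
        decide
      · by_cases haj : a = j
        · subst haj
          rw [x2, Pi.single_eq_same, Pi.single_eq_of_ne hai]
          decide
        · rw [h01 _ (h0 a ⟨hai, haj⟩), Pi.single_eq_of_ne hai, Pi.single_eq_of_ne haj, add_zero, add_zero]
    rw [h1] at x3
    simp only [Pi.add_apply, Finset.sum_add_distrib, Finset.sum_pi_single', Finset.mem_univ, if_true,
      Pi.one_apply, Finset.sum_const, Finset.card_univ, Fintype.card_fin, nsmul_eq_mul, mul_one] at x3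
    have h2 : ((n : ℕ) : ZMod 2) = 1 := by
      rw [← ZMod.natCast_mod, hodd, Nat.cast_one]
    rw [h2] at x3
    revert x3
    decide
  obtain ⟨l, hl, hxl⟩ := hl
  have hkl : k ≠ l := fun h0 => hk (by rw [h0, hxl])
  obtain ⟨g, hg, hgσ⟩ := hfull _ (swap_mem_St hki hl)
  have h1 : φ (ε x * (g * ε x * g⁻¹)) = 1 := by
    rw [hmul _ hv _ (Vn_conj hgσ (swap_mem_St hki hl) hv), hR g hg _ hv, hv1]
    group
  have h2 : ε x * (g * ε x * g⁻¹) = rr ε k l := by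
    rw [hgσ x, ← h.add]
    change _ = ε _ * ε _
    rw [← h.add]
    congr 1
    funext a
    rw [Pi.add_apply, Pi.add_apply]
    change x a + x ((Equiv.swap k l).symm a) = _
    rw [Equiv.symm_swap]
    by_cases hak : a = k
    · subst hak
      rw [Equiv.swap_apply_left, hxl, h01 _ hk, Pi.single_eq_same, Pi.single_eq_of_ne hkl]
    · by_cases hal : a = l
      · subst hal
        rw [Equiv.swap_apply_right, hxl, h01 _ hk, Pi.single_eq_same, Pi.single_eq_of_ne hkl.symm]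
      · rw [Equiv.swap_apply_of_ne_of_ne hak hal, Pi.single_eq_of_ne hak, Pi.single_eq_of_ne hal]
        exact CharTwo.add_self_eq_zero _
  rw [h2] at h1
  have h3 : ∀ a b, (a ≠ i ∧ a ≠ j) → (b ≠ i ∧ b ≠ j) → φ (rr ε a b) = 1 := by
    intro a b ha hb
    by_cases hab : a = b
    · subst hab
      have h4 : rr ε a a = 1 := zz_sq h a
      have h5 := hmul 1 (one_mem _) 1 (one_mem _)
      rw [one_mul] at h5
      rw [h4]
      exact (mul_eq_left.mp h5.symm)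
    · obtain ⟨σ, h4, h5, h6⟩ := exists_perm hkl hab
      have hσ : σ ∈ St i j := Or.inl ⟨h6 i hki.1.symm hl.1.symm ha.1.symm hb.1.symm,
        h6 j hki.2.symm hl.2.symm ha.2.symm hb.2.symm⟩
      obtain ⟨g, hg, hgσ⟩ := hfull _ hσ
      have h7 := hR g hg _ (rr_mem_Vn hki hl)
      rw [rr_conj hgσ, h4, h5, h1] at h7
      rw [h7]
      group
  obtain ⟨w, hw, hw1⟩ := hne
  apply hw1
  have h8 : φ 1 = 1 := by
    have h5 := hmul 1 (one_mem _) 1 (one_mem _)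
    rw [one_mul] at h5
    exact (mul_eq_left.mp h5.symm)
  have key : ∀ w (hw : w ∈ closure {y | ∃ k l, (k ≠ i ∧ k ≠ j) ∧ (l ≠ i ∧ l ≠ j) ∧ y = rr ε k l}), φ w = 1 := by
    intro w hw
    induction hw using closure_induction with
    | mem x hx =>
      obtain ⟨a, b, ha, hb, rfl⟩ := hx
      exact h3 a b ha hb
    | one => exact h8
    | mul x y hx' hy' hx hy => rw [hmul x hx' y hy', hx, hy, one_mul]
    | inv x hx' hx =>
      have h9 := hmul x hx' x⁻¹ (inv_mem hx')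
      rw [mul_inv_cancel, h8, hx, one_mul] at h9
      exact h9.symm
  exact key w hw

end

section

variable {m : ℕ} {ε : (Fin (2 ^ m + 1) → ZMod 2) → G} {V P : Subgroup G} {i j : Fin (2 ^ m + 1)}

/-- The elements of a subgroup of odd index of `C_P(r_ij)` containing all 3-cycles off `{i, j}` induce all
permutations preserving `{i, j}`. -/
theorem full_of (hm : 2 ≤ m) (h : EvenSet (2 ^ m + 1) V P ε) (hij : i ≠ j) {R : Subgroup G}
    (hRP : R ≤ P ⊓ NN ε i j) (hodd : ¬ 2 ∣ R.relIndex (P ⊓ NN ε i j))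
    (h3 : ∀ a b c, (a ≠ i ∧ a ≠ j) → (b ≠ i ∧ b ≠ j) → (c ≠ i ∧ c ≠ j) → a ≠ b → b ≠ c → a ≠ c →
      ∃ e ∈ R, Acts ε e (Equiv.swap a b * Equiv.swap b c)) :
    ∀ σ ∈ St i j, ∃ g ∈ R, Acts ε g σ := by
  have h5 := five_le hm
  have hn : 3 ≤ 2 ^ m + 1 := by omega
  let π := h.hom hn
  let D : Subgroup G := P ⊓ NN ε i j
  let H : Subgroup (Equiv.Perm (Fin (2 ^ m + 1))) := (R.subgroupOf P).map π
  have hD : (D.subgroupOf P).map π = St i j := by
    apply le_antisymm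
    · rintro _ ⟨g, hg, rfl⟩
      exact mem_St_of h5 h hij (h.acts_hom hn g) hg.2
    · intro σ hσ
      obtain ⟨g, hg, hgσ⟩ := h.full σ
      exact ⟨⟨g, hg⟩, ⟨hg, mem_NN_of h hgσ hσ⟩, h.hom_eq hn hgσ⟩
  have hodd' : ¬ 2 ∣ H.relIndex (St i j) := by
    intro h0
    apply hodd
    rw [← hD] at h0
    have h1 : ((R.subgroupOf P).map π).relIndex ((D.subgroupOf P).map π) ∣
        (R.subgroupOf P).relIndex (D.subgroupOf P) := by
      rw [← relIndex_comap]
      exact relIndex_dvd_of_le_left _ (le_comap_map _ _)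
    have h2 : (R.subgroupOf P).relIndex (D.subgroupOf P) = R.relIndex D := by
      have h3 : (R.subgroupOf P).relIndex (D.subgroupOf P) = R.relIndex ((D.subgroupOf P).map P.subtype) := by
        rw [subgroupOf, relIndex_comap]
      rw [h3, subgroupOf_map_subtype, inf_eq_left.mpr (inf_le_left : D ≤ P)]
    rw [h2] at h1
    exact h0.trans h1
  obtain ⟨k, hk, l, hl, hkl⟩ : ∃ k, (k ≠ i ∧ k ≠ j) ∧ ∃ l, (l ≠ i ∧ l ≠ j) ∧ k ≠ l := by
    have hc : ∀ a b c : Fin (2 ^ m + 1), ∃ k, k ≠ a ∧ k ≠ b ∧ k ≠ c := by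
      intro a b c
      have hcard : ({a, b, c} : Finset (Fin (2 ^ m + 1))).card <
          (Finset.univ : Finset (Fin (2 ^ m + 1))).card := by
        rw [Finset.card_univ, Fintype.card_fin]
        exact lt_of_le_of_lt Finset.card_le_three (by omega)
      obtain ⟨k, -, hk⟩ := Finset.exists_mem_notMem_of_card_lt_card hcard
      simp only [Finset.mem_insert, Finset.mem_singleton, not_or] at hk
      exact ⟨k, hk.1, hk.2.1, hk.2.2⟩
    obtain ⟨k, k1, k2, -⟩ := hc i j j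
    obtain ⟨l, l1, l2, l3⟩ := hc i j k
    exact ⟨k, ⟨k1, k2⟩, l, ⟨l1, l2⟩, l3.symm⟩
  have hH := St_le hk hl hkl hodd' (fun a b c ha hb hc hab hbc hac => by
    obtain ⟨e, he, heσ⟩ := h3 a b c ha hb hc hab hbc hac
    exact ⟨⟨e, (hRP he).1⟩, he, h.hom_eq hn heσ⟩)
  intro σ hσ
  obtain ⟨g, hg, hgσ⟩ := hH hσ
  refine ⟨g, hg, ?_⟩
  rw [← hgσ]
  exact h.acts_hom hn g

end

section

variable {m : ℕ} {V P S W : Subgroup G} {ε : (Fin (2 ^ m + 1) → ZMod 2) → G} {i j : Fin (2 ^ m + 1)}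

theorem A_eq : A P ε i j = P ⊓ NN ε i j := rfl

theorem Vn_le_V0 : Vn ε i j ≤ V0 ε i j := by
  rw [Vn, closure_le]
  rintro _ ⟨k, l, hk, hl, rfl⟩
  exact mul_mem (subset_closure ⟨k, hk.1, hk.2, rfl⟩) (subset_closure ⟨l, hl.1, hl.2, rfl⟩)

/-- `E` induces all 3-cycles off `{i, j}` (and fixes `i` and `j`). -/
theorem cycle3 [Finite G] (h : Hyp V P S W ε i j) {a b c : Fin (2 ^ m + 1)} (ha : a ≠ i ∧ a ≠ j)
    (hb : b ≠ i ∧ b ≠ j) (hc : c ≠ i ∧ c ≠ j) (hab : a ≠ b) (hbc : b ≠ c) (hac : a ≠ c) :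
    ∃ e ∈ h.E, Acts ε e (Equiv.swap a b * Equiv.swap b c) := by
  classical
  let τ : Equiv.Perm {k : Fin (2 ^ m + 1) // k ≠ i ∧ k ≠ j} :=
    Equiv.swap ⟨a, ha⟩ ⟨b, hb⟩ * Equiv.swap ⟨b, hb⟩ ⟨c, hc⟩
  have hτ : τ.IsThreeCycle := by
    have h1 := Equiv.Perm.isThreeCycle_swap_mul_swap_same (a := (⟨b, hb⟩ : {k // k ≠ i ∧ k ≠ j}))
      (b := ⟨a, ha⟩) (c := ⟨c, hc⟩) (fun h0 => hab (congrArg Subtype.val h0).symm)
      (fun h0 => hbc (congrArg Subtype.val h0)) (fun h0 => hac (congrArg Subtype.val h0))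
    rwa [Equiv.swap_comm (⟨b, hb⟩ : {k // k ≠ i ∧ k ≠ j}) ⟨a, ha⟩] at h1
  obtain ⟨e, he, heG⟩ := h.exists_good h.relIndex_le hτ.inv
  have heE : (e : G) ∈ h.E := ⟨e.2, heG⟩
  refine ⟨e * e, mul_mem heE heE, ?_⟩
  have h1 := (h.acts_phi e).mul (h.acts_phi e)
  have h2 : h.phi e * h.phi e = Equiv.swap a b * Equiv.swap b c := by
    have h3 : ∀ k : {k : Fin (2 ^ m + 1) // k ≠ i ∧ k ≠ j}, h.phi e k = (τ⁻¹ k : {k // k ≠ i ∧ k ≠ j}) := by
      intro k
      rw [← h.psi_apply, he]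
    have h4 : τ⁻¹ * τ⁻¹ = τ := by
      have h5 : τ ^ 3 = 1 := by
        rw [← hτ.orderOf]
        exact pow_orderOf_eq_one τ
      calc τ⁻¹ * τ⁻¹ = τ⁻¹ * τ⁻¹ * τ ^ 3 := by rw [h5, mul_one]
        _ = τ := by group
    ext k
    congr 1
    rw [Equiv.Perm.mul_apply]
    by_cases hki : k = i
    · subst hki
      rw [Equiv.Perm.mul_apply, Equiv.swap_apply_of_ne_of_ne hb.1.symm hc.1.symm,
        Equiv.swap_apply_of_ne_of_ne ha.1.symm hb.1.symm]
      rcases h.phi_pair e with ⟨h5, -⟩ | ⟨h5, h6⟩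
      · rw [h5, h5]
      · rw [h5, h6]
    · by_cases hkj : k = j
      · subst hkj
        rw [Equiv.Perm.mul_apply, Equiv.swap_apply_of_ne_of_ne hb.2.symm hc.2.symm,
          Equiv.swap_apply_of_ne_of_ne ha.2.symm hb.2.symm]
        rcases h.phi_pair e with ⟨-, h5⟩ | ⟨h5, h6⟩
        · rw [h5, h5]
        · rw [h6, h5]
      · have h5 := h3 ⟨k, hki, hkj⟩
        have h6 := h3 (τ⁻¹ ⟨k, hki, hkj⟩)
        change h.phi e k = _ at h5
        rw [h5, h6]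
        have h7 : τ⁻¹ (τ⁻¹ ⟨k, hki, hkj⟩) = τ ⟨k, hki, hkj⟩ := by
          rw [← Equiv.Perm.mul_apply, h4]
        rw [h7]
        have h8 : Equiv.Perm.ofSubtype τ = Equiv.swap a b * Equiv.swap b c := by
          change Equiv.Perm.ofSubtype (Equiv.swap _ _ * Equiv.swap _ _) = _
          rw [map_mul, Equiv.Perm.ofSubtype_swap_eq, Equiv.Perm.ofSubtype_swap_eq]
        rw [← h8, Equiv.Perm.ofSubtype_apply_of_mem τ (⟨hki, hkj⟩ : k ≠ i ∧ k ≠ j)]
  rwa [h2] at h1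

/-- `⟨V_n ^ W⟩` -/
def AA (W : Subgroup G) (ε : (Fin (2 ^ m + 1) → ZMod 2) → G) (i j : Fin (2 ^ m + 1)) : Subgroup G :=
  closure {x | ∃ w ∈ W, ∃ v ∈ Vn ε i j, x = w * v * w⁻¹}

theorem AA_conj {g : G} (hW : ∀ w ∈ W, g * w * g⁻¹ ∈ W) (hV : ∀ v ∈ Vn ε i j, g * v * g⁻¹ ∈ Vn ε i j) {x : G}
    (hx : x ∈ AA W ε i j) : g * x * g⁻¹ ∈ AA W ε i j := by
  unfold AA at hx
  induction hx using closure_induction with
  | mem x hx =>
    obtain ⟨w, hw, v, hv, rfl⟩ := hx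
    exact subset_closure ⟨g * w * g⁻¹, hW w hw, g * v * g⁻¹, hV v hv, by group⟩
  | one =>
    rw [mul_one, mul_inv_cancel]
    exact one_mem _
  | mul x y _ _ hx hy =>
    have : g * (x * y) * g⁻¹ = (g * x * g⁻¹) * (g * y * g⁻¹) := by group
    rw [this]
    exact mul_mem hx hy
  | inv x _ hx =>
    have : g * x⁻¹ * g⁻¹ = (g * x * g⁻¹)⁻¹ := by group
    rw [this]
    exact inv_mem hx

theorem AA_conjW {w x : G} (hw : w ∈ W) (hx : x ∈ AA W ε i j) : w * x * w⁻¹ ∈ AA W ε i j := by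
  unfold AA at hx
  induction hx using closure_induction with
  | mem x hx =>
    obtain ⟨w', hw', v, hv, rfl⟩ := hx
    exact subset_closure ⟨w * w', mul_mem hw hw', v, hv, by group⟩
  | one =>
    rw [mul_one, mul_inv_cancel]
    exact one_mem _
  | mul x y _ _ hx hy =>
    have : w * (x * y) * w⁻¹ = (w * x * w⁻¹) * (w * y * w⁻¹) := by group
    rw [this]
    exact mul_mem hx hy
  | inv x _ hx =>
    have : w * x⁻¹ * w⁻¹ = (w * x * w⁻¹)⁻¹ := by group
    rw [this]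
    exact inv_mem hx

theorem AA_comm [Finite G] (h : Hyp V P S W ε i j) : ∀ x ∈ AA W ε i j, ∀ y ∈ AA W ε i j, x * y = y * x := by
  have h1 : IsMulCommutative (AA W ε i j) := by
    refine isMulCommutative_closure ?_
    rintro _ ⟨w, hw, v, hv, rfl⟩ _ ⟨w', hw', v', hv', rfl⟩
    have h2 := h.comm_V (Vn_le h.even hv) (Vn_le_V0 hv') (mul_mem (inv_mem hw) hw')
    calc w * v * w⁻¹ * (w' * v' * w'⁻¹) = w * (v * (w⁻¹ * w' * v' * (w⁻¹ * w')⁻¹)) * w⁻¹ := by group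
      _ = w * (w⁻¹ * w' * v' * (w⁻¹ * w')⁻¹ * v) * w⁻¹ := by rw [h2]
      _ = _ := by group
  intro x hx y hy
  exact congrArg Subtype.val (h1.is_comm.comm (⟨x, hx⟩ : AA W ε i j) ⟨y, hy⟩)

theorem AA_sq [Finite G] (h : Hyp V P S W ε i j) {x : G} (hx : x ∈ AA W ε i j) : x * x = 1 := by
  have hc := AA_comm h
  have key : ∀ x (hx : x ∈ closure {x | ∃ w ∈ W, ∃ v ∈ Vn ε i j, x = w * v * w⁻¹}), x * x = 1 := by
    intro x hx
    induction hx using closure_induction with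
    | mem x hx =>
      obtain ⟨w, hw, v, hv, rfl⟩ := hx
      calc w * v * w⁻¹ * (w * v * w⁻¹) = w * (v * v) * w⁻¹ := by group
        _ = 1 := by
          rw [h.even.sq_mem (Vn_le h.even hv)]
          group
    | one => exact one_mul 1
    | mul x y hx' hy' hx hy =>
      calc x * y * (x * y) = x * (y * x) * y := by group
        _ = x * (x * y) * y := by rw [hc y hy' x hx']
        _ = (x * x) * (y * y) := by group
        _ = 1 := by rw [hx, hy, one_mul]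
    | inv x _ hx =>
      rw [← mul_inv_rev, hx, inv_one]
  exact key x hx

theorem AA_WE [Finite G] (h : Hyp V P S W ε i j) {w e x : G} (hw : w ∈ W) (he : e ∈ h.E) (hx : x ∈ AA W ε i j) :
    w * (e * x * e⁻¹) * w⁻¹ = e * (w * x * w⁻¹) * e⁻¹ := by
  unfold AA at hx
  induction hx using closure_induction with
  | mem x hx =>
    obtain ⟨w', hw', v, hv, rfl⟩ := hx
    have h1 := h.equiv he hw' (Vn_le h.even hv)
    have h2 := h.equiv he (mul_mem hw hw') (Vn_le h.even hv)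
    calc w * (e * (w' * v * w'⁻¹) * e⁻¹) * w⁻¹ = w * (w' * (e * v * e⁻¹) * w'⁻¹) * w⁻¹ := by rw [h1]
      _ = w * w' * (e * v * e⁻¹) * (w * w')⁻¹ := by group
      _ = e * (w * w' * v * (w * w')⁻¹) * e⁻¹ := h2.symm
      _ = _ := by group
  | one => group
  | mul x y _ _ hx hy =>
    calc w * (e * (x * y) * e⁻¹) * w⁻¹ = (w * (e * x * e⁻¹) * w⁻¹) * (w * (e * y * e⁻¹) * w⁻¹) := by group
      _ = e * (w * x * w⁻¹) * e⁻¹ * (e * (w * y * w⁻¹) * e⁻¹) := by rw [hx, hy]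
      _ = _ := by group
  | inv x _ hx =>
    calc w * (e * x⁻¹ * e⁻¹) * w⁻¹ = (w * (e * x * e⁻¹) * w⁻¹)⁻¹ := by group
      _ = (e * (w * x * w⁻¹) * e⁻¹)⁻¹ := by rw [hx]
      _ = _ := by group

/-- #13864 (A3). -/
theorem exists_phi [Finite G] (h : Hyp V P S W ε i j) {Q : Subgroup G}
    (hWc : ∀ g ∈ NN ε i j, (∀ w ∈ W, g * w = w * g) → g ∈ W)
    (hQP : Q ≤ P) (hQ2 : IsPGroup 2 Q) (hQV : Q ≤ centralizer (V : Set G))
    (hQc : ∀ g : G, (∀ q ∈ Q, g * q = q * g) → g ∈ Q) :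
    ∃ φ : G → G, (∀ v ∈ Vn ε i j, ∀ v' ∈ Vn ε i j, φ (v * v') = φ v * φ v') ∧
      (∀ v ∈ Vn ε i j, φ v = 1 → v = 1) ∧
      (∀ v ∈ Vn ε i j, φ v ∈ W ∧ (∀ w ∈ W, φ v * w = w * φ v) ∧ φ v ∈ Q ∧ (∀ q ∈ Q, φ v * q = q * φ v) ∧
        φ v * φ v = 1) ∧
      ∀ σ ∈ St i j, ∃ g ∈ P ⊓ NN ε i j, Acts ε g σ ∧ ∀ v ∈ Vn ε i j, g * v * g⁻¹ ∈ Vn ε i j ∧
        φ (g * v * g⁻¹) = g * φ v * g⁻¹ := by
  classical
  have hf : Fact (Nat.Prime 2) := ⟨Nat.prime_two⟩
  have h5 := h.five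
  let D : Subgroup G := P ⊓ NN ε i j
  have hQD : Q ≤ D := by
    intro q hq
    exact ⟨hQP hq, mem_NN.mpr (mem_centralizer_iff.mp (hQV hq) _ (rr_mem h.even i j)).symm⟩
  -- a Sylow 2-subgroup of `C_P(n)` containing `Q`
  obtain ⟨T0, hT0⟩ : ∃ T0 : Sylow 2 D, Q.subgroupOf D ≤ T0 :=
    (hQ2.comap_of_injective D.subtype D.subtype_injective).exists_le_sylow
  let T : Subgroup G := (T0 : Subgroup D).map D.subtype
  have hTD : T ≤ D := map_subtype_le _
  have hT2 : IsPGroup 2 T := T0.isPGroup'.map _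
  have hQT : Q ≤ T := by
    intro q hq
    exact ⟨⟨q, hQD hq⟩, hT0 hq, rfl⟩
  have hTodd : ¬ 2 ∣ T.relIndex D := by
    have h1 : T.subgroupOf D = T0 := comap_map_eq_self_of_injective D.subtype_injective _
    rw [relIndex, h1]
    exact T0.not_dvd_index
  have hSt : ∀ g ∈ D, ∀ v ∈ Vn ε i j, g * v * g⁻¹ ∈ Vn ε i j := by
    intro g hg v hv
    obtain ⟨σ, hσ⟩ := h.even.perm g hg.1
    exact Vn_conj hσ (mem_St_of h5 h.even h.ne hσ hg.2) hv
  have hED : h.E ≤ D := fun e he => he.1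
  obtain ⟨k, hk, -, -⟩ := h.exists_third i j
  obtain ⟨l, hl, hlk, -⟩ := h.exists_third k k
  obtain ⟨φ, f1, f2, f3, f4, f5⟩ := exists_hom (Vn := Vn ε i j) (A := AA W ε i j) (E := h.E) (W := W) (T := T)
    (fun v hv => subset_closure ⟨1, W.one_mem, v, hv, by group⟩)
    (fun h0 => by
      have h1 : rr ε k l ∈ Vn ε i j := rr_mem_Vn hk hl
      rw [h0, mem_bot] at h1
      exact rr_ne_one h.even h.three hlk.symm h1)
    (AA_comm h) (fun a ha => AA_sq h ha) h.isPW hT2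
    (fun e he => hSt e (hED he)) (fun t ht => hSt t (hTD ht))
    (fun w hw a ha => AA_conjW hw ha)
    (fun t ht a ha => AA_conj (fun w hw => h.conjW (hTD ht).2 hw) (hSt t (hTD ht)) ha)
    (fun t ht w hw => h.conjW (hTD ht).2 hw)
    (fun t ht e he => h.conj_E (hTD ht) he)
    (fun w hw e he a ha => AA_WE h hw he ha)
  have hfull : ∀ σ ∈ St i j, ∃ g ∈ h.E ⊔ T, Acts ε g σ := by
    refine full_of h.two_le h.even h.ne (sup_le hED hTD) (fun h0 => hTodd (h0.trans ?_)) ?_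
    · exact relIndex_dvd_of_le_left _ le_sup_right
    · intro a b c ha hb hc hab hbc hac
      obtain ⟨e, he, h1⟩ := cycle3 h ha hb hc hab hbc hac
      exact ⟨e, mem_sup_left he, h1⟩
  have hodd : (2 ^ m + 1) % 2 = 1 := by
    obtain ⟨k, hk⟩ := odd_n (m := m) (by have := h.two_le; omega)
    omega
  refine ⟨φ, f2, fun v hv hv1 => phi_inj hodd h.even h.ne f2 f3 (fun g hg v hv => (f5 g hg v hv).2) hfull hv hv1,
    fun v hv => ?_, fun σ hσ => ?_⟩
  · have hcW : ∀ w ∈ W, φ v * w = w * φ v := by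
      intro w hw
      have h1 := f4 w hw v hv
      calc φ v * w = w * φ v * w⁻¹ * w := by rw [h1]
        _ = w * φ v := by group
    have hcQ : ∀ q ∈ Q, φ v * q = q * φ v := by
      intro q hq
      have h1 := (f5 q (mem_sup_right (hQT hq)) v hv).2
      have h2 : q * v * q⁻¹ = v := by
        rw [← mem_centralizer_iff.mp (hQV hq) v (Vn_le h.even hv), mul_inv_cancel_right]
      rw [h2] at h1
      calc φ v * q = q * φ v * q⁻¹ * q := by rw [← h1]
        _ = q * φ v := by group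
    have hAN : AA W ε i j ≤ NN ε i j := by
      rw [AA, closure_le]
      rintro _ ⟨w, hw, u, hu, rfl⟩
      have hwN : w ∈ NN ε i j := h.leW hw
      have huN : u ∈ NN ε i j := mem_NN.mpr (h.even.comm_mem (Vn_le h.even hu) (rr_mem h.even i j))
      exact mul_mem (mul_mem hwN huN) (inv_mem hwN)
    exact ⟨hWc _ (hAN (f1 v hv)) hcW, hcW, hQc _ hcQ, hcQ, AA_sq h (f1 v hv)⟩
  · obtain ⟨g, hg, hgσ⟩ := hfull σ hσ
    exact ⟨g, sup_le hED hTD hg, hgσ, f5 g hg⟩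

end

end Cfsg.Agent.Omega.NSix.FixApp
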