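import Cfsg.Agent.Omega.S5.Def

/-!
# OMEGA N6 (`S_n` on even subsets, T-T), #13256 / #14431: the common structure

`zz ε i` is the point `i` (complement of `i`), `rr ε i j = zz ε i * zz ε j` the pair `{i, j}`,
`NN ε i j = C_G(r_ij)`, `WW V ε i j = ⟨V ^ NN⟩`, `UU ε i j = ⟨(zz ε k) ^ NN, k ≠ i, j⟩`.
-/

set_option autoImplicit false
set_option linter.dupNamespace false

namespace Cfsg.Agent.Omega.NSix.Base

open Subgroup Cfsg.Agent.Omega.S5.Def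

universe u

variable {G : Type u} [Group G] {n : ℕ}

/-- the point `i` -/
def zz (ε : (Fin n → ZMod 2) → G) (i : Fin n) : G := ε (Pi.single i 1)

/-- the pair `{i, j}` -/
def rr (ε : (Fin n → ZMod 2) → G) (i j : Fin n) : G := zz ε i * zz ε j

/-- `N_ij = C_G(r_ij)` -/
def NN (ε : (Fin n → ZMod 2) → G) (i j : Fin n) : Subgroup G := centralizer {rr ε i j}

/-- `W_ij = ⟨V ^ N_ij⟩` -/
def WW (V : Subgroup G) (ε : (Fin n → ZMod 2) → G) (i j : Fin n) : Subgroup G :=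
  closure {x | ∃ g ∈ NN ε i j, ∃ v ∈ V, x = g * v * g⁻¹}

/-- `U_ij = ⟨(r_ij^⊥) ^ N_ij⟩` -/
def UU (ε : (Fin n → ZMod 2) → G) (i j : Fin n) : Subgroup G :=
  closure {x | ∃ g ∈ NN ε i j, ∃ k, k ≠ i ∧ k ≠ j ∧ x = g * zz ε k * g⁻¹}

/-- the output of (0): `W i j` is a normal subgroup of `N_ij` over `V` with
`[O₂(N_ij), W_ij] ≤ ⟨r_ij⟩`, e.g. `WW V ε i j` -/
structure Base (V L : Subgroup G) (ε : (Fin n → ZMod 2) → G) (W : Fin n → Fin n → Subgroup G) :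
    Prop where
  ev : EvenSet n V L ε
  Vle : ∀ i j, i ≠ j → V ≤ W i j
  wn : ∀ i j, i ≠ j → ∀ g ∈ NN ε i j, ∀ x ∈ W i j, g * x * g⁻¹ ∈ W i j
  wc : ∀ (g : G) (σ : Equiv.Perm (Fin n)), Acts ε g σ → ∀ i j, i ≠ j → ∀ x ∈ W i j,
    g * x * g⁻¹ ∈ W (σ i) (σ j)
  cen : ∀ i j, i ≠ j → ∀ u ∈ UU ε i j, ∀ w ∈ W i j, u * w = w * u
  act : ∀ i j, i ≠ j → ∀ w ∈ W i j, Acts ε w 1 ∨ Acts ε w (Equiv.swap i j)
  mov : ∀ i j, i ≠ j → ∃ w ∈ W i j, Acts ε w (Equiv.swap i j)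
  tra : ∀ i j k l, i ≠ j → k ≠ l → i ≠ k → i ≠ l → j ≠ k → j ≠ l → ∀ u ∈ UU ε i j,
    ∀ w ∈ W k l, w * u * w⁻¹ = u ∨ w * u * w⁻¹ = u * rr ε k l

end Cfsg.Agent.Omega.NSix.Base
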