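import Cfsg.Agent.Omega.NSix.Match
import Cfsg.Agent.Omega.NSix.Base
import Cfsg.Agent.Omega.S5.Syl
import Cfsg.Agent.Lib.SylowNormalInf

/-!
# The matching lemma inside a group (OMEGA N6, bb #14103, APPLICATION)

`V` is the even-subset module of degree `2 ^ m + 1 ≥ 9` of `P ≥ S` (labels `ε`, `S` fixes the label 0), `Y ≥ V` is
elementary abelian and normal in `P`, `S ∩ C(V)` centralises `Y` and `C_Y(S) = ⟨z_0⟩`.

* `cen` : `C_P(V)` centralises `Y`;
* `mem` : an element of `Y` which commutes with all elements of `P` fixing the sets `A` (`|A| = 2 ^ (m - 1)`) and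
  `e` (a pair disjoint from `A`) lies in `V`.
-/

set_option autoImplicit false
set_option linter.dupNamespace false

namespace Cfsg.Agent.Omega.NSix.MatchApp

open Subgroup Pointwise Cfsg.Agent Cfsg.Agent.Omega.S5.Def Cfsg.Agent.Omega.S5.Syl Cfsg.Agent.Omega.NSix.Match

universe u

/-! ### An odd group normalised by a 2-group -/

section coprime

variable {Y : Type u} [CommGroup Y] [Finite Y]

/-- `R ≤ Aut(Y)` of odd order is normalised by the 2-group `T`, and the fixed points of `T` are fixed by `R`: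
then `R = 1`. -/
theorem fix_all (hsq : ∀ y : Y, y * y = 1) (R T : Subgroup (MulAut Y)) (hR : ¬ 2 ∣ Nat.card R) (hT : IsPGroup 2 T)
    (hn : ∀ t ∈ T, ∀ r ∈ R, t * r * t⁻¹ ∈ R)
    (hfix : ∀ y : Y, (∀ t ∈ T, t y = y) → ∀ r ∈ R, r y = y) : ∀ r ∈ R, ∀ y : Y, r y = y := by
  classical
  have hf : Fact (Nat.Prime 2) := ⟨Nat.prime_two⟩
  have : Fintype Y := Fintype.ofFinite Y
  have : Finite (MulAut Y) := Finite.of_injective (fun f : MulAut Y => (f : Y → Y)) fun f g h =>
    MulEquiv.ext fun y => congrFun h y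
  have : Fintype R := Fintype.ofFinite R
  let ν : Y →* Y :=
    { toFun := fun y => ∏ r : R, (r : MulAut Y) y
      map_one' := by simp
      map_mul' := fun x y => by simp [Finset.prod_mul_distrib] }
  have hνR : ∀ y : Y, ∀ r ∈ R, r (ν y) = ν y := by
    intro y r hr
    change r (∏ s : R, (s : MulAut Y) y) = ∏ s : R, (s : MulAut Y) y
    rw [map_prod]
    exact Fintype.prod_equiv (Equiv.mulLeft (⟨r, hr⟩ : R)) _ _ fun s => rfl
  have hνfix : ∀ y : Y, (∀ r ∈ R, r y = y) → ν y = y := by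
    intro y hy
    change ∏ r : R, (r : MulAut Y) y = y
    rw [Finset.prod_congr rfl (fun (r : R) _ => hy (r : MulAut Y) r.2), Finset.prod_const, Finset.card_univ,
      ← Nat.card_eq_fintype_card]
    obtain ⟨k, hk⟩ := Nat.odd_iff.mpr (Nat.two_dvd_ne_zero.mp hR)
    rw [hk, pow_succ, pow_mul, pow_two, hsq, one_pow, one_mul]
  have hνT : ∀ t ∈ T, ∀ y : Y, ν (t y) = t (ν y) := by
    intro t ht y
    change ∏ r : R, (r : MulAut Y) (t y) = t (∏ r : R, (r : MulAut Y) y)
    rw [map_prod]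
    have hn' : ∀ r ∈ R, t⁻¹ * r * t ∈ R := by
      intro r hr
      have := hn t⁻¹ (T.inv_mem ht) r hr
      rwa [inv_inv] at this
    refine Fintype.prod_equiv
      { toFun := fun r : R => (⟨t⁻¹ * r * t, hn' r r.2⟩ : R)
        invFun := fun r : R => (⟨t * r * t⁻¹, hn t ht r r.2⟩ : R)
        left_inv := fun r => Subtype.ext (by simp [mul_assoc])
        right_inv := fun r => Subtype.ext (by simp [mul_assoc]) } _ _ fun r => ?_
    change (r : MulAut Y) (t y) = t ((t⁻¹ * r * t) y)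
    rw [← MulAut.mul_apply, ← MulAut.mul_apply]
    congr 1
    group
  have hinj : Function.Injective ν := by
    rw [injective_iff_map_eq_one]
    by_contra h0
    push Not at h0
    obtain ⟨y0, hy0, hy01⟩ := h0
    let act : MulAction T ν.ker :=
      { smul := fun t y => ⟨(t : MulAut Y) y, by
          rw [MonoidHom.mem_ker, hνT t t.2]
          have h1 : ν y = 1 := y.2
          rw [h1, map_one]⟩
        one_smul := fun y => rfl
        mul_smul := fun s t y => rfl }
    have hker : 2 ∣ Nat.card ν.ker := by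
      have h1 : orderOf (⟨y0, hy0⟩ : ν.ker) ∣ Nat.card ν.ker := orderOf_dvd_natCard _
      have h2 : orderOf (⟨y0, hy0⟩ : ν.ker) = 2 := by
        apply orderOf_eq_prime
        · rw [pow_two]
          exact Subtype.ext (hsq y0)
        · intro h
          exact hy01 (congrArg Subtype.val h)
      rwa [h2] at h1
    have h1 : (1 : ν.ker) ∈ MulAction.fixedPoints T ν.ker := by
      intro t
      exact Subtype.ext (map_one (t : MulAut Y))
    obtain ⟨w, hw, hw1⟩ := hT.exists_fixed_point_of_prime_dvd_card_of_fixed_point ν.ker hker h1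
    have h2 : ∀ t ∈ T, t (w : Y) = w := fun t ht => congrArg Subtype.val (hw ⟨t, ht⟩)
    have h3 := hνfix w (hfix w h2)
    have h4 : ν w = 1 := w.2
    exact hw1 (Subtype.ext (h4.symm.trans h3))
  have hsurj : Function.Surjective ν := Finite.surjective_of_injective hinj
  intro r hr y
  obtain ⟨x, rfl⟩ := hsurj y
  exact hνR x r hr

end coprime

variable {G : Type u} [Group G]

/-- `Y` for `P`, `S`, `V`, `ε`. -/
structure Big (S P V Y : Subgroup G) {m : ℕ} (ε : (Fin (2 ^ m + 1) → ZMod 2) → G) : Prop where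
  ev : EvenSet (2 ^ m + 1) V P ε
  fix0 : Fix0 ε S
  le : S ≤ P
  comm : ∀ y ∈ Y, ∀ y' ∈ Y, y * y' = y' * y
  sq : ∀ y ∈ Y, y * y = 1
  ge : V ≤ Y
  nrm : ∀ g ∈ P, ∀ y ∈ Y, g * y * g⁻¹ ∈ Y
  syl : ∀ s ∈ S, s ∈ centralizer (V : Set G) → s ∈ centralizer (Y : Set G)
  fixed : ∀ y ∈ Y, (∀ s ∈ S, s * y = y * s) → y = 1 ∨ y = ε (Pi.single 0 1)

namespace Big

variable {S P V Y : Subgroup G} {m : ℕ} {ε : (Fin (2 ^ m + 1) → ZMod 2) → G} (h : Big S P V Y ε)
include h

theorem inv_nrm {g : G} (hg : g ∈ P) {y : G} (hy : y ∈ Y) : g⁻¹ * y * g ∈ Y := by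
  have h1 := h.nrm g⁻¹ (P.inv_mem hg) y hy
  rwa [inv_inv] at h1

/-- `P` acts on `Y`. -/
noncomputable def cjY : P →* MulAut Y where
  toFun g :=
    { toFun := fun y => ⟨g * y * (g : G)⁻¹, h.nrm g g.2 y y.2⟩
      invFun := fun y => ⟨(g : G)⁻¹ * y * g, h.inv_nrm g.2 y.2⟩
      left_inv := fun y => Subtype.ext (by simp [mul_assoc])
      right_inv := fun y => Subtype.ext (by simp [mul_assoc])
      map_mul' := fun x y => Subtype.ext (by simp [mul_assoc]) }
  map_one' := MulEquiv.ext fun y => Subtype.ext (by simp)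
  map_mul' a b := MulEquiv.ext fun y => Subtype.ext (by simp [mul_assoc])

theorem cjY_apply (g : P) (y : Y) : ((h.cjY g y : Y) : G) = g * y * (g : G)⁻¹ := rfl

/-- `C_P(V)` centralises `Y`. -/
theorem cen [Finite G] (hS2 : ¬ 2 ∣ S.relIndex P) (hS : IsPGroup 2 S) {g : G} (hg : g ∈ P)
    (hgV : g ∈ centralizer (V : Set G)) : g ∈ centralizer (Y : Set G) := by
  have hf : Fact (Nat.Prime 2) := ⟨Nat.prime_two⟩
  letI : CommGroup Y := { (inferInstance : Group Y) with mul_comm := fun a b => Subtype.ext (h.comm a a.2 b b.2) }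
  have hVn : P ≤ normalizer (V : Set G) := h.ev.le_normalizer
  let K : Subgroup P := (P ⊓ centralizer (V : Set G)).subgroupOf P
  have hKn : K.Normal := by
    constructor
    rintro k ⟨-, hk⟩ g
    refine ⟨(g * k * g⁻¹).2, ?_⟩
    replace hk : ∀ v ∈ V, v * (k : G) = k * v := mem_centralizer_iff.mp hk
    change ((g * k * g⁻¹ : P) : G) ∈ centralizer (V : Set G)
    rw [mem_centralizer_iff]
    intro v hv
    have h1 : (g : G)⁻¹ * v * g ∈ V := by
      have := (mem_normalizer_iff.mp (hVn (P.inv_mem g.2)) v).mp hv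
      rwa [inv_inv] at this
    have h2 := hk _ h1
    change v * (g * k * (g : G)⁻¹) = g * k * (g : G)⁻¹ * v
    calc v * (g * k * (g : G)⁻¹) = g * ((g : G)⁻¹ * v * g * k) * (g : G)⁻¹ := by group
      _ = g * (k * ((g : G)⁻¹ * v * g)) * (g : G)⁻¹ := by rw [h2]
      _ = _ := by group
  have hS' : IsPGroup 2 (S.subgroupOf P) := hS.comap_of_injective _ P.subtype_injective
  have hSi : ¬ 2 ∣ (S.subgroupOf P).index := hS2
  have h1 : ¬ 2 ∣ (S.subgroupOf P).relIndex K :=
    Lib.SylowNormalInf.not_dvd_relIndex (hS'.toSylow hSi) K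
  have hker : S.subgroupOf P ⊓ K ≤ h.cjY.ker := by
    rintro s ⟨hs, -, hk⟩
    rw [MonoidHom.mem_ker]
    refine MulEquiv.ext fun y => Subtype.ext ?_
    have h2 := h.syl s hs hk
    rw [mem_centralizer_iff] at h2
    rw [h.cjY_apply, ← h2 y y.2, mul_inv_cancel_right]
    rfl
  have hR : ¬ 2 ∣ Nat.card (K.map h.cjY) := by
    rw [← relIndex_ker]
    intro h2
    apply h1
    rw [← inf_relIndex_right]
    exact h2.trans (relIndex_dvd_of_le_left K hker)
  have key := fix_all (Y := Y) (fun y => Subtype.ext (h.sq y y.2)) (K.map h.cjY)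
    ((S.subgroupOf P).map h.cjY) hR (hS'.map _) (by
      rintro _ ⟨t, -, rfl⟩ _ ⟨r, hr, rfl⟩
      rw [← map_inv, ← map_mul, ← map_mul]
      exact ⟨_, hKn.conj_mem r hr t, rfl⟩) (by
      rintro y hy _ ⟨r, ⟨-, hr⟩, rfl⟩
      have h2 : ∀ s ∈ S, s * (y : G) = y * s := by
        intro s hs
        have h3 := congrArg Subtype.val (hy _ ⟨⟨s, h.le hs⟩, hs, rfl⟩)
        rw [h.cjY_apply] at h3
        change s * (y : G) * s⁻¹ = y at h3
        rw [mul_inv_eq_iff_eq_mul] at h3
        exact h3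
      have h3 : (y : G) ∈ V := by
        rcases h.fixed y y.2 h2 with h4 | h4
        · rw [h4]
          exact V.one_mem
        · rw [h4]
          exact h.ev.mem _
      replace hr : ∀ v ∈ V, v * (r : G) = r * v := mem_centralizer_iff.mp hr
      refine Subtype.ext ?_
      have h5 := hr _ h3
      rw [h.cjY_apply, ← h5, mul_inv_cancel_right])
  rw [mem_centralizer_iff]
  intro y hy
  have h2 := congrArg Subtype.val (key _ ⟨⟨g, hg⟩, ⟨hg, hgV⟩, rfl⟩ ⟨y, hy⟩)
  rw [h.cjY_apply] at h2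
  change g * y * g⁻¹ = y at h2
  rw [mul_inv_eq_iff_eq_mul] at h2
  exact h2.symm

/-- `x` and `y` induce the same permutation: they act in the same way on `Y`. -/
theorem act_eq [Finite G] (hS2 : ¬ 2 ∣ S.relIndex P) (hS : IsPGroup 2 S) {g k : G} (hg : g ∈ P) (hk : k ∈ P)
    {σ : Equiv.Perm (Fin (2 ^ m + 1))} (hgσ : Acts ε g σ) (hkσ : Acts ε k σ) {y : G} (hy : y ∈ Y) :
    g * y * g⁻¹ = k * y * k⁻¹ := by
  have h1 := h.cen hS2 hS (P.mul_mem (P.inv_mem hk) hg) (h.ev.mem_centralizer_of_acts hgσ hkσ)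
  have h2 := mem_centralizer_iff.mp h1 y hy
  calc g * y * g⁻¹ = k * (k⁻¹ * g * y) * g⁻¹ := by group
    _ = k * (y * (k⁻¹ * g)) * g⁻¹ := by rw [h2]
    _ = _ := by group

/-- The matching lemma for `Y`. -/
theorem mem [Finite G] (hm : 3 ≤ m) (hS2 : ¬ 2 ∣ S.relIndex P) (hS : IsPGroup 2 S)
    {A e : Finset (Fin (2 ^ m + 1))} (hA : A.card = 2 ^ (m - 1)) (he : e.card = 2) (hd : Disjoint e A)
    {x : G} (hxY : x ∈ Y)
    (hx : ∀ g ∈ P, ∀ σ : Equiv.Perm (Fin (2 ^ m + 1)), Acts ε g σ → σ • A = A → σ • e = e → g * x * g⁻¹ = x) :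
    x = 1 ∨ x = ε (ind A) ∨ x = ε (ind e) ∨ x = ε (ind A) * ε (ind e) := by
  have hf : Fact (Nat.Prime 2) := ⟨Nat.prime_two⟩
  have hn : 3 ≤ 2 ^ m + 1 := three_le (by omega)
  letI : CommGroup Y := { (inferInstance : Group Y) with mul_comm := fun a b => Subtype.ext (h.comm a a.2 b b.2) }
  -- the action of the symmetric group
  choose f hfP hfA using h.ev.full
  let act : DistribMulAction (Equiv.Perm (Fin (2 ^ m + 1))) (Additive Y) :=
    { smul := fun σ y => Additive.ofMul ⟨f σ * (y.toMul : G) * (f σ)⁻¹, h.nrm _ (hfP σ) _ y.toMul.2⟩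
      one_smul := fun y => by
        refine congrArg Additive.ofMul (Subtype.ext ?_)
        have h1 := h.act_eq hS2 hS (hfP 1) P.one_mem (hfA 1) Acts.one y.toMul.2
        rw [one_mul, inv_one, mul_one] at h1
        exact h1
      mul_smul := fun σ τ y => by
        refine congrArg Additive.ofMul (Subtype.ext ?_)
        have h1 := h.act_eq hS2 hS (hfP (σ * τ)) (P.mul_mem (hfP σ) (hfP τ)) (hfA (σ * τ))
          ((hfA σ).mul (hfA τ)) y.toMul.2
        refine h1.trans ?_
        change f σ * f τ * (y.toMul : G) * (f σ * f τ)⁻¹ = f σ * (f τ * (y.toMul : G) * (f τ)⁻¹) * (f σ)⁻¹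
        group
      smul_zero := fun σ => by
        refine congrArg Additive.ofMul (Subtype.ext ?_)
        change f σ * (1 : G) * (f σ)⁻¹ = 1
        group
      smul_add := fun σ x y => by
        refine congrArg Additive.ofMul (Subtype.ext ?_)
        change f σ * ((x.toMul : G) * (y.toMul : G)) * (f σ)⁻¹ =
          f σ * (x.toMul : G) * (f σ)⁻¹ * (f σ * (y.toMul : G) * (f σ)⁻¹)
        group }
  have hact : ∀ (σ : Equiv.Perm (Fin (2 ^ m + 1))) (y : Additive Y),
      (((σ • y).toMul : Y) : G) = f σ * (y.toMul : G) * (f σ)⁻¹ := fun _ _ => rfl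
  let ι : (Fin (2 ^ m + 1) → ZMod 2) → Additive Y := fun v => Additive.ofMul ⟨ε v, h.ge (h.ev.mem v)⟩
  have hι : ∀ v, (((ι v).toMul : Y) : G) = ε v := fun _ => rfl
  have hext : ∀ {x y : Additive Y}, ((x.toMul : Y) : G) = ((y.toMul : Y) : G) → x = y := by
    intro x y hxy
    exact congrArg Additive.ofMul (Subtype.ext hxy)
  have hM : Mod ι :=
    { two := fun y => hext (h.sq _ y.toMul.2)
      add := fun u v => hext (h.ev.add u v)
      act := fun σ v => hext ((hfA σ) v)
      ker := fun v => by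
        rw [← h.ev.ker v]
        exact ⟨fun h1 => congrArg (fun w : Additive Y => (w.toMul : G)) h1, fun h1 => hext h1⟩ }
  -- the Sylow 2-subgroup
  let π := h.ev.hom hn
  have hS' : IsPGroup 2 ((S.subgroupOf P).map π) := (hS.comap_of_injective _ P.subtype_injective).map _
  have hSi : ¬ 2 ∣ ((S.subgroupOf P).map π).index :=
    fun h2 => hS2 (h2.trans (index_map_dvd _ (h.ev.hom_surjective hn)))
  have hmain := matching_lemma hM hm (by rw [Fintype.card_fin]) (hS'.toSylow hSi) (by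
    intro o ho y hy
    have ho0 : o = 0 := by
      by_contra hne
      have hcard : ({0, o} : Finset (Fin (2 ^ m + 1))).card < (Finset.univ : Finset (Fin (2 ^ m + 1))).card := by
        rw [Finset.card_univ, Fintype.card_fin]
        exact lt_of_le_of_lt Finset.card_le_two (by omega)
      obtain ⟨j, -, hj⟩ := Finset.exists_mem_notMem_of_card_lt_card hcard
      simp only [Finset.mem_insert, Finset.mem_singleton, not_or] at hj
      obtain ⟨s, hs, σ, hσ, hσo⟩ := trans (by omega) h.ev h.le hS2 h.fix0 hne hj.1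
      have h4 : σ ∈ (((hS'.toSylow hSi : Sylow 2 _)) : Subgroup (Equiv.Perm (Fin (2 ^ m + 1)))) :=
        ⟨⟨s, h.le hs⟩, hs, h.ev.hom_eq hn hσ⟩
      rw [ho σ h4] at hσo
      exact hj.2 hσo.symm
    subst ho0
    have h1 : ∀ s ∈ S, s * ((y.toMul : Y) : G) = (y.toMul : Y) * s := by
      intro s hs
      obtain ⟨σ, hσ⟩ := h.ev.perm s (h.le hs)
      have h4 : σ ∈ (((hS'.toSylow hSi : Sylow 2 _)) : Subgroup (Equiv.Perm (Fin (2 ^ m + 1)))) :=
        ⟨⟨s, h.le hs⟩, hs, h.ev.hom_eq hn hσ⟩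
      have h5 := congrArg (fun w : Additive Y => (w.toMul : G)) (hy σ h4)
      change f σ * ((y.toMul : Y) : G) * (f σ)⁻¹ = _ at h5
      rw [h.act_eq hS2 hS (hfP σ) (h.le hs) (hfA σ) hσ y.toMul.2, mul_inv_eq_iff_eq_mul] at h5
      exact h5
    have hind : (ind ({0} : Finset (Fin (2 ^ m + 1)))) = Pi.single 0 1 := by
      funext i
      by_cases hi : i = 0
      · subst hi
        simp [ind]
      · simp [ind, hi]
    rcases h.fixed _ y.toMul.2 h1 with h2 | h2
    · left
      exact hext h2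
    · right
      rw [hind]
      exact hext h2) hA he hd (x := Additive.ofMul ⟨x, hxY⟩) (by
    intro σ h1 h2
    exact hext (hx _ (hfP σ) σ (hfA σ) h1 h2))
  have hval : ∀ {w : Additive Y}, Additive.ofMul (⟨x, hxY⟩ : Y) = w → x = ((w.toMul : Y) : G) :=
    fun {w} hw => congrArg (fun w : Additive Y => (w.toMul : G)) hw
  rcases hmain with h1 | h1 | h1 | h1
  · left
    exact hval h1
  · right; left
    exact hval h1
  · right; right; left
    exact hval h1
  · right; right; right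
    exact hval h1

end Big

end Cfsg.Agent.Omega.NSix.MatchApp
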