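import Cfsg.Agent.Omega.NSix.RCaseOne
import Cfsg.Agent.Omega.MinPar

/-!
# OMEGA N6, the end (#15496 (r3)), CASE 2 and the contradiction

`TT.false` : `V`, `V'` even-subset modules of degrees `≥ 9` acting on each other as one transposition; then
`C_G(r_kl) ≤ N_G(V)` for all pairs of `V` and `C_G(r'_kl) ≤ N_G(V')` for all pairs of `V'` is impossible.
-/

set_option autoImplicit false

namespace Cfsg.Agent.Omega.NSix.RThree

open Subgroup Cfsg Cfsg.Agent.ZN Cfsg.Agent.MinSimple.VModule Cfsg.Agent.Omega.MinPar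
open Cfsg.Agent.Omega.S5.Def Cfsg.Agent.Omega.S5.Syl Cfsg.Agent.Omega.NSix.Base Cfsg.Agent.Omega.NSix.Basic
open Cfsg.Agent.Omega.NSix.CosetAct

universe u

variable {G : Type u} [Group G]

theorem norm_o2' (L : Subgroup G) : normalizer (L : Set G) ≤ normalizer (o2 L : Set G) := by
  intro g hg
  have key : ∀ g ∈ normalizer (L : Set G), ∀ x ∈ o2 L, g * x * g⁻¹ ∈ o2 L := by
    intro g hg x hx
    let A : Subgroup G := (o2 L).map (MulAut.conj g).toMonoidHom
    have hA : A ≤ o2 L := by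
      refine le_o2 ?_ ((o2_isPGroup L).map _) ?_
      · rintro _ ⟨y, hy, rfl⟩
        exact (mem_normalizer_iff.mp hg y).mp (o2_le L hy)
      · intro l hl
        have hl' : g⁻¹ * l * g ∈ L := by
          have := (mem_normalizer_iff.mp (inv_mem hg) l).mp hl
          rwa [inv_inv] at this
        have h1 := le_normalizer_o2 L hl'
        rw [mem_normalizer_iff] at h1 ⊢
        intro y
        constructor
        · rintro ⟨z, hz, rfl⟩
          refine ⟨g⁻¹ * l * g * z * (g⁻¹ * l * g)⁻¹, (h1 z).mp hz, ?_⟩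
          change g * (g⁻¹ * l * g * z * (g⁻¹ * l * g)⁻¹) * g⁻¹ = l * (g * z * g⁻¹) * l⁻¹
          group
        · rintro ⟨z, hz, h2⟩
          replace h2 : g * z * g⁻¹ = l * y * l⁻¹ := h2
          refine ⟨g⁻¹ * y * g, ?_, ?_⟩
          · rw [SetLike.mem_coe] at hz
            refine (h1 _).mpr ?_
            have h3 : g⁻¹ * l * g * (g⁻¹ * y * g) * (g⁻¹ * l * g)⁻¹ = g⁻¹ * (l * y * l⁻¹) * g := by group
            rw [h3, ← h2]
            have h4 : g⁻¹ * (g * z * g⁻¹) * g = z := by group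
            rw [h4]
            exact hz
          · change g * (g⁻¹ * y * g) * g⁻¹ = y
            group
    exact hA ⟨x, hx, rfl⟩
  rw [mem_normalizer_iff]
  refine fun x => ⟨key g hg x, fun hx => ?_⟩
  have h1 := key g⁻¹ (inv_mem hg) _ hx
  have h2 : g⁻¹ * (g * x * g⁻¹) * g⁻¹⁻¹ = x := by group
  rwa [h2] at h1

/-- `O₂(N_G(V))` centralises `V`. -/
theorem Mem.o2_le_cen {S : Sylow 2 G} {V : Subgroup G} {m : ℕ} {ε : (Fin (2 ^ m + 1) → ZMod 2) → G}
    (h : Mem S V ε) : o2 (normalizer (V : Set G)) ≤ centralizer (V : Set G) := by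
  classical
  intro x hx
  have hn := h.three
  have h4 : 2 ^ 2 ≤ 2 ^ m := Nat.pow_le_pow_right (by norm_num) h.two_le
  have hxN := o2_le _ hx
  set N : Subgroup G := normalizer (V : Set G) with hN
  let O : Subgroup N := (o2 N).subgroupOf N
  have hO : O.Normal := by
    constructor
    intro y hy g
    exact (mem_normalizer_iff.mp (le_normalizer_o2 N g.2) _).mp hy
  have hM : (O.map (h.ev.hom hn)).Normal := hO.map _ (h.ev.hom_surjective hn)
  have hM2 : IsPGroup 2 (O.map (h.ev.hom hn)) := (o2_isPGroup N).comap_subtype.map _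
  by_cases h1 : h.ev.hom hn ⟨x, hxN⟩ = 1
  · have h2 := h.ev.acts_hom hn ⟨x, hxN⟩
    rw [h1] at h2
    exact h.ev.acts_one_iff.mp h2
  · exfalso
    have hnt : Nontrivial (O.map (h.ev.hom hn)) := by
      rw [nontrivial_iff_exists_ne_one]
      exact ⟨_, ⟨⟨x, hxN⟩, hx, rfl⟩, h1⟩
    have halt := Equiv.Perm.alternatingGroup_le_of_normal (α := Fin (2 ^ m + 1)) (by rw [Nat.card_fin]; omega) hnt
    have n01 : (⟨0, by omega⟩ : Fin (2 ^ m + 1)) ≠ ⟨1, by omega⟩ := by intro h0; simp at h0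
    have n02 : (⟨0, by omega⟩ : Fin (2 ^ m + 1)) ≠ ⟨2, by omega⟩ := by intro h0; simp at h0
    have n12 : (⟨1, by omega⟩ : Fin (2 ^ m + 1)) ≠ ⟨2, by omega⟩ := by intro h0; simp at h0
    set a : Fin (2 ^ m + 1) := ⟨0, by omega⟩
    set b : Fin (2 ^ m + 1) := ⟨1, by omega⟩
    set c : Fin (2 ^ m + 1) := ⟨2, by omega⟩
    have h3 : Equiv.swap a b * Equiv.swap a c ∈ O.map (h.ev.hom hn) := by
      apply halt
      rw [Equiv.Perm.mem_alternatingGroup, map_mul, Equiv.Perm.sign_swap n01, Equiv.Perm.sign_swap n02]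
      decide
    obtain ⟨k, hk⟩ := hM2 ⟨_, h3⟩
    have h5 : (Equiv.swap a b * Equiv.swap a c) ^ 2 ^ k = 1 := congrArg Subtype.val hk
    have h6 : orderOf (Equiv.swap a b * Equiv.swap a c) = 3 :=
      (Equiv.Perm.isThreeCycle_swap_mul_swap_same n01 n02 n12).orderOf
    have h7 := orderOf_dvd_of_pow_eq_one h5
    rw [h6] at h7
    have h8 := (Nat.Prime.dvd_of_dvd_pow Nat.prime_three h7)
    revert h8
    decide

namespace TT

variable {S S' : Sylow 2 G} {V V' : Subgroup G} {m m' : ℕ} {ε : (Fin (2 ^ m + 1) → ZMod 2) → G}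
  {ε' : (Fin (2 ^ m' + 1) → ZMod 2) → G} {i j : Fin (2 ^ m + 1)} {i' j' : Fin (2 ^ m' + 1)}
  (h : TT S S' V V' ε ε' i j i' j')
include h

theorem not_cen : ¬ V' ≤ centralizer (V : Set G) := by
  intro h0
  obtain ⟨b, hb, hb1⟩ := h.mov
  have h1 := h.mem.ev.acts_unique h.mem.three (h.mem.ev.acts_one_iff.mpr (h0 hb)) hb1
  exact h.ne (Equiv.swap_eq_one_iff.mp h1.symm)

theorem V_ne : V ≠ ⊥ := by
  intro h0
  have h1 := zz_mem h.mem.ev 0
  rw [h0, mem_bot] at h1
  exact zz_ne_one h.mem.ev h.mem.three 0 h1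

theorem o2_ne : o2 (normalizer (V : Set G)) ≠ ⊥ := by
  intro h0
  apply h.V_ne
  rw [eq_bot_iff, ← h0]
  exact le_o2 le_normalizer h.mem.ev.isPGroup le_rfl

/-- (*): nothing is normalised by `N_G(V)` and `N_G(V')`. -/
theorem star [Finite G] (hG : IsCharacteristicTwoType G) {X : Subgroup G} (hX : X ≤ centralizer (V : Set G))
    (h1 : normalizer (V : Set G) ≤ normalizer (X : Set G))
    (h2 : normalizer (V' : Set G) ≤ normalizer (X : Set G)) : X = ⊥ := by
  have hKN : centralizer (V : Set G) ≤ normalizer (V : Set G) := centralizer_le_normalizer _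
  by_cases hU : o2 X = ⊥
  · -- `X` centralises `O₂(N_G(V))`
    have hchar := MinSimple.Basic.char2_of_o2_ne_bot hG S h.mem.le h.o2_ne
    have hXo : ∀ x ∈ X, x ∈ o2 (normalizer (V : Set G)) → x = 1 := by
      have h3 : X ⊓ o2 (normalizer (V : Set G)) ≤ o2 X := by
        refine le_o2 inf_le_left ((o2_isPGroup _).to_le inf_le_right) ?_
        intro x hx
        have hxN := hKN (hX hx)
        rw [mem_normalizer_iff]
        intro y
        rw [mem_inf, mem_inf]
        rw [(mem_normalizer_iff.mp (le_normalizer_o2 _ hxN) y)]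
        rw [(mem_normalizer_iff.mp (h1 hxN) y)]
      intro x hx hxo
      have h4 := h3 ⟨hx, hxo⟩
      rw [hU, mem_bot] at h4
      exact h4
    rw [eq_bot_iff]
    intro x hx
    rw [mem_bot]
    refine hXo x hx (hchar (mem_inf.mpr ⟨hKN (hX hx), mem_centralizer_iff.mpr fun y hy => ?_⟩))
    have hy' : y ∈ o2 (normalizer (V : Set G)) := hy
    have e1 : y * x * y⁻¹ * x⁻¹ ∈ X := by
      refine mul_mem ?_ (inv_mem hx)
      exact (mem_normalizer_iff.mp (h1 (o2_le _ hy')) x).mp hx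
    have e2 : y * x * y⁻¹ * x⁻¹ ∈ o2 (normalizer (V : Set G)) := by
      have e3 : y * x * y⁻¹ * x⁻¹ = y * (x * y⁻¹ * x⁻¹) := by group
      rw [e3]
      refine mul_mem hy' ?_
      exact (mem_normalizer_iff.mp (le_normalizer_o2 _ (hKN (hX hx))) _).mp (inv_mem hy')
    have e4 := hXo _ e1 e2
    rw [mul_inv_eq_one, mul_inv_eq_iff_eq_mul] at e4
    exact e4
  · exfalso
    set Y : Subgroup G := normalizer (o2 X : Set G) with hY
    have hVY : normalizer (V : Set G) ≤ Y := h1.trans (norm_o2' X)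
    have hVY' : normalizer (V' : Set G) ≤ Y := h2.trans (norm_o2' X)
    have hYo : o2 Y ≠ ⊥ := by
      intro h0
      apply hU
      rw [eq_bot_iff, ← h0]
      exact le_o2 le_normalizer (o2_isPGroup X) le_rfl
    have hchar := MinSimple.Basic.char2_of_o2_ne_bot hG S (h.mem.le.trans hVY) hYo
    have k1 : o2 Y ≤ centralizer (V : Set G) := (o2_le_o2 S h.mem.le hVY).trans h.mem.o2_le_cen
    have k2 : o2 Y ≤ centralizer (V' : Set G) := (o2_le_o2 S' h.mem'.le hVY').trans h.mem'.o2_le_cen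
    have k3 : V' ≤ o2 Y := fun v hv => hchar (mem_inf.mpr ⟨hVY' (le_normalizer hv),
      mem_centralizer_iff.mpr fun y hy => (mem_centralizer_iff.mp (k2 hy) v hv).symm⟩)
    exact h.not_cen (k3.trans k1)

/-! ### `K = C_G(V)` has exponent 2 -/

section exp

variable [Finite G]

/-- `K` acts on `V'` as `⟨(i' j')⟩`. -/
theorem act_cen (hm' : 3 ≤ m') (hnn : NN ε i j ≤ normalizer (V : Set G))
    (hnn' : NN ε' i' j' ≤ normalizer (V' : Set G)) {k : G} (hk : k ∈ centralizer (V : Set G)) :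
    Acts ε' k 1 ∨ Acts ε' k (Equiv.swap i' j') := by
  have hNN : NN ε i j = NN ε' i' j' := by unfold NN; rw [h.rr_eq]
  have hkN : k ∈ NN ε' i' j' := by rw [← hNN]; exact h.cen_le hk
  obtain ⟨σ, hσ⟩ := h.mem'.ev.perm k (hnn' hkN)
  have hfix : ∀ a, a ≠ i' → a ≠ j' → σ a = a := by
    intro a h1 h2
    have h3 := h.fix_of_mem hm' hnn hnn' hk ⟨h1, h2⟩
    rw [zz_conj hσ] at h3
    exact h.mem'.ev.single_inj h.mem'.three h3
  rcases h.pair_fix' hkN hσ with ⟨h1, h2⟩ | ⟨h1, h2⟩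
  · left
    have : σ = 1 := by
      ext a
      congr 1
      by_cases h3 : a = i'
      · rw [h3, h1]; rfl
      by_cases h4 : a = j'
      · rw [h4, h2]; rfl
      rw [hfix a h3 h4]; rfl
    rwa [this] at hσ
  · right
    have : σ = Equiv.swap i' j' := by
      ext a
      congr 1
      by_cases h3 : a = i'
      · rw [h3, h1, Equiv.swap_apply_left]
      by_cases h4 : a = j'
      · rw [h4, h2, Equiv.swap_apply_right]
      rw [hfix a h3 h4, Equiv.swap_apply_of_ne_of_ne h3 h4]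
    rwa [this] at hσ

/-- `K = V D` -/
theorem dec (hm' : 3 ≤ m') (hnn : NN ε i j ≤ normalizer (V : Set G))
    (hnn' : NN ε' i' j' ≤ normalizer (V' : Set G)) {k : G} (hk : k ∈ centralizer (V : Set G)) :
    ∃ d v, v ∈ V ∧ d ∈ centralizer (V : Set G) ∧ d ∈ centralizer (V' : Set G) ∧ k = d * v := by
  have hVV : V ≤ centralizer (V : Set G) := fun v hv => mem_centralizer_iff.mpr fun w hw => h.mem.ev.comm_mem hw hv
  obtain ⟨v, hv, hv1⟩ := h.mov'
  rcases h.act_cen hm' hnn hnn' hk with h1 | h1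
  · exact ⟨k, 1, one_mem _, hk, h.mem'.ev.acts_one_iff.mp h1, (mul_one k).symm⟩
  · refine ⟨k * v⁻¹, v, hv, mul_mem hk (inv_mem (hVV hv)), ?_, by group⟩
    rw [← h.mem'.ev.acts_one_iff]
    have h2 := h1.mul hv1.inv
    rwa [mul_inv_cancel] at h2

omit h [Finite G] in
theorem sq_norm {L K : Subgroup G} (hK : ∀ g ∈ L, ∀ x ∈ K, g * x * g⁻¹ ∈ K) :
    L ≤ normalizer (closure {y : G | ∃ x ∈ K, y = x * x} : Set G) := by
  have key : ∀ g ∈ L, ∀ y ∈ closure {y : G | ∃ x ∈ K, y = x * x}, g * y * g⁻¹ ∈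
      closure {y : G | ∃ x ∈ K, y = x * x} := by
    intro g hg y hy
    induction hy using closure_induction with
    | mem y hy =>
      obtain ⟨x, hx, rfl⟩ := hy
      exact subset_closure ⟨_, hK g hg x hx, by group⟩
    | one => rw [mul_one, mul_inv_cancel]; exact one_mem _
    | mul x y _ _ hx hy =>
      have : g * (x * y) * g⁻¹ = (g * x * g⁻¹) * (g * y * g⁻¹) := by group
      rw [this]; exact mul_mem hx hy
    | inv x _ hx =>
      have : g * x⁻¹ * g⁻¹ = (g * x * g⁻¹)⁻¹ := by group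
      rw [this]; exact inv_mem hx
  intro g hg
  rw [mem_normalizer_iff]
  refine fun x => ⟨key g hg x, fun hx => ?_⟩
  have h1 := key g⁻¹ (inv_mem hg) _ hx
  have h2 : g⁻¹ * (g * x * g⁻¹) * g⁻¹⁻¹ = x := by group
  rwa [h2] at h1

theorem sq_le (hm' : 3 ≤ m') (hnn : NN ε i j ≤ normalizer (V : Set G))
    (hnn' : NN ε' i' j' ≤ normalizer (V' : Set G)) :
    closure {y : G | ∃ x ∈ centralizer (V : Set G), y = x * x} ≤
      closure {y : G | ∃ x ∈ centralizer (V' : Set G), y = x * x} := by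
  rw [closure_le]
  rintro _ ⟨k, hk, rfl⟩
  obtain ⟨d, v, hv, hd, hd', rfl⟩ := h.dec hm' hnn hnn' hk
  refine subset_closure ⟨d, hd', ?_⟩
  have h1 := mem_centralizer_iff.mp hd v hv
  calc d * v * (d * v) = d * (v * d) * v := by group
    _ = d * (d * v) * v := by rw [h1]
    _ = d * d * (v * v) := by group
    _ = d * d := by rw [h.mem.ev.sq_mem hv, mul_one]

/-- `K` has exponent 2. -/
theorem cen_sq (hG : IsCharacteristicTwoType G) (hm : 3 ≤ m) (hm' : 3 ≤ m')
    (hnn : NN ε i j ≤ normalizer (V : Set G)) (hnn' : NN ε' i' j' ≤ normalizer (V' : Set G)) {k : G}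
    (hk : k ∈ centralizer (V : Set G)) : k * k = 1 := by
  have h1 := h.sq_le hm' hnn hnn'
  have h2 := h.symm.sq_le hm hnn' hnn
  have heq := le_antisymm h1 h2
  have h3 : normalizer (V : Set G) ≤ normalizer
      (closure {y : G | ∃ x ∈ centralizer (V : Set G), y = x * x} : Set G) :=
    sq_norm fun g hg x hx => conj_cent hg hx
  have h4 : normalizer (V' : Set G) ≤ normalizer
      (closure {y : G | ∃ x ∈ centralizer (V' : Set G), y = x * x} : Set G) :=
    sq_norm fun g hg x hx => conj_cent hg hx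
  rw [← heq] at h4
  have h5 := h.star hG ((closure_le _).mpr (by
    rintro _ ⟨x, hx, rfl⟩
    exact mul_mem hx hx)) h3 h4
  have h6 : k * k ∈ closure {y : G | ∃ x ∈ centralizer (V : Set G), y = x * x} := subset_closure ⟨k, hk, rfl⟩
  rw [h5, mem_bot] at h6
  exact h6

end exp

/-! ### `K = V` -/

section eqV

variable [Finite G]

omit h [Group G] [Finite G] in
theorem swap_conj {n : ℕ} (σ : Equiv.Perm (Fin n)) (a b : Fin n) :
    σ * Equiv.swap a b * σ⁻¹ = Equiv.swap (σ a) (σ b) := (Equiv.swap_apply_apply σ a b).symm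

omit h [Finite G] in
theorem comm_of_sq {K : Subgroup G} (hK : ∀ x ∈ K, x * x = 1) : ∀ x ∈ K, ∀ y ∈ K, x * y = y * x := by
  intro x hx y hy
  have h1 := hK _ (mul_mem hx hy)
  have e1 : x⁻¹ = x := inv_eq_of_mul_eq_one_left (hK x hx)
  have e2 : y⁻¹ = y := inv_eq_of_mul_eq_one_left (hK y hy)
  have e3 : (x * y)⁻¹ = x * y := inv_eq_of_mul_eq_one_left h1
  rw [← e3, mul_inv_rev, e1, e2]

/-- **`C_G(V) = V`** -/
theorem cen_le_V (hG : IsCharacteristicTwoType G) (hm : 3 ≤ m) (hm' : 3 ≤ m')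
    (hnn : NN ε i j ≤ normalizer (V : Set G)) (hnn' : NN ε' i' j' ≤ normalizer (V' : Set G)) :
    centralizer (V : Set G) ≤ V := by
  classical
  set K : Subgroup G := centralizer (V : Set G) with hK
  set L : Subgroup G := normalizer (V : Set G) with hL
  have hsq : ∀ x ∈ K, x * x = 1 := fun x hx => h.cen_sq hG hm hm' hnn hnn' hx
  have hcomm := comm_of_sq hsq
  have hVK : V ≤ K := fun v hv => mem_centralizer_iff.mpr fun w hw => h.mem.ev.comm_mem hw hv
  have hLK : ∀ l ∈ L, ∀ k ∈ K, l * k * l⁻¹ ∈ K := fun l hl k hk => conj_cent hl hk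
  have hn := h.mem.three
  have h8 : 2 ^ 3 ≤ 2 ^ m := Nat.pow_le_pow_right (by norm_num) hm
  -- equal action
  have T2 : ∀ w ∈ L, ∀ w' ∈ L, ∀ σ : Equiv.Perm (Fin (2 ^ m + 1)), Acts ε w σ → Acts ε w' σ → ∀ x ∈ K,
      w * x * w⁻¹ = w' * x * w'⁻¹ := by
    intro w hw w' hw' σ h1 h2 x hx
    have h3 : w'⁻¹ * w ∈ K := h.mem.ev.mem_centralizer_of_acts h1 h2
    have h4 := hcomm _ h3 x hx
    calc w * x * w⁻¹ = w' * (w'⁻¹ * w * x) * w⁻¹ := by group
      _ = w' * (x * (w'⁻¹ * w)) * w⁻¹ := by rw [h4]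
      _ = _ := by group
  obtain ⟨t, ht, ht1⟩ := h.mov
  have htL : t ∈ L := h.mem.le (h.in' ht)
  have T0 : ∀ x ∈ K, t * x * t⁻¹ = x ∨ t * x * t⁻¹ = x * rr ε i j := by
    intro x hx
    obtain ⟨d, v, hv, -, hd', rfl⟩ := h.dec hm' hnn hnn' hx
    obtain ⟨X, rfl⟩ := h.mem.ev.surj v hv
    have h1 : t * (d * ε X) * t⁻¹ = d * (t * ε X * t⁻¹) := by
      have h2 := mem_centralizer_iff.mp hd' t ht
      calc t * (d * ε X) * t⁻¹ = t * d * ε X * t⁻¹ := by group
        _ = d * t * ε X * t⁻¹ := by rw [h2]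
        _ = _ := by group
    rw [h1]
    by_cases h2 : X i = X j
    · left; rw [(acts_swap' h.mem.ev ht1 X).1 h2]
    · right; rw [(acts_swap' h.mem.ev ht1 X).2 h2, mul_assoc]
  have T1 : ∀ a b, a ≠ b → ∀ w ∈ L, Acts ε w (Equiv.swap a b) → ∀ x ∈ K,
      w * x * w⁻¹ = x ∨ w * x * w⁻¹ = x * rr ε a b := by
    intro a b hab w hw hws x hx
    obtain ⟨σ, s1, s2, -⟩ := exists_perm h.ne hab
    obtain ⟨l, hl, hls⟩ := h.mem.ev.full σ
    have h1 := hls.conj ht1
    rw [swap_conj, s1, s2] at h1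
    have h2 := T2 w hw _ (mul_mem (mul_mem hl htL) (inv_mem hl)) _ hws h1 x hx
    have hx' := hLK l⁻¹ (inv_mem hl) x hx
    rw [inv_inv] at hx'
    have h3 : l * t * l⁻¹ * x * (l * t * l⁻¹)⁻¹ = l * (t * (l⁻¹ * x * l) * t⁻¹) * l⁻¹ := by group
    rw [h2, h3]
    rcases T0 _ hx' with h4 | h4
    · left; rw [h4]; group
    · right
      rw [h4]
      have h5 : l * (l⁻¹ * x * l * rr ε i j) * l⁻¹ = x * (l * rr ε i j * l⁻¹) := by group
      rw [h5, rr_conj hls, s1, s2]
  -- the functionals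
  let f : G → Fin (2 ^ m + 1) → Fin (2 ^ m + 1) → ZMod 2 := fun x a b =>
    if ∃ w ∈ L, Acts ε w (Equiv.swap a b) ∧ w * x * w⁻¹ = x then 0 else 1
  have F0 : ∀ x ∈ K, ∀ a b, a ≠ b → ∀ w ∈ L, Acts ε w (Equiv.swap a b) →
      (f x a b = 0 → w * x * w⁻¹ = x) ∧ (f x a b = 1 → w * x * w⁻¹ = x * rr ε a b) := by
    intro x hx a b hab w hw hws
    constructor
    · intro h1
      by_cases h2 : ∃ w ∈ L, Acts ε w (Equiv.swap a b) ∧ w * x * w⁻¹ = x
      · obtain ⟨w', hw', hws', h3⟩ := h2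
        rw [T2 w hw w' hw' _ hws hws' x hx, h3]
      · have h3 : f x a b = 1 := if_neg h2
        rw [h3] at h1
        exact absurd h1 one_ne_zero
    · intro h1
      rcases T1 a b hab w hw hws x hx with h2 | h2
      · have h3 : f x a b = 0 := if_pos ⟨w, hw, hws, h2⟩
        rw [h3] at h1
        exact absurd h1 zero_ne_one
      · exact h2
  have F1 : ∀ x ∈ K, ∀ a b, a ≠ b → ∀ w ∈ L, Acts ε w (Equiv.swap a b) → w * x * w⁻¹ = x → f x a b = 0 := by
    intro x _ a b _ w hw hws h1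
    exact if_pos ⟨w, hw, hws, h1⟩
  have Fsymm : ∀ x a b, f x a b = f x b a := by
    intro x a b
    change (if _ then _ else _) = (if _ then _ else _)
    rw [Equiv.swap_comm]
  have hrK : ∀ a b, rr ε a b ∈ K := fun a b => hVK (rr_mem h.mem.ev a b)
  have Fadd : ∀ x ∈ K, ∀ a b c, a ≠ b → b ≠ c → a ≠ c → f x a c = f x a b + f x b c := by
    intro x hx a b c hab hbc hac
    obtain ⟨w, hw, hws⟩ := h.mem.ev.full (Equiv.swap a b)
    obtain ⟨y, hy, hys⟩ := h.mem.ev.full (Equiv.swap b c)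
    have hu : Acts ε (y * w * y⁻¹) (Equiv.swap a c) := by
      have h1 := hys.conj hws
      rwa [swap_conj, Equiv.swap_apply_of_ne_of_ne hab hac, Equiv.swap_apply_left] at h1
    have huL : y * w * y⁻¹ ∈ L := mul_mem (mul_mem hy hw) (inv_mem hy)
    have hyi : Acts ε y⁻¹ (Equiv.swap b c) := by
      have h1 := hys.inv
      rwa [Equiv.swap_inv] at h1
    have e0 : y * w * y⁻¹ * x * (y * w * y⁻¹)⁻¹ = y * (w * (y⁻¹ * x * y⁻¹⁻¹) * w⁻¹) * y⁻¹ := by group
    have wbc : w * rr ε b c * w⁻¹ = rr ε a c := by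
      rw [rr_conj hws, Equiv.swap_apply_right, Equiv.swap_apply_of_ne_of_ne hac.symm hbc.symm]
    have ybc : y * rr ε b c * y⁻¹ = rr ε b c := by
      rw [rr_conj hys, Equiv.swap_apply_left, Equiv.swap_apply_right, rr_symm h.mem.ev]
    have yab : y * rr ε a b * y⁻¹ = rr ε a c := by
      rw [rr_conj hys, Equiv.swap_apply_left, Equiv.swap_apply_of_ne_of_ne hab hac]
    have yac : y * rr ε a c * y⁻¹ = rr ε a b := by
      rw [rr_conj hys, Equiv.swap_apply_right, Equiv.swap_apply_of_ne_of_ne hab hac]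
    have hac1 : rr ε a c ≠ 1 := rr_ne_one h.mem.ev hn hac
    have hsum : rr ε b c * rr ε a b = rr ε a c := by
      rw [rr_symm h.mem.ev b c, rr_symm h.mem.ev a b, rr_add h.mem.ev, rr_symm h.mem.ev]
    have hrr : ∀ p q, rr ε p q * rr ε p q = 1 := fun p q => rr_sq h.mem.ev p q
    rcases Norm.z2 (f x b c) with s0 | s0
    · -- `y` fixes `x`
      have y1 := (F0 x hx b c hbc y⁻¹ (inv_mem hy) hyi).1 s0
      have y2 := (F0 x hx b c hbc y hy hys).1 s0
      rcases Norm.z2 (f x a b) with s1 | s1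
      · have w1 := (F0 x hx a b hab w hw hws).1 s1
        have h1 : f x a c = 0 := F1 x hx a c hac _ huL hu (by rw [e0, y1, w1, y2])
        rw [h1, s0, s1, add_zero]
      · have w1 := (F0 x hx a b hab w hw hws).2 s1
        have h2 : y * w * y⁻¹ * x * (y * w * y⁻¹)⁻¹ = x * rr ε a c := by
          rw [e0, y1, w1]
          have h3 : y * (x * rr ε a b) * y⁻¹ = (y * x * y⁻¹) * (y * rr ε a b * y⁻¹) := by group
          rw [h3, y2, yab]
        rw [s0, s1, add_zero]
        rcases Norm.z2 (f x a c) with s2 | s2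
        · rw [(F0 x hx a c hac _ huL hu).1 s2] at h2
          exact absurd (left_eq_mul.mp h2) hac1
        · exact s2
    · -- `y` moves `x`
      have y1 := (F0 x hx b c hbc y⁻¹ (inv_mem hy) hyi).2 s0
      have y2 := (F0 x hx b c hbc y hy hys).2 s0
      have hxbc : x * rr ε b c ∈ K := mul_mem hx (hrK b c)
      rcases Norm.z2 (f x a b) with s1 | s1
      · have w1 := (F0 x hx a b hab w hw hws).1 s1
        have h2 : y * w * y⁻¹ * x * (y * w * y⁻¹)⁻¹ = x * rr ε a c := by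
          rw [e0, y1]
          have h3 : w * (x * rr ε b c) * w⁻¹ = (w * x * w⁻¹) * (w * rr ε b c * w⁻¹) := by group
          rw [h3, w1, wbc]
          have h4 : y * (x * rr ε a c) * y⁻¹ = (y * x * y⁻¹) * (y * rr ε a c * y⁻¹) := by group
          rw [h4, y2, yac, mul_assoc, hsum]
        rw [s0, s1, zero_add]
        rcases Norm.z2 (f x a c) with s2 | s2
        · rw [(F0 x hx a c hac _ huL hu).1 s2] at h2
          exact absurd (left_eq_mul.mp h2) hac1
        · exact s2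
      · have w1 := (F0 x hx a b hab w hw hws).2 s1
        have h2 : y * w * y⁻¹ * x * (y * w * y⁻¹)⁻¹ = x := by
          rw [e0, y1]
          have h3 : w * (x * rr ε b c) * w⁻¹ = (w * x * w⁻¹) * (w * rr ε b c * w⁻¹) := by group
          rw [h3, w1, wbc]
          have h4 : y * (x * rr ε a b * rr ε a c) * y⁻¹ =
              (y * x * y⁻¹) * (y * rr ε a b * y⁻¹) * (y * rr ε a c * y⁻¹) := by group
          rw [h4, y2, yac, yab]
          have h5 : x * rr ε b c * rr ε a c * rr ε a b = x * (rr ε b c * (rr ε a c * rr ε a b)) := by group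
          have h6 : rr ε a c * rr ε a b = rr ε a b * rr ε a c := hcomm _ (hrK a c) _ (hrK a b)
          rw [h5, h6, ← mul_assoc (rr ε b c), hsum, hrr, mul_one]
        have h1 : f x a c = 0 := F1 x hx a c hac _ huL hu h2
        rw [h1, s0, s1]
        decide
  -- correct `x` by an element of `V`
  intro x hx
  let α : Fin (2 ^ m + 1) → ZMod 2 := fun a => if a = 0 then 0 else f x 0 a
  have hα0 : α 0 = 0 := if_pos rfl
  have hαne : ∀ a, a ≠ 0 → α a = f x 0 a := fun a ha => if_neg ha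
  have hα : ∀ a b, a ≠ b → f x a b = α a + α b := by
    intro a b hab
    by_cases ha : a = 0
    · subst ha
      rw [hα0, zero_add, hαne b hab.symm]
    by_cases hb : b = 0
    · subst hb
      rw [hα0, add_zero, hαne a hab, Fsymm]
    rw [Fadd x hx a 0 b ha (Ne.symm hb) hab, hαne a ha, hαne b hb, Fsymm x a 0]
  have hfix : ∀ a b, a ≠ b → ∀ w ∈ L, Acts ε w (Equiv.swap a b) → w * (x * ε α) * w⁻¹ = x * ε α := by
    intro a b hab w hw hws
    have h3 : w * (x * ε α) * w⁻¹ = (w * x * w⁻¹) * (w * ε α * w⁻¹) := by group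
    rw [h3]
    by_cases hab' : α a = α b
    · have h4 : f x a b = 0 := by rw [hα a b hab, hab', Norm.z2_self]
      rw [(F0 x hx a b hab w hw hws).1 h4, (acts_swap' h.mem.ev hws α).1 hab']
    · have h4 : f x a b = 1 := by
        rw [hα a b hab, Norm.z2_ne hab', add_right_comm, Norm.z2_self, zero_add]
      rw [(F0 x hx a b hab w hw hws).2 h4, (acts_swap' h.mem.ev hws α).2 hab']
      have h5 := hcomm _ (hrK a b) _ (hVK (h.mem.ev.mem α))
      calc x * rr ε a b * (ε α * rr ε a b) = x * (rr ε a b * ε α) * rr ε a b := by group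
        _ = x * (ε α * rr ε a b) * rr ε a b := by rw [h5]
        _ = x * ε α * (rr ε a b * rr ε a b) := by group
        _ = x * ε α := by rw [rr_sq h.mem.ev, mul_one]
  -- the fixed points
  let C : Subgroup G :=
    { carrier := {y | y ∈ K ∧ ∀ a b, a ≠ b → ∀ w ∈ L, Acts ε w (Equiv.swap a b) → w * y * w⁻¹ = y}
      one_mem' := ⟨one_mem _, fun _ _ _ w _ _ => by group⟩
      mul_mem' := fun {y y'} h1 h2 => ⟨mul_mem h1.1 h2.1, fun a b hab w hw hws => by
        have h3 : w * (y * y') * w⁻¹ = (w * y * w⁻¹) * (w * y' * w⁻¹) := by group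
        rw [h3, h1.2 a b hab w hw hws, h2.2 a b hab w hw hws]⟩
      inv_mem' := fun {y} h1 => ⟨inv_mem h1.1, fun a b hab w hw hws => by
        have h3 : w * y⁻¹ * w⁻¹ = (w * y * w⁻¹)⁻¹ := by group
        rw [h3, h1.2 a b hab w hw hws]⟩ }
  have hxC : x * ε α ∈ C := ⟨mul_mem hx (hVK (h.mem.ev.mem α)), hfix⟩
  by_cases h1 : x * ε α = 1
  · have h2 : x = (ε α)⁻¹ := eq_inv_of_mul_eq_one_left h1
    rw [h2]
    exact inv_mem (h.mem.ev.mem α)
  · exfalso
    have hz : zz ε 0 ∈ C := h.mem.zz_mem (by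
      rintro s hs y ⟨hy, hy2⟩
      have hsL : s ∈ L := h.mem.le hs
      refine ⟨hLK s hsL y hy, fun a b hab w hw hws => ?_⟩
      obtain ⟨σ, hσ⟩ := h.mem.ev.perm s hsL
      have h2 := (hσ.inv).conj hws
      rw [swap_conj, inv_inv] at h2
      have h3 := hy2 _ _ (fun h0 => hab (σ⁻¹.injective h0)) _ (mul_mem (mul_mem (inv_mem hsL) hw) hsL) h2
      have h4 : w * (s * y * s⁻¹) * w⁻¹ = s * (s⁻¹ * w * s * y * (s⁻¹ * w * s)⁻¹) * s⁻¹ := by group
      rw [h4, h3]) (fun y hy => hsq y hy.1) hxC h1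
    have h01 : (0 : Fin (2 ^ m + 1)) ≠ ⟨1, by omega⟩ := by
      intro h0
      have := congrArg Fin.val h0
      simp at this
    obtain ⟨w, hw, hws⟩ := h.mem.ev.full (Equiv.swap 0 ⟨1, by omega⟩)
    have h2 := hz.2 _ _ h01 w hw hws
    rw [zz_conj hws, Equiv.swap_apply_left] at h2
    exact h01 (h.mem.ev.single_inj hn h2.symm)

end eqV

/-- **The end.** -/
theorem false [Finite G] (hG : IsCharacteristicTwoType G) (hm : 3 ≤ m) (hm' : 3 ≤ m')
    (hnn : NN ε i j ≤ normalizer (V : Set G))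
    (hnn' : ∀ k l, k ≠ l → NN ε' k l ≤ normalizer (V' : Set G)) : False := by
  have hNN : NN ε i j = NN ε' i' j' := by unfold NN; rw [h.rr_eq]
  have h1' := hnn' i' j' h.ne'
  have hKV := h.cen_le_V hG hm hm' hnn h1'
  have hKV' := h.symm.cen_le_V hG hm' hm h1' hnn
  have hn := h.mem.three
  have hn' := h.mem'.three
  have h8 : 2 ^ 3 ≤ 2 ^ m := Nat.pow_le_pow_right (by norm_num) hm
  -- letters
  have third : ∀ p q : Fin (2 ^ m + 1), ∃ c, c ≠ i ∧ c ≠ j ∧ c ≠ p ∧ c ≠ q := by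
    intro p q
    have hcard : ({i, j, p, q} : Finset (Fin (2 ^ m + 1))).card < (Finset.univ : Finset (Fin (2 ^ m + 1))).card := by
      rw [Finset.card_univ, Fintype.card_fin]
      exact lt_of_le_of_lt Finset.card_le_four (by omega)
    obtain ⟨k, -, hk⟩ := Finset.exists_mem_notMem_of_card_lt_card hcard
    simp only [Finset.mem_insert, Finset.mem_singleton, not_or] at hk
    exact ⟨k, hk.1, hk.2.1, hk.2.2.1, hk.2.2.2⟩
  obtain ⟨c, c1, c2, -, -⟩ := third i i
  obtain ⟨d, d1, d2, d3, -⟩ := third c c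
  obtain ⟨e, e1, e2, e3, e4⟩ := third c d
  -- the pairs off `i, j` are in `V'`
  have hin : ∀ p q, p ≠ i → p ≠ j → q ≠ i → q ≠ j → rr ε p q ∈ V' := by
    intro p q p1 p2 q1 q2
    apply hKV'
    rw [mem_centralizer_iff]
    intro t ht
    rw [← mul_inv_eq_iff_eq_mul]
    rcases h.act t ht with h2 | h2
    · rw [rr_conj h2]; rfl
    · rw [rr_conj h2, Equiv.swap_apply_of_ne_of_ne p1 p2, Equiv.swap_apply_of_ne_of_ne q1 q2]
  obtain ⟨w, hw, hws⟩ := h.mem.ev.full (Equiv.swap c d)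
  have hwN : w ∈ NN ε i j := by
    rw [mem_NN', rr_conj hws, Equiv.swap_apply_of_ne_of_ne (Ne.symm c1) (Ne.symm d1),
      Equiv.swap_apply_of_ne_of_ne (Ne.symm c2) (Ne.symm d2)]
  have hwN' : w ∈ NN ε' i' j' := by rw [← hNN]; exact hwN
  obtain ⟨σ, hσ⟩ := h.mem'.ev.perm w (h1' hwN')
  -- a moved letter
  obtain ⟨a, a1, a2, a3⟩ : ∃ a, a ≠ i' ∧ a ≠ j' ∧ σ a ≠ a := by
    by_contra hc
    push Not at hc
    have h2 : rr ε c e ∈ V0 ε' i' j' := by
      obtain ⟨X, hX⟩ := h.mem'.ev.surj _ (hin c e c1 c2 e1 e2)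
      rw [← hX]
      apply mem_V0 h.mem'.ev
      obtain ⟨v, hv, hv1⟩ := h.mov'
      by_contra h3
      have h4 := (acts_swap' h.mem'.ev hv1 X).2 h3
      rw [hX, h.mem.ev.comm_mem hv (rr_mem h.mem.ev c e), mul_inv_cancel_right] at h4
      exact rr_ne_one h.mem'.ev hn' h.ne' (left_eq_mul.mp h4)
    have key : ∀ y ∈ V0 ε' i' j', w * y * w⁻¹ = y := by
      intro y hy
      unfold V0 at hy
      induction hy using closure_induction with
      | mem x hx =>
        obtain ⟨k, k1, k2, rfl⟩ := hx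
        rw [zz_conj hσ, hc k k1 k2]
      | one => group
      | mul x y _ _ hx hy =>
        have h4 : w * (x * y) * w⁻¹ = (w * x * w⁻¹) * (w * y * w⁻¹) := by group
        rw [h4, hx, hy]
      | inv x _ hx =>
        have h4 : w * x⁻¹ * w⁻¹ = (w * x * w⁻¹)⁻¹ := by group
        rw [h4, hx]
    have h3 : w * rr ε c e * w⁻¹ = rr ε c e := key _ h2
    rw [rr_conj hws, Equiv.swap_apply_left, Equiv.swap_apply_of_ne_of_ne e3 e4] at h3
    have h4 : zz ε d = zz ε c := mul_right_cancel (h3 : zz ε d * zz ε e = zz ε c * zz ε e)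
    exact d3 (h.mem.ev.single_inj hn h4)
  have hb : σ a ≠ i' ∧ σ a ≠ j' := by
    rcases h.pair_fix' hwN' hσ with ⟨s1, s2⟩ | ⟨s1, s2⟩
    · exact ⟨fun h0 => a1 (σ.injective (h0.trans s1.symm)), fun h0 => a2 (σ.injective (h0.trans s2.symm))⟩
    · exact ⟨fun h0 => a2 (σ.injective (h0.trans s2.symm)), fun h0 => a1 (σ.injective (h0.trans s1.symm))⟩
  have haV : zz ε' a ∈ V := by
    apply hKV
    rw [mem_centralizer_iff]
    intro v hv
    rw [← mul_inv_eq_iff_eq_mul]
    rcases h.act' v hv with h2 | h2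
    · rw [zz_conj h2]; rfl
    · rw [zz_conj h2, Equiv.swap_apply_of_ne_of_ne a1 a2]
  -- `r_cd = r'_ab`
  have hpair : rr ε c d = rr ε' a (σ a) := by
    obtain ⟨X, hX⟩ := h.mem.ev.surj _ haV
    have h2 := zz_conj hσ a
    rw [← hX] at h2
    by_cases h3 : X c = X d
    · rw [(acts_swap' h.mem.ev hws X).1 h3, hX] at h2
      exact absurd (h.mem'.ev.single_inj hn' h2).symm a3
    · rw [(acts_swap' h.mem.ev hws X).2 h3, hX] at h2
      unfold rr at h2 ⊢
      rw [← h2, ← mul_assoc, zz_sq h.mem'.ev, one_mul]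
  -- `(i e)` moves `(i j)`
  obtain ⟨g, hg, hgs⟩ := h.mem.ev.full (Equiv.swap i e)
  have hgN : g ∈ NN ε c d := by
    rw [mem_NN', rr_conj hgs, Equiv.swap_apply_of_ne_of_ne c1 (Ne.symm e3), Equiv.swap_apply_of_ne_of_ne d1 (Ne.symm e4)]
  have hgV : g ∈ normalizer (V' : Set G) := by
    apply hnn' a (σ a) (Ne.symm a3)
    unfold NN at hgN ⊢
    rw [← hpair]
    exact hgN
  obtain ⟨t, ht, ht1⟩ := h.mov
  have h2 := h.act _ ((mem_normalizer_iff.mp hgV t).mp ht)
  have h3 := hgs.conj ht1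
  rw [swap_conj, Equiv.swap_apply_left, Equiv.swap_apply_of_ne_of_ne (Ne.symm h.ne) (Ne.symm e2)] at h3
  rcases h2 with h2 | h2
  · exact e2 (Equiv.swap_eq_one_iff.mp (h.mem.ev.acts_unique hn h3 h2))
  · have h4 := h.mem.ev.acts_unique hn h3 h2
    have h5 := congrArg (fun τ : Equiv.Perm (Fin (2 ^ m + 1)) => τ j) h4
    change Equiv.swap e j j = Equiv.swap i j j at h5
    rw [Equiv.swap_apply_right, Equiv.swap_apply_right] at h5
    exact e1 h5

end TT

end Cfsg.Agent.Omega.NSix.RThree
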