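import Cfsg.Agent.Omega.NSix.CosetAct
import Cfsg.Agent.Omega.S5.Pair
import Cfsg.Agent.PLocal.OffenderStep

/-!
# OMEGA N6: the member of degree 5

`Hyp V P S W ε i j` with `m = 2` and `|Ω₁ Z(S)| = 2`: `W ≤ C_S(r_ij)` (`le_T`), so `W` acts on `V` as a subgroup of
`⟨(i j)⟩` (`acts`) and `[W, g] ≤ ⟨r_ij⟩` for `g ∈ V` (`comm_eq`).  No matter whether `r_ij` is 2-central.
-/

set_option autoImplicit false
set_option linter.dupNamespace false

namespace Cfsg.Agent.Omega.NSix.TwoSup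

open Subgroup Pointwise Cfsg.Agent.Omega.S5.Def Cfsg.Agent.Omega.S5.Syl Cfsg.Agent.Omega.NSix.Base
open Cfsg.Agent.Omega.NSix.Basic Cfsg.Agent.Omega.NSix.CosetAct

universe u

variable {G : Type u} [Group G]

/-- `Ω₁ Z(S) ≤ {1, z}`: the same for every 2-group of this order. -/
theorem uniq [Finite G] (S : Sylow 2 G) {z : G}
    (hz : ∀ x : G, x * x = 1 → (∀ s ∈ (S : Subgroup G), s * x = x * s) → x = 1 ∨ x = z)
    {T : Subgroup G} (hT : IsPGroup 2 T) (hc : Nat.card (S : Subgroup G) ≤ Nat.card T) {x y : G}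
    (hx : x * x = 1) (hx1 : x ≠ 1) (hxT : ∀ t ∈ T, t * x = x * t) (hy : y * y = 1) (hy1 : y ≠ 1)
    (hyT : ∀ t ∈ T, t * y = y * t) : x = y := by
  have h2 : Fact (Nat.Prime 2) := ⟨Nat.prime_two⟩
  obtain ⟨Q, hQ⟩ := hT.exists_le_sylow
  have hcQ : Nat.card (Q : Subgroup G) = Nat.card (S : Subgroup G) := Nat.card_congr (Q.equiv S).toEquiv
  have hTQ : T = Q := Subgroup.eq_of_le_of_card_ge hQ (by rw [hcQ]; exact hc)
  obtain ⟨g, hg⟩ := MulAction.exists_smul_eq G Q S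
  have key : ∀ w : G, w * w = 1 → w ≠ 1 → (∀ t ∈ T, t * w = w * t) → g * w * g⁻¹ = z := by
    intro w hw hw1 hwT
    have h3 := hz (g * w * g⁻¹) (by
      calc g * w * g⁻¹ * (g * w * g⁻¹) = g * (w * w) * g⁻¹ := by group
        _ = 1 := by rw [hw]; group) (by
      intro s hs
      have h4 : g⁻¹ * s * g ∈ T := by
        rw [hTQ]
        rw [← hg, Sylow.smul_def, Sylow.pointwise_smul_def, mem_pointwise_smul_iff_inv_smul_mem] at hs
        rw [← map_inv, MulAut.smul_def, MulAut.conj_apply, inv_inv] at hs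
        exact hs
      have h5 := hwT _ h4
      calc s * (g * w * g⁻¹) = g * ((g⁻¹ * s * g) * w) * g⁻¹ := by group
        _ = g * (w * (g⁻¹ * s * g)) * g⁻¹ := by rw [h5]
        _ = g * w * g⁻¹ * s := by group)
    rcases h3 with h3 | h3
    · exfalso
      apply hw1
      calc w = g⁻¹ * (g * w * g⁻¹) * g := by group
        _ = 1 := by rw [h3]; group
    · exact h3
  have h3 := (key x hx hx1 hxT).trans (key y hy hy1 hyT).symm
  exact mul_left_cancel (mul_right_cancel h3)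

/-! ### The group `⟨V0^W⟩` -/

section BB

variable {m : ℕ} {V P S W : Subgroup G} {ε : (Fin (2 ^ m + 1) → ZMod 2) → G} {i j : Fin (2 ^ m + 1)}

/-- `⟨w v w⁻¹ : v ∈ V0, w ∈ W⟩` -/
def BB {n : ℕ} (W : Subgroup G) (ε : (Fin n → ZMod 2) → G) (i j : Fin n) : Subgroup G :=
  closure {x | ∃ w ∈ W, ∃ v ∈ V0 ε i j, x = w * v * w⁻¹}

theorem V0_le (h : EvenSet (2 ^ m + 1) V P ε) : V0 ε i j ≤ V := by
  unfold V0
  rw [closure_le]
  rintro x ⟨k, -, -, rfl⟩
  exact zz_mem h k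

theorem gen_comm [Finite G] (h : Hyp V P S W ε i j) {w v w' v' : G} (hw : w ∈ W) (hv : v ∈ V0 ε i j)
    (hw' : w' ∈ W) (hv' : v' ∈ V0 ε i j) :
    w * v * w⁻¹ * (w' * v' * w'⁻¹) = w' * v' * w'⁻¹ * (w * v * w⁻¹) := by
  have h1 := h.comm_V (V0_le h.even hv) hv' (mul_mem (inv_mem hw) hw')
  calc w * v * w⁻¹ * (w' * v' * w'⁻¹) = w * (v * ((w⁻¹ * w') * v' * (w⁻¹ * w')⁻¹)) * w⁻¹ := by group
    _ = w * ((w⁻¹ * w') * v' * (w⁻¹ * w')⁻¹ * v) * w⁻¹ := by rw [h1]
    _ = w' * v' * w'⁻¹ * (w * v * w⁻¹) := by group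

theorem BB_comm [Finite G] (h : Hyp V P S W ε i j) {x y : G} (hx : x ∈ BB W ε i j) (hy : y ∈ BB W ε i j) :
    x * y = y * x := by
  have h1 : BB W ε i j ≤ centralizer (BB W ε i j : Set G) := by
    nth_rewrite 1 [BB]
    rw [closure_le]
    rintro x ⟨w, hw, v, hv, rfl⟩
    change w * v * w⁻¹ ∈ centralizer (BB W ε i j : Set G)
    have h2 : BB W ε i j ≤ centralizer ({w * v * w⁻¹} : Set G) := by
      unfold BB
      rw [closure_le]
      rintro y ⟨w', hw', v', hv', rfl⟩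
      change w' * v' * w'⁻¹ ∈ centralizer ({w * v * w⁻¹} : Set G)
      rw [mem_centralizer_singleton_iff]
      exact gen_comm h hw' hv' hw hv
    rw [mem_centralizer_iff]
    intro y hy
    exact mem_centralizer_singleton_iff.mp (h2 hy)
  exact (mem_centralizer_iff.mp (h1 hx) y hy).symm

theorem mem_BB {w v : G} (hw : w ∈ W) (hv : v ∈ V0 ε i j) : w * v * w⁻¹ ∈ BB W ε i j :=
  subset_closure ⟨w, hw, v, hv, rfl⟩

/-- `⟨w a w⁻¹ : w ∈ W⟩` -/
def Aa (W : Subgroup G) (a : G) : Subgroup G := closure {x | ∃ w ∈ W, x = w * a * w⁻¹}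

theorem Aa_le {a : G} (ha : a ∈ V0 ε i j) : Aa W a ≤ BB W ε i j := by
  unfold Aa
  rw [closure_le]
  rintro x ⟨w, hw, rfl⟩
  exact mem_BB hw ha

theorem Aa_sq [Finite G] (h : Hyp V P S W ε i j) {a : G} (ha : a ∈ V0 ε i j) {x : G} (hx : x ∈ Aa W a) :
    x * x = 1 := by
  have key : x ∈ BB W ε i j ∧ x * x = 1 := by
    unfold Aa at hx
    induction hx using closure_induction with
    | mem x hx =>
      obtain ⟨w, hw, rfl⟩ := hx
      refine ⟨mem_BB hw ha, ?_⟩
      calc w * a * w⁻¹ * (w * a * w⁻¹) = w * (a * a) * w⁻¹ := by group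
        _ = 1 := by rw [h.even.sq_mem (V0_le h.even ha)]; group
    | one => exact ⟨one_mem _, one_mul _⟩
    | mul x y _ _ hx hy =>
      refine ⟨mul_mem hx.1 hy.1, ?_⟩
      calc x * y * (x * y) = x * (y * x) * y := by group
        _ = x * (x * y) * y := by rw [BB_comm h hy.1 hx.1]
        _ = (x * x) * (y * y) := by group
        _ = 1 := by rw [hx.2, hy.2, one_mul]
    | inv x _ hx =>
      refine ⟨inv_mem hx.1, ?_⟩
      rw [← mul_inv_rev, hx.2, inv_one]
  exact key.2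

/-- `x x^e x^(e²) = 1` on `⟨a^W⟩` if this is true for `a`. -/
theorem Aa_cyc [Finite G] (h : Hyp V P S W ε i j) {a b c e : G} (ha : a ∈ V0 ε i j) (hb : b ∈ V0 ε i j)
    (hc : c ∈ V0 ε i j) (he : e ∈ h.E) (hab : e * a * e⁻¹ = b) (hbc : e * b * e⁻¹ = c)
    (habc : a * b * c = 1) {x : G} (hx : x ∈ Aa W a) :
    x * (e * x * e⁻¹) * (e * (e * x * e⁻¹) * e⁻¹) = 1 := by
  have hV := V0_le (i := i) (j := j) h.even
  have key : x ∈ BB W ε i j ∧ e * x * e⁻¹ ∈ BB W ε i j ∧ e * (e * x * e⁻¹) * e⁻¹ ∈ BB W ε i j ∧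
      x * (e * x * e⁻¹) * (e * (e * x * e⁻¹) * e⁻¹) = 1 := by
    unfold Aa at hx
    induction hx using closure_induction with
    | mem x hx =>
      obtain ⟨w, hw, rfl⟩ := hx
      have h1 := h.equiv he hw (hV ha)
      have h2 := h.equiv he hw (hV hb)
      rw [hab] at h1
      rw [hbc] at h2
      rw [h1, h2]
      refine ⟨mem_BB hw ha, mem_BB hw hb, mem_BB hw hc, ?_⟩
      calc w * a * w⁻¹ * (w * b * w⁻¹) * (w * c * w⁻¹) = w * (a * b * c) * w⁻¹ := by group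
        _ = 1 := by rw [habc]; group
    | one =>
      have h1 : e * 1 * e⁻¹ = 1 := by group
      rw [h1, h1]
      exact ⟨one_mem _, one_mem _, one_mem _, by group⟩
    | mul x y _ _ hx hy =>
      obtain ⟨hx1, hx2, hx3, hx4⟩ := hx
      obtain ⟨hy1, hy2, hy3, hy4⟩ := hy
      set x' := e * x * e⁻¹ with hx'
      set x'' := e * x' * e⁻¹ with hx''
      set y' := e * y * e⁻¹ with hy'
      set y'' := e * y' * e⁻¹ with hy''
      have e1 : e * (x * y) * e⁻¹ = x' * y' := by rw [hx', hy']; group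
      have e2 : e * (x' * y') * e⁻¹ = x'' * y'' := by rw [hx'', hy'']; group
      rw [e1, e2]
      refine ⟨mul_mem hx1 hy1, mul_mem hx2 hy2, mul_mem hx3 hy3, ?_⟩
      calc x * y * (x' * y') * (x'' * y'') = x * (y * x') * (y' * x'') * y'' := by group
        _ = x * (x' * y) * (x'' * y') * y'' := by rw [BB_comm h hy1 hx2, BB_comm h hy2 hx3]
        _ = x * x' * (y * x'') * y' * y'' := by group
        _ = x * x' * (x'' * y) * y' * y'' := by rw [BB_comm h hy1 hx3]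
        _ = (x * x' * x'') * (y * y' * y'') := by group
        _ = 1 := by rw [hx4, hy4, one_mul]
    | inv x _ hx =>
      obtain ⟨hx1, hx2, hx3, hx4⟩ := hx
      set x' := e * x * e⁻¹ with hx'
      set x'' := e * x' * e⁻¹ with hx''
      have e1 : e * x⁻¹ * e⁻¹ = x'⁻¹ := by rw [hx']; group
      have e2 : e * x'⁻¹ * e⁻¹ = x''⁻¹ := by rw [hx'']; group
      rw [e1, e2]
      refine ⟨inv_mem hx1, inv_mem hx2, inv_mem hx3, ?_⟩
      calc x⁻¹ * x'⁻¹ * x''⁻¹ = (x'' * (x' * x))⁻¹ := by group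
        _ = (x * x' * x'')⁻¹ := by rw [BB_comm h hx2 hx1, BB_comm h hx3 (mul_mem hx1 hx2)]
        _ = 1 := by rw [hx4, inv_one]
  exact key.2.2.2

end BB

/-! ### The theorem -/

theorem exists_kl' : ∀ i j : Fin (2 ^ 2 + 1), i ≠ 0 → j ≠ 0 → i ≠ j →
    ∃ k l : Fin (2 ^ 2 + 1), k ≠ l ∧ k ≠ 0 ∧ l ≠ 0 ∧ (k ≠ i ∧ k ≠ j) ∧ (l ≠ i ∧ l ≠ j) ∧
    ∀ a : Fin (2 ^ 2 + 1), a = 0 ∨ a = i ∨ a = j ∨ a = k ∨ a = l := by
  decide

section two

variable {V P W : Subgroup G} {S : Sylow 2 G} {ε : (Fin (2 ^ 2 + 1) → ZMod 2) → G}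
  {i j : Fin (2 ^ 2 + 1)} (h : Hyp (m := 2) V P (S : Subgroup G) W ε i j)
include h

/-- the other two letters -/
theorem exists_kl : ∃ k l : Fin (2 ^ 2 + 1), k ≠ l ∧ k ≠ 0 ∧ l ≠ 0 ∧ (k ≠ i ∧ k ≠ j) ∧ (l ≠ i ∧ l ≠ j) ∧
    ∀ a : Fin (2 ^ 2 + 1), a = 0 ∨ a = i ∨ a = j ∨ a = k ∨ a = l :=
  exists_kl' i j h.i_ne_zero h.j_ne_zero h.ne

/-- **The theorem**: `W ≤ C_S(r_ij)`. -/
theorem le_T [Finite G] {z : G}
    (hz : ∀ x : G, x * x = 1 → (∀ s ∈ (S : Subgroup G), s * x = x * s) → x = 1 ∨ x = z) :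
    W ≤ (S : Subgroup G) ⊓ centralizer ({rr ε i j} : Set G) := by
  classical
  have h2 : Fact (Nat.Prime 2) := ⟨Nat.prime_two⟩
  have hev := h.even
  set T := (S : Subgroup G) ⊓ centralizer ({rr ε i j} : Set G) with hT
  by_contra hWT
  obtain ⟨k, l, hkl, hk0, hl0, hk, hl, hall⟩ := exists_kl h
  -- `W ⊔ T` is a Sylow 2-subgroup
  have hTW : T ≤ normalizer (W : Set G) := inf_le_right.trans h.norm
  have hTp : IsPGroup 2 T := h.isP.to_le inf_le_left
  have hp : IsPGroup 2 (W ⊔ T : Subgroup G) := h.isPW.to_sup_of_normal_left' hTp hTW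
  have hcard : Nat.card (S : Subgroup G) ≤ Nat.card (W ⊔ T : Subgroup G) := by
    have h4 := Hyp.card_sup_mul' hTW
    have h5 : Nat.card T * T.relIndex S = Nat.card (S : Subgroup G) := Hyp.card_mul_relIndex' inf_le_left
    have h6 : Nat.card (W ⊓ T : Subgroup G) * (W ⊓ T).relIndex W = Nat.card W :=
      Hyp.card_mul_relIndex' inf_le_left
    rw [inf_relIndex_left] at h6
    have h7 : T.relIndex S ≤ 2 := h.relIndex_S_le
    have h8 : 2 ≤ T.relIndex W := by
      have h9 : T.relIndex W ≠ 0 := by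
        rw [relIndex]
        exact FiniteIndex.index_ne_zero
      have h10 : T.relIndex W ≠ 1 := fun h0 => hWT (relIndex_eq_one.mp h0)
      omega
    have hWpos : 0 < Nat.card (W ⊓ T : Subgroup G) := Nat.card_pos
    refine Nat.le_of_mul_le_mul_right (c := Nat.card (W ⊓ T : Subgroup G)) ?_ hWpos
    calc Nat.card (S : Subgroup G) * Nat.card (W ⊓ T : Subgroup G)
        = Nat.card T * T.relIndex S * Nat.card (W ⊓ T : Subgroup G) := by rw [h5]
      _ ≤ Nat.card T * T.relIndex W * Nat.card (W ⊓ T : Subgroup G) :=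
          Nat.mul_le_mul_right _ (Nat.mul_le_mul_left _ (h7.trans h8))
      _ = (Nat.card (W ⊓ T : Subgroup G) * T.relIndex W) * Nat.card T := by ring
      _ = _ := by rw [h6, h4]
  -- the vector `a = r_kl`
  have ha : rr ε k l ∈ V0 ε i j := mul_mem (subset_closure ⟨k, hk.1, hk.2, rfl⟩)
    (subset_closure ⟨l, hl.1, hl.2, rfl⟩)
  have h0ij : (0 : Fin (2 ^ 2 + 1)) ≠ i ∧ (0 : Fin (2 ^ 2 + 1)) ≠ j := ⟨h.i_ne_zero.symm, h.j_ne_zero.symm⟩
  have hz0 : zz ε 0 ∈ V0 ε i j := subset_closure ⟨0, h0ij.1, h0ij.2, rfl⟩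
  have hb : rr ε l 0 ∈ V0 ε i j := mul_mem (subset_closure ⟨l, hl.1, hl.2, rfl⟩) hz0
  have hc : rr ε 0 k ∈ V0 ε i j := mul_mem hz0 (subset_closure ⟨k, hk.1, hk.2, rfl⟩)
  have hfixa : ∀ t ∈ T, t * rr ε k l * t⁻¹ = rr ε k l := by
    intro t ht
    obtain ⟨σ, hσ⟩ := hev.perm t (h.le ht.1)
    have hs0 := h.fix0 t ht.1 σ hσ
    have hpair := h.pair_of_acts hσ (mem_centralizer_singleton_iff.mp ht.2)
    have hoff : ∀ a : Fin (2 ^ 2 + 1), a ≠ 0 → a ≠ i → a ≠ j → σ a ≠ 0 ∧ σ a ≠ i ∧ σ a ≠ j := by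
      intro a ha0 hai haj
      refine ⟨fun h0 => ha0 (σ.injective (h0.trans hs0.symm)), ?_, ?_⟩
      · intro h0
        rcases hpair with ⟨h1, -⟩ | ⟨-, h1⟩
        · exact hai (σ.injective (h0.trans h1.symm))
        · exact haj (σ.injective (h0.trans h1.symm))
      · intro h0
        rcases hpair with ⟨-, h1⟩ | ⟨h1, -⟩
        · exact haj (σ.injective (h0.trans h1.symm))
        · exact hai (σ.injective (h0.trans h1.symm))
    have hk' := hoff k hk0 hk.1 hk.2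
    have hl' := hoff l hl0 hl.1 hl.2
    have hk'' : σ k = k ∨ σ k = l := by
      rcases hall (σ k) with h1 | h1 | h1 | h1 | h1
      · exact absurd h1 hk'.1
      · exact absurd h1 hk'.2.1
      · exact absurd h1 hk'.2.2
      · exact Or.inl h1
      · exact Or.inr h1
    have hl'' : σ l = k ∨ σ l = l := by
      rcases hall (σ l) with h1 | h1 | h1 | h1 | h1
      · exact absurd h1 hl'.1
      · exact absurd h1 hl'.2.1
      · exact absurd h1 hl'.2.2
      · exact Or.inl h1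
      · exact Or.inr h1
    rw [rr_conj hσ]
    rcases hk'' with h1 | h1 <;> rcases hl'' with h3 | h3
    · exact absurd (σ.injective (h1.trans h3.symm)) hkl
    · rw [h1, h3]
    · rw [h1, h3, rr_symm hev]
    · exact absurd (σ.injective (h1.trans h3.symm)) hkl
  -- `W ⊔ T` normalises `⟨a^W⟩`
  have hWn : W ≤ normalizer (Aa W (rr ε k l) : Set G) := by
    have key : ∀ g ∈ W, ∀ x ∈ Aa W (rr ε k l), g * x * g⁻¹ ∈ Aa W (rr ε k l) := by
      intro g hg x hx
      unfold Aa at hx ⊢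
      induction hx using closure_induction with
      | mem x hx =>
        obtain ⟨w, hw, rfl⟩ := hx
        exact subset_closure ⟨g * w, mul_mem hg hw, by group⟩
      | one => rw [mul_one, mul_inv_cancel]; exact one_mem _
      | mul x y _ _ hx hy =>
        have : g * (x * y) * g⁻¹ = (g * x * g⁻¹) * (g * y * g⁻¹) := by group
        rw [this]; exact mul_mem hx hy
      | inv x _ hx =>
        have : g * x⁻¹ * g⁻¹ = (g * x * g⁻¹)⁻¹ := by group
        rw [this]; exact inv_mem hx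
    intro g hg
    rw [mem_normalizer_iff]
    refine fun x => ⟨key g hg x, fun hx => ?_⟩
    have h1 := key g⁻¹ (inv_mem hg) _ hx
    have h3 : g⁻¹ * (g * x * g⁻¹) * g⁻¹⁻¹ = x := by group
    rwa [h3] at h1
  have hTn : T ≤ normalizer (Aa W (rr ε k l) : Set G) := by
    have key : ∀ g ∈ T, ∀ x ∈ Aa W (rr ε k l), g * x * g⁻¹ ∈ Aa W (rr ε k l) := by
      intro g hg x hx
      unfold Aa at hx ⊢
      induction hx using closure_induction with
      | mem x hx =>
        obtain ⟨w, hw, rfl⟩ := hx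
        refine subset_closure ⟨g * w * g⁻¹, h.conjW hg.2 hw, ?_⟩
        calc g * (w * rr ε k l * w⁻¹) * g⁻¹
            = g * w * g⁻¹ * (g * rr ε k l * g⁻¹) * (g * w * g⁻¹)⁻¹ := by group
          _ = _ := by rw [hfixa g hg]
      | one => rw [mul_one, mul_inv_cancel]; exact one_mem _
      | mul x y _ _ hx hy =>
        have : g * (x * y) * g⁻¹ = (g * x * g⁻¹) * (g * y * g⁻¹) := by group
        rw [this]; exact mul_mem hx hy
      | inv x _ hx =>
        have : g * x⁻¹ * g⁻¹ = (g * x * g⁻¹)⁻¹ := by group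
        rw [this]; exact inv_mem hx
    intro g hg
    rw [mem_normalizer_iff]
    refine fun x => ⟨key g hg x, fun hx => ?_⟩
    have h1 := key g⁻¹ (inv_mem hg) _ hx
    have h3 : g⁻¹ * (g * x * g⁻¹) * g⁻¹⁻¹ = x := by group
    rwa [h3] at h1
  have hA2 : IsPGroup 2 (Aa W (rr ε k l)) := by
    intro x
    refine ⟨1, Subtype.ext ?_⟩
    have h1 := Aa_sq h ha x.2
    rw [← pow_two] at h1
    simpa using h1
  have haA : rr ε k l ∈ Aa W (rr ε k l) := subset_closure ⟨1, one_mem _, by group⟩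
  have hAne : Aa W (rr ε k l) ≠ ⊥ := by
    intro h0
    rw [h0, mem_bot] at haA
    exact rr_ne_one hev h.three hkl haA
  have hfix := Cfsg.Agent.PLocal.OffenderStep.inf_centralizer_ne_bot _ _ hA2 hp (sup_le hWn hTn) hAne
  rcases Subgroup.bot_or_exists_ne_one (Aa W (rr ε k l) ⊓ centralizer ((W ⊔ T : Subgroup G) : Set G)) with
    h0 | ⟨x, hx, hx1⟩
  · exact hfix h0
  -- `x = r_ij`
  have hxr : x = rr ε i j := by
    refine uniq S hz hp hcard (Aa_sq h ha hx.1) hx1 (mem_centralizer_iff.mp hx.2) (rr_sq hev i j)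
      (rr_ne_one hev h.three h.ne) ?_
    have h1 : W ⊔ T ≤ centralizer ({rr ε i j} : Set G) := sup_le h.leW inf_le_right
    intro t ht
    exact mem_centralizer_singleton_iff.mp (h1 ht)
  obtain ⟨e, he, he1, he2, he3⟩ := h.cycle_mem_E hk hl h0ij hkl hk0 hl0
  have hab : e * rr ε k l * e⁻¹ = rr ε l 0 := by
    unfold rr
    rw [← he2]
    nth_rewrite 2 [← he1]
    group
  have hbc : e * rr ε l 0 * e⁻¹ = rr ε 0 k := by
    unfold rr
    rw [← he3]
    nth_rewrite 2 [← he2]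
    group
  have habc : rr ε k l * rr ε l 0 * rr ε 0 k = 1 := by
    rw [rr_add hev, rr_add hev]
    exact zz_sq hev k
  have h3 := Aa_cyc h ha hb hc he hab hbc habc hx.1
  rw [hxr] at h3
  have h4 : e * rr ε i j * e⁻¹ = rr ε i j := by
    have h5 := (Hyp.mem_A.mp he.1).2
    rw [h5, mul_inv_cancel_right]
  rw [h4, h4, rr_sq hev, one_mul] at h3
  exact rr_ne_one hev h.three h.ne h3

/-- `W` acts on `V` as a subgroup of `⟨(i j)⟩`. -/
theorem acts [Finite G] {z : G}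
    (hz : ∀ x : G, x * x = 1 → (∀ s ∈ (S : Subgroup G), s * x = x * s) → x = 1 ∨ x = z) {w : G} (hw : w ∈ W) :
    w ∈ P ∧ (Acts ε w 1 ∨ Acts ε w (Equiv.swap i j)) := by
  have h1 : w ∈ P := h.le ((le_T h hz) hw).1
  exact ⟨h1, h.acts_WP ⟨hw, h1⟩⟩

/-- `[W, V] ≤ ⟨r_ij⟩` -/
theorem comm_eq [Finite G] {z : G}
    (hz : ∀ x : G, x * x = 1 → (∀ s ∈ (S : Subgroup G), s * x = x * s) → x = 1 ∨ x = z) {w v : G} (hw : w ∈ W)
    (hv : v ∈ V) : v * w * v⁻¹ = w ∨ v * w * v⁻¹ = w * rr ε i j := by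
  rcases (acts h hz hw).2 with h1 | h1
  · left
    have h2 := mem_centralizer_iff.mp (h.even.acts_one_iff.mp h1) v hv
    rw [h2, mul_inv_cancel_right]
  · have h2 : w * v * w⁻¹ = v ∨ w * v * w⁻¹ = v * rr ε i j := by
      obtain ⟨u, rfl⟩ := h.even.surj v hv
      obtain ⟨h3, h4⟩ := Cfsg.Agent.Omega.S5.Pair.acts_swap h.even h1 u
      by_cases hu : u i = u j
      · left
        rw [h3 hu, mul_inv_cancel_right]
      · right
        rw [h4 hu, h.even.add]
        rfl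
    rcases h2 with h2 | h2
    · left
      have h3 : w * v = v * w := by
        calc w * v = w * v * w⁻¹ * w := by group
          _ = v * w := by rw [h2]
      rw [← h3, mul_inv_cancel_right]
    · right
      have hwr : w * rr ε i j = rr ε i j * w := mem_centralizer_singleton_iff.mp (h.leW hw)
      have hv1 : v⁻¹ = v := inv_eq_of_mul_eq_one_left (h.even.sq_mem hv)
      calc v * w * v⁻¹ = v * (w * v * w⁻¹) * w := by rw [hv1]; group
        _ = (v * v) * (rr ε i j * w) := by rw [h2]; group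
        _ = w * rr ε i j := by rw [h.even.sq_mem hv, one_mul, hwr]

end two

end Cfsg.Agent.Omega.NSix.TwoSup
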