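import Cfsg.Agent.Omega.NSix.EndL
import Cfsg.Agent.MinSimple.Geo
import Cfsg.Agent.Omega.S5.Syl
import Cfsg.Agent.Omega.MinPar

/-!
# OMEGA N6, (0): `(H1)`, `(H2)`, `(N)` ⇒ `SixL`

`WP ε i j = {g ∈ C_G(r_ij) : [O₂(C_G(r_ij)), g] ≤ ⟨r_ij⟩}`.
`Zero.sixL`: in a group of characteristic 2 type, `EvenSet (2^m+1) V P ε`, `S ≤ P` a Sylow
2-subgroup of `G` with `Fix0 ε S` and `Ω₁(Z(S)) ≤ V`, `O₂(C_G(r_ij))` is in `P` and commutes with the
points off `i`, `j`, `U_ij ≤ O₂(C_G(r_kl))` for disjoint pairs, and some element of some `WP ε i j`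
does not centralise `V`: then `SixL V P S ε (WP ε)`.
-/

set_option autoImplicit false

namespace Cfsg.Agent.Omega.NSix.Zero

open Subgroup Cfsg
open Cfsg.Agent.ZN (o2 zc)
open Cfsg.Agent.MinSimple.VModule (o2_le o2_isPGroup le_normalizer_o2 le_o2 mem_zc)
open Cfsg.Agent.MinSimple.Geo (mem_o2_of_stab inf_centralizer_o2_le isTwoLocal_centralizer)
open Cfsg.Agent.Omega.S5.Def Cfsg.Agent.Omega.S5.Syl
open Cfsg.Agent.Omega.NSix.Base Cfsg.Agent.Omega.NSix.Basic
open Cfsg.Agent.Omega.NSix.One Cfsg.Agent.Omega.NSix.End Cfsg.Agent.Omega.NSix.Mat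
open Cfsg.Agent.Omega.NSix.EndL

universe u

variable {G : Type u} [Group G] {n : ℕ} {V P : Subgroup G} {ε : (Fin n → ZMod 2) → G}

/-- the elements of `C_G(r_ij)` centralising `O₂(C_G(r_ij)) / ⟨r_ij⟩`, for a pair which is an
involution -/
def WP (ε : (Fin n → ZMod 2) → G) (i j : Fin n) : Subgroup G where
  carrier := {g | g ∈ NN ε i j ∧ ∀ q ∈ o2 (NN ε i j), g * q * g⁻¹ * q⁻¹ ∈ zpowers (rr ε i j)}
  one_mem' := ⟨one_mem _, fun q _ => by
    have : (1 : G) * q * 1⁻¹ * q⁻¹ = 1 := by group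
    rw [this]; exact one_mem _⟩
  mul_mem' := by
    rintro a b ⟨ha, ha1⟩ ⟨hb, hb1⟩
    refine ⟨mul_mem ha hb, fun q hq => ?_⟩
    have h1 : b * q * b⁻¹ ∈ o2 (NN ε i j) := (mem_normalizer_iff.mp (le_normalizer_o2 _ hb) q).mp hq
    have h2 : a * b * q * (a * b)⁻¹ * q⁻¹ =
        (a * (b * q * b⁻¹) * a⁻¹ * (b * q * b⁻¹)⁻¹) * (b * q * b⁻¹ * q⁻¹) := by group
    rw [h2]
    exact mul_mem (ha1 _ h1) (hb1 _ hq)
  inv_mem' := by
    rintro a ⟨ha, ha1⟩
    refine ⟨inv_mem ha, fun q hq => ?_⟩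
    have h1 : a⁻¹ * q * a ∈ o2 (NN ε i j) := by
      have := (mem_normalizer_iff.mp (le_normalizer_o2 _ (inv_mem ha)) q).mp hq
      rwa [inv_inv] at this
    have h2 := inv_mem (ha1 _ h1)
    have h3 : (a * (a⁻¹ * q * a) * a⁻¹ * (a⁻¹ * q * a)⁻¹)⁻¹ = a⁻¹ * q * a * q⁻¹ := by group
    rw [h3] at h2
    rwa [inv_inv]

theorem mem_WP {i j : Fin n} {g : G} : g ∈ WP ε i j ↔ g ∈ NN ε i j ∧
    ∀ q ∈ o2 (NN ε i j), g * q * g⁻¹ * q⁻¹ ∈ zpowers (rr ε i j) := Iff.rfl

theorem zpow_cases {r : G} (hr : r * r = 1) {x : G} (hx : x ∈ zpowers r) : x = 1 ∨ x = r := by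
  obtain ⟨k, rfl⟩ := mem_zpowers_iff.mp hx
  rcases Int.even_or_odd k with ⟨t, ht⟩ | ⟨t, ht⟩
  · left
    rw [ht, ← two_mul, zpow_mul, zpow_two, hr, one_zpow]
  · right
    rw [ht, zpow_add, zpow_mul, zpow_two, hr, one_zpow, one_mul, zpow_one]

theorem z2_ne : ∀ a b : ZMod 2, a ≠ b → b = a + 1 := by decide

/-- `O₂` of a conjugate -/
theorem o2_conj {X Y : Subgroup G} {g : G} (h1 : ∀ x ∈ X, g * x * g⁻¹ ∈ Y)
    (h2 : ∀ y ∈ Y, g⁻¹ * y * g ∈ X) {x : G} (hx : x ∈ o2 X) : g * x * g⁻¹ ∈ o2 Y := by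
  have h3 : (o2 X).map (MulAut.conj g).toMonoidHom ≤ o2 Y := by
    apply le_o2
    · rintro _ ⟨y, hy, rfl⟩
      exact h1 y (o2_le X hy)
    · exact (o2_isPGroup X).map _
    · have key : ∀ l ∈ Y, ∀ y ∈ (o2 X).map (MulAut.conj g).toMonoidHom,
          l * y * l⁻¹ ∈ (o2 X).map (MulAut.conj g).toMonoidHom := by
        rintro l hl _ ⟨y, hy, rfl⟩
        refine ⟨(g⁻¹ * l * g) * y * (g⁻¹ * l * g)⁻¹,
          (mem_normalizer_iff.mp (le_normalizer_o2 X (h2 l hl)) y).mp hy, ?_⟩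
        change g * ((g⁻¹ * l * g) * y * (g⁻¹ * l * g)⁻¹) * g⁻¹ = l * (g * y * g⁻¹) * l⁻¹
        group
      intro l hl
      rw [mem_normalizer_iff]
      refine fun y => ⟨key l hl y, fun hy => ?_⟩
      have := key l⁻¹ (inv_mem hl) _ hy
      have h3 : l⁻¹ * (l * y * l⁻¹) * l⁻¹⁻¹ = y := by group
      rwa [h3] at this
  exact h3 ⟨x, hx, rfl⟩

theorem o2_NN_conj {g : G} {σ : Equiv.Perm (Fin n)} (hg : Acts ε g σ) {i j : Fin n} {x : G}
    (hx : x ∈ o2 (NN ε i j)) : g * x * g⁻¹ ∈ o2 (NN ε (σ i) (σ j)) := by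
  refine o2_conj (fun x hx => conj_NN hg hx) (fun y hy => ?_) hx
  have h1 := conj_NN hg.inv hy
  have e : ∀ m, σ⁻¹ (σ m) = m := fun m => σ.symm_apply_apply m
  rwa [e, e, inv_inv] at h1

theorem WP_conj {g : G} {σ : Equiv.Perm (Fin n)} (hg : Acts ε g σ) {i j : Fin n} {x : G}
    (hx : x ∈ WP ε i j) : g * x * g⁻¹ ∈ WP ε (σ i) (σ j) := by
  rw [mem_WP] at hx ⊢
  refine ⟨conj_NN hg hx.1, fun q hq => ?_⟩
  have h1 : g⁻¹ * q * g ∈ o2 (NN ε i j) := by
    have h1 := o2_NN_conj hg.inv hq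
    have e : ∀ m, σ⁻¹ (σ m) = m := fun m => σ.symm_apply_apply m
    rwa [e, e, inv_inv] at h1
  have h2 := hx.2 _ h1
  obtain ⟨k, hk⟩ := mem_zpowers_iff.mp h2
  rw [mem_zpowers_iff]
  refine ⟨k, ?_⟩
  rw [← rr_conj hg, conj_zpow, hk]
  group

theorem WP_norm {i j : Fin n} {g x : G} (hg : g ∈ NN ε i j) (hx : x ∈ WP ε i j) :
    g * x * g⁻¹ ∈ WP ε i j := by
  rw [mem_WP] at hx ⊢
  refine ⟨mul_mem (mul_mem hg hx.1) (inv_mem hg), fun q hq => ?_⟩
  have h1 : g⁻¹ * q * g ∈ o2 (NN ε i j) := by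
    have := (mem_normalizer_iff.mp (le_normalizer_o2 _ (inv_mem hg)) q).mp hq
    rwa [inv_inv] at this
  have h2 := hx.2 _ h1
  obtain ⟨k, hk⟩ := mem_zpowers_iff.mp h2
  rw [mem_zpowers_iff]
  refine ⟨k, ?_⟩
  have h3 := mem_NN'.mp hg
  calc rr ε i j ^ k = (g * rr ε i j * g⁻¹) ^ k := by rw [h3]
    _ = g * rr ε i j ^ k * g⁻¹ := by rw [conj_zpow]
    _ = _ := by rw [hk]; group

/-- a Sylow 2-subgroup commutes with a perfect matching -/
theorem exists_mat [Finite G] {m : ℕ} (hm : 1 ≤ m) {ε : (Fin (2 ^ m + 1) → ZMod 2) → G}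
    (h : EvenSet (2 ^ m + 1) V P ε) (S : Sylow 2 G) (hS : (S : Subgroup G) ≤ P)
    (h0 : Fix0 ε (S : Subgroup G)) :
    ∃ (μ : Equiv.Perm (Fin (2 ^ m + 1))) (o : Fin (2 ^ m + 1)), IsMat μ o ∧
      ∀ s ∈ (S : Subgroup G), ∀ σ, Acts ε s σ → σ * μ = μ * σ := by
  have h2 : Fact (Nat.Prime 2) := ⟨Nat.prime_two⟩
  have hn := three_le hm
  let f : (S : Subgroup G) →* Equiv.Perm (Fin (2 ^ m + 1)) :=
    (h.hom hn).comp (Subgroup.inclusion hS)
  have hf : ∀ (s : G) (hs : s ∈ (S : Subgroup G)), Acts ε s (f ⟨s, hs⟩) := fun s hs =>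
    h.acts_hom hn ⟨s, hS hs⟩
  let T := f.range
  have hT : IsPGroup 2 T := S.isPGroup'.of_surjective f.rangeRestrict f.rangeRestrict_surjective
  have hS2 : ∀ i j : Fin (2 ^ m + 1), i ≠ 0 → j ≠ 0 → ∃ σ ∈ T, σ i = j := by
    intro i j hi hj
    obtain ⟨s, hs, σ, hσ, hij⟩ :=
      trans hm h hS (MinSimple.Basic.not_dvd_relIndex S hS) h0 hi hj
    refine ⟨σ, ⟨⟨s, hs⟩, ?_⟩, hij⟩
    exact h.acts_unique hn (hf s hs) hσ
  have hnt : Nontrivial T := by
    have h1 : (⟨1, by omega⟩ : Fin (2 ^ m + 1)) ≠ 0 := by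
      intro h; simp [Fin.ext_iff] at h
    have h2 : (⟨2, by omega⟩ : Fin (2 ^ m + 1)) ≠ 0 := by
      intro h; simp [Fin.ext_iff] at h
    obtain ⟨σ, hσ, h3⟩ := hS2 _ _ h1 h2
    refine ⟨⟨⟨σ, hσ⟩, 1, fun h4 => ?_⟩⟩
    have h5 : σ = 1 := congrArg Subtype.val h4
    rw [h5] at h3
    simp [Fin.ext_iff] at h3
  have hcn := hT.center_nontrivial
  have hdvd : 2 ∣ Nat.card (center T) := by
    rcases (hT.to_subgroup (center T)).card_eq_or_dvd with h1 | h1
    · exact absurd h1 (Nat.card_eq_one_iff_unique.not.mpr fun h => by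
        obtain ⟨h2, -⟩ := h
        exact not_nontrivial_iff_subsingleton.mpr h2 hcn)
    · exact h1
  obtain ⟨z, hz⟩ := exists_prime_orderOf_dvd_card' 2 hdvd
  set μ : Equiv.Perm (Fin (2 ^ m + 1)) := ((z : T) : Equiv.Perm (Fin (2 ^ m + 1))) with hμ
  have hμT : μ ∈ T := (z : T).2
  have hcomm : ∀ σ ∈ T, σ * μ = μ * σ := by
    intro σ hσ
    have h1 := mem_center_iff.mp z.2 ⟨σ, hσ⟩
    exact congrArg Subtype.val h1
  have hμ2 : μ * μ = 1 := by
    have h1 : z * z = 1 := by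
      rw [← pow_two]
      exact orderOf_dvd_iff_pow_eq_one.mp (by rw [hz])
    have h2 := congrArg (fun x : center T => ((x : T) : Equiv.Perm (Fin (2 ^ m + 1)))) h1
    exact h2
  have hμ1 : μ ≠ 1 := by
    intro h1
    have h2 : z = 1 := Subtype.ext (Subtype.ext h1)
    rw [h2, orderOf_one] at hz
    exact absurd hz (by decide)
  have hμ0 : μ 0 = 0 := by
    obtain ⟨⟨s, hs⟩, hsμ⟩ := hμT
    have h1 := hf s hs
    rw [hsμ] at h1
    exact h0 s hs μ h1
  refine ⟨μ, 0, ⟨fun x => ?_, fun x => ⟨fun hx => ?_, fun hx => ?_⟩⟩, ?_⟩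
  · exact DFunLike.congr_fun hμ2 x
  · by_contra hx0
    apply hμ1
    ext y
    by_cases hy : y = 0
    · rw [hy, hμ0]; rfl
    · obtain ⟨σ, hσ, hxy⟩ := hS2 x y hx0 hy
      have h1 := DFunLike.congr_fun (hcomm σ hσ) x
      rw [Equiv.Perm.mul_apply, Equiv.Perm.mul_apply, hx, hxy] at h1
      rw [← h1]
      rfl
  · rw [hx, hμ0]
  · intro s hs σ hσ
    refine hcomm σ ⟨⟨s, hs⟩, ?_⟩
    exact h.acts_unique hn (hf s hs) hσ

/-- **(0)** -/
theorem sixL [Finite G] (hG : IsCharacteristicTwoType G) {m : ℕ} (hm : 3 ≤ m)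
    {ε : (Fin (2 ^ m + 1) → ZMod 2) → G} (h : EvenSet (2 ^ m + 1) V P ε) (S : Sylow 2 G)
    (hS : (S : Subgroup G) ≤ P) (h0 : Fix0 ε (S : Subgroup G)) (hZ : zc (S : Subgroup G) ≤ V)
    (hpair : ∀ i j k, i ≠ j → k ≠ i → k ≠ j → ∀ q ∈ o2 (NN ε i j), q * zz ε k = zz ε k * q)
    (hle : ∀ i j, i ≠ j → o2 (NN ε i j) ≤ P)
    (hq : ∀ i j k l, i ≠ j → k ≠ l → i ≠ k → i ≠ l → j ≠ k → j ≠ l →
      UU ε i j ≤ o2 (NN ε k l))
    (hN : ∃ i j, i ≠ j ∧ ∃ g ∈ WP ε i j, ¬ g ∈ centralizer (V : Set G)) :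
    SixL V P S ε (WP ε) := by
  have hm1 : 1 ≤ m := by omega
  have hn3 := three_le hm1
  have hn7 : 7 ≤ 2 ^ m + 1 := by
    have : 2 ^ 3 ≤ 2 ^ m := Nat.pow_le_pow_right (by norm_num) hm
    omega
  have hodd : Odd (2 ^ m + 1) := by
    refine Even.add_one ?_
    exact (Nat.even_pow.mpr ⟨even_two, by omega⟩)
  have hrr : ∀ i j, i ≠ j → rr ε i j * rr ε i j = 1 ∧ rr ε i j ≠ 1 := fun i j hij =>
    ⟨rr_sq h i j, rr_ne_one h hn3 hij⟩
  -- `WP ≤ O₂(N)`
  have hWQ : ∀ i j, i ≠ j → WP ε i j ≤ o2 (NN ε i j) := by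
    intro i j hij g hg
    exact mem_o2_of_stab hG (hrr i j hij).1 (hrr i j hij).2 hg.1 hg.2
  -- `O₂(N)` acts as `⟨(i j)⟩`
  have hQact : ∀ i j, i ≠ j → ∀ q ∈ o2 (NN ε i j), Acts ε q 1 ∨ Acts ε q (Equiv.swap i j) := by
    intro i j hij q hqQ
    obtain ⟨σ, hσ⟩ := h.perm q (hle i j hij hqQ)
    have hfix : ∀ k, k ≠ i → k ≠ j → σ k = k := by
      intro k h1 h2
      apply h.single_inj hn3
      have h3 := hpair i j k hij h1 h2 q hqQ
      have h4 := zz_conj hσ k
      rw [h3, mul_inv_cancel_right] at h4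
      exact h4.symm
    have hdich : σ = 1 ∨ σ = Equiv.swap i j := by
      have hpres : σ i = i ∨ σ i = j := by
        by_contra hc
        rw [not_or] at hc
        have h1 := hfix _ hc.1 hc.2
        exact hc.1 (σ.injective h1)
      have hpres' : σ j = i ∨ σ j = j := by
        by_contra hc
        rw [not_or] at hc
        have h1 := hfix _ hc.1 hc.2
        exact hc.2 (σ.injective h1)
      rcases hpres with h1 | h1
      · left
        have h2 : σ j = j := hpres'.resolve_left fun h2 => hij (σ.injective (h1.trans h2.symm))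
        ext k
        by_cases hk1 : k = i
        · rw [hk1, h1]; rfl
        by_cases hk2 : k = j
        · rw [hk2, h2]; rfl
        rw [hfix k hk1 hk2]; rfl
      · right
        have h2 : σ j = i := hpres'.resolve_right fun h2 => hij (σ.injective (h1.trans h2.symm))
        ext k
        by_cases hk1 : k = i
        · rw [hk1, h1, Equiv.swap_apply_left]
        by_cases hk2 : k = j
        · rw [hk2, h2, Equiv.swap_apply_right]
        rw [hfix k hk1 hk2, Equiv.swap_apply_of_ne_of_ne hk1 hk2]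
    rcases hdich with h1 | h1
    · left; rwa [h1] at hσ
    · right; rwa [h1] at hσ
  -- `O₂(N)` commutes with `U`
  have hUQ : ∀ i j, i ≠ j → ∀ u ∈ UU ε i j, ∀ q ∈ o2 (NN ε i j), u * q = q * u := by
    intro i j hij u hu
    unfold UU at hu
    induction hu using closure_induction with
    | mem x hx =>
      obtain ⟨g, hg, k, h1, h2, rfl⟩ := hx
      intro q hqQ
      have h3 : g⁻¹ * q * g ∈ o2 (NN ε i j) := by
        have := (mem_normalizer_iff.mp (le_normalizer_o2 _ (inv_mem hg)) q).mp hqQ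
        rwa [inv_inv] at this
      have h4 := hpair i j k hij h1 h2 _ h3
      calc g * zz ε k * g⁻¹ * q = g * (zz ε k * (g⁻¹ * q * g)) * g⁻¹ := by group
        _ = g * ((g⁻¹ * q * g) * zz ε k) * g⁻¹ := by rw [h4]
        _ = _ := by group
    | one => intro q _; rw [one_mul, mul_one]
    | mul x y _ _ hx hy =>
      intro q hqQ
      rw [mul_assoc, hy q hqQ, ← mul_assoc, hx q hqQ, mul_assoc]
    | inv x _ hx =>
      intro q hqQ
      rw [inv_mul_eq_iff_eq_mul, ← mul_assoc, hx q hqQ, mul_inv_cancel_right]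
  have hWact : ∀ i j, i ≠ j → ∀ x ∈ o2 (NN ε i j), ∀ w ∈ WP ε i j,
      w * x * w⁻¹ = x ∨ w * x * w⁻¹ = x * rr ε i j := by
    intro i j hij x hx w hw
    rcases zpow_cases (hrr i j hij).1 (hw.2 x hx) with h1 | h1
    · left
      rwa [mul_inv_eq_one] at h1
    · right
      rw [mul_inv_eq_iff_eq_mul] at h1
      rw [h1]
      exact (mem_NN.mp (o2_le _ hx)).symm
  refine
    { ev := h
      Vle := ?_
      wn := fun i j _ g hg x hx => WP_norm hg hx
      wc := fun g σ hg i j _ x hx => WP_conj hg hx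
      cen := fun i j hij u hu w hw => hUQ i j hij u hu w (hWQ i j hij hw)
      act := fun i j hij w hw => hQact i j hij w (hWQ i j hij hw)
      mov := ?_
      tra := fun i j k l hij hkl h1 h2 h3 h4 u hu w hw =>
        hWact k l hkl u (hq i j k l hij hkl h1 h2 h3 h4 hu) w hw
      min := ?_
      hq := hq
      qc := hWact
      le := hS
      two := fun i j hij => (o2_isPGroup (NN ε i j)).to_le (hWQ i j hij)
      mat := exists_mat hm1 h S hS h0 }
  · -- `V ≤ WP`
    intro i j hij v hv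
    rw [mem_WP]
    have hvN : v ∈ NN ε i j := by
      rw [mem_NN]
      exact h.comm_mem hv (rr_mem h i j)
    refine ⟨hvN, fun q hqQ => ?_⟩
    -- `q⁻¹ v q ∈ {v, v r}`
    obtain ⟨x, rfl⟩ := h.surj v hv
    have hq' := inv_mem hqQ
    have key : ∀ y : Fin (2 ^ m + 1) → ZMod 2, ∀ p, Acts ε p (Equiv.swap i j) →
        p * ε y * p⁻¹ = ε y ∨ p * ε y * p⁻¹ = ε y * rr ε i j := by
      intro y p hp
      rw [hp y]
      have h1 : y ∘ (Equiv.swap i j).symm = y + (y i + y j) • (Pi.single i 1 + Pi.single j 1) := by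
        funext k
        rw [Function.comp_apply, Equiv.symm_swap, Pi.add_apply, Pi.smul_apply, Pi.add_apply]
        by_cases h1 : k = i
        · subst h1
          rw [Equiv.swap_apply_left, Pi.single_eq_same, Pi.single_eq_of_ne hij, add_zero,
            smul_eq_mul, mul_one, ← add_assoc, Tv.z2_add, zero_add]
        by_cases h2 : k = j
        · subst h2
          rw [Equiv.swap_apply_right, Pi.single_eq_same, Pi.single_eq_of_ne h1, zero_add,
            smul_eq_mul, mul_one, add_comm (y i), ← add_assoc, Tv.z2_add, zero_add]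
        · rw [Equiv.swap_apply_of_ne_of_ne h1 h2, Pi.single_eq_of_ne h1, Pi.single_eq_of_ne h2,
            add_zero, smul_zero, add_zero]
      rw [h1, h.add]
      rcases Tv.z2 (y i + y j) with h2 | h2
      · left
        rw [h2, zero_smul, h.zero, mul_one]
      · right
        rw [h2, one_smul, h.add]
        rfl
    have hcase : q⁻¹ * ε x * q⁻¹⁻¹ = ε x ∨ q⁻¹ * ε x * q⁻¹⁻¹ = ε x * rr ε i j := by
      rcases hQact i j hij _ hq' with h1 | h1
      · left; exact h1 x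
      · exact key x _ h1
    rw [inv_inv] at hcase
    have hxr : ε x * rr ε i j = rr ε i j * ε x := h.comm_mem (h.mem x) (rr_mem h i j)
    have hqr : q * rr ε i j = rr ε i j * q := mem_NN.mp (o2_le _ hqQ)
    rcases hcase with h1 | h1
    · have h2 : ε x * q * (ε x)⁻¹ * q⁻¹ = 1 := by
        have h3 : q⁻¹ * ε x * q = ε x := h1
        calc ε x * q * (ε x)⁻¹ * q⁻¹ = (q⁻¹ * ε x * q) * q * (q⁻¹ * ε x * q)⁻¹ * q⁻¹ *
              (1 : G) := by rw [h3, mul_one]
          _ = q⁻¹ * (ε x * q * (ε x)⁻¹ * q⁻¹) * q := by group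
          _ = 1 := by
              have h4 : ε x * q = q * ε x := by
                calc ε x * q = q * (q⁻¹ * ε x * q) := by group
                  _ = q * ε x := by rw [h3]
              rw [h4]; group
      rw [h2]
      exact one_mem _
    · have h4 : ε x * q = q * (rr ε i j * ε x) := by
        calc ε x * q = q * (q⁻¹ * ε x * q) := by group
          _ = q * (rr ε i j * ε x) := by rw [h1, hxr]
      have h2 : ε x * q * (ε x)⁻¹ * q⁻¹ = rr ε i j := by
        rw [h4, ← mul_assoc, hqr]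
        group
      rw [h2]
      exact mem_zpowers _
  · -- `mov`
    obtain ⟨i0, j0, hij0, g, hg, hgV⟩ := hN
    have hgs : Acts ε g (Equiv.swap i0 j0) :=
      (hQact i0 j0 hij0 g (hWQ i0 j0 hij0 hg)).resolve_left
        fun h1 => hgV (h.acts_one_iff.mp h1)
    intro i j hij
    obtain ⟨σ, h1, h2, -⟩ := exists_perm hij0 hij
    obtain ⟨p, -, hp⟩ := h.full σ
    refine ⟨p * g * p⁻¹, ?_, ?_⟩
    · have := WP_conj hp hg
      rwa [h1, h2] at this
    · have h3 := hp.conj hgs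
      have h4 : σ * Equiv.swap i0 j0 * σ⁻¹ = Equiv.swap i j := by
        rw [← Equiv.swap_apply_apply, h1, h2]
      rwa [h4] at h3
  · -- `min`
    intro A hA hA2 hAne
    have h2 : Fact (Nat.Prime 2) := ⟨Nat.prime_two⟩
    have hcomm : ∀ a ∈ A, ∀ b ∈ A, a * b = b * a := by
      intro a ha b hb
      have h1 := hA2 _ (mul_mem ha hb)
      have h2 : a⁻¹ = a := inv_eq_of_mul_eq_one_left (hA2 a ha)
      have h3 : b⁻¹ = b := inv_eq_of_mul_eq_one_left (hA2 b hb)
      calc a * b = (a * b)⁻¹ := (inv_eq_of_mul_eq_one_left h1).symm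
        _ = b⁻¹ * a⁻¹ := mul_inv_rev a b
        _ = b * a := by rw [h2, h3]
    have hAp : IsPGroup 2 A := by
      intro a
      refine ⟨1, ?_⟩
      rw [pow_one, pow_two]
      exact Subtype.ext (hA2 a a.2)
    -- a fixed point of `S`
    let act : MulAction (S : Subgroup G) A :=
      { smul := fun s a => ⟨(s : G) * a * (s : G)⁻¹, hA s (hS s.2) a a.2⟩
        one_smul := fun a => Subtype.ext (by change (1 : G) * a * (1 : G)⁻¹ = a; group)
        mul_smul := fun s t a => Subtype.ext (by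
          change ((s : G) * t) * a * ((s : G) * t)⁻¹ = (s : G) * (t * a * (t : G)⁻¹) * (s : G)⁻¹
          group) }
    have hdvd : 2 ∣ Nat.card A := by
      rcases hAp.card_eq_or_dvd with h1 | h1
      · exact absurd ((card_eq_one (H := A)).mp h1) hAne
      · exact h1
    have hfix1 : (1 : A) ∈ MulAction.fixedPoints (S : Subgroup G) A := by
      intro s
      exact Subtype.ext (by change (s : G) * 1 * (s : G)⁻¹ = 1; group)
    obtain ⟨a, haf, hane⟩ := S.isPGroup'.exists_fixed_point_of_prime_dvd_card_of_fixed_point A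
      hdvd hfix1
    have hac : ∀ s ∈ (S : Subgroup G), s * (a : G) = a * s := by
      intro s hs
      have h1 := congrArg Subtype.val (haf ⟨s, hs⟩)
      have h3 : s * (a : G) * s⁻¹ = a := h1
      exact mul_inv_eq_iff_eq_mul.mp h3
    have hane' : (a : G) ≠ 1 := fun h1 => hane (Subtype.ext h1).symm
    have haS : (a : G) ∈ (S : Subgroup G) := by
      refine MinPar.le_of_le_normalizer S hAp (fun s hs => ?_) a.2
      rw [mem_normalizer_iff]
      refine fun x => ⟨hA s (hS hs) x, fun hx => ?_⟩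
      have h1 := hA s⁻¹ (inv_mem (hS hs)) _ hx
      have h3 : s⁻¹ * (s * x * s⁻¹) * s⁻¹⁻¹ = x := by group
      rwa [h3] at h1
    have haV : (a : G) ∈ V := hZ (mem_zc.mpr ⟨haS, hac, by rw [pow_two]; exact hA2 a a.2⟩)
    -- all pairs are in `A`
    obtain ⟨x, hx⟩ := h.surj a haV
    have hx01 : ¬ (x = 0 ∨ x = 1) := fun h1 => hane' (by rw [← hx]; exact (h.ker x).mpr h1)
    obtain ⟨i, j, hxij⟩ : ∃ i j, x i ≠ x j := by
      by_contra hc
      push Not at hc
      apply hx01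
      rcases Tv.z2 (x 0) with h1 | h1
      · left; funext k; rw [hc k 0, h1]; rfl
      · right; funext k; rw [hc k 0, h1]; rfl
    have hij : i ≠ j := fun h1 => hxij (by rw [h1])
    have hrA : rr ε i j ∈ A := by
      obtain ⟨p, hp, hps⟩ := h.full (Equiv.swap i j)
      have h1 := hA p hp a a.2
      have h3 : p * (a : G) * p⁻¹ = a * rr ε i j := by
        rw [← hx, hps x]
        have h4 : x ∘ (Equiv.swap i j).symm = x + (Pi.single i 1 + Pi.single j 1) := by
          have h5 : x j = x i + 1 := z2_ne _ _ hxij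
          have h5' : x i = x j + 1 := z2_ne _ _ hxij.symm
          funext k
          rw [Function.comp_apply, Equiv.symm_swap, Pi.add_apply, Pi.add_apply]
          by_cases h1 : k = i
          · rw [h1, Equiv.swap_apply_left, Pi.single_eq_same, Pi.single_eq_of_ne hij, add_zero, h5]
          by_cases h2 : k = j
          · rw [h2, Equiv.swap_apply_right, Pi.single_eq_same, Pi.single_eq_of_ne hij.symm,
              zero_add, h5']
          · rw [Equiv.swap_apply_of_ne_of_ne h1 h2, Pi.single_eq_of_ne h1, Pi.single_eq_of_ne h2,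
              add_zero, add_zero]
        rw [h4, h.add, h.add]
        rfl
      have h4 := mul_mem (inv_mem a.2) h1
      rwa [h3, inv_mul_cancel_left] at h4
    have hall : ∀ k l, k ≠ l → rr ε k l ∈ A := by
      intro k l hkl
      obtain ⟨σ, h1, h3, -⟩ := exists_perm hij hkl
      obtain ⟨p, hp, hps⟩ := h.full σ
      have h4 := hA p hp _ hrA
      rwa [rr_conj hps, h1, h3] at h4
    have hz : ∀ k, zz ε k ∈ A := by
      intro k
      obtain ⟨j, hj⟩ : ∃ j, k ≠ j := by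
        obtain ⟨j, hj⟩ := exists_ne k
        exact ⟨j, hj.symm⟩
      have h1 := compl_rr h hj (fun t x => x ∈ V ∧ x * zz ε k ^ t ∈ A)
        ⟨one_mem _, by rw [one_mul, pow_zero]; exact one_mem _⟩ (by
        rintro l h1 h3 t x ⟨hxV, hxA⟩
        refine ⟨mul_mem (zz_mem h l) hxV, ?_⟩
        have h4 := mul_mem (hall l k h1) hxA
        have h5 : zz ε l * x * zz ε k ^ (t + 1) = rr ε l k * (x * zz ε k ^ t) := by
          have h6 : zz ε k * x = x * zz ε k := h.comm_mem (zz_mem h k) hxV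
          unfold rr
          calc zz ε l * x * zz ε k ^ (t + 1) = zz ε l * (x * zz ε k) * zz ε k ^ t := by
                rw [pow_succ']; group
            _ = zz ε l * (zz ε k * x) * zz ε k ^ t := by rw [h6]
            _ = _ := by group
        rwa [h5])
      obtain ⟨-, h3⟩ := h1
      have h4 : zz ε k ^ (2 ^ m + 1 - 2) = zz ε k := by
        obtain ⟨t, ht⟩ := hodd
        have h5 : 2 ^ m + 1 - 2 = 2 * (t - 1) + 1 := by omega
        rw [h5, pow_succ, pow_mul, pow_two, zz_sq h, one_pow, one_mul]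
      rw [h4] at h3
      have h5 := mul_mem (inv_mem (hall k j hj)) h3
      rwa [inv_mul_cancel_left] at h5
    intro v hv
    obtain ⟨y, rfl⟩ := h.surj v hv
    have key : ∀ F : Finset (Fin (2 ^ m + 1)), ε (∑ k ∈ F, Pi.single k 1) ∈ A := by
      intro F
      induction F using Finset.induction_on with
      | empty => rw [Finset.sum_empty, h.zero]; exact one_mem _
      | insert k F hk ih =>
        rw [Finset.sum_insert hk, h.add]
        exact mul_mem (hz k) ih
    have h1 : y = ∑ k ∈ Finset.univ.filter (fun k => y k ≠ 0), Pi.single k 1 := by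
      funext m'
      rw [Finset.sum_apply]
      by_cases hm' : y m' = 0
      · rw [hm', Finset.sum_eq_zero]
        intro k hk
        have : m' ≠ k := by
          rintro rfl
          exact (Finset.mem_filter.mp hk).2 hm'
        exact Pi.single_eq_of_ne this _
      · rw [Finset.sum_eq_single m']
        · rw [Pi.single_eq_same]; exact Tv.z2_one hm'
        · intro k _ hk
          exact Pi.single_eq_of_ne (Ne.symm hk) _
        · intro h0
          exfalso
          apply h0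
          rw [Finset.mem_filter]
          exact ⟨Finset.mem_univ _, hm'⟩
    rw [h1]
    exact key _

end Cfsg.Agent.Omega.NSix.Zero
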