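import Cfsg.Agent.Omega.NSix.PtCen

/-!
# OMEGA N6 / LeafF4: the END, part 1 (text: helper871, "THE END FOR EVERY PARTNER", (1)-(3))

`Tr B r` : `B` elementary abelian, `C_G(r) ≤ N_G(B)`, `Q_r = O₂(C_G(r))` acts on `B` as a transvection group of
order 2 with centre `r ∈ B ≤ Q_r`.  `KK B r = r^Γ`, `Γ = N_G(B)`; `fv x` is the functional of `x ∈ KK B r`.

* `Tr.symm` : `f_x(y) = f_y(x)`; `Tr.mul_mem`, `Tr.fv_mul` : `f_{xy} = f_x + f_y` if `f_x(y) = 1`;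
* `Tr.rad_or` : `f_y(u) = 0` for all `y ∈ KK` with `f_r(y) = 0` ⟹ `u ∈ Rad` or `u r ∈ Rad`;
* `Sw B r e p` : `p` interchanges `r` and `e ∈ Q_r - C(B)`; `Sw.false_of_b` ((7) of helper904's #18035): `b ∈ B`,
  `f_r(b) = 1`, `[b, C_G(r)] ≤ ⟨r⟩` is impossible; `Sw.false_of_rad` : `Rad = 1` is impossible.
-/

set_option autoImplicit false
set_option linter.dupNamespace false

namespace Cfsg.Agent.Omega.NSix.Gam

open Subgroup Pointwise Cfsg Cfsg.Agent
open Cfsg.Agent.ZN (o2)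
open Cfsg.Agent.MinSimple.VModule (o2_isPGroup o2_le le_normalizer_o2)
open Cfsg.Agent.Omega.NSix.PtCen (conj_o2_cent)

universe u

variable {G : Type u} [Group G]

/-- `Q_x = O₂(C_G(x))` -/
abbrev QQ (x : G) : Subgroup G := o2 (centralizer ({x} : Set G))

open Classical in
/-- the functional of `x` : `f_x(b) = 1` iff `Q_x` moves `b` -/
noncomputable def fv (x b : G) : ZMod 2 := if ∃ q ∈ QQ x, q * b ≠ b * q then 1 else 0

theorem fv_eq_one {x b : G} : fv x b = 1 ↔ ∃ q ∈ QQ x, q * b ≠ b * q := by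
  unfold fv
  split_ifs with h
  · exact ⟨fun _ => h, fun _ => rfl⟩
  · exact ⟨fun h1 => absurd h1 (by decide), fun h1 => absurd h1 h⟩

theorem fv_eq_zero {x b : G} : fv x b = 0 ↔ ∀ q ∈ QQ x, q * b = b * q := by
  unfold fv
  split_ifs with h
  · refine ⟨fun h1 => absurd h1 (by decide), fun h1 => ?_⟩
    obtain ⟨q, hq, h2⟩ := h
    exact absurd (h1 q hq) h2
  · refine ⟨fun _ q hq => ?_, fun _ => rfl⟩
    by_contra h1
    exact h ⟨q, hq, h1⟩

theorem zmod_cases (t : ZMod 2) : t = 0 ∨ t = 1 := by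
  revert t
  decide

theorem fv_cases (x b : G) : fv x b = 0 ∨ fv x b = 1 := zmod_cases _

theorem fv_conj (g x b : G) : fv (g * x * g⁻¹) (g * b * g⁻¹) = fv x b := by
  have key : ∀ g x b : G, fv x b = 1 → fv (g * x * g⁻¹) (g * b * g⁻¹) = 1 := by
    intro g x b h
    obtain ⟨q, hq, h1⟩ := fv_eq_one.mp h
    refine fv_eq_one.mpr ⟨g * q * g⁻¹, conj_o2_cent hq, fun h2 => h1 ?_⟩
    have h3 : g * (q * b) * g⁻¹ = g * (b * q) * g⁻¹ := by
      calc g * (q * b) * g⁻¹ = g * q * g⁻¹ * (g * b * g⁻¹) := by group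
        _ = g * b * g⁻¹ * (g * q * g⁻¹) := h2
        _ = _ := by group
    exact mul_left_cancel (mul_right_cancel h3)
  rcases fv_cases x b with h | h
  · rcases fv_cases (g * x * g⁻¹) (g * b * g⁻¹) with h1 | h1
    · rw [h, h1]
    · have h2 := key g⁻¹ _ _ h1
      have e1 : g⁻¹ * (g * x * g⁻¹) * g⁻¹⁻¹ = x := by group
      have e2 : g⁻¹ * (g * b * g⁻¹) * g⁻¹⁻¹ = b := by group
      rw [e1, e2] at h2
      rw [h1, h2]
  · rw [h, key g x b h]

/-- conjugation by an element commuting with `x` -/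
theorem fv_conj_right {g x b : G} (h : g * x = x * g) : fv x (g * b * g⁻¹) = fv x b := by
  have h1 := fv_conj g x b
  rwa [h, mul_inv_cancel_right] at h1

theorem fv_conj_left {g x b : G} (h : g * b = b * g) : fv (g * x * g⁻¹) b = fv x b := by
  have h1 := fv_conj g x b
  rwa [h, mul_inv_cancel_right] at h1

/-- `B` elementary abelian, `C_G(r) ≤ N_G(B)`, `Q_r` acts on `B` as a transvection group of order 2 with centre
`r ∈ B ≤ Q_r`. -/
structure Tr (B : Subgroup G) (r : G) : Prop where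
  comm : ∀ a ∈ B, ∀ b ∈ B, a * b = b * a
  sq : ∀ b ∈ B, b * b = 1
  mem : r ∈ B
  nor : centralizer ({r} : Set G) ≤ normalizer (B : Set G)
  le : B ≤ QQ r
  act : ∀ q ∈ QQ r, ∀ b ∈ B, q * b * q⁻¹ = b ∨ q * b * q⁻¹ = b * r
  one : ∀ q ∈ QQ r, ∀ q' ∈ QQ r, ∀ b ∈ B, ∀ b' ∈ B, q * b ≠ b * q → q' * b' ≠ b' * q' → q' * b ≠ b * q'
  mov : ∃ q ∈ QQ r, ∃ b ∈ B, q * b ≠ b * q

/-- `r^Γ`, `Γ = N_G(B)` -/
def KK (B : Subgroup G) (r : G) : Set G := {x | ∃ g ∈ normalizer (B : Set G), x = g * r * g⁻¹}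

/-- the radical -/
def Rad (B : Subgroup G) (r : G) : Set G := {b | b ∈ B ∧ ∀ x ∈ KK B r, fv x b = 0}

theorem KK_conj {B : Subgroup G} {r x g : G} (hg : g ∈ normalizer (B : Set G)) (hx : x ∈ KK B r) :
    g * x * g⁻¹ ∈ KK B r := by
  obtain ⟨k, hk, rfl⟩ := hx
  exact ⟨g * k, mul_mem hg hk, by group⟩

theorem self_mem_KK (B : Subgroup G) (r : G) : r ∈ KK B r := ⟨1, one_mem _, by group⟩

theorem nor_mem {B : Subgroup G} {g b : G} (hg : g ∈ normalizer (B : Set G)) (hb : b ∈ B) : g * b * g⁻¹ ∈ B :=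
  (mem_normalizer_iff.mp hg b).mp hb

theorem nor_mem_inv {B : Subgroup G} {g b : G} (hg : g ∈ normalizer (B : Set G)) (hb : b ∈ B) :
    g⁻¹ * b * g ∈ B := by
  have h := nor_mem (inv_mem hg) hb
  rwa [inv_inv] at h

theorem conj_ne {g q b : G} (h : q * b ≠ b * q) : g * q * g⁻¹ * (g * b * g⁻¹) ≠ g * b * g⁻¹ * (g * q * g⁻¹) := by
  intro h2
  apply h
  have h3 : g * (q * b) * g⁻¹ = g * (b * q) * g⁻¹ := by
    calc g * (q * b) * g⁻¹ = g * q * g⁻¹ * (g * b * g⁻¹) := by group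
      _ = g * b * g⁻¹ * (g * q * g⁻¹) := h2
      _ = _ := by group
  exact mul_left_cancel (mul_right_cancel h3)

theorem QQ_inv {g x q : G} (hq : q ∈ QQ (g * x * g⁻¹)) : g⁻¹ * q * g ∈ QQ x := by
  have h := conj_o2_cent (g := g⁻¹) hq
  have e : g⁻¹ * (g * x * g⁻¹) * g⁻¹⁻¹ = x := by group
  rw [e, inv_inv] at h
  exact h

namespace Tr

variable {B : Subgroup G} {r : G} (t : Tr B r)
include t

theorem inv_eq {b : G} (hb : b ∈ B) : b⁻¹ = b := inv_eq_of_mul_eq_one_left (t.sq b hb)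

theorem ne_one : r ≠ 1 := by
  rintro rfl
  obtain ⟨q, hq, b, hb, h⟩ := t.mov
  rcases t.act q hq b hb with h1 | h1
  · exact h (mul_inv_eq_iff_eq_mul.mp h1)
  · rw [mul_one] at h1
    exact h (mul_inv_eq_iff_eq_mul.mp h1)

theorem conj {g : G} (hg : g ∈ normalizer (B : Set G)) : Tr B (g * r * g⁻¹) where
  comm := t.comm
  sq := t.sq
  mem := nor_mem hg t.mem
  nor := by
    intro c hc
    have hc : c * (g * r * g⁻¹) = g * r * g⁻¹ * c := mem_centralizer_singleton_iff.mp hc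
    have h1 : g⁻¹ * c * g ∈ centralizer ({r} : Set G) := by
      rw [mem_centralizer_singleton_iff]
      calc g⁻¹ * c * g * r = g⁻¹ * (c * (g * r * g⁻¹)) * g := by group
        _ = g⁻¹ * (g * r * g⁻¹ * c) * g := by rw [hc]
        _ = _ := by group
    have h2 := mul_mem (mul_mem hg (t.nor h1)) (inv_mem hg)
    have h3 : g * (g⁻¹ * c * g) * g⁻¹ = c := by group
    rwa [h3] at h2
  le := by
    intro b hb
    have h1 := conj_o2_cent (g := g) (t.le (nor_mem_inv hg hb))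
    have h2 : g * (g⁻¹ * b * g) * g⁻¹ = b := by group
    rwa [h2] at h1
  act := by
    intro q hq b hb
    have key : ∀ c : G, g⁻¹ * q * g * (g⁻¹ * b * g) * (g⁻¹ * q * g)⁻¹ = c → q * b * q⁻¹ = g * c * g⁻¹ := by
      rintro c rfl
      group
    rcases t.act _ (QQ_inv hq) _ (nor_mem_inv hg hb) with h1 | h1
    · left
      rw [key _ h1]
      group
    · right
      rw [key _ h1]
      group
  one := by
    intro q hq q' hq' b hb b' hb' h1 h2 h3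
    have e1 := conj_ne (g := g⁻¹) h1
    have e2 := conj_ne (g := g⁻¹) h2
    rw [inv_inv] at e1 e2
    refine t.one _ (QQ_inv hq) _ (QQ_inv hq') _ (nor_mem_inv hg hb) _ (nor_mem_inv hg hb') e1 e2 ?_
    calc g⁻¹ * q' * g * (g⁻¹ * b * g) = g⁻¹ * (q' * b) * g := by group
      _ = g⁻¹ * (b * q') * g := by rw [h3]
      _ = _ := by group
  mov := by
    obtain ⟨q, hq, b, hb, h⟩ := t.mov
    exact ⟨g * q * g⁻¹, conj_o2_cent hq, g * b * g⁻¹, nor_mem hg hb, conj_ne h⟩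

theorem of_mem {x : G} (hx : x ∈ KK B r) : Tr B x := by
  obtain ⟨g, hg, rfl⟩ := hx
  exact t.conj hg

/-- an element of `Q_r` moving something -/
theorem iff_one {q b₀ b : G} (hq : q ∈ QQ r) (hb₀ : b₀ ∈ B) (h₀ : q * b₀ ≠ b₀ * q) (hb : b ∈ B) :
    fv r b = 1 ↔ q * b * q⁻¹ = b * r := by
  constructor
  · intro h
    obtain ⟨q', hq', h1⟩ := fv_eq_one.mp h
    have h2 := t.one q' hq' q hq b hb b₀ hb₀ h1 h₀
    rcases t.act q hq b hb with h3 | h3
    · exact absurd (mul_inv_eq_iff_eq_mul.mp h3) h2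
    · exact h3
  · intro h
    refine fv_eq_one.mpr ⟨q, hq, fun h1 => t.ne_one ?_⟩
    rw [h1, mul_inv_cancel_right] at h
    exact (mul_eq_left.mp h.symm)

theorem iff_zero {q b₀ b : G} (hq : q ∈ QQ r) (hb₀ : b₀ ∈ B) (h₀ : q * b₀ ≠ b₀ * q) (hb : b ∈ B) :
    fv r b = 0 ↔ q * b * q⁻¹ = b := by
  constructor
  · intro h
    rw [fv_eq_zero.mp h q hq, mul_inv_cancel_right]
  · intro h
    rcases fv_cases r b with h1 | h1
    · exact h1
    · have h2 := (t.iff_one hq hb₀ h₀ hb).mp h1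
      rw [h] at h2
      exact absurd (mul_eq_left.mp h2.symm) t.ne_one

omit t in
theorem fv_self (r : G) : fv r r = 0 :=
  fv_eq_zero.mpr fun _ hq => mem_centralizer_singleton_iff.mp (o2_le _ hq)

theorem fv_add {a b : G} (ha : a ∈ B) (hb : b ∈ B) : fv r (a * b) = fv r a + fv r b := by
  obtain ⟨q, hq, b₀, hb₀, h₀⟩ := t.mov
  have hab := mul_mem ha hb
  have e : q * (a * b) * q⁻¹ = (q * a * q⁻¹) * (q * b * q⁻¹) := by group
  rcases fv_cases r a with h1 | h1 <;> rcases fv_cases r b with h2 | h2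
  · rw [h1, h2, add_zero, t.iff_zero hq hb₀ h₀ hab, e, (t.iff_zero hq hb₀ h₀ ha).mp h1,
      (t.iff_zero hq hb₀ h₀ hb).mp h2]
  · rw [h1, h2, zero_add, t.iff_one hq hb₀ h₀ hab, e, (t.iff_zero hq hb₀ h₀ ha).mp h1,
      (t.iff_one hq hb₀ h₀ hb).mp h2, mul_assoc]
  · rw [h1, h2, add_zero, t.iff_one hq hb₀ h₀ hab, e, (t.iff_one hq hb₀ h₀ ha).mp h1,
      (t.iff_zero hq hb₀ h₀ hb).mp h2, mul_assoc, mul_assoc, t.comm r t.mem b hb]
  · have h3 : (1 : ZMod 2) + 1 = 0 := by decide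
    rw [h1, h2, h3, t.iff_zero hq hb₀ h₀ hab, e, (t.iff_one hq hb₀ h₀ ha).mp h1,
      (t.iff_one hq hb₀ h₀ hb).mp h2]
    calc a * r * (b * r) = a * (r * b) * r := by group
      _ = a * (b * r) * r := by rw [t.comm r t.mem b hb]
      _ = a * b * (r * r) := by group
      _ = a * b := by rw [t.sq r t.mem, mul_one]

omit t in
theorem fv_one (r : G) : fv r 1 = 0 := fv_eq_zero.mpr fun q _ => by rw [mul_one, one_mul]

/-- `Q_r` normalises `B` -/
theorem QQ_nor : QQ r ≤ normalizer (B : Set G) := (o2_le _).trans t.nor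

end Tr

section two

variable {B : Subgroup G} {r x y : G} (t : Tr B r)
include t

/-- `f_x(y) = 1` ⟹ `f_y(x) = 1` -/
theorem Tr.symm_one (hx : x ∈ KK B r) (hy : y ∈ KK B r) (h : fv x y = 1) : fv y x = 1 := by
  rcases fv_cases y x with h0 | h0
  · exfalso
    have tx := t.of_mem hx
    have ty := t.of_mem hy
    obtain ⟨q, hq, h1⟩ := fv_eq_one.mp h
    have h2 : q * y * q⁻¹ = y * x := (tx.iff_one hq ty.mem h1 ty.mem).mp h
    obtain ⟨q', hq', b, hb, h3⟩ := ty.mov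
    have h4 : q' * b * q'⁻¹ = b * y := by
      rcases ty.act q' hq' b hb with h4 | h4
      · exact absurd (mul_inv_eq_iff_eq_mul.mp h4) h3
      · exact h4
    have h5 : q' * x = x * q' := fv_eq_zero.mp h0 q' hq'
    have h5' : q' * y = y * q' := mem_centralizer_singleton_iff.mp (o2_le _ hq')
    -- `c = [q, q']` lies in `Q_x` and centralises `y`
    have hc : q * q' * q⁻¹ * q'⁻¹ ∈ QQ x := by
      have h6 : q' * q⁻¹ * q'⁻¹ ∈ QQ x :=
        (mem_normalizer_iff.mp (le_normalizer_o2 _ (mem_centralizer_singleton_iff.mpr h5)) _).mp (inv_mem hq)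
      have := mul_mem hq h6
      have e : q * (q' * q⁻¹ * q'⁻¹) = q * q' * q⁻¹ * q'⁻¹ := by group
      rwa [e] at this
    have hyx : q * (y * x) * q⁻¹ = y := by
      have h6 : q * x * q⁻¹ = x := by
        rw [mem_centralizer_singleton_iff.mp (o2_le _ hq), mul_inv_cancel_right]
      calc q * (y * x) * q⁻¹ = (q * y * q⁻¹) * (q * x * q⁻¹) := by group
        _ = y * x * x := by rw [h2, h6]
        _ = y := by rw [mul_assoc, tx.sq x tx.mem, mul_one]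
    have hqy : q⁻¹ * y * q = y * x := by
      calc q⁻¹ * y * q = q⁻¹ * (q * (y * x) * q⁻¹) * q := by rw [hyx]
        _ = y * x := by group
    have hcy : (q * q' * q⁻¹ * q'⁻¹) * y = y * (q * q' * q⁻¹ * q'⁻¹) := by
      rw [← mul_inv_eq_iff_eq_mul]
      have e1 : q'⁻¹ * y * q' = y := by rw [mul_assoc, ← h5', inv_mul_cancel_left]
      have e2 : q' * (y * x) * q'⁻¹ = y * x := by
        rw [← mul_assoc, h5', mul_assoc y, h5, ← mul_assoc, mul_inv_cancel_right]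
      calc (q * q' * q⁻¹ * q'⁻¹) * y * (q * q' * q⁻¹ * q'⁻¹)⁻¹
          = q * (q' * (q⁻¹ * (q'⁻¹ * y * q') * q) * q'⁻¹) * q⁻¹ := by group
        _ = y := by rw [e1, hqy, e2, hyx]
    have hcb : (q * q' * q⁻¹ * q'⁻¹) * (b * y) = b * y * (q * q' * q⁻¹ * q'⁻¹) := by
      by_contra h6
      exact tx.one q hq _ hc y ty.mem (b * y) (mul_mem hb ty.mem) h1 h6 hcy
    have h7 : (q * q' * q⁻¹) * b * (q * q' * q⁻¹)⁻¹ = b * y := by
      calc (q * q' * q⁻¹) * b * (q * q' * q⁻¹)⁻¹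
          = (q * q' * q⁻¹ * q'⁻¹) * (q' * b * q'⁻¹) * (q * q' * q⁻¹ * q'⁻¹)⁻¹ := by group
        _ = (q * q' * q⁻¹ * q'⁻¹) * (b * y) * (q * q' * q⁻¹ * q'⁻¹)⁻¹ := by rw [h4]
        _ = b * y := by rw [hcb, mul_inv_cancel_right]
    have h8 : q * q' * q⁻¹ ∈ QQ (y * x) := by
      rw [← h2]
      exact conj_o2_cent hq'
    have tyx : Tr B (y * x) := by
      rw [← h2]
      exact ty.conj (tx.QQ_nor hq)
    rcases tyx.act _ h8 b hb with h9 | h9
    · rw [h7] at h9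
      exact ty.ne_one (mul_eq_left.mp h9)
    · rw [h7] at h9
      have h10 : y = y * x := mul_left_cancel h9
      exact tx.ne_one (mul_eq_left.mp h10.symm)
  · exact h0

/-- **SYM** -/
theorem Tr.symm (hx : x ∈ KK B r) (hy : y ∈ KK B r) : fv x y = fv y x := by
  rcases fv_cases x y with h | h
  · rcases fv_cases y x with h' | h'
    · rw [h, h']
    · rw [t.symm_one hy hx h', h']
  · rw [h, t.symm_one hx hy h]

theorem Tr.mul_eq_conj (hx : x ∈ KK B r) (hy : y ∈ KK B r) (h : fv x y = 1) :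
    ∃ q ∈ QQ x, q * y * q⁻¹ = x * y := by
  have tx := t.of_mem hx
  have ty := t.of_mem hy
  obtain ⟨q, hq, h1⟩ := fv_eq_one.mp h
  have h2 : q * y * q⁻¹ = y * x := (tx.iff_one hq ty.mem h1 ty.mem).mp h
  exact ⟨q, hq, by rw [h2, t.comm _ ty.mem _ tx.mem]⟩

theorem Tr.mul_mem (hx : x ∈ KK B r) (hy : y ∈ KK B r) (h : fv x y = 1) : x * y ∈ KK B r := by
  obtain ⟨q, hq, h1⟩ := t.mul_eq_conj hx hy h
  rw [← h1]
  exact KK_conj ((t.of_mem hx).QQ_nor hq) hy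

theorem Tr.fv_mul (hx : x ∈ KK B r) (hy : y ∈ KK B r) (h : fv x y = 1) {b : G} (hb : b ∈ B) :
    fv (x * y) b = fv x b + fv y b := by
  have tx := t.of_mem hx
  have ty := t.of_mem hy
  obtain ⟨q, hq, h1⟩ := fv_eq_one.mp h
  have h2 : q * y * q⁻¹ = y * x := (tx.iff_one hq ty.mem h1 ty.mem).mp h
  have hxy : fv y x = 1 := t.symm_one hx hy h
  have h3 : fv (y * x) b = fv y (q⁻¹ * b * q) := by
    have h4 := fv_conj q y (q⁻¹ * b * q)
    have e : q * (q⁻¹ * b * q) * q⁻¹ = b := by group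
    rw [e, h2] at h4
    exact h4
  rw [t.comm _ tx.mem _ ty.mem, h3]
  rcases fv_cases x b with h4 | h4
  · have h5 : q * b * q⁻¹ = b := (tx.iff_zero hq ty.mem h1 hb).mp h4
    have h6 : q⁻¹ * b * q = b := by
      calc q⁻¹ * b * q = q⁻¹ * (q * b * q⁻¹) * q := by rw [h5]
        _ = b := by group
    rw [h6, h4, zero_add]
  · have h5 : q * b * q⁻¹ = b * x := (tx.iff_one hq ty.mem h1 hb).mp h4
    have hqx : q * x * q⁻¹ = x := by
      rw [mem_centralizer_singleton_iff.mp (o2_le _ hq), mul_inv_cancel_right]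
    have h6 : q⁻¹ * b * q = b * x := by
      have h7 : q * (b * x) * q⁻¹ = b := by
        calc q * (b * x) * q⁻¹ = (q * b * q⁻¹) * (q * x * q⁻¹) := by group
          _ = b * x * x := by rw [h5, hqx]
          _ = b := by rw [mul_assoc, tx.sq x tx.mem, mul_one]
      calc q⁻¹ * b * q = q⁻¹ * (q * (b * x) * q⁻¹) * q := by rw [h7]
        _ = b * x := by group
    rw [h6, ty.fv_add hb tx.mem, hxy, h4, add_comm]

theorem Tr.rad_or {u : G} (hu : u ∈ B) (h : ∀ y ∈ KK B r, fv r y = 0 → fv y u = 0) :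
    u ∈ Rad B r ∨ u * r ∈ Rad B r := by
  have hr := self_mem_KK B r
  have hru : fv r u = 0 := h r hr (Tr.fv_self r)
  -- the value is constant on the elements with `f_r(x) = 1`
  have key : ∀ x ∈ KK B r, ∀ x' ∈ KK B r, fv r x = 1 → fv r x' = 1 → fv x u = fv x' u := by
    intro x hx x' hx' h1 h2
    have tx := t.of_mem hx
    have tx' := t.of_mem hx'
    have two : ∀ a b : ZMod 2, a + b = 0 → a = b := by decide
    rcases fv_cases x x' with h3 | h3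
    · -- replace `x'` by `x' r`
      have h4 : fv x' r = 1 := t.symm_one hr hx' h2
      have h5 : x' * r ∈ KK B r := t.mul_mem hx' hr h4
      have h6 : fv x (x' * r) = 1 := by
        rw [tx.fv_add tx'.mem t.mem, h3, t.symm_one hr hx h1, zero_add]
      have h7 : x * (x' * r) ∈ KK B r := t.mul_mem hx h5 h6
      have h8 : fv r (x * (x' * r)) = 0 := by
        rw [t.fv_add tx.mem (B.mul_mem tx'.mem t.mem), t.fv_add tx'.mem t.mem, Tr.fv_self r, h1, h2]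
        decide
      have h9 := h _ h7 h8
      rw [t.fv_mul hx h5 h6 hu, t.fv_mul hx' hr h4 hu, hru, add_zero] at h9
      exact two _ _ h9
    · have h7 : x * x' ∈ KK B r := t.mul_mem hx hx' h3
      have h8 : fv r (x * x') = 0 := by
        rw [t.fv_add tx.mem tx'.mem, h1, h2]
        decide
      have h9 := h _ h7 h8
      rw [t.fv_mul hx hx' h3 hu] at h9
      exact two _ _ h9
  by_cases h0 : ∃ x ∈ KK B r, fv r x = 1 ∧ fv x u = 1
  · obtain ⟨x₀, hx₀, h1, h2⟩ := h0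
    right
    refine ⟨B.mul_mem hu t.mem, fun x hx => ?_⟩
    have tx := t.of_mem hx
    rw [tx.fv_add hu t.mem]
    rcases fv_cases r x with h3 | h3
    · rw [h x hx h3, t.symm hx hr, h3, add_zero]
    · rw [key x hx x₀ hx₀ h3 h1, h2, t.symm hx hr, h3]
      decide
  · left
    refine ⟨hu, fun x hx => ?_⟩
    rcases fv_cases r x with h3 | h3
    · exact h x hx h3
    · rcases fv_cases x u with h4 | h4
      · exact h4
      · exact absurd ⟨x, hx, h3, h4⟩ h0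

end two

/-! ### The subgroups `U_c`, `c ∈ r^G` -/

/-- `x ∈ U_c`, `U_c = (U_r)^g` if `c = r^g`, `U_r = {b ∈ B | f_r(b) = 0}` -/
def Uc (B : Subgroup G) (r c x : G) : Prop :=
  ∃ g, g * r * g⁻¹ = c ∧ g⁻¹ * x * g ∈ B ∧ fv r (g⁻¹ * x * g) = 0

section Uc

variable {B : Subgroup G} {r c x y : G}

theorem Uc.conj (h : Uc B r c x) (k : G) : Uc B r (k * c * k⁻¹) (k * x * k⁻¹) := by
  obtain ⟨g, rfl, h2, h3⟩ := h
  refine ⟨k * g, by group, ?_, ?_⟩
  · have e : (k * g)⁻¹ * (k * x * k⁻¹) * (k * g) = g⁻¹ * x * g := by group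
    rwa [e]
  · have e : (k * g)⁻¹ * (k * x * k⁻¹) * (k * g) = g⁻¹ * x * g := by group
    rwa [e]

/-- conjugation by an element commuting with `x` -/
theorem Uc.conj_left (h : Uc B r c x) {k : G} (hk : k * x = x * k) : Uc B r (k * c * k⁻¹) x := by
  have h1 := h.conj k
  rwa [hk, mul_inv_cancel_right] at h1

/-- conjugation by an element commuting with `c` -/
theorem Uc.conj_right (h : Uc B r c x) {k : G} (hk : k * c = c * k) : Uc B r c (k * x * k⁻¹) := by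
  have h1 := h.conj k
  rwa [hk, mul_inv_cancel_right] at h1

variable (t : Tr B r)
include t

theorem Uc.any (h : Uc B r c x) {g : G} (hg : g * r * g⁻¹ = c) :
    g⁻¹ * x * g ∈ B ∧ fv r (g⁻¹ * x * g) = 0 := by
  obtain ⟨g₀, h1, h2, h3⟩ := h
  have hk : g⁻¹ * g₀ * r = r * (g⁻¹ * g₀) := by
    calc g⁻¹ * g₀ * r = g⁻¹ * (g₀ * r * g₀⁻¹) * g₀ := by group
      _ = g⁻¹ * (g * r * g⁻¹) * g₀ := by rw [h1, hg]
      _ = r * (g⁻¹ * g₀) := by group
  have e : g⁻¹ * x * g = (g⁻¹ * g₀) * (g₀⁻¹ * x * g₀) * (g⁻¹ * g₀)⁻¹ := by group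
  rw [e]
  exact ⟨nor_mem (t.nor (mem_centralizer_singleton_iff.mpr hk)) h2, by rw [fv_conj_right hk, h3]⟩

theorem Uc_self : Uc B r r x ↔ x ∈ B ∧ fv r x = 0 := by
  constructor
  · intro h
    have h1 := h.any t (g := 1) (by group)
    have e : (1 : G)⁻¹ * x * 1 = x := by group
    rwa [e] at h1
  · rintro ⟨h1, h2⟩
    have e : (1 : G)⁻¹ * x * 1 = x := by group
    exact ⟨1, by group, by rwa [e], by rwa [e]⟩

theorem Uc.mul (hx : Uc B r c x) (hy : Uc B r c y) : Uc B r c (x * y) := by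
  obtain ⟨g, h1, h2, h3⟩ := hx
  obtain ⟨h4, h5⟩ := hy.any t h1
  have e : g⁻¹ * (x * y) * g = (g⁻¹ * x * g) * (g⁻¹ * y * g) := by group
  refine ⟨g, h1, ?_, ?_⟩
  · rw [e]
    exact B.mul_mem h2 h4
  · rw [e, t.fv_add h2 h4, h3, h5, add_zero]

theorem Uc.inv (hx : Uc B r c x) : Uc B r c x⁻¹ := by
  obtain ⟨g, h1, h2, h3⟩ := hx
  have e : g⁻¹ * x⁻¹ * g = (g⁻¹ * x * g)⁻¹ := by group
  refine ⟨g, h1, ?_, ?_⟩
  · rw [e]
    exact B.inv_mem h2
  · rw [e, t.inv_eq h2, h3]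

theorem Uc.comm (hx : Uc B r c x) (hy : Uc B r c y) : x * y = y * x := by
  obtain ⟨g, h1, h2, h3⟩ := hx
  obtain ⟨h4, h5⟩ := hy.any t h1
  have h6 := t.comm _ h2 _ h4
  have h7 : g * ((g⁻¹ * x * g) * (g⁻¹ * y * g)) * g⁻¹ = g * ((g⁻¹ * y * g) * (g⁻¹ * x * g)) * g⁻¹ := by rw [h6]
  calc x * y = g * ((g⁻¹ * x * g) * (g⁻¹ * y * g)) * g⁻¹ := by group
    _ = _ := h7
    _ = y * x := by group

end Uc

/-! ### Three transvection centres in a fours group -/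

/-- `p` interchanges `r` and `e ∈ Q_r - C(B)`. -/
structure Sw (B : Subgroup G) (r e p : G) : Prop where
  tr : Tr B r
  pr : p * r * p⁻¹ = e
  pe : p * e * p⁻¹ = r
  mem : e ∈ QQ r
  mov : ∃ b ∈ B, e * b ≠ b * e

namespace Sw

variable {B : Subgroup G} {r e p : G} (s : Sw B r e p)
include s

theorem er : e * r = r * e := mem_centralizer_singleton_iff.mp (o2_le _ s.mem)

theorem pr' : p⁻¹ * e * p = r := by
  rw [← s.pr]
  group

theorem pe' : p⁻¹ * r * p = e := by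
  calc p⁻¹ * r * p = p⁻¹ * (p * e * p⁻¹) * p := by rw [s.pe]
    _ = e := by group

theorem ee : e * e = 1 := by
  calc e * e = (p * r * p⁻¹) * (p * r * p⁻¹) := by rw [s.pr]
    _ = p * (r * r) * p⁻¹ := by group
    _ = 1 := by rw [s.tr.sq r s.tr.mem]; group

theorem fv_iff {b : G} (hb : b ∈ B) : fv r b = 0 ↔ e * b = b * e := by
  obtain ⟨b₀, hb₀, h₀⟩ := s.mov
  rw [s.tr.iff_zero s.mem hb₀ h₀ hb, mul_inv_eq_iff_eq_mul]

theorem conj_one {b : G} (hb : b ∈ B) (h : fv r b = 1) : b * e * b⁻¹ = e * r := by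
  obtain ⟨b₀, hb₀, h₀⟩ := s.mov
  have h1 := (s.tr.iff_one s.mem hb₀ h₀ hb).mp h
  have h2 : e * b = b * r * e := mul_inv_eq_iff_eq_mul.mp h1
  calc b * e * b⁻¹ = b⁻¹ * e * b := by rw [s.tr.inv_eq hb]
    _ = b⁻¹ * (e * b) := by group
    _ = r * e := by rw [h2]; group
    _ = e * r := s.er.symm

theorem conj_one' {b : G} (hb : b ∈ B) (h : fv r b = 1) : b * (e * r) * b⁻¹ = e := by
  have h1 : b * r * b⁻¹ = r := by rw [s.tr.comm b hb r s.tr.mem, mul_inv_cancel_right]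
  calc b * (e * r) * b⁻¹ = (b * e * b⁻¹) * (b * r * b⁻¹) := by group
    _ = e * r * r := by rw [s.conj_one hb h, h1]
    _ = e := by rw [mul_assoc, s.tr.sq r s.tr.mem, mul_one]

theorem exists_one : ∃ b ∈ B, fv r b = 1 := by
  obtain ⟨b, hb, h⟩ := s.mov
  exact ⟨b, hb, fv_eq_one.mpr ⟨e, s.mem, h⟩⟩

/-- the action of `d = b^p` -/
theorem d_e {b : G} (hb : b ∈ B) : p * b * p⁻¹ * e = e * (p * b * p⁻¹) := by
  have h := s.tr.comm b hb r s.tr.mem
  rw [← s.pr]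
  calc p * b * p⁻¹ * (p * r * p⁻¹) = p * (b * r) * p⁻¹ := by group
    _ = p * (r * b) * p⁻¹ := by rw [h]
    _ = _ := by group

theorem d_r {b : G} (hb : b ∈ B) (h : fv r b = 1) : p * b * p⁻¹ * r * (p * b * p⁻¹)⁻¹ = e * r := by
  calc p * b * p⁻¹ * r * (p * b * p⁻¹)⁻¹ = p * (b * (p⁻¹ * r * p) * b⁻¹) * p⁻¹ := by group
    _ = p * (b * e * b⁻¹) * p⁻¹ := by rw [s.pe']
    _ = p * (e * r) * p⁻¹ := by rw [s.conj_one hb h]
    _ = (p * e * p⁻¹) * (p * r * p⁻¹) := by group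
    _ = r * e := by rw [s.pr, s.pe]
    _ = e * r := s.er.symm

theorem d_er {b : G} (hb : b ∈ B) (h : fv r b = 1) : p * b * p⁻¹ * (e * r) * (p * b * p⁻¹)⁻¹ = r := by
  have h1 : p * b * p⁻¹ * e * (p * b * p⁻¹)⁻¹ = e := by rw [s.d_e hb, mul_inv_cancel_right]
  calc p * b * p⁻¹ * (e * r) * (p * b * p⁻¹)⁻¹
      = (p * b * p⁻¹ * e * (p * b * p⁻¹)⁻¹) * (p * b * p⁻¹ * r * (p * b * p⁻¹)⁻¹) := by group
    _ = e * (e * r) := by rw [h1, s.d_r hb h]
    _ = r := by rw [← mul_assoc, s.ee, one_mul]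

theorem d_inv {b : G} (hb : b ∈ B) : (p * b * p⁻¹)⁻¹ = p * b * p⁻¹ := by
  calc (p * b * p⁻¹)⁻¹ = p * b⁻¹ * p⁻¹ := by group
    _ = p * b * p⁻¹ := by rw [s.tr.inv_eq hb]

/-- no element of a 2-group acts with order 3 on `⟨r, e⟩` -/
theorem no_three {K : Subgroup G} {b : G} (hb : b ∈ B) (h : fv r b = 1) (hK : b ∈ o2 K)
    (hd : p * b * p⁻¹ ∈ K) : False := by
  have hc : b * (p * b * p⁻¹) * b⁻¹ * (p * b * p⁻¹)⁻¹ ∈ o2 K := by
    have h1 := (mem_normalizer_iff.mp (le_normalizer_o2 K hd) b⁻¹).mp (inv_mem hK)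
    have h2 := mul_mem hK h1
    have e1 : b * (p * b * p⁻¹ * b⁻¹ * (p * b * p⁻¹)⁻¹) = b * (p * b * p⁻¹) * b⁻¹ * (p * b * p⁻¹)⁻¹ := by group
    rwa [e1] at h2
  obtain ⟨c, hcdef⟩ : ∃ c, c = b * (p * b * p⁻¹) * b⁻¹ * (p * b * p⁻¹)⁻¹ := ⟨_, rfl⟩
  rw [← hcdef] at hc
  have hbi := s.tr.inv_eq hb
  have hdi := s.d_inv hb
  have hbr : b * r * b⁻¹ = r := by rw [s.tr.comm b hb r s.tr.mem, mul_inv_cancel_right]
  have hde : p * b * p⁻¹ * e * (p * b * p⁻¹)⁻¹ = e := by rw [s.d_e hb, mul_inv_cancel_right]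
  have exp : ∀ y, c * y * c⁻¹ = b * (p * b * p⁻¹ * (b * (p * b * p⁻¹ * y * (p * b * p⁻¹)⁻¹) * b⁻¹) *
      (p * b * p⁻¹)⁻¹) * b⁻¹ := by
    intro y
    have e1 : c = b * (p * b * p⁻¹) * b * (p * b * p⁻¹) := by rw [hcdef, hdi, hbi]
    calc c * y * c⁻¹ = (b * (p * b * p⁻¹) * b * (p * b * p⁻¹)) * y *
          (b * (p * b * p⁻¹) * b * (p * b * p⁻¹))⁻¹ := by rw [e1]
      _ = _ := by group
  have c1 : c * r * c⁻¹ = e * r := by
    rw [exp, s.d_r hb h, s.conj_one' hb h, hde, s.conj_one hb h]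
  have c2 : c * e * c⁻¹ = r := by
    rw [exp, hde, s.conj_one hb h, s.d_er hb h, hbr]
  have c3 : c * (e * r) * c⁻¹ = e := by
    calc c * (e * r) * c⁻¹ = (c * e * c⁻¹) * (c * r * c⁻¹) := by group
      _ = r * (e * r) := by rw [c1, c2]
      _ = (r * r) * e := by rw [s.er, mul_assoc]
      _ = e := by rw [s.tr.sq r s.tr.mem, one_mul]
  have c4 : Commute (c ^ 3) r := by
    have h1 : c ^ 3 * r * (c ^ 3)⁻¹ = r := by
      have e3 : c ^ 3 = c * c * c := by rw [pow_succ, pow_two]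
      calc c ^ 3 * r * (c ^ 3)⁻¹ = c * (c * (c * r * c⁻¹) * c⁻¹) * c⁻¹ := by rw [e3]; group
        _ = r := by rw [c1, c3, c2]
    exact mul_inv_eq_iff_eq_mul.mp h1
  obtain ⟨k, hk⟩ := o2_isPGroup K ⟨c, hc⟩
  have hk : c ^ 2 ^ k = 1 := congrArg Subtype.val hk
  have hco : IsCoprime (3 : ℤ) ((2 : ℤ) ^ k) := IsCoprime.pow_right (by
    rw [Int.isCoprime_iff_gcd_eq_one]; decide)
  obtain ⟨u, v, huv⟩ := hco
  have h5 : c = (c ^ 3) ^ u := by
    have h6 : c ^ (u * 3 + v * 2 ^ k) = (c ^ 3) ^ u * (c ^ 2 ^ k) ^ v := by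
      rw [zpow_add, mul_comm u 3, mul_comm v, zpow_mul, zpow_mul]
      norm_cast
    rw [huv, zpow_one, hk, one_zpow, mul_one] at h6
    exact h6
  have h6 : Commute c r := by
    rw [h5]
    exact c4.zpow_left u
  rw [h6.eq, mul_inv_cancel_right] at c1
  have h7 : e = 1 := (mul_eq_right.mp c1.symm)
  have h8 := s.pe
  rw [h7, mul_one, mul_inv_cancel] at h8
  exact s.tr.ne_one h8.symm

theorem Uc_r_e {x : G} (h : Uc B r r x) : x * e = e * x := by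
  rw [Uc_self s.tr] at h
  exact ((s.fv_iff h.1).mp h.2).symm

theorem Uc_e_r {x : G} (h : Uc B r e x) : x * r = r * x := by
  obtain ⟨h1, h2⟩ := h.any s.tr s.pr
  have h3 := (s.fv_iff h1).mp h2
  have e1 : x = p * (p⁻¹ * x * p) * p⁻¹ := by group
  rw [← s.pe]
  calc x * (p * e * p⁻¹) = p * ((p⁻¹ * x * p) * e) * p⁻¹ := by group
    _ = p * (e * (p⁻¹ * x * p)) * p⁻¹ := by rw [h3]
    _ = _ := by group

theorem Uc_e_e {x : G} (h : Uc B r e x) : x * e = e * x := by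
  obtain ⟨h1, h2⟩ := h.any s.tr s.pr
  have h3 := s.d_e h1
  have e1 : p * (p⁻¹ * x * p) * p⁻¹ = x := by group
  rwa [e1] at h3

/-- `U_r ∩ U_e ≤ U_er` -/
theorem inter₁ {x : G} (h1 : Uc B r r x) (h2 : Uc B r e x) : Uc B r (e * r) x := by
  obtain ⟨b, hb, hb1⟩ := s.exists_one
  rw [← s.conj_one hb hb1]
  exact h2.conj_left (s.tr.comm b hb x ((Uc_self s.tr).mp h1).1)

theorem inter₂ {x : G} (h1 : Uc B r r x) (h2 : Uc B r (e * r) x) : Uc B r e x := by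
  obtain ⟨b, hb, hb1⟩ := s.exists_one
  rw [← s.conj_one' hb hb1]
  exact h2.conj_left (s.tr.comm b hb x ((Uc_self s.tr).mp h1).1)

/-- `U_e ∩ U_er ≤ U_r` -/
theorem inter₃ {x : G} (h1 : Uc B r e x) (h2 : Uc B r (e * r) x) : Uc B r r x := by
  obtain ⟨b, hb, hb1⟩ := s.exists_one
  have h3 := h2.conj_left (k := p * b * p⁻¹) ?_
  · rwa [s.d_er hb hb1] at h3
  · obtain ⟨h4, -⟩ := h1.any s.tr s.pr
    have h5 := s.tr.comm b hb _ h4
    calc p * b * p⁻¹ * x = p * (b * (p⁻¹ * x * p)) * p⁻¹ := by group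
      _ = p * ((p⁻¹ * x * p) * b) * p⁻¹ := by rw [h5]
      _ = _ := by group

/-- `a ∈ U_e` centralising some `b ∈ B - U_r` lies in `U_r` -/
theorem fix {a b : G} (ha : Uc B r e a) (hb : b ∈ B) (h : fv r b = 1) (hab : b * a = a * b) : Uc B r r a := by
  have h1 := ha.conj_left hab
  rw [s.conj_one hb h] at h1
  exact s.inter₃ ha h1

/-- `U_e ≤ N(B)` -/
theorem nor_e {a : G} (ha : Uc B r e a) : a ∈ normalizer (B : Set G) :=
  s.tr.nor (mem_centralizer_singleton_iff.mpr (s.Uc_e_r ha))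

/-- `[U_e, U_r] ≤ U_r ∩ U_e` -/
theorem comm_mem {a b : G} (ha : Uc B r e a) (hb : Uc B r r b) :
    Uc B r r (b * (a * b * a⁻¹)) ∧ Uc B r e (b * (a * b * a⁻¹)) := by
  have h1 : Uc B r r (a * b * a⁻¹) := hb.conj_right (s.Uc_e_r ha)
  have hb' : b⁻¹ = b := s.tr.inv_eq ((Uc_self s.tr).mp hb).1
  refine ⟨hb.mul s.tr h1, ?_⟩
  have h2 : Uc B r e (b * a * b⁻¹) := ha.conj_right (s.Uc_r_e hb)
  have h3 := h2.mul s.tr (ha.inv s.tr)
  have e1 : b * a * b⁻¹ * a⁻¹ = b * (a * b * a⁻¹) := by rw [hb']; group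
  rwa [e1] at h3

/-- `[x, U_e] ≤ U_r`, `x ∈ B` -/
theorem comm_mem' {a x : G} (ha : Uc B r e a) (hx : x ∈ B) : Uc B r r (x * (a * x * a⁻¹)) := by
  rw [Uc_self s.tr]
  have h1 := nor_mem (s.nor_e ha) hx
  refine ⟨B.mul_mem hx h1, ?_⟩
  rw [s.tr.fv_add hx h1, fv_conj_right (s.Uc_e_r ha)]
  exact CharTwo.add_self_eq_zero _

/-- every `y ∈ U_r` is `[x, a] i`, `a ∈ U_e`, `i ∈ U_r ∩ U_e` -/
theorem decomp {x y : G} (hx : x ∈ B) (hx1 : fv r x = 1) (hy : Uc B r r y) :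
    ∃ a, Uc B r e a ∧ ∃ i, Uc B r r i ∧ Uc B r e i ∧ y = x * (a * x * a⁻¹) * i := by
  have t := s.tr
  have hxi := t.inv_eq hx
  -- `U_er ≤ U_r U_e`
  have key : ∀ c, Uc B r (e * r) c → ∃ a, Uc B r e a ∧ c = x * (a * x * a⁻¹) * a := by
    intro c hc
    refine ⟨x⁻¹ * c * x, ?_, ?_⟩
    · have h1 := hc.conj x⁻¹
      have e1 : x⁻¹ * (e * r) * x⁻¹⁻¹ = e := by rw [hxi]; nth_rw 2 [← hxi]; rw [hxi]; exact s.conj_one' hx hx1
      rw [e1, inv_inv] at h1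
      exact h1
    · rw [hxi]
      have h2 : x * x = 1 := t.sq x hx
      calc c = (x * x) * c * (x * x) := by rw [h2]; group
        _ = x * (x * c * x * x * (x * c * x)⁻¹) * (x * c * x) := by group
  obtain ⟨b, hb, hb1⟩ := s.exists_one
  obtain ⟨d, hd⟩ : ∃ d, d = p * b * p⁻¹ := ⟨_, rfl⟩
  have hdi : d⁻¹ = d := by rw [hd]; exact s.d_inv hb
  have hde : d * e = e * d := by rw [hd]; exact s.d_e hb
  have hdr : d * r * d⁻¹ = e * r := by rw [hd]; exact s.d_r hb hb1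
  have h1 := hy.conj d
  rw [hdr] at h1
  obtain ⟨a, ha, h2⟩ := key _ h1
  have h3 : Uc B r r (x * (a * x * a⁻¹)) := s.comm_mem' ha hx
  -- `y = c a₂`
  have hdd : d * d = 1 := by
    nth_rw 1 [← hdi]
    exact inv_mul_cancel d
  have h4 : Uc B r (e * r) (d * (x * (a * x * a⁻¹)) * d⁻¹) := by
    rw [← hdr]
    exact h3.conj d
  have h5 : Uc B r e (d * a * d⁻¹) := ha.conj_right hde
  obtain ⟨a₁, ha₁, h6⟩ := key _ h4
  have h7 : y = (d * (x * (a * x * a⁻¹)) * d⁻¹) * (d * a * d⁻¹) := by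
    calc y = (d * d) * y * (d * d) := by rw [hdd]; group
      _ = d * (d * y * d) * d := by group
      _ = d * (d * y * d⁻¹) * d⁻¹ := by rw [hdi]
      _ = d * (x * (a * x * a⁻¹) * a) * d⁻¹ := by rw [h2]
      _ = _ := by group
  refine ⟨a₁, ha₁, a₁ * (d * a * d⁻¹), ?_, ha₁.mul t h5, ?_⟩
  · have h8 := ((s.comm_mem' ha₁ hx).inv t).mul t hy
    have e2 : (x * (a₁ * x * a₁⁻¹))⁻¹ * y = a₁ * (d * a * d⁻¹) := by
      rw [h7, h6]
      group
    rwa [e2] at h8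
  · rw [h7, h6]
    group

/-- `r ∉ U_e` -/
theorem r_not : ¬ Uc B r e r := by
  intro h
  obtain ⟨h1, -⟩ := h.any s.tr s.pr
  rw [s.pe'] at h1
  obtain ⟨b, hb, h2⟩ := s.mov
  exact h2 (s.tr.comm e h1 b hb)

/-- no element of `KK` lies in `U_e` -/
theorem KK_not {y : G} (hy : y ∈ KK B r) (h : Uc B r e y) : False := by
  obtain ⟨b, hb, hb1⟩ := s.exists_one
  have ty := s.tr.of_mem hy
  obtain ⟨h1, -⟩ := h.any s.tr s.pr
  refine s.no_three hb hb1 (ty.le hb) (mem_centralizer_singleton_iff.mpr ?_)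
  have h5 := s.tr.comm b hb _ h1
  calc p * b * p⁻¹ * y = p * (b * (p⁻¹ * y * p)) * p⁻¹ := by group
    _ = p * ((p⁻¹ * y * p) * b) * p⁻¹ := by rw [h5]
    _ = _ := by group

theorem Uc_e_self : Uc B r e e := by
  refine ⟨p, s.pr, ?_, ?_⟩
  · rw [s.pr']
    exact s.tr.mem
  · rw [s.pr']
    exact Tr.fv_self r

/-- `U_e = I ∪ e I` is impossible. -/
theorem false_of_half {y₁ y₂ : G} (hy₁ : y₁ ∈ KK B r) (h₁ : fv r y₁ = 0)
    (hy₂ : y₂ ∈ KK B r) (h₂ : fv r y₂ = 0) (h₁₂ : y₁ * y₂ ∈ KK B r)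
    (half : ∀ a, Uc B r e a → Uc B r r a ∨ Uc B r r (e⁻¹ * a)) : False := by
  have t := s.tr
  have half' : ∀ y, Uc B r r y → Uc B r e y ∨ Uc B r e (r⁻¹ * y) := by
    intro y hy
    have h1 := hy.conj p
    rw [s.pr] at h1
    rcases half _ h1 with h2 | h2
    · left
      have h3 := h2.conj p⁻¹
      rw [inv_inv, s.pe'] at h3
      have e1 : p⁻¹ * (p * y * p⁻¹) * p = y := by group
      rwa [e1] at h3
    · right
      have h3 := h2.conj p⁻¹
      rw [inv_inv, s.pe'] at h3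
      have e1 : p⁻¹ * (e⁻¹ * (p * y * p⁻¹)) * p = (p⁻¹ * e * p)⁻¹ * y := by group
      rwa [e1, s.pr'] at h3
  have ty₁ := t.of_mem hy₁
  have ty₂ := t.of_mem hy₂
  rcases half' y₁ ((Uc_self t).mpr ⟨ty₁.mem, h₁⟩) with h3 | h3
  · exact s.KK_not hy₁ h3
  rcases half' y₂ ((Uc_self t).mpr ⟨ty₂.mem, h₂⟩) with h4 | h4
  · exact s.KK_not hy₂ h4
  refine s.KK_not h₁₂ ?_
  have h5 := h3.mul t h4
  have e1 : r⁻¹ * y₁ * (r⁻¹ * y₂) = y₁ * y₂ := by
    have h6 := t.comm r t.mem y₁ ty₁.mem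
    rw [t.inv_eq t.mem]
    calc r * y₁ * (r * y₂) = (r * y₁) * r * y₂ := by group
      _ = y₁ * (r * r) * y₂ := by rw [h6]; group
      _ = y₁ * y₂ := by rw [t.sq r t.mem, mul_one]
  rwa [e1] at h5

/-- `[x, a] ∈ ⟨r⟩` ⟹ `a ∈ I` or `a ∈ e I` -/
theorem half_of {a x : G} (ha : Uc B r e a) (hx : x ∈ B) (hx1 : fv r x = 1)
    (h : x * (a * x * a⁻¹) = 1 ∨ x * (a * x * a⁻¹) = r) : Uc B r r a ∨ Uc B r r (e⁻¹ * a) := by
  have t := s.tr
  rcases h with h1 | h1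
  · left
    have h2 := eq_inv_of_mul_eq_one_right h1
    rw [t.inv_eq hx] at h2
    exact s.fix ha hx hx1 (mul_inv_eq_iff_eq_mul.mp h2).symm
  · right
    have h2 : a * x * a⁻¹ = x * r := by
      calc a * x * a⁻¹ = x * (x * (a * x * a⁻¹)) := by rw [← mul_assoc, t.sq x hx, one_mul]
        _ = x * r := by rw [h1]
    obtain ⟨b₀, hb₀, h₀⟩ := s.mov
    have h3 : e * x * e⁻¹ = x * r := (t.iff_one s.mem hb₀ h₀ hx).mp hx1
    refine s.fix (((s.Uc_e_self).inv t).mul t ha) hx hx1 ?_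
    have h4 : e⁻¹ * a * x * (e⁻¹ * a)⁻¹ = x := by
      calc e⁻¹ * a * x * (e⁻¹ * a)⁻¹ = e⁻¹ * (a * x * a⁻¹) * e := by group
        _ = e⁻¹ * (e * x * e⁻¹) * e := by rw [h2, h3]
        _ = x := by group
    exact (mul_inv_eq_iff_eq_mul.mp h4).symm

/-- **(7) of #18035**: `b ∈ B - U_r` with `[b, C_G(r)] ≤ ⟨r⟩` is impossible. -/
theorem false_of_b {b y₁ y₂ : G} (hb : b ∈ B) (hb1 : fv r b = 1)
    (h : ∀ g, g * r = r * g → g * b * g⁻¹ = b ∨ g * b * g⁻¹ = b * r) (hy₁ : y₁ ∈ KK B r) (h₁ : fv r y₁ = 0)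
    (hy₂ : y₂ ∈ KK B r) (h₂ : fv r y₂ = 0) (h₁₂ : y₁ * y₂ ∈ KK B r) : False := by
  refine s.false_of_half hy₁ h₁ hy₂ h₂ h₁₂ fun a ha => s.half_of ha hb hb1 ?_
  rcases h a (s.Uc_e_r ha) with h1 | h1
  · left
    rw [h1, s.tr.sq b hb]
  · right
    rw [h1, ← mul_assoc, s.tr.sq b hb, one_mul]

/-- **(3)** `Rad = 1` is impossible. -/
theorem false_of_rad {x y₁ y₂ : G} (hx : x ∈ KK B r) (hx1 : fv r x = 1) (hy₁ : y₁ ∈ KK B r) (h₁ : fv r y₁ = 0)
    (hy₂ : y₂ ∈ KK B r) (h₂ : fv r y₂ = 0) (h₁₂ : y₁ * y₂ ∈ KK B r) (hR : ∀ b ∈ Rad B r, b = 1) : False := by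
  have t := s.tr
  have tx := t.of_mem hx
  have hor : ∀ u, Uc B r r u → (∀ y ∈ KK B r, fv r y = 0 → fv y u = 0) → u = 1 ∨ u = r := by
    intro u hu h
    rw [Uc_self t] at hu
    rcases t.rad_or hu.1 h with h1 | h1
    · exact Or.inl (hR _ h1)
    · right
      have h2 := hR _ h1
      rw [eq_inv_of_mul_eq_one_left h2, t.inv_eq t.mem]
  -- `[y, a] = 1`
  have step : ∀ y ∈ KK B r, fv r y = 0 → ∀ a, Uc B r e a → a * y * a⁻¹ = y := by
    intro y hy h0 a ha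
    have ty := t.of_mem hy
    have hyU : Uc B r r y := (Uc_self t).mpr ⟨ty.mem, h0⟩
    obtain ⟨w1, w2⟩ := s.comm_mem ha hyU
    have hya : a * y * a⁻¹ ∈ KK B r := KK_conj (s.nor_e ha) hy
    have tya := t.of_mem hya
    have hw : ∀ y' ∈ KK B r, fv r y' = 0 → fv y' (y * (a * y * a⁻¹)) = 0 := by
      intro y' hy' h0'
      have ty' := t.of_mem hy'
      obtain ⟨a', ha', i, hi1, hi2, hdec⟩ := s.decomp tx.mem hx1 ((Uc_self t).mpr ⟨ty'.mem, h0'⟩)
      have hxa : a' * x * a'⁻¹ ∈ KK B r := KK_conj (s.nor_e ha') hx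
      have txa := t.of_mem hxa
      have hiB : i ∈ B := ((Uc_self t).mp hi1).1
      have hF : ∀ z ∈ KK B r, fv z y' = fv x z + fv (a' * x * a'⁻¹) z + fv z i := by
        intro z hz
        have tz := t.of_mem hz
        rw [hdec, tz.fv_add (B.mul_mem tx.mem txa.mem) hiB, tz.fv_add tx.mem txa.mem,
          t.symm hz hx, t.symm hz hxa]
      have hi : fv (a * y * a⁻¹) i = fv y i := fv_conj_left (ha.comm t hi2)
      have hxw : fv (a' * x * a'⁻¹) (y * (a * y * a⁻¹)) = fv x (y * (a * y * a⁻¹)) :=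
        fv_conj_left (ha'.comm t w2)
      rw [txa.fv_add ty.mem tya.mem, tx.fv_add ty.mem tya.mem] at hxw
      rw [ty'.fv_add ty.mem tya.mem, t.symm hy' hy, t.symm hy' hya, hF y hy, hF _ hya, hi]
      have fin : ∀ a b c d f : ZMod 2, c + d = a + b → (a + c + f) + (b + d + f) = 0 := by decide
      exact fin _ _ _ _ _ hxw
    rcases hor _ w1 hw with h1 | h1
    · have h2 := eq_inv_of_mul_eq_one_right h1
      rw [t.inv_eq ty.mem] at h2
      exact h2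
    · rw [h1] at w2
      exact absurd w2 s.r_not
  -- `U_e = I ∪ e I`
  refine s.false_of_half hy₁ h₁ hy₂ h₂ h₁₂ fun a ha => s.half_of ha tx.mem hx1 ?_
  have hu := s.comm_mem' ha tx.mem
  have hxa : a * x * a⁻¹ ∈ KK B r := KK_conj (s.nor_e ha) hx
  have txa := t.of_mem hxa
  refine hor _ hu fun y hy h0 => ?_
  have ty := t.of_mem hy
  have h2 := step y hy h0 a ha
  have h3 : fv y (a * x * a⁻¹) = fv y x := by
    have h4 := fv_conj a y x
    rwa [h2] at h4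
  rw [ty.fv_add tx.mem txa.mem, h3]
  exact CharTwo.add_self_eq_zero _

end Sw

end Cfsg.Agent.Omega.NSix.Gam
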