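import Cfsg.Agent.Omega.NSix.Zero

/-!
# OMEGA N6 (#16105 of helper147, #16370): `Ω₁(Z(O₂(P))) = V`, without `J` and `(H2)`

`Sys V L Y ε Q w`: `Y ≥ V` is elementary abelian and centralised by the elements of the `Q i j = O₂(C_G(r_ij))` which
centralise `V`; `w i j ∈ Q i j` induces the transposition on `V` and centralises `Q i j / ⟨r_ij⟩`.
`Sys.le_V : Y ≤ V`.

Application: `zc_le` for any `P`-invariant `Y`, `zc_o2_eq : zc (o2 P) = V`,
`zc_o2_centralizer : zc (o2 (centralizer V)) = V`.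
-/

set_option autoImplicit false

namespace Cfsg.Agent.Omega.NSix.OmegaOne

open Subgroup Cfsg
open Cfsg.Agent.ZN (o2 zc)
open Cfsg.Agent.MinSimple.VModule (o2_le o2_isPGroup le_normalizer_o2 le_o2 mem_zc zc_le zc_comm
  normalizer_le_normalizer_zc)
open Cfsg.Agent.MinSimple.Geo (mem_o2_of_stab)
open Cfsg.Agent.Omega.S5.Def
open Cfsg.Agent.Omega.NSix.Base Cfsg.Agent.Omega.NSix.Basic Cfsg.Agent.Omega.NSix.Zero

universe u

variable {G : Type u} [Group G] {n : ℕ}

/-- see the head of the file -/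
structure Sys (V L Y : Subgroup G) (ε : (Fin n → ZMod 2) → G) (Q : Fin n → Fin n → Subgroup G)
    (w : Fin n → Fin n → G) : Prop where
  ev : EvenSet n V L ε
  comm : ∀ a ∈ Y, ∀ b ∈ Y, a * b = b * a
  sq : ∀ a ∈ Y, a * a = 1
  le : V ≤ Y
  symm : ∀ i j, Q i j = Q j i
  wQ : ∀ i j, i ≠ j → w i j ∈ Q i j
  wa : ∀ i j, i ≠ j → Acts ε (w i j) (Equiv.swap i j)
  nrm : ∀ i j, i ≠ j → ∀ q ∈ Q i j, ∀ y ∈ Y, q * y * q⁻¹ ∈ Y
  act : ∀ i j, i ≠ j → ∀ q ∈ Q i j, Acts ε q 1 ∨ Acts ε q (Equiv.swap i j)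
  cd : ∀ i j, i ≠ j → ∀ q ∈ Q i j, Acts ε q 1 → ∀ y ∈ Y, q * y = y * q
  cj : ∀ i j k l, i ≠ j → k ≠ l →
    w k l * w i j * (w k l)⁻¹ ∈ Q (Equiv.swap k l i) (Equiv.swap k l j)
  qn : ∀ i j, i ≠ j → ∀ y ∈ Y, ∀ q ∈ Q i j, y * q * y⁻¹ ∈ Q i j
  wq : ∀ i j, i ≠ j → ∀ x ∈ Q i j,
    w i j * x * (w i j)⁻¹ = x ∨ w i j * x * (w i j)⁻¹ = x * rr ε i j
  zq : ∀ i j k, i ≠ j → k ≠ i → k ≠ j → ∀ q ∈ Q i j, q * zz ε k = zz ε k * q
  vq : ∀ i j, i ≠ j → V ≤ Q i j
  z0 : ∀ i j k l, i ≠ j → k ≠ l → k ≠ i → k ≠ j → l ≠ i → l ≠ j → ∀ x ∈ Y, x ∈ Q i j →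
    (∀ q ∈ Q i j, q * x = x * q) → x ∈ Q k l
  fx : ∀ y ∈ Y, (∀ i j, i ≠ j → w i j * y = y * w i j) → y = 1

/-- the action of `w i j` -/
def tt (w : Fin n → Fin n → G) (i j : Fin n) (y : G) : G := w i j * y * (w i j)⁻¹

theorem tt_mul (w : Fin n → Fin n → G) (i j : Fin n) (x y : G) : tt w i j (x * y) = tt w i j x * tt w i j y := by
  unfold tt
  group

theorem z2_add_one {a b : ZMod 2} (h : ¬ a = b) : a + b = 1 := by
  revert a b
  decide

theorem comp_swap {i j : Fin n} (hij : i ≠ j) (y : Fin n → ZMod 2) :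
    y ∘ (Equiv.swap i j).symm = y + (y i + y j) • (Pi.single i 1 + Pi.single j 1) := by
  funext k
  rw [Function.comp_apply, Equiv.symm_swap, Pi.add_apply, Pi.smul_apply, Pi.add_apply]
  by_cases h1 : k = i
  · subst h1
    rw [Equiv.swap_apply_left, Pi.single_eq_same, Pi.single_eq_of_ne hij, add_zero,
      smul_eq_mul, mul_one, ← add_assoc, Tv.z2_add, zero_add]
  by_cases h2 : k = j
  · subst h2
    rw [Equiv.swap_apply_right, Pi.single_eq_same, Pi.single_eq_of_ne h1, zero_add,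
      smul_eq_mul, mul_one, add_comm (y i), ← add_assoc, Tv.z2_add, zero_add]
  · rw [Equiv.swap_apply_of_ne_of_ne h1 h2, Pi.single_eq_of_ne h1, Pi.single_eq_of_ne h2,
      add_zero, smul_zero, add_zero]

namespace Sys

variable {V L Y : Subgroup G} {ε : (Fin n → ZMod 2) → G} {Q : Fin n → Fin n → Subgroup G}
  {w : Fin n → Fin n → G} (s : Sys V L Y ε Q w)
include s

theorem t_mem {i j : Fin n} (hij : i ≠ j) {y : G} (hy : y ∈ Y) : tt w i j y ∈ Y :=
  s.nrm i j hij _ (s.wQ i j hij) y hy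

theorem eq_t {i j : Fin n} (hij : i ≠ j) {q : G} (hq : q ∈ Q i j) (ha : Acts ε q (Equiv.swap i j))
    {y : G} (hy : y ∈ Y) : q * y * q⁻¹ = tt w i j y := by
  have h1 : q⁻¹ * w i j ∈ Q i j := mul_mem (inv_mem hq) (s.wQ i j hij)
  have h2 : Acts ε (q⁻¹ * w i j) 1 := by
    have h3 := ha.inv.mul (s.wa i j hij)
    rwa [inv_mul_cancel] at h3
  have h3 := s.cd i j hij _ h1 h2 y hy
  unfold tt
  calc q * y * q⁻¹ = q * (y * (q⁻¹ * w i j)) * (w i j)⁻¹ := by group
    _ = q * (q⁻¹ * w i j * y) * (w i j)⁻¹ := by rw [h3]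
    _ = _ := by group

theorem t_t {i j : Fin n} (hij : i ≠ j) {y : G} (hy : y ∈ Y) : tt w i j (tt w i j y) = y := by
  have h1 : w i j * w i j ∈ Q i j := mul_mem (s.wQ i j hij) (s.wQ i j hij)
  have h2 : Acts ε (w i j * w i j) 1 := by
    have h3 := (s.wa i j hij).mul (s.wa i j hij)
    rwa [Equiv.swap_mul_self] at h3
  have h3 := s.cd i j hij _ h1 h2 y hy
  unfold tt
  calc w i j * (w i j * y * (w i j)⁻¹) * (w i j)⁻¹ = w i j * w i j * y * (w i j * w i j)⁻¹ := by group
    _ = y := by rw [h3, mul_inv_cancel_right]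

theorem t_inv {i j : Fin n} (hij : i ≠ j) {y : G} (hy : y ∈ Y) : (w i j)⁻¹ * y * w i j = tt w i j y := by
  have h1 := s.t_t hij hy
  calc (w i j)⁻¹ * y * w i j = (w i j)⁻¹ * tt w i j (tt w i j y) * w i j := by rw [h1]
    _ = tt w i j y := by unfold tt; group

theorem t_symm {i j : Fin n} (hij : i ≠ j) {y : G} (hy : y ∈ Y) : tt w i j y = tt w j i y := by
  have h1 := s.wQ i j hij
  rw [s.symm] at h1
  have h2 := s.wa i j hij
  rw [Equiv.swap_comm] at h2
  exact s.eq_t hij.symm h1 h2 hy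

theorem t_conj {i j k l : Fin n} (hij : i ≠ j) (hkl : k ≠ l) {y : G} (hy : y ∈ Y) :
    tt w k l (tt w i j (tt w k l y)) = tt w (Equiv.swap k l i) (Equiv.swap k l j) y := by
  have h0 : Equiv.swap k l i ≠ Equiv.swap k l j := fun h => hij ((Equiv.swap k l).injective h)
  have h1 := s.cj i j k l hij hkl
  have h2 : Acts ε (w k l * w i j * (w k l)⁻¹)
      (Equiv.swap (Equiv.swap k l i) (Equiv.swap k l j)) := by
    have h3 := (s.wa k l hkl).conj (s.wa i j hij)
    rwa [← Equiv.swap_apply_apply] at h3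
  rw [← s.eq_t h0 h1 h2 hy, ← s.t_inv hkl hy]
  unfold tt
  group

theorem t_eps {i j : Fin n} (hij : i ≠ j) (x : Fin n → ZMod 2) (h : x i = x j) : tt w i j (ε x) = ε x := by
  have h1 : w i j * ε x * (w i j)⁻¹ = ε (x ∘ (Equiv.swap i j).symm) := s.wa i j hij x
  unfold tt
  rw [h1, comp_swap hij, h, Tv.z2_add, zero_smul, add_zero]

theorem t_eps_ne {i j : Fin n} (hij : i ≠ j) (x : Fin n → ZMod 2) (h : x i ≠ x j) :
    tt w i j (ε x) = ε x * rr ε i j := by
  have h1 : w i j * ε x * (w i j)⁻¹ = ε (x ∘ (Equiv.swap i j).symm) := s.wa i j hij x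
  have h2 : x i + x j = 1 := by
    revert h
    generalize x i = a
    generalize x j = b
    revert a b
    decide
  unfold tt
  rw [h1, comp_swap hij, h2, one_smul, s.ev.add, s.ev.add]
  rfl

theorem t_rr_self {i j : Fin n} (hij : i ≠ j) : tt w i j (rr ε i j) = rr ε i j := by
  have h1 : rr ε i j = ε (Pi.single i 1 + Pi.single j 1) := (s.ev.add _ _).symm
  rw [h1]
  apply s.t_eps hij
  rw [Pi.add_apply, Pi.add_apply, Pi.single_eq_same, Pi.single_eq_same, Pi.single_eq_of_ne hij,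
    Pi.single_eq_of_ne hij.symm, add_comm]

/-- fixed by a star -/
theorem star (c : Fin n) (Λ : Fin n → Prop) (hc : Λ c) {y : G} (hy : y ∈ Y)
    (h : ∀ a, Λ a → a ≠ c → tt w a c y = y) : ∀ a b, Λ a → Λ b → a ≠ b → tt w a b y = y := by
  intro a b ha hb hab
  by_cases hac : a = c
  · subst hac
    rw [s.t_symm hab hy]
    exact h b hb hab.symm
  by_cases hbc : b = c
  · subst hbc
    exact h a ha hab
  have h1 := s.t_conj (i := b) (j := c) (k := a) (l := c) hbc hac hy
  rw [Equiv.swap_apply_right, Equiv.swap_apply_of_ne_of_ne hab.symm hbc, h a ha hac, h b hb hbc,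
    h a ha hac] at h1
  rw [s.t_symm hab hy, ← h1]

/-- a vector of `V` with the same commutators -/
theorem fit (c : Fin n) (Λ : Fin n → Prop) (hc : Λ c) {y : G} (hy : y ∈ Y)
    (h : ∀ a, Λ a → a ≠ c → tt w a c y = y ∨ tt w a c y = y * rr ε a c) :
    ∃ x : Fin n → ZMod 2, (∀ a, ¬ Λ a → x a = 0) ∧
      ∀ a b, Λ a → Λ b → a ≠ b → tt w a b (y * ε x) = y * ε x := by
  classical
  let x : Fin n → ZMod 2 := fun a => if Λ a ∧ a ≠ c ∧ tt w a c y ≠ y then 1 else 0
  have hx0 : ∀ a, ¬ (Λ a ∧ a ≠ c ∧ tt w a c y ≠ y) → x a = 0 := fun a ha => if_neg ha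
  have hx1 : ∀ a, (Λ a ∧ a ≠ c ∧ tt w a c y ≠ y) → x a = 1 := fun a ha => if_pos ha
  have hxV : ε x ∈ Y := s.le (s.ev.mem x)
  have hxc : x c = 0 := hx0 c fun h1 => h1.2.1 rfl
  refine ⟨x, fun a ha => hx0 a fun h1 => ha h1.1, s.star c Λ hc (mul_mem hy hxV) fun a ha hac => ?_⟩
  rw [tt_mul]
  by_cases h1 : tt w a c y = y
  · have h2 : x a = x c := by rw [hxc, hx0 a fun h2 => h2.2.2 h1]
    rw [h1, s.t_eps hac x h2]
  · have h2 : x a ≠ x c := by
      rw [hxc, hx1 a ⟨ha, hac, h1⟩]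
      exact one_ne_zero
    have hr : rr ε a c ∈ Y := s.le (rr_mem s.ev a c)
    rw [(h a ha hac).resolve_left h1, s.t_eps_ne hac x h2, mul_assoc, ← mul_assoc (rr ε a c),
      s.comm _ hr _ hxV, mul_assoc (ε x), rr_sq s.ev, mul_one]

/-- elements of `Q i j` central for an element of `Y` -/
theorem cen_of {i j : Fin n} (hij : i ≠ j) {y : G} (hy : y ∈ Y) (h : tt w i j y = y) :
    ∀ q ∈ Q i j, q * y = y * q := by
  intro q hq
  rcases s.act i j hij q hq with h1 | h1
  · exact s.cd i j hij q hq h1 y hy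
  · have h2 := s.eq_t hij hq h1 hy
    rw [h, mul_inv_eq_iff_eq_mul] at h2
    exact h2

/-- (1): a central element of `Q i j` in `Y` and a disjoint pair -/
theorem disj {i j k l : Fin n} (hij : i ≠ j) (hkl : k ≠ l) (h1 : k ≠ i) (h2 : k ≠ j) (h3 : l ≠ i)
    (h4 : l ≠ j) {y : G} (hy : y ∈ Y) (hq : y ∈ Q i j) (hc : ∀ q ∈ Q i j, q * y = y * q) :
    tt w k l y = y ∨ tt w k l y = y * rr ε k l :=
  s.wq k l hkl y (s.z0 i j k l hij hkl h1 h2 h3 h4 y hy hq hc)

/-- (2): a central element of `Q i j` in `Y`, fixed by the disjoint pairs -/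
theorem pair (hn : 5 ≤ n) {i j : Fin n} (hij : i ≠ j) {c : G} (hy : c ∈ Y) (hq : c ∈ Q i j)
    (hc : ∀ q ∈ Q i j, q * c = c * q)
    (hf : ∀ a b, a ≠ i → a ≠ j → b ≠ i → b ≠ j → a ≠ b → tt w a b c = c) :
    c = 1 ∨ c = rr ε i j := by
  -- if also fixed by one more pair, then trivial
  have key : ∀ (c : G), c ∈ Y → tt w i j c = c →
      (∀ a b, a ≠ i → a ≠ j → b ≠ i → b ≠ j → a ≠ b → tt w a b c = c) →
      ∀ k, k ≠ i → k ≠ j → tt w i k c = c → c = 1 := by
    intro c hy h0 hf k hki hkj hk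
    apply s.fx c hy
    have h1 := s.star i (fun _ => True) trivial hy (fun a _ hai => by
      by_cases haj : a = j
      · subst haj
        rw [s.t_symm hai hy]
        exact h0
      by_cases hak : a = k
      · subst hak
        rw [s.t_symm hai hy]
        exact hk
      have h2 := s.t_conj (i := i) (j := k) (k := a) (l := k) hki.symm hak hy
      rw [Equiv.swap_apply_right, Equiv.swap_apply_of_ne_of_ne (Ne.symm hai) hki.symm,
        hf a k hai haj hki hkj hak, hk, hf a k hai haj hki hkj hak] at h2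
      rw [s.t_symm hai hy, ← h2])
    intro a b hab
    have h2 := h1 a b trivial trivial hab
    unfold tt at h2
    rwa [mul_inv_eq_iff_eq_mul] at h2
  -- three more letters
  obtain ⟨a, ha⟩ : ∃ a, a ∉ ({i, j} : Finset (Fin n)) := by
    by_contra hcon
    push Not at hcon
    have h1 : (Finset.univ : Finset (Fin n)).card ≤ ({i, j} : Finset (Fin n)).card :=
      Finset.card_le_card fun a _ => hcon a
    have h2 := h1.trans Finset.card_le_two
    rw [Finset.card_univ, Fintype.card_fin] at h2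
    omega
  obtain ⟨b, hb⟩ : ∃ b, b ∉ ({i, j, a} : Finset (Fin n)) := by
    by_contra hcon
    push Not at hcon
    have h1 : (Finset.univ : Finset (Fin n)).card ≤ ({i, j, a} : Finset (Fin n)).card :=
      Finset.card_le_card fun a _ => hcon a
    have h2 := h1.trans Finset.card_le_three
    rw [Finset.card_univ, Fintype.card_fin] at h2
    omega
  obtain ⟨k, hk⟩ : ∃ k, k ∉ ({i, j, a, b} : Finset (Fin n)) := by
    by_contra hcon
    push Not at hcon
    have h1 : (Finset.univ : Finset (Fin n)).card ≤ ({i, j, a, b} : Finset (Fin n)).card :=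
      Finset.card_le_card fun a _ => hcon a
    have h2 := h1.trans Finset.card_le_four
    rw [Finset.card_univ, Fintype.card_fin] at h2
    omega
  simp only [Finset.mem_insert, Finset.mem_singleton, not_or] at ha hb hk
  obtain ⟨hai, haj⟩ := ha
  obtain ⟨hbi, hbj, hba⟩ := hb
  obtain ⟨hki, hkj, hka, hkb⟩ := hk
  have hab : a ≠ b := Ne.symm hba
  have hcQ : c ∈ Q a b := s.z0 i j a b hij hab hai haj hbi hbj c hy hq hc
  have hcc : ∀ q ∈ Q a b, q * c = c * q := s.cen_of hab hy (hf a b hai haj hbi hbj hab)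
  have hik : i ≠ k := Ne.symm hki
  have h1 := s.disj hab hik (k := i) (l := k) (Ne.symm hai) (Ne.symm hbi) hka hkb hy hcQ hcc
  have h0 : tt w i j c = c := by
    unfold tt
    rw [hc _ (s.wQ i j hij), mul_inv_cancel_right]
  rcases h1 with h1 | h1
  · left
    exact key c hy h0 hf k hki hkj h1
  · right
    have hr : rr ε i j ∈ Y := s.le (rr_mem s.ev i j)
    have hrr : rr ε i j = ε (Pi.single i 1 + Pi.single j 1) := (s.ev.add _ _).symm
    have h2 := key (c * rr ε i j) (mul_mem hy hr) (by rw [tt_mul, h0, s.t_rr_self hij])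
      (fun a b h1 h2 h3 h4 h5 => by
        rw [tt_mul, hf a b h1 h2 h3 h4 h5, hrr, s.t_eps h5]
        rw [Pi.add_apply, Pi.add_apply, Pi.single_eq_of_ne h1, Pi.single_eq_of_ne h2,
          Pi.single_eq_of_ne h3, Pi.single_eq_of_ne h4]) k hki hkj (by
        rw [tt_mul, h1, hrr, s.t_eps_ne hik, ← hrr, mul_assoc, ← mul_assoc (rr ε i k),
          s.comm (rr ε i k) (s.le (rr_mem s.ev i k)) _ hr, mul_assoc, rr_sq s.ev, mul_one]
        rw [Pi.add_apply, Pi.add_apply, Pi.single_eq_same, Pi.single_eq_of_ne hij,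
          Pi.single_eq_of_ne hki, Pi.single_eq_of_ne hkj, add_zero, add_zero]
        exact one_ne_zero)
    rw [mul_eq_one_iff_eq_inv, rr_inv s.ev] at h2
    exact h2

theorem zq_eps {i j : Fin n} (hij : i ≠ j) {x : Fin n → ZMod 2} (hi : x i = 0) (hj : x j = 0) :
    ∀ q ∈ Q i j, q * ε x = ε x * q := by
  intro q hq
  apply s.cen_of hij (s.le (s.ev.mem x)) _ q hq
  exact s.t_eps hij x (by rw [hi, hj])

/-- (2): the central elements of `Q i j` in `Y` -/
theorem mem (hn : 5 ≤ n) {i j : Fin n} (hij : i ≠ j) {c : G} (hy : c ∈ Y) (hq : c ∈ Q i j)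
    (hc : ∀ q ∈ Q i j, q * c = c * q) : ∃ x : Fin n → ZMod 2, x i = x j ∧ c = ε x := by
  obtain ⟨k, hk⟩ : ∃ a, a ∉ ({i, j} : Finset (Fin n)) := by
    by_contra hcon
    push Not at hcon
    have h1 : (Finset.univ : Finset (Fin n)).card ≤ ({i, j} : Finset (Fin n)).card :=
      Finset.card_le_card fun a _ => hcon a
    have h2 := h1.trans Finset.card_le_two
    rw [Finset.card_univ, Fintype.card_fin] at h2
    omega
  simp only [Finset.mem_insert, Finset.mem_singleton, not_or] at hk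
  obtain ⟨x, hx0, hx⟩ := s.fit k (fun a => a ≠ i ∧ a ≠ j) hk hy fun a ha hak =>
    s.disj hij hak ha.1 ha.2 hk.1 hk.2 hy hq hc
  have hxi : x i = 0 := hx0 i fun h => h.1 rfl
  have hxj : x j = 0 := hx0 j fun h => h.2 rfl
  have hxV : ε x ∈ V := s.ev.mem x
  have h1 := s.pair hn hij (mul_mem hy (s.le hxV)) (mul_mem hq (s.vq i j hij hxV))
    (fun q hq => by rw [← mul_assoc, hc q hq, mul_assoc, s.zq_eps hij hxi hxj q hq, mul_assoc])
    (fun a b h1 h2 h3 h4 h5 => hx a b ⟨h1, h2⟩ ⟨h3, h4⟩ h5)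
  rcases h1 with h1 | h1
  · refine ⟨x, by rw [hxi, hxj], ?_⟩
    rw [mul_eq_one_iff_eq_inv, s.ev.inv] at h1
    exact h1
  · refine ⟨Pi.single i 1 + Pi.single j 1 + x, ?_, ?_⟩
    · change (Pi.single i 1 : Fin n → ZMod 2) i + (Pi.single j 1 : Fin n → ZMod 2) i + x i =
        (Pi.single i 1 : Fin n → ZMod 2) j + (Pi.single j 1 : Fin n → ZMod 2) j + x j
      rw [hxi, hxj, Pi.single_eq_same, Pi.single_eq_same, Pi.single_eq_of_ne hij,
        Pi.single_eq_of_ne hij.symm, add_comm (0 : ZMod 2)]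
    · rw [s.ev.add, s.ev.add]
      change c = rr ε i j * ε x
      rw [← h1, mul_assoc, s.ev.sq, mul_one]

theorem mem_V (hn : 5 ≤ n) {i j : Fin n} (hij : i ≠ j) {y : G} (hy : y ∈ Y) :
    ∃ x : Fin n → ZMod 2, x i = x j ∧ y * tt w i j y = ε x := by
  have hw := s.wQ i j hij
  have hty := s.t_mem hij hy
  have hyi : y⁻¹ = y := inv_eq_of_mul_eq_one_left (s.sq y hy)
  refine s.mem hn hij (mul_mem hy hty) ?_ (s.cen_of hij (mul_mem hy hty) ?_)
  · have h1 := s.qn i j hij y hy _ hw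
    have h2 : y * tt w i j y = y * w i j * y⁻¹ * (w i j)⁻¹ := by
      rw [hyi]
      unfold tt
      group
    rw [h2]
    exact mul_mem h1 (inv_mem hw)
  · rw [tt_mul, s.t_t hij hy, s.comm _ hty _ hy]

/-- (3): the `w i j` are transvections of `Y` -/
theorem tr (hn : 5 ≤ n) {i j : Fin n} (hij : i ≠ j) {y : G} (hy : y ∈ Y) :
    tt w i j y = y ∨ tt w i j y = y * rr ε i j := by
  obtain ⟨x, hxij, hx⟩ := s.mem_V hn hij hy
  have hn3 : 3 ≤ n := by omega
  have hty := s.t_mem hij hy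
  -- constant off `i`, `j`
  have hconst : ∀ a b, a ≠ i → a ≠ j → b ≠ i → b ≠ j → a ≠ b → x a = x b := by
    intro a b hai haj hbi hbj hab
    by_contra hne
    obtain ⟨x', hxab, hx'⟩ := s.mem_V hn hab hy
    have htab := s.t_mem hab hy
    have hcomm : tt w a b (tt w i j y) = tt w i j (tt w a b y) := by
      have h1 := s.t_conj (i := i) (j := j) (k := a) (l := b) hij hab (y := tt w a b y) htab
      rw [s.t_t hab hy, Equiv.swap_apply_of_ne_of_ne hai.symm hbi.symm,
        Equiv.swap_apply_of_ne_of_ne haj.symm hbj.symm] at h1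
      exact h1
    have h1 : tt w a b (ε x) * ε x = tt w i j (ε x') * ε x' := by
      rw [← hx, ← hx', tt_mul, tt_mul, hcomm]
      have c1 := s.comm _ htab _ hy
      have h3 := s.comm _ (s.t_mem hij htab) _ (mul_mem hy hty)
      have h4 := s.comm _ (s.t_mem hij htab) _ (mul_mem hy htab)
      calc tt w a b y * tt w i j (tt w a b y) * (y * tt w i j y)
          = tt w a b y * (tt w i j (tt w a b y) * (y * tt w i j y)) := by group
        _ = tt w a b y * (y * tt w i j y * tt w i j (tt w a b y)) := by rw [h3]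
        _ = (tt w a b y * y) * tt w i j y * tt w i j (tt w a b y) := by group
        _ = (y * tt w a b y) * tt w i j y * tt w i j (tt w a b y) := by rw [c1]
        _ = tt w i j y * (y * tt w a b y) * tt w i j (tt w a b y) := by
            rw [s.comm _ (mul_mem hy htab) _ hty]
        _ = tt w i j y * (y * tt w a b y * tt w i j (tt w a b y)) := by group
        _ = tt w i j y * (tt w i j (tt w a b y) * (y * tt w a b y)) := by rw [h4]
        _ = _ := by group
    have h2 : tt w a b (ε x) * ε x = rr ε a b := by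
      rw [s.t_eps_ne hab x hne, s.ev.comm_mem (s.ev.mem x) (rr_mem s.ev a b), mul_assoc, s.ev.sq, mul_one]
    have h3 : tt w i j (ε x') * ε x' = 1 ∨ tt w i j (ε x') * ε x' = rr ε i j := by
      by_cases h : x' i = x' j
      · left
        rw [s.t_eps hij x' h, s.ev.sq]
      · right
        rw [s.t_eps_ne hij x' h, s.ev.comm_mem (s.ev.mem x') (rr_mem s.ev i j), mul_assoc, s.ev.sq, mul_one]
    rw [← h1, h2] at h3
    rcases h3 with h3 | h3
    · exact rr_ne_one s.ev hn3 hab h3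
    · -- `r_ab = r_ij`
      have h4 : tt w a i (rr ε a b) = tt w a i (rr ε i j) := by rw [h3]
      have e1 : rr ε a b = ε (Pi.single a 1 + Pi.single b 1) := (s.ev.add _ _).symm
      have e2 : rr ε i j = ε (Pi.single i 1 + Pi.single j 1) := (s.ev.add _ _).symm
      have h5 : (Pi.single a 1 + Pi.single b 1 : Fin n → ZMod 2) = Pi.single i 1 + Pi.single j 1 ∨
          (Pi.single a 1 + Pi.single b 1 : Fin n → ZMod 2) = Pi.single i 1 + Pi.single j 1 + 1 := by
        rw [← s.ev.eq_iff, ← e1, ← e2, h3]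
      rcases h5 with h5 | h5
      · have h6 := congrFun h5 a
        rw [Pi.add_apply, Pi.add_apply, Pi.single_eq_same, Pi.single_eq_of_ne hab,
          Pi.single_eq_of_ne hai, Pi.single_eq_of_ne haj, add_zero, add_zero] at h6
        exact one_ne_zero h6
      · obtain ⟨k, hk⟩ : ∃ k, k ∉ ({i, j, a, b} : Finset (Fin n)) := by
          by_contra hcon
          push Not at hcon
          have h1 : (Finset.univ : Finset (Fin n)).card ≤ ({i, j, a, b} : Finset (Fin n)).card :=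
            Finset.card_le_card fun a _ => hcon a
          have h2 := h1.trans Finset.card_le_four
          rw [Finset.card_univ, Fintype.card_fin] at h2
          omega
        simp only [Finset.mem_insert, Finset.mem_singleton, not_or] at hk
        have h6 := congrFun h5 k
        rw [Pi.add_apply, Pi.add_apply, Pi.add_apply, Pi.single_eq_of_ne hk.2.2.1,
          Pi.single_eq_of_ne hk.2.2.2, Pi.single_eq_of_ne hk.1, Pi.single_eq_of_ne hk.2.1, add_zero,
          Pi.one_apply, zero_add] at h6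
        exact zero_ne_one h6
  -- so `ε x ∈ {1, r_ij}`
  have hyi : y * y = 1 := s.sq y hy
  have hfin : ε x = 1 ∨ ε x = rr ε i j := by
    obtain ⟨k, hk⟩ : ∃ a, a ∉ ({i, j} : Finset (Fin n)) := by
      by_contra hcon
      push Not at hcon
      have h1 : (Finset.univ : Finset (Fin n)).card ≤ ({i, j} : Finset (Fin n)).card :=
        Finset.card_le_card fun a _ => hcon a
      have h2 := h1.trans Finset.card_le_two
      rw [Finset.card_univ, Fintype.card_fin] at h2
      omega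
    simp only [Finset.mem_insert, Finset.mem_singleton, not_or] at hk
    have hxk : ∀ a, a ≠ i → a ≠ j → x a = x k := by
      intro a h1 h2
      by_cases h3 : a = k
      · rw [h3]
      · exact hconst a k h1 h2 hk.1 hk.2 h3
    by_cases hik : x i = x k
    · left
      rw [s.ev.ker]
      have h1 : ∀ a, x a = x k := by
        intro a
        by_cases ha : a = i
        · rw [ha, hik]
        by_cases ha' : a = j
        · rw [ha', ← hxij, hik]
        exact hxk a ha ha'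
      rcases Tv.z2 (x k) with h2 | h2
      · left; funext a; rw [h1 a, h2]; rfl
      · right; funext a; rw [h1 a, h2]; rfl
    · right
      have e2 : rr ε i j = ε (Pi.single i 1 + Pi.single j 1) := (s.ev.add _ _).symm
      rw [e2, s.ev.eq_iff]
      have hv : ∀ a b : ZMod 2, a ≠ b → (a = 1 ∧ b = 0) ∨ (a = 0 ∧ b = 1) := by decide
      have hsum : ∀ a, (Pi.single i 1 + Pi.single j 1 : Fin n → ZMod 2) a = if a = i ∨ a = j then 1 else 0 := by
        intro a
        rw [Pi.add_apply]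
        by_cases ha : a = i
        · rw [if_pos (Or.inl ha), ha, Pi.single_eq_same, Pi.single_eq_of_ne hij, add_zero]
        by_cases ha' : a = j
        · rw [if_pos (Or.inr ha'), ha', Pi.single_eq_same, Pi.single_eq_of_ne hij.symm, zero_add]
        rw [if_neg (by tauto), Pi.single_eq_of_ne ha, Pi.single_eq_of_ne ha', add_zero]
      rcases hv _ _ hik with ⟨h1, h2⟩ | ⟨h1, h2⟩
      · left
        funext a
        rw [hsum]
        by_cases ha : a = i
        · rw [if_pos (Or.inl ha), ha, h1]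
        by_cases ha' : a = j
        · rw [if_pos (Or.inr ha'), ha', ← hxij, h1]
        rw [if_neg (by tauto), hxk a ha ha', h2]
      · right
        funext a
        rw [Pi.add_apply, hsum, Pi.one_apply]
        by_cases ha : a = i
        · rw [if_pos (Or.inl ha), ha, h1]
          decide
        by_cases ha' : a = j
        · rw [if_pos (Or.inr ha'), ha', ← hxij, h1]
          decide
        rw [if_neg (by tauto), hxk a ha ha', h2]
        decide
  have h1 : tt w i j y = y * ε x := by rw [← hx, ← mul_assoc, hyi, one_mul]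
  rcases hfin with h2 | h2
  · left
    rw [h1, h2, mul_one]
  · right
    rw [h1, h2]

/-- **`Y ≤ V`** -/
theorem le_V (hn : 5 ≤ n) : Y ≤ V := by
  intro y hy
  have h0 : 0 < n := by omega
  obtain ⟨x, -, hx⟩ := s.fit ⟨0, h0⟩ (fun _ => True) trivial hy fun a _ ha => s.tr hn ha hy
  have hxV : ε x ∈ V := s.ev.mem x
  have h1 := s.fx _ (mul_mem hy (s.le hxV)) fun a b hab => by
    have h2 := hx a b trivial trivial hab
    unfold tt at h2
    rwa [mul_inv_eq_iff_eq_mul] at h2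
  rw [mul_eq_one_iff_eq_inv, s.ev.inv] at h1
  rw [h1]
  exact hxV

end Sys

/-! ### Application -/

/-- the hypotheses of `Zero.sixL` without `(H2)` and without `Fix0` -/
structure Hyp (V P : Subgroup G) (S : Sylow 2 G) (ε : (Fin n → ZMod 2) → G) : Prop where
  ev : EvenSet n V P ε
  le : (S : Subgroup G) ≤ P
  zS : zc (S : Subgroup G) ≤ V
  pair : ∀ i j k, i ≠ j → k ≠ i → k ≠ j → ∀ q ∈ o2 (NN ε i j), q * zz ε k = zz ε k * q
  hle : ∀ i j, i ≠ j → o2 (NN ε i j) ≤ P
  hN : ∃ i j, i ≠ j ∧ ∃ g ∈ WP ε i j, ¬ g ∈ centralizer (V : Set G)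

namespace Hyp

variable {V P : Subgroup G} {S : Sylow 2 G} {ε : (Fin n → ZMod 2) → G} (h : Hyp V P S ε)
include h

/-- `O₂(C_G(r_ij))` acts as `⟨(i j)⟩`. -/
theorem act (hn : 3 ≤ n) : ∀ i j, i ≠ j → ∀ q ∈ o2 (NN ε i j), Acts ε q 1 ∨ Acts ε q (Equiv.swap i j) := by
  intro i j hij q hqQ
  obtain ⟨σ, hσ⟩ := h.ev.perm q (h.hle i j hij hqQ)
  have hfix : ∀ k, k ≠ i → k ≠ j → σ k = k := by
    intro k h1 h2
    apply h.ev.single_inj hn
    have h3 := h.pair i j k hij h1 h2 q hqQ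
    have h4 := zz_conj hσ k
    rw [h3, mul_inv_cancel_right] at h4
    exact h4.symm
  have hdich : σ = 1 ∨ σ = Equiv.swap i j := by
    have hpres : σ i = i ∨ σ i = j := by
      by_contra hc
      rw [not_or] at hc
      have h1 := hfix _ hc.1 hc.2
      exact hc.1 (σ.injective h1)
    have hpres' : σ j = i ∨ σ j = j := by
      by_contra hc
      rw [not_or] at hc
      have h1 := hfix _ hc.1 hc.2
      exact hc.2 (σ.injective h1)
    rcases hpres with h1 | h1
    · left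
      have h2 : σ j = j := hpres'.resolve_left fun h2 => hij (σ.injective (h1.trans h2.symm))
      ext k
      by_cases hk1 : k = i
      · rw [hk1, h1]; rfl
      by_cases hk2 : k = j
      · rw [hk2, h2]; rfl
      rw [hfix k hk1 hk2]; rfl
    · right
      have h2 : σ j = i := hpres'.resolve_right fun h2 => hij (σ.injective (h1.trans h2.symm))
      ext k
      by_cases hk1 : k = i
      · rw [hk1, h1, Equiv.swap_apply_left]
      by_cases hk2 : k = j
      · rw [hk2, h2, Equiv.swap_apply_right]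
      rw [hfix k hk1 hk2, Equiv.swap_apply_of_ne_of_ne hk1 hk2]
  rcases hdich with h1 | h1
  · left; rwa [h1] at hσ
  · right; rwa [h1] at hσ

theorem wp_le [Finite G] (hG : IsCharacteristicTwoType G) (hn : 3 ≤ n) {i j : Fin n} (hij : i ≠ j) :
    WP ε i j ≤ o2 (NN ε i j) := fun _ hg =>
  mem_o2_of_stab hG (rr_sq h.ev i j) (rr_ne_one h.ev hn hij) hg.1 hg.2

theorem v_le_wp (hn : 3 ≤ n) {i j : Fin n} (hij : i ≠ j) : V ≤ WP ε i j := by
  intro v hv
  rw [mem_WP]
  have hvN : v ∈ NN ε i j := by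
    rw [mem_NN]
    exact h.ev.comm_mem hv (rr_mem h.ev i j)
  refine ⟨hvN, fun q hqQ => ?_⟩
  obtain ⟨x, rfl⟩ := h.ev.surj v hv
  have hcase : q * ε x * q⁻¹ = ε x ∨ q * ε x * q⁻¹ = ε x * rr ε i j := by
    rcases h.act hn i j hij q hqQ with h1 | h1
    · left; exact h1 x
    · have h2 : q * ε x * q⁻¹ = ε (x ∘ (Equiv.swap i j).symm) := h1 x
      rw [h2, comp_swap hij, h.ev.add]
      rcases Tv.z2 (x i + x j) with h2 | h2
      · left
        rw [h2, zero_smul, h.ev.zero, mul_one]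
      · right
        rw [h2, one_smul, h.ev.add]
        rfl
  have h2 : ε x * q * (ε x)⁻¹ * q⁻¹ = ε x * (q * ε x * q⁻¹) := by
    rw [h.ev.inv]
    group
  rw [h2]
  rcases hcase with h1 | h1
  · rw [h1, h.ev.sq]
    exact one_mem _
  · rw [h1, ← mul_assoc, h.ev.sq, one_mul]
    exact mem_zpowers _

theorem mov [Finite G] (hG : IsCharacteristicTwoType G) (hn : 3 ≤ n) :
    ∀ i j, i ≠ j → ∃ w ∈ WP ε i j, Acts ε w (Equiv.swap i j) := by
  obtain ⟨i0, j0, hij0, g, hg, hgV⟩ := h.hN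
  have hgs : Acts ε g (Equiv.swap i0 j0) :=
    (h.act hn i0 j0 hij0 g (h.wp_le hG hn hij0 hg)).resolve_left
      fun h1 => hgV (h.ev.acts_one_iff.mp h1)
  intro i j hij
  obtain ⟨σ, h1, h2, -⟩ := exists_perm hij0 hij
  obtain ⟨p, -, hp⟩ := h.ev.full σ
  refine ⟨p * g * p⁻¹, ?_, ?_⟩
  · have := WP_conj hp hg
    rwa [h1, h2] at this
  · have h3 := hp.conj hgs
    have h4 : σ * Equiv.swap i0 j0 * σ⁻¹ = Equiv.swap i j := by
      rw [← Equiv.swap_apply_apply, h1, h2]
    rwa [h4] at h3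

theorem cv_le_NN (i j : Fin n) : centralizer (V : Set G) ≤ NN ε i j := fun g hg => by
  rw [mem_NN]
  exact (mem_centralizer_iff.mp hg _ (rr_mem h.ev i j)).symm

/-- (0) -/
theorem zero {i j k l : Fin n} (hki : k ≠ i) (hkj : k ≠ j)
    (hli : l ≠ i) (hlj : l ≠ j) (hkl : k ≠ l) (hV : V ≤ o2 (NN ε i j)) {x : G} (hx : x ∈ zc (o2 (NN ε i j)))
    (hc : ∀ z ∈ zc (o2 (NN ε k l)), x * z = z * x) (hV' : V ≤ o2 (NN ε k l)) : x ∈ o2 (NN ε k l) := by
  let C : Subgroup G := NN ε k l ⊓ centralizer (zc (o2 (NN ε k l)) : Set G)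
  have hNz : NN ε k l ≤ normalizer (zc (o2 (NN ε k l)) : Set G) :=
    (le_normalizer_o2 _).trans (normalizer_le_normalizer_zc _)
  have hCn : NN ε k l ≤ normalizer (C : Set G) := by
    have key : ∀ g ∈ NN ε k l, ∀ c ∈ C, g * c * g⁻¹ ∈ C := by
      intro g hg c hc0
      have hc1 : c ∈ NN ε k l := hc0.1
      have hc2 := mem_centralizer_iff.mp hc0.2
      refine mem_inf.mpr ⟨mul_mem (mul_mem hg hc1) (inv_mem hg), ?_⟩
      rw [mem_centralizer_iff]
      intro z hz
      have h1 : g⁻¹ * z * g ∈ zc (o2 (NN ε k l)) := by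
        have := (mem_normalizer_iff.mp (hNz (inv_mem hg)) z).mp hz
        rwa [inv_inv] at this
      have h2 := hc2 _ h1
      calc z * (g * c * g⁻¹) = g * (g⁻¹ * z * g * c) * g⁻¹ := by group
        _ = g * (c * (g⁻¹ * z * g)) * g⁻¹ := by rw [h2]
        _ = _ := by group
    intro g hg
    rw [mem_normalizer_iff]
    refine fun c => ⟨key g hg c, fun hc => ?_⟩
    have h1 := key g⁻¹ (inv_mem hg) _ hc
    have h2 : g⁻¹ * (g * c * g⁻¹) * g⁻¹⁻¹ = c := by group
    rwa [h2] at h1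
  -- `z_i`, `z_j ∈ Z(O₂(N_kl))`
  have hzk : ∀ a, a ≠ k → a ≠ l → zz ε a ∈ zc (o2 (NN ε k l)) := by
    intro a h1 h2
    refine mem_zc.mpr ⟨hV' (zz_mem h.ev a), fun q hq => (h.pair k l a hkl h1 h2 q hq), ?_⟩
    rw [pow_two]
    exact zz_sq h.ev a
  have hr : rr ε i j ∈ zc (o2 (NN ε k l)) :=
    mul_mem (hzk i hki.symm hli.symm) (hzk j hkj.symm hlj.symm)
  have hCN : C ≤ NN ε i j := by
    rintro c ⟨-, hc2⟩
    rw [mem_NN]
    exact (mem_centralizer_iff.mp hc2 _ hr).symm
  have hZV : zc (o2 (NN ε i j)) ≤ centralizer (V : Set G) := fun z hz => by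
    rw [mem_centralizer_iff]
    intro v hv
    exact (mem_zc.mp hz).2.1 v (hV hv)
  let M : Subgroup G := zc (o2 (NN ε i j)) ⊓ C
  have hM2 : IsPGroup 2 M := (o2_isPGroup (NN ε i j)).to_le (inf_le_left.trans (zc_le _))
  have hMn : C ≤ normalizer (M : Set G) := by
    intro g hg
    have h1 : g ∈ normalizer (zc (o2 (NN ε i j)) : Set G) :=
      ((le_normalizer_o2 _).trans (normalizer_le_normalizer_zc _)) (hCN hg)
    have h2 : g ∈ normalizer (C : Set G) := le_normalizer hg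
    rw [mem_normalizer_iff] at h1 h2 ⊢
    exact fun x => and_congr (h1 x) (h2 x)
  have hxM : x ∈ M := by
    have h1 : x ∈ centralizer (zc (o2 (NN ε k l)) : Set G) := by
      rw [mem_centralizer_iff]
      intro z hz
      exact (hc z hz).symm
    exact ⟨hx, h.cv_le_NN k l (hZV hx), h1⟩
  have h1 : M ≤ o2 C := le_o2 inf_le_right hM2 hMn
  have h2 : o2 C ≤ o2 (NN ε k l) :=
    le_o2 ((o2_le C).trans inf_le_left) (o2_isPGroup C) (hCn.trans (End.Six.norm_o2 C))
  exact h2 (h1 hxM)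

/-- an element of a `P`-invariant elementary abelian group, fixed by the transvections, is 1 -/
theorem fixed [Finite G] (hn : 3 ≤ n) {F : Subgroup G} (hF2 : ∀ a ∈ F, a * a = 1)
    (hFP : ∀ g ∈ P, ∀ a ∈ F, g * a * g⁻¹ ∈ F)
    (hFw : ∀ a ∈ F, ∀ i j, i ≠ j → ∃ w, Acts ε w (Equiv.swap i j) ∧ w * a = a * w) : F = ⊥ := by
  by_contra hFne
  have h2 : Fact (Nat.Prime 2) := ⟨Nat.prime_two⟩
  have hFp : IsPGroup 2 F := by
    intro a
    refine ⟨1, ?_⟩
    rw [pow_one, pow_two]
    exact Subtype.ext (hF2 a a.2)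
  let act : MulAction (S : Subgroup G) F :=
    { smul := fun s a => ⟨(s : G) * a * (s : G)⁻¹, hFP s (h.le s.2) a a.2⟩
      one_smul := fun a => Subtype.ext (by change (1 : G) * a * (1 : G)⁻¹ = a; group)
      mul_smul := fun s t a => Subtype.ext (by
        change ((s : G) * t) * a * ((s : G) * t)⁻¹ = (s : G) * (t * a * (t : G)⁻¹) * (s : G)⁻¹
        group) }
  have hdvd : 2 ∣ Nat.card F := by
    rcases hFp.card_eq_or_dvd with h1 | h1
    · exact absurd ((card_eq_one (H := F)).mp h1) hFne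
    · exact h1
  have hfix1 : (1 : F) ∈ MulAction.fixedPoints (S : Subgroup G) F := by
    intro s
    exact Subtype.ext (by change (s : G) * 1 * (s : G)⁻¹ = 1; group)
  obtain ⟨a, haf, hane⟩ := S.isPGroup'.exists_fixed_point_of_prime_dvd_card_of_fixed_point F
    hdvd hfix1
  have hac : ∀ s ∈ (S : Subgroup G), s * (a : G) = a * s := by
    intro s hs
    have h1 := congrArg Subtype.val (haf ⟨s, hs⟩)
    have h3 : s * (a : G) * s⁻¹ = a := h1
    exact mul_inv_eq_iff_eq_mul.mp h3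
  have hane' : (a : G) ≠ 1 := fun h1 => hane (Subtype.ext h1).symm
  have haS : (a : G) ∈ (S : Subgroup G) := by
    refine MinPar.le_of_le_normalizer S hFp (fun s hs => ?_) a.2
    rw [mem_normalizer_iff]
    refine fun x => ⟨hFP s (h.le hs) x, fun hx => ?_⟩
    have h1 := hFP s⁻¹ (inv_mem (h.le hs)) _ hx
    have h3 : s⁻¹ * (s * x * s⁻¹) * s⁻¹⁻¹ = x := by group
    rwa [h3] at h1
  have haV : (a : G) ∈ V := h.zS (mem_zc.mpr ⟨haS, hac, by rw [pow_two]; exact hF2 a a.2⟩)
  obtain ⟨x, hx⟩ := h.ev.surj a haV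
  -- `x` is constant
  have hconst : ∀ i j, i ≠ j → x i = x j := by
    intro i j hij
    by_contra hne
    obtain ⟨w, hw, hwa⟩ := hFw a a.2 i j hij
    have h1 : w * ε x * w⁻¹ = ε (x ∘ (Equiv.swap i j).symm) := hw x
    rw [hx, hwa, mul_inv_cancel_right, comp_swap hij] at h1
    have h3 : x i + x j = 1 := by
      exact z2_add_one hne
    rw [h3, one_smul, h.ev.add, h.ev.add, hx] at h1
    have h4 : rr ε i j = 1 := by
      have h5 : (a : G) * rr ε i j = a := h1.symm
      exact mul_eq_left.mp h5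
    exact rr_ne_one h.ev hn hij h4
  apply hane'
  rw [← hx, h.ev.ker]
  have h0 : 0 < n := by omega
  have hall : ∀ i, x i = x ⟨0, h0⟩ := by
    intro i
    by_cases hi : i = ⟨0, h0⟩
    · rw [hi]
    · exact hconst i _ hi
  rcases Tv.z2 (x ⟨0, h0⟩) with h1 | h1
  · left; funext k; rw [hall k, h1]; rfl
  · right; funext k; rw [hall k, h1]; rfl

/-- **(1)-(3)**: a `P`-invariant elementary abelian group `Y ≥ V` centralised by the `O₂(C_G(r_ij)) ∩ C_G(V)` is `V`. -/
theorem le_V [Finite G] (hG : IsCharacteristicTwoType G) (hn : 5 ≤ n) {Y : Subgroup G}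
    (hYc : ∀ a ∈ Y, ∀ b ∈ Y, a * b = b * a) (hY2 : ∀ a ∈ Y, a * a = 1) (hVY : V ≤ Y)
    (hYP : ∀ g ∈ P, ∀ y ∈ Y, g * y * g⁻¹ ∈ Y)
    (hYD : ∀ i j, i ≠ j → ∀ q ∈ o2 (NN ε i j), q ∈ centralizer (V : Set G) → ∀ y ∈ Y, q * y = y * q) :
    Y ≤ V := by
  classical
  have hn3 : 3 ≤ n := by omega
  have hmov := h.mov hG hn3
  have hwQ : ∀ i j, i ≠ j → WP ε i j ≤ o2 (NN ε i j) := fun i j hij => h.wp_le hG hn3 hij
  have hVQ : ∀ i j, i ≠ j → V ≤ o2 (NN ε i j) := fun i j hij => (h.v_le_wp hn3 hij).trans (hwQ i j hij)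
  let w : Fin n → Fin n → G := fun i j => if hij : i ≠ j then (hmov i j hij).choose else 1
  have hw : ∀ i j, i ≠ j → w i j ∈ WP ε i j ∧ Acts ε (w i j) (Equiv.swap i j) := by
    intro i j hij
    have h1 : w i j = (hmov i j hij).choose := dif_pos hij
    rw [h1]
    exact (hmov i j hij).choose_spec
  have hYV : Y ≤ centralizer (V : Set G) := fun y hy => by
    rw [mem_centralizer_iff]
    exact fun v hv => hYc v (hVY hv) y hy
  have hcd : ∀ i j, i ≠ j → ∀ q ∈ o2 (NN ε i j), Acts ε q 1 → ∀ y ∈ Y, q * y = y * q :=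
    fun i j hij q hq h1 => hYD i j hij q hq (h.ev.acts_one_iff.mp h1)
  refine Sys.le_V (L := P) (ε := ε) (Q := fun i j => o2 (NN ε i j)) (w := w)
    { ev := h.ev
      comm := hYc
      sq := hY2
      le := hVY
      symm := fun i j => by rw [NN_symm h.ev]
      wQ := fun i j hij => hwQ i j hij (hw i j hij).1
      wa := fun i j hij => (hw i j hij).2
      nrm := fun i j hij q hq y hy => hYP q (h.hle i j hij hq) y hy
      act := h.act hn3
      cd := hcd
      cj := fun i j k l hij hkl => o2_NN_conj (hw k l hkl).2 (hwQ i j hij (hw i j hij).1)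
      qn := fun i j hij y hy q hq =>
        (mem_normalizer_iff.mp (le_normalizer_o2 _ (h.cv_le_NN i j (hYV hy))) q).mp hq
      wq := fun i j hij x hx => ?_
      zq := h.pair
      vq := hVQ
      z0 := fun i j k l hij hkl h1 h2 h3 h4 x hxY hxQ hxc => ?_
      fx := fun y hy hyw => ?_ } hn
  · rcases zpow_cases (rr_sq h.ev i j) ((hw i j hij).1.2 x hx) with h1 | h1
    · left
      rwa [mul_inv_eq_one] at h1
    · right
      rw [mul_inv_eq_iff_eq_mul] at h1
      rw [h1]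
      exact (mem_NN.mp (o2_le _ hx)).symm
  · refine h.zero h1 h2 h3 h4 hkl (hVQ i j hij) (mem_zc.mpr ⟨hxQ, fun q hq => hxc q hq, ?_⟩)
      (fun z hz => ?_) (hVQ k l hkl)
    · rw [pow_two]
      exact hY2 x hxY
    · refine (hYD k l hkl z (zc_le _ hz) ?_ x hxY).symm
      rw [mem_centralizer_iff]
      intro v hv
      exact (mem_zc.mp hz).2.1 v (hVQ k l hkl hv)
  · -- `C_Y(F_L) = 1`
    let F : Subgroup G :=
      { carrier := {y | y ∈ Y ∧ ∀ i j, i ≠ j → ∀ g ∈ WP ε i j, g * y = y * g}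
        one_mem' := ⟨one_mem _, fun i j _ g _ => by rw [mul_one, one_mul]⟩
        mul_mem' := by
          rintro a b ⟨ha, ha'⟩ ⟨hb, hb'⟩
          refine ⟨mul_mem ha hb, fun i j hij g hg => ?_⟩
          rw [← mul_assoc, ha' i j hij g hg, mul_assoc, hb' i j hij g hg, mul_assoc]
        inv_mem' := by
          rintro a ⟨ha, ha'⟩
          refine ⟨inv_mem ha, fun i j hij g hg => ?_⟩
          have h1 := ha' i j hij g hg
          rw [eq_inv_mul_iff_mul_eq, ← mul_assoc, ← h1, mul_inv_cancel_right] }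
    have hF : F = ⊥ := by
      refine h.fixed hn3 (fun a ha => hY2 a ha.1) (fun g hg a ha => ⟨hYP g hg a ha.1, fun i j hij x hx => ?_⟩)
        (fun a ha i j hij => ⟨w i j, (hw i j hij).2, ha.2 i j hij _ (hw i j hij).1⟩)
      obtain ⟨σ, hσ⟩ := h.ev.perm g⁻¹ (inv_mem hg)
      have h1 := WP_conj hσ hx
      rw [inv_inv] at h1
      have h2 := ha.2 _ _ (fun h3 => hij (σ.injective h3)) _ h1
      calc x * (g * a * g⁻¹) = g * (g⁻¹ * x * g * a) * g⁻¹ := by group
        _ = g * (a * (g⁻¹ * x * g)) * g⁻¹ := by rw [h2]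
        _ = _ := by group
    have hyF : y ∈ F := by
      refine ⟨hy, fun i j hij g hg => ?_⟩
      rcases h.act hn3 i j hij g (hwQ i j hij hg) with h1 | h1
      · exact hcd i j hij g (hwQ i j hij hg) h1 y hy
      · have h2 : (w i j)⁻¹ * g ∈ o2 (NN ε i j) :=
          mul_mem (inv_mem (hwQ i j hij (hw i j hij).1)) (hwQ i j hij hg)
        have h3 : Acts ε ((w i j)⁻¹ * g) 1 := by
          have h3 := (hw i j hij).2.inv.mul h1
          rwa [inv_mul_cancel] at h3
        have h4 := hcd i j hij _ h2 h3 y hy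
        have h5 := hyw i j hij
        calc g * y = w i j * ((w i j)⁻¹ * g * y) := by group
          _ = w i j * (y * ((w i j)⁻¹ * g)) := by rw [h4]
          _ = w i j * y * ((w i j)⁻¹ * g) := by group
          _ = y * w i j * ((w i j)⁻¹ * g) := by rw [h5]
          _ = _ := by group
    rw [hF] at hyF
    exact mem_bot.mp hyF

/-- `O₂(C_G(r_ij)) ∩ C_G(V) ≤ O₂(C_G(V))` -/
theorem d_le {i j : Fin n} {q : G} (hq : q ∈ o2 (NN ε i j)) (hqV : q ∈ centralizer (V : Set G)) :
    q ∈ o2 (centralizer (V : Set G)) := by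
  have h1 : o2 (NN ε i j) ⊓ centralizer (V : Set G) ≤ o2 (centralizer (V : Set G)) := by
    refine le_o2 inf_le_right ((o2_isPGroup (NN ε i j)).to_le inf_le_left) fun g hg => ?_
    have h1 : g ∈ normalizer (o2 (NN ε i j) : Set G) := le_normalizer_o2 _ (h.cv_le_NN i j hg)
    have h2 : g ∈ normalizer (centralizer (V : Set G) : Set G) := le_normalizer hg
    rw [mem_normalizer_iff] at h1 h2 ⊢
    exact fun x => and_congr (h1 x) (h2 x)
  exact h1 ⟨hq, hqV⟩

theorem cv_norm : P ≤ normalizer (centralizer (V : Set G) : Set G) := by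
  have key : ∀ g ∈ P, ∀ c ∈ centralizer (V : Set G), g * c * g⁻¹ ∈ centralizer (V : Set G) := by
    intro g hg c hc
    replace hc := mem_centralizer_iff.mp hc
    rw [mem_centralizer_iff]
    intro v hv
    have h1 : g⁻¹ * v * g ∈ V := by
      have := (mem_normalizer_iff.mp (h.ev.le_normalizer (inv_mem hg)) v).mp hv
      rwa [inv_inv] at this
    have h2 := hc _ h1
    calc v * (g * c * g⁻¹) = g * (g⁻¹ * v * g * c) * g⁻¹ := by group
      _ = g * (c * (g⁻¹ * v * g)) * g⁻¹ := by rw [h2]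
      _ = _ := by group
  intro g hg
  rw [mem_normalizer_iff]
  refine fun c => ⟨key g hg c, fun hc => ?_⟩
  have h1 := key g⁻¹ (inv_mem hg) _ hc
  have h2 : g⁻¹ * (g * c * g⁻¹) * g⁻¹⁻¹ = c := by group
  rwa [h2] at h1

/-- **`Ω₁(Z(O₂(C_G(V)))) = V`** -/
theorem zc_o2_centralizer [Finite G] (hG : IsCharacteristicTwoType G) (hn : 5 ≤ n) :
    zc (o2 (centralizer (V : Set G))) = V := by
  have hVC : V ≤ centralizer (V : Set G) := fun v hv => by
    rw [mem_centralizer_iff]
    exact fun v' hv' => h.ev.comm_mem hv' hv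
  have hVO : V ≤ o2 (centralizer (V : Set G)) :=
    le_o2 hVC h.ev.isPGroup fun g hg => centralizer_le_normalizer _ hg
  have hV : V ≤ zc (o2 (centralizer (V : Set G))) := fun v hv => by
    refine mem_zc.mpr ⟨hVO hv, fun q hq => ?_, ?_⟩
    · exact (mem_centralizer_iff.mp (o2_le _ hq) v hv).symm
    · rw [pow_two]
      exact h.ev.sq_mem hv
  refine le_antisymm (h.le_V hG hn (zc_comm _) (fun a ha => ?_) hV (fun g hg y hy => ?_)
    fun i j _ q hq hqV y hy => (mem_zc.mp hy).2.1 q (h.d_le hq hqV)) hV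
  · have := (mem_zc.mp ha).2.2
    rwa [pow_two] at this
  · exact (mem_normalizer_iff.mp (((h.cv_norm).trans (End.Six.norm_o2 _)).trans
      (normalizer_le_normalizer_zc _) hg) y).mp hy

/-- **`Ω₁(Z(O₂(P))) = V`** -/
theorem zc_o2 [Finite G] (hG : IsCharacteristicTwoType G) (hn : 5 ≤ n) (hV : V ≤ zc (o2 P))
    (hC : (S : Subgroup G) ⊓ centralizer (V : Set G) ≤ o2 P) : zc (o2 P) = V := by
  have hO : o2 (centralizer (V : Set G)) ≤ o2 P := by
    have h1 : o2 (centralizer (V : Set G)) ≤ (S : Subgroup G) :=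
      MinPar.le_of_le_normalizer S (o2_isPGroup _) (h.le.trans (h.cv_norm.trans (End.Six.norm_o2 _)))
    exact (le_inf h1 (o2_le _)).trans hC
  refine le_antisymm (h.le_V hG hn (zc_comm _) (fun a ha => ?_) hV (fun g hg y hy => ?_)
    fun i j _ q hq hqV y hy => (mem_zc.mp hy).2.1 q (hO (h.d_le hq hqV))) hV
  · have := (mem_zc.mp ha).2.2
    rwa [pow_two] at this
  · exact (mem_normalizer_iff.mp ((le_normalizer_o2 P).trans (normalizer_le_normalizer_zc _) hg) y).mp hy

end Hyp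

/-- **`Ω₁(Z(O₂(P))) = V`** for `V = ⟨Ω₁(Z(S)) ^ P⟩`, `P` a star minimal parabolic. -/
theorem zc_o2_par [Finite G] (hG : IsCharacteristicTwoType G) (hn : 5 ≤ n) {S : Sylow 2 G} {P : Subgroup G}
    {ε : (Fin n → ZMod 2) → G} (hP : MinPar.IsParS (S : Subgroup G) P)
    (h : Hyp (ZN.zl (S : Subgroup G) P) P S ε) :
    zc (o2 P) = ZN.zl (S : Subgroup G) P :=
  h.zc_o2 hG hn (hP.isLoc.zl_le S hG) (hP.inf_centralizer S hG).le

end Cfsg.Agent.Omega.NSix.OmegaOne
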