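import Mathlib

/-!
# OMEGA N6: perfect matchings

A *matching* of the odd set `Ω` is an involution `μ` with exactly one fixed point.
-/

set_option autoImplicit false

namespace Cfsg.Agent.Omega.NSix.Mat

variable {ι : Type*} [Fintype ι] [DecidableEq ι]

/-- a perfect matching of `ι - o` -/
structure IsMat (μ : Equiv.Perm ι) (o : ι) : Prop where
  sq : ∀ x, μ (μ x) = x
  fix : ∀ x, μ x = x ↔ x = o

theorem z2cases (c : ZMod 2) : c = 0 ∨ c = 1 := by
  fin_cases c
  · exact Or.inl rfl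
  · exact Or.inr rfl

omit [Fintype ι] in
/-- an odd finset has a matching compatible with `y` -/
theorem exists_on (y : ι → ZMod 2) : ∀ (t : ℕ) (A : Finset ι), A.card = 2 * t + 1 →
    ∃ (τ : Equiv.Perm ι) (o : ι), o ∈ A ∧ (∀ x, τ (τ x) = x) ∧ (∀ x, x ∉ A → τ x = x) ∧
      (∀ x ∈ A, τ x ∈ A) ∧ (∀ x ∈ A, τ x = x ↔ x = o) ∧ ∀ x, y (τ x) = y x := by
  intro t
  induction t with
  | zero =>
    intro A hA
    obtain ⟨o, rfl⟩ := Finset.card_eq_one.mp (by omega : A.card = 1)
    refine ⟨1, o, Finset.mem_singleton_self o, fun _ => rfl, fun _ _ => rfl, fun _ h => h, ?_,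
      fun _ => rfl⟩
    intro x hx
    exact ⟨fun _ => Finset.mem_singleton.mp hx, fun _ => rfl⟩
  | succ t ih =>
    intro A hA
    -- two letters with the same value
    obtain ⟨a, ha, b, hb, hab, hy⟩ : ∃ a ∈ A, ∃ b ∈ A, a ≠ b ∧ y a = y b := by
      have h3 : 2 < A.card := by omega
      obtain ⟨a, b, c, ha, hb, hc, hab, hac, hbc⟩ := Finset.two_lt_card_iff.mp h3
      rcases z2cases (y a) with h1 | h1 <;> rcases z2cases (y b) with h2 | h2 <;>
        rcases z2cases (y c) with h3 | h3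
      · exact ⟨a, ha, b, hb, hab, by rw [h1, h2]⟩
      · exact ⟨a, ha, b, hb, hab, by rw [h1, h2]⟩
      · exact ⟨a, ha, c, hc, hac, by rw [h1, h3]⟩
      · exact ⟨b, hb, c, hc, hbc, by rw [h2, h3]⟩
      · exact ⟨b, hb, c, hc, hbc, by rw [h2, h3]⟩
      · exact ⟨a, ha, c, hc, hac, by rw [h1, h3]⟩
      · exact ⟨a, ha, b, hb, hab, by rw [h1, h2]⟩
      · exact ⟨a, ha, b, hb, hab, by rw [h1, h2]⟩
    have hA' : ((A.erase a).erase b).card = 2 * t + 1 := by
      rw [Finset.card_erase_of_mem (Finset.mem_erase.mpr ⟨hab.symm, hb⟩),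
        Finset.card_erase_of_mem ha]
      omega
    obtain ⟨τ, o, ho, h1, h2, h3, h4, h5⟩ := ih _ hA'
    have hmem : ∀ x, x ∈ (A.erase a).erase b ↔ x ≠ b ∧ x ≠ a ∧ x ∈ A := by
      intro x
      rw [Finset.mem_erase, Finset.mem_erase]
    have ta : τ a = a := h2 a (by rw [hmem]; exact fun h => h.2.1 rfl)
    have tb : τ b = b := h2 b (by rw [hmem]; exact fun h => h.1 rfl)
    have off : ∀ x, x ≠ a → x ≠ b → (Equiv.swap a b * τ) x = τ x := by
      intro x ha hb
      rw [Equiv.Perm.mul_apply, Equiv.swap_apply_of_ne_of_ne]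
      · intro h; apply ha; rw [← h1 x, h, ta]
      · intro h; apply hb; rw [← h1 x, h, tb]
    have ea : (Equiv.swap a b * τ) a = b := by rw [Equiv.Perm.mul_apply, ta, Equiv.swap_apply_left]
    have eb : (Equiv.swap a b * τ) b = a := by rw [Equiv.Perm.mul_apply, tb, Equiv.swap_apply_right]
    refine ⟨Equiv.swap a b * τ, o, ((hmem o).mp ho).2.2, ?_, ?_, ?_, ?_, ?_⟩
    · intro x
      by_cases hxa : x = a
      · rw [hxa, ea, eb]
      by_cases hxb : x = b
      · rw [hxb, eb, ea]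
      rw [off x hxa hxb, off, h1]
      · intro h; apply hxa; rw [← h1 x, h, ta]
      · intro h; apply hxb; rw [← h1 x, h, tb]
    · intro x hx
      have hxa : x ≠ a := fun h => hx (h ▸ ha)
      have hxb : x ≠ b := fun h => hx (h ▸ hb)
      rw [off x hxa hxb]
      exact h2 x (fun h => hx ((hmem x).mp h).2.2)
    · intro x hx
      by_cases hxa : x = a
      · rw [hxa, ea]; exact hb
      by_cases hxb : x = b
      · rw [hxb, eb]; exact ha
      rw [off x hxa hxb]
      exact ((hmem _).mp (h3 x ((hmem x).mpr ⟨hxb, hxa, hx⟩))).2.2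
    · intro x hx
      have hoab := (hmem o).mp ho
      by_cases hxa : x = a
      · rw [hxa, ea]
        exact ⟨fun h => absurd h.symm hab, fun h => absurd h.symm hoab.2.1⟩
      by_cases hxb : x = b
      · rw [hxb, eb]
        exact ⟨fun h => absurd h hab, fun h => absurd h.symm hoab.1⟩
      rw [off x hxa hxb]
      exact h4 x ((hmem x).mpr ⟨hxb, hxa, hx⟩)
    · intro x
      by_cases hxa : x = a
      · rw [hxa, ea, hy]
      by_cases hxb : x = b
      · rw [hxb, eb, hy]
      rw [off x hxa hxb]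
      exact h5 x

/-- a matching of `ι` containing `{i, j}` compatible with `y` -/
theorem exists_mat (hodd : Odd (Fintype.card ι)) (y : ι → ZMod 2) {i j : ι} (hij : i ≠ j)
    (hy : y i = y j) : ∃ (μ : Equiv.Perm ι) (o : ι), IsMat μ o ∧ μ i = j ∧ ∀ x, y (μ x) = y x := by
  obtain ⟨t, ht⟩ := hodd
  have h3 : 2 ≤ Fintype.card ι := by
    have := Finset.card_le_univ ({i, j} : Finset ι)
    rwa [Finset.card_pair hij] at this
  have hcard : (Finset.univ \ {i, j} : Finset ι).card = 2 * (t - 1) + 1 := by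
    rw [Finset.card_sdiff_of_subset (Finset.subset_univ _), Finset.card_univ,
      Finset.card_pair hij]
    omega
  obtain ⟨τ, o, ho, h1, h2, h3, h4, h5⟩ := exists_on y (t - 1) _ hcard
  have hmem : ∀ x, x ∈ (Finset.univ \ {i, j} : Finset ι) ↔ x ≠ i ∧ x ≠ j := by
    intro x
    simp
  have ti : τ i = i := h2 i (by rw [hmem]; exact fun h => h.1 rfl)
  have tj : τ j = j := h2 j (by rw [hmem]; exact fun h => h.2 rfl)
  have ei : (Equiv.swap i j * τ) i = j := by rw [Equiv.Perm.mul_apply, ti, Equiv.swap_apply_left]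
  have ej : (Equiv.swap i j * τ) j = i := by rw [Equiv.Perm.mul_apply, tj, Equiv.swap_apply_right]
  have off : ∀ x, x ≠ i → x ≠ j → (Equiv.swap i j * τ) x = τ x := by
    intro x ha hb
    rw [Equiv.Perm.mul_apply, Equiv.swap_apply_of_ne_of_ne]
    · intro h; apply ha; rw [← h1 x, h, ti]
    · intro h; apply hb; rw [← h1 x, h, tj]
  refine ⟨Equiv.swap i j * τ, o, ⟨?_, ?_⟩, ei, ?_⟩
  · intro x
    by_cases hxa : x = i
    · rw [hxa, ei, ej]
    by_cases hxb : x = j
    · rw [hxb, ej, ei]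
    rw [off x hxa hxb, off, h1]
    · intro h; apply hxa; rw [← h1 x, h, ti]
    · intro h; apply hxb; rw [← h1 x, h, tj]
  · intro x
    have hoab := (hmem o).mp ho
    by_cases hxa : x = i
    · rw [hxa, ei]
      exact ⟨fun h => absurd h.symm hij, fun h => absurd h.symm hoab.1⟩
    by_cases hxb : x = j
    · rw [hxb, ej]
      exact ⟨fun h => absurd h hij, fun h => absurd h.symm hoab.2⟩
    rw [off x hxa hxb]
    exact h4 x ((hmem x).mpr ⟨hxa, hxb⟩)
  · intro x
    by_cases hxa : x = i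
    · rw [hxa, ei, hy]
    by_cases hxb : x = j
    · rw [hxb, ej, hy]
    rw [off x hxa hxb]
    exact h5 x

theorem IsMat.cycleType {μ : Equiv.Perm ι} {o : ι} (h : IsMat μ o) :
    μ.cycleType = Multiset.replicate ((Fintype.card ι - 1) / 2) 2 := by
  have h1 : ∀ n ∈ μ.cycleType, n = 2 := by
    intro n hn
    have h2 := Equiv.Perm.two_le_of_mem_cycleType hn
    have h3 := Equiv.Perm.dvd_of_mem_cycleType hn
    have h4 : μ ^ 2 = 1 := by
      ext x
      rw [pow_two, Equiv.Perm.mul_apply, h.sq]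
      rfl
    have h5 := Nat.le_of_dvd (by norm_num) (h3.trans (orderOf_dvd_of_pow_eq_one h4))
    omega
  have h2 := Multiset.eq_replicate_card.mpr h1
  have h3 : μ.support = Finset.univ.erase o := by
    ext x
    rw [Equiv.Perm.mem_support, Finset.mem_erase, ne_eq, h.fix]
    simp
  have h4 := μ.sum_cycleType
  rw [h2, Multiset.sum_replicate, h3, Finset.card_erase_of_mem (Finset.mem_univ o),
    Finset.card_univ, smul_eq_mul] at h4
  rw [h2]
  congr 1
  omega

/-- two matchings are conjugate -/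
theorem IsMat.conj {μ μ' : Equiv.Perm ι} {o o' : ι} (h : IsMat μ o) (h' : IsMat μ' o') :
    ∃ ρ : Equiv.Perm ι, ρ * μ * ρ⁻¹ = μ' := by
  have h1 := Equiv.Perm.isConj_of_cycleType_eq (h.cycleType.trans h'.cycleType.symm)
  exact isConj_iff.mp h1

/-- for every `y` with `y i = y j` a conjugate of the given matching contains `{i, j}` and is
compatible with `y` -/
theorem exists_conj {μ : Equiv.Perm ι} {o : ι} (h : IsMat μ o) (hodd : Odd (Fintype.card ι))
    (y : ι → ZMod 2) {i j : ι} (hij : i ≠ j) (hy : y i = y j) :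
    ∃ ρ : Equiv.Perm ι, (ρ * μ * ρ⁻¹) i = j ∧ ∀ x, y ((ρ * μ * ρ⁻¹) x) = y x := by
  obtain ⟨μ', o', h1, h2, h3⟩ := exists_mat hodd y hij hy
  obtain ⟨ρ, hρ⟩ := h.conj h1
  exact ⟨ρ, by rw [hρ]; exact h2, by rw [hρ]; exact h3⟩

end Cfsg.Agent.Omega.NSix.Mat
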