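import Cfsg.Agent.Omega.NSix.End
import Cfsg.Agent.Omega.NSix.Mat

/-!
# OMEGA N6, #14568 (E) for a minimal parabolic `L` (not `N_G(V)`)

`SixL V L S ε W`: `Six` and: `S` is a Sylow 2-subgroup of `G` inside `L` which commutes with a
perfect matching of the labels, the `W i j` are 2-groups.
`SixL.nn_le`: `N_ij ≤ N_G(V)`; `SixL.false`.
-/

set_option autoImplicit false

namespace Cfsg.Agent.Omega.NSix.EndL

open Subgroup Cfsg Cfsg.Agent.ZN Cfsg.Agent.MinSimple.VModule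
open Cfsg.Agent.Omega.S5.Def Cfsg.Agent.Omega.NSix.Base Cfsg.Agent.Omega.NSix.Basic
open Cfsg.Agent.Omega.NSix.One Cfsg.Agent.Omega.NSix.End Cfsg.Agent.Omega.NSix.Mat

universe u

variable {G : Type u} [Group G] {n : ℕ} {V L : Subgroup G} {ε : (Fin n → ZMod 2) → G}
  {W : Fin n → Fin n → Subgroup G}

/-- the situation (H1), (H2) for a parabolic `L` over the Sylow 2-subgroup `S` -/
structure SixL (V L : Subgroup G) (S : Sylow 2 G) (ε : (Fin n → ZMod 2) → G)
    (W : Fin n → Fin n → Subgroup G) : Prop extends Six V L ε W where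
  le : (S : Subgroup G) ≤ L
  two : ∀ i j, i ≠ j → IsPGroup 2 (W i j)
  mat : ∃ (μ : Equiv.Perm (Fin n)) (o : Fin n), IsMat μ o ∧
    ∀ s ∈ (S : Subgroup G), ∀ σ, Acts ε s σ → σ * μ = μ * σ

/-- conjugation into a Sylow 2-subgroup inside `C`, where `S` normalises `C` -/
theorem exists_conj_sylow [Finite G] (S : Sylow 2 G) {C : Subgroup G}
    (hSC : (S : Subgroup G) ≤ normalizer (C : Set G)) {x : G} (hx : x ∈ C)
    (hx2 : IsPGroup 2 (zpowers x)) : ∃ y ∈ C, y * x * y⁻¹ ∈ (S : Subgroup G) := by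
  have : Fact (Nat.Prime 2) := ⟨Nat.prime_two⟩
  set D : Subgroup G := (S : Subgroup G) ⊔ C with hD
  have hSD : (S : Subgroup G) ≤ D := le_sup_left
  have hxD : x ∈ D := (le_sup_right : C ≤ D) hx
  have hX : IsPGroup 2 ((zpowers x).subgroupOf D) := hx2.comap_subtype
  obtain ⟨Q, hQ⟩ := hX.exists_le_sylow
  obtain ⟨g, hg⟩ := MulAction.exists_smul_eq D Q (S.subtype hSD)
  have h1 : (⟨x, hxD⟩ : D) ∈ (Q : Subgroup D) := hQ (mem_subgroupOf.mpr (mem_zpowers x))
  have h2 : g * ⟨x, hxD⟩ * g⁻¹ ∈ ((g • Q : Sylow 2 D) : Subgroup D) := by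
    have := smul_mem_pointwise_smul _ (MulAut.conj g) (Q : Subgroup D) h1
    exact this
  rw [hg] at h2
  have h3 : (g : G) * x * (g : G)⁻¹ ∈ (S : Subgroup G) := h2
  have h4 : (g : G) ∈ ((S : Subgroup G) ⊔ C : Subgroup G) := g.2
  have h5 : (g : G) ∈ (((S : Subgroup G) ⊔ C : Subgroup G) : Set G) := h4
  rw [coe_mul_of_left_le_normalizer_right _ _ hSC] at h5
  obtain ⟨s, hs, y, hy, hsy⟩ := h5
  refine ⟨y, hy, ?_⟩
  have h6 := mul_mem (mul_mem (inv_mem (show s ∈ (S : Subgroup G) from hs)) h3) hs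
  have h7 : s⁻¹ * ((g : G) * x * (g : G)⁻¹) * s = y * x * y⁻¹ := by
    have h8 : s * y = (g : G) := hsy
    rw [← h8]
    group
  rwa [h7] at h6

/-- an element commuting with the pairs of a matching commutes with the sets compatible with it -/
theorem comm_inv (h : EvenSet n V L ε) {μ : Equiv.Perm (Fin n)} {o : Fin n} (hm : IsMat μ o)
    {g : G} (hg : ∀ a, g * rr ε a (μ a) * g⁻¹ = rr ε a (μ a)) {y : Fin n → ZMod 2}
    (hy : ∀ x, y (μ x) = y x) : g * ε y * g⁻¹ = ε y := by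
  have hsing : ∀ a : Fin n, (Pi.single a 1 : Fin n → ZMod 2) ∘ μ = Pi.single (μ a) 1 := by
    intro a
    funext x
    rw [Function.comp_apply]
    by_cases hx : x = μ a
    · rw [hx, hm.sq, Pi.single_eq_same, Pi.single_eq_same]
    · have h1 : μ x ≠ a := fun h => hx (by rw [← h, hm.sq])
      rw [Pi.single_eq_of_ne h1, Pi.single_eq_of_ne hx]
  have key : ∀ A : Finset (Fin n),
      g * ε ((∑ a ∈ A, Pi.single a 1) + (∑ a ∈ A, Pi.single a 1) ∘ μ) * g⁻¹ =
        ε ((∑ a ∈ A, Pi.single a 1) + (∑ a ∈ A, Pi.single a 1) ∘ μ) := by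
    intro A
    induction A using Finset.induction_on with
    | empty =>
      rw [Finset.sum_empty, Pi.zero_comp, add_zero, h.zero]
      group
    | insert k A hk ih =>
      rw [Finset.sum_insert hk]
      have e1 : (Pi.single k 1 + ∑ a ∈ A, Pi.single a 1 : Fin n → ZMod 2) +
          (Pi.single k 1 + ∑ a ∈ A, Pi.single a 1 : Fin n → ZMod 2) ∘ μ =
          (Pi.single k 1 + Pi.single (μ k) 1) +
            ((∑ a ∈ A, Pi.single a 1) + (∑ a ∈ A, Pi.single a 1 : Fin n → ZMod 2) ∘ μ) := by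
        rw [Pi.add_comp, hsing]
        abel
      have e2 : ε (Pi.single k 1 + Pi.single (μ k) 1) = rr ε k (μ k) := by
        rw [h.add]
        rfl
      rw [e1, h.add, e2]
      calc g * (rr ε k (μ k) *
            ε ((∑ a ∈ A, Pi.single a 1) + (∑ a ∈ A, Pi.single a 1) ∘ μ)) * g⁻¹
          = (g * rr ε k (μ k) * g⁻¹) *
            (g * ε ((∑ a ∈ A, Pi.single a 1) + (∑ a ∈ A, Pi.single a 1) ∘ μ) * g⁻¹) := by group
        _ = _ := by rw [hg, ih]
  have hsum : ∀ f : Fin n → ZMod 2,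
      f = ∑ k ∈ Finset.univ.filter (fun k => f k ≠ 0), Pi.single k 1 := by
    intro f
    funext m
    rw [Finset.sum_apply]
    by_cases hm : f m = 0
    · rw [hm, Finset.sum_eq_zero]
      intro k hk
      have : m ≠ k := by
        rintro rfl
        exact (Finset.mem_filter.mp hk).2 hm
      exact Pi.single_eq_of_ne this _
    · rw [Finset.sum_eq_single m]
      · rw [Pi.single_eq_same]; exact Tv.z2_one hm
      · intro k _ hk
        exact Pi.single_eq_of_ne (Ne.symm hk) _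
      · intro h0
        exfalso
        apply h0
        rw [Finset.mem_filter]
        exact ⟨Finset.mem_univ _, hm⟩
  have zero : ∀ y : Fin n → ZMod 2, (∀ x, y (μ x) = y x) → y o = 0 → g * ε y * g⁻¹ = ε y := by
    intro y hy h0
    set f : Fin n → ZMod 2 := fun x => if x < μ x then y x else 0 with hf
    have e1 : y = f + f ∘ μ := by
      funext x
      rw [Pi.add_apply, Function.comp_apply, hf]
      simp only [hm.sq, hy]
      rcases lt_trichotomy x (μ x) with h1 | h1 | h1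
      · rw [if_pos h1, if_neg (not_lt_of_gt h1), add_zero]
      · have h2 : x = o := (hm.fix x).mp h1.symm
        rw [if_neg (by rw [← h1]; exact lt_irrefl x), if_neg (by rw [← h1]; exact lt_irrefl x),
          add_zero, h2, h0]
      · rw [if_neg (not_lt_of_gt h1), if_pos h1, zero_add]
    rw [e1, hsum f]
    exact key _
  rcases Tv.z2 (y o) with h0 | h0
  · exact zero y hy h0
  · have h1 : ε (y + 1) = ε y := by rw [h.add, h.one, mul_one]
    rw [← h1]
    apply zero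
    · intro x
      rw [Pi.add_apply, Pi.add_apply, hy]
      rfl
    · rw [Pi.add_apply, h0, Pi.one_apply]
      decide

/-- the elements of `U_ij ≤ V` are orthogonal to `{i, j}` -/
theorem uu_coord [Finite G] (b : Six V L ε W) (hn : 7 ≤ n) {i j : Fin n} (hij : i ≠ j)
    {y : Fin n → ZMod 2} (hu : ε y ∈ UU ε i j) : y i = y j := by
  obtain ⟨w, hw, hws⟩ := b.mov i j hij
  have h1 := b.cen i j hij _ hu w hw
  have h2 : ε (y ∘ (Equiv.swap i j).symm) = ε y := by
    rw [← hws y, ← h1, mul_inv_cancel_right]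
  rcases b.ev.eq_iff.mp h2 with h3 | h3
  · have h4 := congrFun h3 i
    rw [Function.comp_apply, Equiv.symm_swap, Equiv.swap_apply_left] at h4
    exact h4.symm
  · obtain ⟨k, l, hkl, ⟨k1, k2, -, -⟩, -⟩ := Six.exists_off (by omega) i j i j
    have h4 := congrFun h3 k
    rw [Function.comp_apply, Equiv.symm_swap, Equiv.swap_apply_of_ne_of_ne k1 k2,
      Pi.add_apply, Pi.one_apply] at h4
    exact absurd (left_eq_add.mp h4) (by decide)

namespace SixL

variable [Finite G] {S : Sylow 2 G}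

/-- (E): `N_ij ≤ N_G(V)` -/
theorem nn_le (b : SixL V L S ε W) (hodd : Odd n) (hn : 7 ≤ n) {i j : Fin n} (hij : i ≠ j) :
    NN ε i j ≤ normalizer (V : Set G) := by
  have hn3 : 3 ≤ n := by omega
  intro g hg
  obtain ⟨k, l, hkl, ⟨ki, kj, -, -⟩, li, lj, -, -⟩ := Six.exists_off (by omega) i j i j
  obtain ⟨w, hw, hws⟩ := b.mov k l hkl
  set c := g * rr ε k l * g⁻¹ with hc
  set x := g * w * g⁻¹ with hx
  have wit : Wit ε i j c g k l := ⟨hg, hkl, ki, kj, li, lj, hc⟩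
  have hxc : Wc ε W i j c x := by
    rw [wc_iff b.toBase wit]
    have : g⁻¹ * x * g = w := by rw [hx]; group
    rwa [this]
  have hxN := wc_NN b.toBase hxc
  have hcK := wc_kk hxc
  have hcne := kk_ne b.toBase hn3 hcK
  have hcU := kk_mem_UU hcK
  have hpt : ∀ m, m ≠ i → m ≠ j → x * zz ε m * x⁻¹ = zz ε m ∨ x * zz ε m * x⁻¹ = zz ε m * c :=
    fun m h1 h2 => wc_act b.toBase hij hxc (zz_mem_UU (ε := ε) h1 h2)
  -- `x` commutes with a pair `r_mm'`
  have hpair : ∀ m m', m ≠ m' → m ≠ i → m ≠ j → m' ≠ i → m' ≠ j →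
      (x * zz ε m * x⁻¹ = zz ε m ↔ x * zz ε m' * x⁻¹ = zz ε m') →
      x ∈ normalizer (V : Set G) := by
    intro m m' hmm mi mj mi' mj' hiff
    have h1 := hpt m mi mj
    have h2 := hpt m' mi' mj'
    have h3 : x ∈ NN ε m m' := by
      rw [mem_NN']
      unfold rr
      have h4 : x * (zz ε m * zz ε m') * x⁻¹ = (x * zz ε m * x⁻¹) * (x * zz ε m' * x⁻¹) := by group
      rw [h4]
      by_cases h5 : x * zz ε m * x⁻¹ = zz ε m
      · rw [h5, hiff.mp h5]
      · rw [h1.resolve_left h5, h2.resolve_left (fun h => h5 (hiff.mpr h))]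
        have h6 := uu_comm b.toBase hij hcU (zz_mem_UU (ε := ε) mi' mj')
        calc zz ε m * c * (zz ε m' * c) = zz ε m * (c * zz ε m') * c := by group
          _ = zz ε m * zz ε m' * (c * c) := by rw [h6]; group
          _ = _ := by rw [kk_sq b.toBase hcK, mul_one]
    exact b.toSix.two_norm hodd hn hij hmm mi mj mi' mj' hxN h3
  have hxV : x ∈ normalizer (V : Set G) := by
    obtain ⟨p, q, hpq, ⟨p1, p2, p3, -⟩, q1, q2, q3, -⟩ := Six.exists_off (by omega) i j k k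
    by_cases h1 : x * zz ε p * x⁻¹ = zz ε p
    · by_cases h2 : x * zz ε q * x⁻¹ = zz ε q
      · exact hpair p q hpq p1 p2 q1 q2 ⟨fun _ => h2, fun _ => h1⟩
      · by_cases h3 : x * zz ε k * x⁻¹ = zz ε k
        · exact hpair p k p3 p1 p2 ki kj ⟨fun _ => h3, fun _ => h1⟩
        · exact hpair q k q3 q1 q2 ki kj ⟨fun h => absurd h h2, fun h => absurd h h3⟩
    · by_cases h2 : x * zz ε q * x⁻¹ = zz ε q
      · by_cases h3 : x * zz ε k * x⁻¹ = zz ε k
        · exact hpair q k q3 q1 q2 ki kj ⟨fun _ => h3, fun _ => h2⟩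
        · exact hpair p k p3 p1 p2 ki kj ⟨fun h => absurd h h1, fun h => absurd h h3⟩
      · exact hpair p q hpq p1 p2 q1 q2 ⟨fun h => absurd h h1, fun h => absurd h h2⟩
  -- the label of `c`
  obtain ⟨y, hyc⟩ := b.ev.surj c (b.toSix.uu_le_V hodd hn hij hcU)
  have hyij : y i = y j := uu_coord b.toSix hn hij (by rw [hyc]; exact hcU)
  -- (SYM): `x` commutes with `r_aa'` if `y a = y a'`
  have hsym : ∀ a a', a ≠ a' → a ≠ i → a ≠ j → a' ≠ i → a' ≠ j → y a = y a' →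
      x * rr ε a a' * x⁻¹ = rr ε a a' := by
    intro a a' haa ai aj ai' aj' hya
    have hS := sys b.toBase hn3 hij
    obtain ⟨f, hf⟩ := exists_f b.toBase hn3 hij hxc
    set C : AU b.toBase hij := One.mk b.toBase hij hcU with hC
    set D : AU b.toBase hij := pp b.toBase hij a + pp b.toBase hij a' with hD
    have qa : Qf i j a := ⟨ai, aj⟩
    have qa' : Qf i j a' := ⟨ai', aj'⟩
    have hDv : val D = rr ε a a' := val_pp_add b.toBase hij qa qa'
    have hCK : C ∈ {a : AU b.toBase hij | KK ε i j (val a)} := hcK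
    have hDK : D ∈ {a : AU b.toBase hij | KK ε i j (val a)} := by
      change KK ε i j (val D)
      rw [hDv]
      exact ⟨1, a, a', wit_one qa qa' haa⟩
    rcases Tv.z2 (f D) with h0 | h0
    · rw [hf.iff_zero hcne, hDv] at h0
      exact h0
    · exfalso
      have h1 : Tv.Adj (FF b.toBase hij) C D := ⟨f, ⟨x, hxc, hf⟩, h0⟩
      obtain ⟨g', ⟨x1, hx1, hg'⟩, hg1⟩ := hS.sym hCK hDK h1
      have h2 : g' C = 0 := by
        rw [hg'.iff_zero (kk_ne b.toBase hn3 hDK)]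
        rw [hDv, wc_rr b.toBase qa qa' haa] at hx1
        change x1 * c * x1⁻¹ = c
        rw [← hyc]
        rcases b.act a a' haa x1 hx1 with h3 | h3
        · exact h3 y
        · rw [h3 y]
          congr 1
          funext m
          rw [Function.comp_apply, Equiv.symm_swap]
          by_cases h4 : m = a
          · rw [h4, Equiv.swap_apply_left, hya]
          by_cases h5 : m = a'
          · rw [h5, Equiv.swap_apply_right, hya]
          rw [Equiv.swap_apply_of_ne_of_ne h4 h5]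
      rw [h2] at hg1
      exact absurd hg1 (by decide)
  -- the matching
  obtain ⟨μ, o, hμ, hSμ⟩ := b.mat
  obtain ⟨ρ, hρ1, hρ2⟩ := exists_conj hμ (by rw [Fintype.card_fin]; exact hodd) y hij hyij
  obtain ⟨l0, hl0, hl0s⟩ := b.ev.full ρ
  set ν : Equiv.Perm (Fin n) := ρ * μ * ρ⁻¹ with hν
  have hνm : IsMat ν (ρ o) := by
    constructor
    · intro x
      change ρ (μ (ρ⁻¹ (ρ (μ (ρ⁻¹ x))))) = x
      have e : ∀ m, ρ⁻¹ (ρ m) = m := fun m => ρ.symm_apply_apply m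
      have e' : ∀ m, ρ (ρ⁻¹ m) = m := fun m => ρ.apply_symm_apply m
      rw [e, hμ.sq, e']
    · intro x
      change ρ (μ (ρ⁻¹ x)) = x ↔ x = ρ o
      have e : ∀ m, ρ⁻¹ (ρ m) = m := fun m => ρ.symm_apply_apply m
      have e' : ∀ m, ρ (ρ⁻¹ m) = m := fun m => ρ.apply_symm_apply m
      constructor
      · intro h
        have h1 : μ (ρ⁻¹ x) = ρ⁻¹ x := by rw [← e (μ (ρ⁻¹ x)), h]
        rw [hμ.fix] at h1
        rw [← h1, e']
      · intro h
        rw [h, e, (hμ.fix o).mpr rfl]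
  have hνi : ν i = j := hρ1
  have hνj : ν j = i := by rw [← hνi, hνm.sq]
  have hxν : ∀ a, x * rr ε a (ν a) * x⁻¹ = rr ε a (ν a) := by
    intro a
    by_cases h1 : ν a = a
    · have h2 : rr ε a (ν a) = 1 := by
        rw [h1]
        exact zz_sq b.ev a
      rw [h2]
      group
    by_cases h2 : a = i
    · rw [h2, hνi]
      exact mem_NN'.mp hxN
    by_cases h3 : a = j
    · rw [h3, hνj, rr_symm b.ev]
      exact mem_NN'.mp hxN
    have h4 : ν a ≠ i := fun h => h3 (by rw [← hνi, ← h, hνm.sq])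
    have h5 : ν a ≠ j := fun h => h2 (by rw [← hνj, ← h, hνm.sq])
    exact hsym a (ν a) (Ne.symm h1) h2 h3 h4 h5 (hρ2 a).symm
  -- the subgroup `C`
  set C : Subgroup G := normalizer (V : Set G) ⊓
    centralizer {v | ∃ a, v = rr ε a (μ a)} with hC
  have memC : ∀ z, z ∈ C ↔ z ∈ normalizer (V : Set G) ∧ ∀ a, z * rr ε a (μ a) * z⁻¹ = rr ε a (μ a) := by
    intro z
    rw [hC, mem_inf, mem_centralizer_iff]
    constructor
    · rintro ⟨h1, h2⟩
      exact ⟨h1, fun a => by rw [← h2 _ ⟨a, rfl⟩, mul_inv_cancel_right]⟩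
    · rintro ⟨h1, h2⟩
      refine ⟨h1, ?_⟩
      rintro _ ⟨a, rfl⟩
      have := h2 a
      rw [mul_inv_eq_iff_eq_mul] at this
      exact this.symm
  have hSC : (S : Subgroup G) ≤ normalizer (C : Set G) := by
    have key : ∀ s ∈ (S : Subgroup G), ∀ z ∈ C, s * z * s⁻¹ ∈ C := by
      intro s hs z hz
      rw [memC] at hz ⊢
      have hsV : s ∈ normalizer (V : Set G) := b.ev.le_normalizer (b.le hs)
      refine ⟨mul_mem (mul_mem hsV hz.1) (inv_mem hsV), fun a => ?_⟩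
      obtain ⟨σ, hσ⟩ := b.ev.perm s (b.le hs)
      have h1 := rr_conj hσ (σ⁻¹ a) (μ (σ⁻¹ a))
      have h2 : σ (μ (σ⁻¹ a)) = μ (σ (σ⁻¹ a)) := by
        change (σ * μ) (σ⁻¹ a) = (μ * σ) (σ⁻¹ a)
        rw [hSμ s hs σ hσ]
      have e' : σ (σ⁻¹ a) = a := σ.apply_symm_apply a
      rw [h2, e'] at h1
      have h3 := hz.2 (σ⁻¹ a)
      calc s * z * s⁻¹ * rr ε a (μ a) * (s * z * s⁻¹)⁻¹
          = s * (z * (s⁻¹ * rr ε a (μ a) * s) * z⁻¹) * s⁻¹ := by group
        _ = s * (z * rr ε (σ⁻¹ a) (μ (σ⁻¹ a)) * z⁻¹) * s⁻¹ := by rw [← h1]; group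
        _ = rr ε a (μ a) := by rw [h3, h1]
    intro s hs
    rw [mem_normalizer_iff]
    refine fun z => ⟨key s hs z, fun hz => ?_⟩
    have h1 := key s⁻¹ (inv_mem hs) _ hz
    have h2 : s⁻¹ * (s * z * s⁻¹) * s⁻¹⁻¹ = z := by group
    rwa [h2] at h1
  -- transport by `l0`
  have hl0V : l0 ∈ normalizer (V : Set G) := b.ev.le_normalizer hl0
  have htr : ∀ a, l0 * rr ε (ρ⁻¹ a) (μ (ρ⁻¹ a)) * l0⁻¹ = rr ε a (ν a) := by
    intro a
    have e' : ρ (ρ⁻¹ a) = a := ρ.apply_symm_apply a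
    rw [rr_conj hl0s, e']
    rfl
  have htr2 : ∀ a, l0 * rr ε a (μ a) * l0⁻¹ = rr ε (ρ a) (ν (ρ a)) := by
    intro a
    have h1 := htr (ρ a)
    have e' : ρ⁻¹ (ρ a) = a := ρ.symm_apply_apply a
    rwa [e'] at h1
  have hx1 : l0⁻¹ * x * l0 ∈ C := by
    rw [memC]
    refine ⟨mul_mem (mul_mem (inv_mem hl0V) hxV) hl0V, fun a => ?_⟩
    calc l0⁻¹ * x * l0 * rr ε a (μ a) * (l0⁻¹ * x * l0)⁻¹
        = l0⁻¹ * (x * (l0 * rr ε a (μ a) * l0⁻¹) * x⁻¹) * l0 := by group
      _ = l0⁻¹ * (l0 * rr ε a (μ a) * l0⁻¹) * l0 := by rw [htr2, hxν]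
      _ = rr ε a (μ a) := by group
  have hx2 : IsPGroup 2 (zpowers (l0⁻¹ * x * l0)) := by
    obtain ⟨t, ht⟩ := b.two k l hkl ⟨w, hw⟩
    have ht' : w ^ 2 ^ t = 1 := congrArg Subtype.val ht
    have h1 : (l0⁻¹ * x * l0) ^ 2 ^ t = 1 := by
      have h2 : l0⁻¹ * x * l0 = (l0⁻¹ * g) * w * (l0⁻¹ * g)⁻¹ := by rw [hx]; group
      rw [h2, conj_pow, ht', mul_one, mul_inv_cancel]
    rintro ⟨z, hz⟩
    obtain ⟨s, rfl⟩ := mem_zpowers_iff.mp hz
    refine ⟨t, Subtype.ext ?_⟩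
    change ((l0⁻¹ * x * l0) ^ s) ^ 2 ^ t = 1
    rw [← zpow_natCast, ← zpow_mul, mul_comm, zpow_mul, zpow_natCast, h1, one_zpow]
  obtain ⟨y1, hy1, hy1S⟩ := exists_conj_sylow S hSC hx1 hx2
  rw [memC] at hy1
  set y0 := l0 * y1 * l0⁻¹ with hy0
  have hy0ν : ∀ a, y0 * rr ε a (ν a) * y0⁻¹ = rr ε a (ν a) := by
    intro a
    rw [← htr a]
    calc y0 * (l0 * rr ε (ρ⁻¹ a) (μ (ρ⁻¹ a)) * l0⁻¹) * y0⁻¹
        = l0 * (y1 * rr ε (ρ⁻¹ a) (μ (ρ⁻¹ a)) * y1⁻¹) * l0⁻¹ := by rw [hy0]; group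
      _ = _ := by rw [hy1.2]
  have hy0N : y0 ∈ NN ε i j := by
    have h1 := hy0ν i
    rw [hνi] at h1
    exact mem_NN'.mpr h1
  have hy0c : y0 * c * y0⁻¹ = c := by
    rw [← hyc]
    exact comm_inv b.ev hνm hy0ν hρ2
  have hy0c' : y0⁻¹ * c * y0 = c := by
    calc y0⁻¹ * c * y0 = y0⁻¹ * (y0 * c * y0⁻¹) * y0 := by rw [hy0c]
      _ = c := by group
  set x' := y0 * x * y0⁻¹ with hx'
  have hx'L : x' ∈ L := by
    have h1 := mul_mem (mul_mem hl0 (b.le hy1S)) (inv_mem hl0)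
    have h2 : l0 * (y1 * (l0⁻¹ * x * l0) * y1⁻¹) * l0⁻¹ = x' := by rw [hx', hy0]; group
    rwa [h2] at h1
  obtain ⟨τ, hτ⟩ := b.ev.perm x' hx'L
  -- `x'` acts on `U_ij` as a transvection with centre `c`
  have hx'act : ∀ u ∈ UU ε i j, x' * u * x'⁻¹ = u ∨ x' * u * x'⁻¹ = u * c := by
    intro u hu
    have h1 : y0⁻¹ * u * y0 ∈ UU ε i j := by
      have := UU_normal (inv_mem hy0N) hu
      rwa [inv_inv] at this
    have h2 : x' * u * x'⁻¹ = y0 * (x * (y0⁻¹ * u * y0) * x⁻¹) * y0⁻¹ := by rw [hx']; group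
    rcases wc_act b.toBase hij hxc h1 with h3 | h3
    · left
      rw [h2, h3]
      group
    · right
      rw [h2, h3]
      calc y0 * (y0⁻¹ * u * y0 * c) * y0⁻¹ = u * (y0 * c * y0⁻¹) := by group
        _ = u * c := by rw [hy0c]
  -- `x'` moves a point off `i`, `j`
  obtain ⟨m, mi, mj, hm⟩ : ∃ m, m ≠ i ∧ m ≠ j ∧ τ m ≠ m := by
    by_contra hno
    push Not at hno
    set u := g * zz ε k * g⁻¹ with hu
    have huU : u ∈ UU ε i j := UU_normal hg (zz_mem_UU (ε := ε) ki kj)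
    have h1 := b.toSix.uu_fixed hodd hn hij (UU_normal hy0N huU) hτ
      (fun m h1 h2 => hno m h1 h2)
    have h2 : x' * (y0 * u * y0⁻¹) * x'⁻¹ = y0 * (x * u * x⁻¹) * y0⁻¹ := by rw [hx']; group
    rw [h2] at h1
    have h3 : x * u * x⁻¹ = u := mul_left_cancel (mul_right_cancel h1)
    have h4 : x * u * x⁻¹ = g * (w * zz ε k * w⁻¹) * g⁻¹ := by rw [hx, hu]; group
    rw [h4, zz_conj hws, Equiv.swap_apply_left, hu] at h3
    have h5 : zz ε l = zz ε k := mul_left_cancel (mul_right_cancel h3)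
    exact hkl (b.ev.single_inj hn3 h5.symm)
  have hcm : c = rr ε m (τ m) := by
    rcases hx'act _ (zz_mem_UU (ε := ε) mi mj) with h1 | h1
    · rw [zz_conj hτ] at h1
      exact absurd (b.ev.single_inj hn3 h1) hm
    · rw [zz_conj hτ] at h1
      unfold rr
      rw [h1, ← mul_assoc, zz_sq b.ev, one_mul]
  -- `τ m` is off `i`, `j`
  obtain ⟨p, hp, hps⟩ := b.mov i j hij
  have hcp : p * c * p⁻¹ = c := by
    rw [← b.cen i j hij _ hcU p hp, mul_inv_cancel_right]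
  rw [hcm, rr_conj hps, swap_fix mi mj] at hcp
  have hcp2 : zz ε (Equiv.swap i j (τ m)) = zz ε (τ m) := mul_left_cancel hcp
  have hcp3 := b.ev.single_inj hn3 hcp2
  have si : τ m ≠ i := by
    intro h
    rw [h, Equiv.swap_apply_left] at hcp3
    exact hij hcp3.symm
  have sj : τ m ≠ j := by
    intro h
    rw [h, Equiv.swap_apply_right] at hcp3
    exact hij hcp3
  obtain ⟨π, t1, t2, t3⟩ := exists_perm hkl (Ne.symm hm)
  obtain ⟨s, hs, hss⟩ := b.ev.full π
  have hsN : s ∈ NN ε i j := by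
    rw [mem_NN', rr_conj hss, t3 i (Ne.symm ki) (Ne.symm li) (Ne.symm mi) (Ne.symm si),
      t3 j (Ne.symm kj) (Ne.symm lj) (Ne.symm mj) (Ne.symm sj)]
  have h1 : s * rr ε k l * s⁻¹ = c := by rw [rr_conj hss, t1, t2, hcm]
  have h2 : s⁻¹ * g ∈ NN ε k l := by
    rw [mem_NN']
    calc s⁻¹ * g * rr ε k l * (s⁻¹ * g)⁻¹ = s⁻¹ * (g * rr ε k l * g⁻¹) * s := by group
      _ = s⁻¹ * (s * rr ε k l * s⁻¹) * s := by rw [← hc, h1]
      _ = rr ε k l := by group
  have h3 := b.toSix.two_norm hodd hn hij hkl ki kj li lj (mul_mem (inv_mem hsN) hg) h2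
  have h4 := mul_mem (b.ev.le_normalizer hs) h3
  rwa [mul_inv_cancel_left] at h4

/-- **`(H1)`, `(H2)` are contradictory.** -/
theorem false (b : SixL V L S ε W) (hodd : Odd n) (hn : 7 ≤ n) {i j : Fin n} (hij : i ≠ j)
    (hW : W i j ≤ WW V ε i j) : False := by
  have h1 := b.nn_le hodd hn hij
  have h2 : WW V ε i j ≤ V := by
    unfold WW
    rw [closure_le]
    rintro x ⟨g, hg, v, hv, rfl⟩
    exact (mem_normalizer_iff.mp (h1 hg) v).mp hv
  obtain ⟨w, hw, hws⟩ := b.mov i j hij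
  have h3 := zz_conj hws i
  rw [b.ev.comm_mem (h2 (hW hw)) (zz_mem b.ev _), mul_inv_cancel_right,
    Equiv.swap_apply_left] at h3
  exact hij (b.ev.single_inj (by omega) h3)

end SixL

end Cfsg.Agent.Omega.NSix.EndL
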