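import Cfsg.Agent.Omega.NSix.Basic
import Cfsg.Agent.MinSimple.Basic
import Cfsg.Agent.Omega.S5.Syl

/-!
# OMEGA N6: `N_G(V)` acts on the even-subset module `V` as the symmetric group

`V` is the even-subset module of odd degree `n ≥ 5` for `P ≥ S`, `S` a Sylow 2-subgroup of `G` which fixes a
label.  Then every element of `N_G(V)` permutes the labels.

Proof: the elements of `N_G(V)` which act on `V` as transvections are conjugate in `N_G(V)` into `S`, where they act
as transpositions; commuting ones have independent centres; so every centre is one of the pairs `r_ij`, and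
`N_G(V)` permutes the pairs.
-/

set_option autoImplicit false
set_option linter.dupNamespace false

namespace Cfsg.Agent.Omega.NSix.Norm

open Subgroup

universe u

/-! ### commuting involutions -/

theorem closure_sq {M : Type u} [Group M] {B : Set M} (hc : ∀ a ∈ B, ∀ b ∈ B, a * b = b * a)
    (hs : ∀ a ∈ B, a * a = 1) : ∀ x ∈ closure B, x * x = 1 := by
  have h1 : closure B ≤ centralizer B := by
    rw [closure_le]
    intro a ha
    exact mem_centralizer_iff.mpr fun b hb => hc b hb a ha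
  have h2 : closure B ≤ centralizer (closure B : Set M) := by
    rw [closure_le]
    intro a ha
    exact mem_centralizer_iff.mpr fun b hb => (mem_centralizer_iff.mp (h1 hb) a ha).symm
  intro x hx
  induction hx using closure_induction with
  | mem x hx => exact hs x hx
  | one => rw [one_mul]
  | mul x y hx hy h3 h4 =>
    have h5 : x * y = y * x := mem_centralizer_iff.mp (h2 hy) x hx
    calc x * y * (x * y) = x * (y * x) * y := by group
      _ = (x * x) * (y * y) := by rw [← h5]; group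
      _ = 1 := by rw [h3, h4, one_mul]
  | inv x _ h3 =>
    rw [← mul_inv_rev, h3, inv_one]

theorem closure_isPGroup {M : Type u} [Group M] {B : Set M} (hc : ∀ a ∈ B, ∀ b ∈ B, a * b = b * a)
    (hs : ∀ a ∈ B, a * a = 1) : IsPGroup 2 (closure B) := by
  intro x
  refine ⟨1, ?_⟩
  rw [pow_one, pow_two]
  exact Subtype.ext (closure_sq hc hs x x.2)

/-! ### the module -/

section abs

variable {A : Type u} [CommGroup A] {n : ℕ}

/-- `α` acts as the permutation `σ` -/
def Ac (e : (Fin n → ZMod 2) → A) (α : MulAut A) (σ : Equiv.Perm (Fin n)) : Prop :=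
  ∀ x, α (e x) = e (x ∘ σ.symm)

/-- the pair `{i, j}` -/
def pr (e : (Fin n → ZMod 2) → A) (i j : Fin n) : A := e (Pi.single i 1 + Pi.single j 1)

/-- `A` is `F₂ⁿ` modulo the all-one vector; `L ≥ Sb` is a group of automorphisms which induces all permutations, `Sb`
acts by permutations fixing `o`, and every 2-subgroup of `L` is conjugate in `L` into `Sb`. -/
structure Md (e : (Fin n → ZMod 2) → A) (L Sb : Subgroup (MulAut A)) (o : Fin n) : Prop where
  add : ∀ x y, e (x + y) = e x * e y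
  surj : ∀ a, ∃ x, e x = a
  ker : ∀ x, e x = 1 ↔ x = 0 ∨ x = 1
  full : ∀ σ, ∃ α ∈ L, Ac e α σ
  sub : Sb ≤ L
  two : IsPGroup 2 Sb
  perm : ∀ α ∈ Sb, ∃ σ : Equiv.Perm (Fin n), Ac e α σ ∧ σ o = o
  conj : ∀ X ≤ L, IsPGroup 2 X → ∃ h ∈ L, ∀ x ∈ X, h * x * h⁻¹ ∈ Sb

/-- `α` is a transvection with centre `c` -/
structure Tr (α : MulAut A) (c : A) : Prop where
  act : ∀ v, α v = v ∨ α v = v * c
  ne : ∃ v, α v ≠ v

/-- the sum of the coordinates -/
def tot (x : Fin n → ZMod 2) : ZMod 2 := ∑ i, x i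

theorem tot_add (x y : Fin n → ZMod 2) : tot (x + y) = tot x + tot y := by
  unfold tot
  rw [← Finset.sum_add_distrib]
  rfl

theorem tot_single (i : Fin n) : tot (Pi.single i 1 : Fin n → ZMod 2) = 1 := by
  unfold tot
  rw [Finset.sum_pi_single' i (1 : ZMod 2) Finset.univ, if_pos (Finset.mem_univ _)]

theorem tot_one (hodd : Odd n) : tot (1 : Fin n → ZMod 2) = 1 := by
  unfold tot
  simp only [Pi.one_apply, Finset.sum_const, Finset.card_univ, Fintype.card_fin, nsmul_eq_mul, mul_one]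
  obtain ⟨k, rfl⟩ := hodd
  push_cast
  rw [show (2 : ZMod 2) = 0 from rfl]
  ring

theorem z2 (c : ZMod 2) : c = 0 ∨ c = 1 := by revert c; decide

theorem z2_ne {a b : ZMod 2} (h : a ≠ b) : a = b + 1 := by revert a b; decide


theorem z2_self (a : ZMod 2) : a + a = 0 := by revert a; decide

theorem vec_self (x : Fin n → ZMod 2) : x + x = 0 := funext fun i => z2_self _

theorem Ac.mul {e : (Fin n → ZMod 2) → A} {α β : MulAut A} {σ τ : Equiv.Perm (Fin n)} (h1 : Ac e α σ)
    (h2 : Ac e β τ) : Ac e (α * β) (σ * τ) := by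
  intro x
  rw [MulAut.mul_apply, h2 x, h1]
  rfl

theorem Ac.inv {e : (Fin n → ZMod 2) → A} {α : MulAut A} {σ : Equiv.Perm (Fin n)} (h1 : Ac e α σ) :
    Ac e α⁻¹ σ⁻¹ := by
  intro x
  have h2 : α (e (x ∘ σ)) = e x := by
    rw [h1]
    congr 1
    funext i
    simp
  have h3 : x ∘ (σ⁻¹).symm = x ∘ σ := rfl
  rw [h3, ← h2, ← MulAut.mul_apply, inv_mul_cancel, MulAut.one_apply]

theorem single_comp (σ : Equiv.Perm (Fin n)) (i : Fin n) :
    (Pi.single i 1 : Fin n → ZMod 2) ∘ σ.symm = Pi.single (σ i) 1 := by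
  funext j
  by_cases hj : j = σ i
  · subst hj
    simp
  · have h1 : σ.symm j ≠ i := fun h0 => hj (by rw [← h0, Equiv.apply_symm_apply])
    simp [Function.comp, hj, h1]

theorem Ac.single {e : (Fin n → ZMod 2) → A} {α : MulAut A} {σ : Equiv.Perm (Fin n)} (h1 : Ac e α σ) (i : Fin n) :
    α (e (Pi.single i 1)) = e (Pi.single (σ i) 1) := by
  rw [h1, single_comp]

theorem Ac.pr {e : (Fin n → ZMod 2) → A} {α : MulAut A} {σ : Equiv.Perm (Fin n)} (h1 : Ac e α σ) (i j : Fin n) :
    α (pr e i j) = Norm.pr e (σ i) (σ j) := by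
  unfold Norm.pr
  rw [h1]
  congr 1
  have h2 : ((Pi.single i 1 : Fin n → ZMod 2) + Pi.single j 1) ∘ σ.symm =
      (Pi.single i 1 : Fin n → ZMod 2) ∘ σ.symm + (Pi.single j 1 : Fin n → ZMod 2) ∘ σ.symm := rfl
  rw [h2, single_comp, single_comp]

namespace Md

variable {e : (Fin n → ZMod 2) → A} {L Sb : Subgroup (MulAut A)} {o : Fin n} (h : Md e L Sb o)
include h

theorem zero : e 0 = 1 := (h.ker 0).mpr (Or.inl rfl)

theorem one : e 1 = 1 := (h.ker 1).mpr (Or.inr rfl)

theorem sq (a : A) : a * a = 1 := by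
  obtain ⟨x, rfl⟩ := h.surj a
  rw [← h.add, vec_self, h.zero]

theorem eq_iff {x y : Fin n → ZMod 2} : e x = e y ↔ x = y ∨ x = y + 1 := by
  constructor
  · intro h0
    have h1 : e (x + y) = 1 := by rw [h.add, h0, h.sq]
    have h2 : x = x + y + y := by rw [add_assoc, vec_self, add_zero]
    rcases (h.ker _).mp h1 with h3 | h3
    · left; rw [h2, h3, zero_add]
    · right; rw [h2, h3, add_comm]
  · rintro (rfl | rfl)
    · rfl
    · rw [h.add, h.one, mul_one]

theorem inj_tot (hodd : Odd n) {x y : Fin n → ZMod 2} (h1 : e x = e y) (h2 : tot x = tot y) : x = y := by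
  rcases h.eq_iff.mp h1 with h3 | h3
  · exact h3
  · exfalso
    rw [h3, tot_add, tot_one hodd] at h2
    have : ∀ a : ZMod 2, a + 1 ≠ a := by decide
    exact this _ h2

theorem exists_even (hodd : Odd n) (a : A) : ∃ x, e x = a ∧ tot x = 0 := by
  obtain ⟨x, rfl⟩ := h.surj a
  rcases z2 (tot x) with h1 | h1
  · exact ⟨x, rfl, h1⟩
  · refine ⟨x + 1, ?_, ?_⟩
    · rw [h.add, h.one, mul_one]
    · rw [tot_add, h1, tot_one hodd]
      decide

omit h in
theorem tot_pr (i j : Fin n) : tot (Pi.single i 1 + Pi.single j 1 : Fin n → ZMod 2) = 0 := by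
  rw [tot_add, tot_single, tot_single]
  decide

theorem pr_symm (i j : Fin n) : pr e i j = pr e j i := by
  unfold pr
  rw [add_comm]

theorem pr_add (i j k : Fin n) : pr e i j * pr e j k = pr e i k := by
  unfold pr
  rw [← h.add]
  congr 1
  rw [add_assoc, ← add_assoc (Pi.single j 1 : Fin n → ZMod 2), vec_self, zero_add]

theorem pr_eq (hodd : Odd n) {i j k l : Fin n} (hij : i ≠ j) (h1 : pr e i j = pr e k l) :
    (i = k ∧ j = l) ∨ (i = l ∧ j = k) := by
  have h2 := h.inj_tot hodd h1 (by rw [tot_pr, tot_pr])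
  have hi := congrFun h2 i
  have hj := congrFun h2 j
  simp only [Pi.add_apply, Pi.single_apply, if_true, if_neg hij, if_neg hij.symm, add_zero, zero_add] at hi hj
  by_cases e1 : i = k
  · subst e1
    rw [if_neg hij.symm] at hj
    by_cases e2 : j = l
    · exact Or.inl ⟨rfl, e2⟩
    · rw [if_neg e2] at hj
      exact absurd hj (by decide)
  · rw [if_neg e1] at hi
    by_cases e2 : i = l
    · subst e2
      rw [if_neg hij.symm] at hj
      by_cases e3 : j = k
      · exact Or.inr ⟨rfl, e3⟩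
      · rw [if_neg e3] at hj
        exact absurd hj (by decide)
    · rw [if_neg e2] at hi
      exact absurd hi (by decide)

theorem pr_ne (hodd : Odd n) {i j : Fin n} (hij : i ≠ j) : pr e i j ≠ 1 := by
  intro h1
  have h2 : pr e i j = pr e i i := by
    rw [h1]
    unfold pr
    rw [vec_self, h.zero]
  rcases h.pr_eq hodd hij h2 with ⟨-, h3⟩ | ⟨-, h3⟩ <;> exact hij h3.symm

/-- the transposition -/
theorem ac_swap {α : MulAut A} {i j : Fin n} (h1 : Ac e α (Equiv.swap i j)) (x : Fin n → ZMod 2) :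
    (x i = x j → α (e x) = e x) ∧ (x i ≠ x j → α (e x) = e x * pr e i j) := by
  constructor
  · intro h2
    rw [h1]
    congr 1
    funext k
    rw [Function.comp_apply, Equiv.symm_swap]
    by_cases e1 : k = i
    · subst e1; rw [Equiv.swap_apply_left, h2]
    by_cases e2 : k = j
    · subst e2; rw [Equiv.swap_apply_right, h2]
    rw [Equiv.swap_apply_of_ne_of_ne e1 e2]
  · intro h2
    have hij : i ≠ j := fun h0 => h2 (by rw [h0])
    rw [h1]
    unfold pr
    rw [← h.add]
    congr 1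
    funext k
    rw [Function.comp_apply, Equiv.symm_swap, Pi.add_apply, Pi.add_apply]
    by_cases e1 : k = i
    · subst e1
      rw [Equiv.swap_apply_left, Pi.single_eq_same, Pi.single_eq_of_ne hij, add_zero]
      exact z2_ne h2.symm
    by_cases e2 : k = j
    · subst e2
      rw [Equiv.swap_apply_right, Pi.single_eq_same, Pi.single_eq_of_ne e1, zero_add]
      exact z2_ne h2
    rw [Equiv.swap_apply_of_ne_of_ne e1 e2, Pi.single_eq_of_ne e1, Pi.single_eq_of_ne e2, add_zero, add_zero]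

end Md

/-! ### transvections -/

namespace Tr

variable {α β γ : MulAut A} {c d : A}

theorem ne_one (h : Tr α c) : c ≠ 1 := by
  rintro rfl
  obtain ⟨v, hv⟩ := h.ne
  rcases h.act v with h1 | h1
  · exact hv h1
  · rw [mul_one] at h1; exact hv h1

theorem conj (h : Tr α c) (β : MulAut A) : Tr (β * α * β⁻¹) (β c) where
  act v := by
    have h1 : (β * α * β⁻¹) v = β (α (β⁻¹ v)) := rfl
    have h2 : β (β⁻¹ v) = v := by rw [← MulAut.mul_apply, mul_inv_cancel, MulAut.one_apply]
    rw [h1]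
    rcases h.act (β⁻¹ v) with h3 | h3
    · left; rw [h3, h2]
    · right; rw [h3, map_mul, h2]
  ne := by
    obtain ⟨v, hv⟩ := h.ne
    refine ⟨β v, ?_⟩
    have h1 : (β * α * β⁻¹) (β v) = β (α (β⁻¹ (β v))) := rfl
    have h2 : β⁻¹ (β v) = v := by rw [← MulAut.mul_apply, inv_mul_cancel, MulAut.one_apply]
    rw [h1, h2]
    exact fun h3 => hv (β.injective h3)

variable (hsq : ∀ a : A, a * a = 1)
include hsq

theorem fix (h : Tr α c) : α c = c := by
  rcases h.act c with h1 | h1
  · exact h1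
  · rw [hsq c] at h1
    have h2 : c = 1 := by
      have := α.injective (h1.trans (map_one α).symm)
      exact this
    exact absurd h2 h.ne_one

theorem sq (h : Tr α c) : α * α = 1 := by
  ext v
  rw [MulAut.mul_apply, MulAut.one_apply]
  rcases h.act v with h1 | h1
  · rw [h1, h1]
  · rw [h1, map_mul, h1, h.fix hsq, mul_assoc, hsq, mul_one]

theorem inv (h : Tr α c) : α⁻¹ = α := inv_eq_of_mul_eq_one_left (h.sq hsq)

theorem comm (h1 : Tr α c) (h2 : Tr β d) (h3 : α d = d) (h4 : β c = c) : α * β = β * α := by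
  ext v
  rw [MulAut.mul_apply, MulAut.mul_apply]
  rcases h1.act v with h5 | h5 <;> rcases h2.act v with h6 | h6
  · rw [h6, h5, h6]
  · rw [h6, h5, h6, map_mul, h5, h3]
  · rw [h6, h5, map_mul, h6, h4]
  · rw [h6, h5, map_mul, map_mul, h5, h6, h3, h4, mul_assoc, mul_assoc, mul_comm c d]

end Tr


theorem swap_ne_swap_mul {i j k l a b : Fin n} (hij : i ≠ j) (hkl : k ≠ l) (hab : a ≠ b) :
    Equiv.swap i j * Equiv.swap k l ≠ Equiv.swap a b := by
  intro h
  have h1 := congrArg Equiv.Perm.sign h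
  rw [map_mul, Equiv.Perm.sign_swap hij, Equiv.Perm.sign_swap hkl, Equiv.Perm.sign_swap hab] at h1
  revert h1
  decide

namespace Md

variable {e : (Fin n → ZMod 2) → A} {L Sb : Subgroup (MulAut A)} {o : Fin n} (h : Md e L Sb o)
include h

theorem tr_pair (hn : 3 ≤ n) (hodd : Odd n) {i j : Fin n} (hij : i ≠ j) {α : MulAut A} (h1 : Ac e α (Equiv.swap i j)) :
    Tr α (pr e i j) where
  act v := by
    obtain ⟨x, rfl⟩ := h.surj v
    by_cases h2 : x i = x j
    · exact Or.inl ((h.ac_swap h1 x).1 h2)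
    · exact Or.inr ((h.ac_swap h1 x).2 h2)
  ne := by
    refine ⟨e (Pi.single i 1), fun h2 => ?_⟩
    have h3 := (h.ac_swap h1 (Pi.single i 1)).2 (by
      rw [Pi.single_eq_same, Pi.single_eq_of_ne hij.symm]; exact one_ne_zero)
    rw [h2] at h3
    exact h.pr_ne hodd hij (left_eq_mul.mp h3)

/-- (1) -/
theorem tr_perm (hodd : Odd n) {α : MulAut A} {σ : Equiv.Perm (Fin n)} (hα : Ac e α σ) {c : A} (ht : Tr α c) :
    ∃ i j, i ≠ j ∧ σ = Equiv.swap i j ∧ c = pr e i j := by
  have key : ∀ k, σ k ≠ k → c = pr e k (σ k) := by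
    intro k hk
    have h1 := hα.single k
    rcases ht.act (e (Pi.single k 1)) with h2 | h2
    · exfalso
      rw [h2] at h1
      have h3 := h.inj_tot hodd h1 (by rw [tot_single, tot_single])
      have h4 := congrFun h3 k
      rw [Pi.single_eq_same, Pi.single_eq_of_ne (Ne.symm hk)] at h4
      exact one_ne_zero h4
    · rw [h2] at h1
      unfold pr
      rw [h.add, ← h1, ← mul_assoc, h.sq, one_mul]
  have hne : ∃ k, σ k ≠ k := by
    by_contra hc
    push Not at hc
    obtain ⟨v, hv⟩ := ht.ne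
    obtain ⟨x, rfl⟩ := h.surj v
    apply hv
    rw [hα]
    congr 1
    funext k
    rw [Function.comp_apply]
    congr 1
    rw [Equiv.symm_apply_eq, hc]
  obtain ⟨k, hk⟩ := hne
  have hc := key k hk
  refine ⟨k, σ k, Ne.symm hk, ?_, hc⟩
  have hfix : ∀ m, m ≠ k → m ≠ σ k → σ m = m := by
    intro m h1 h2
    by_contra h3
    have h4 := key m h3
    rw [hc] at h4
    rcases h.pr_eq hodd (Ne.symm hk) h4 with ⟨h5, -⟩ | ⟨-, h5⟩
    · exact h1 h5.symm
    · exact h2 h5.symm
  ext m
  congr 1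
  by_cases h1 : m = k
  · subst h1; rw [Equiv.swap_apply_left]
  by_cases h2 : m = σ k
  · subst h2
    rw [Equiv.swap_apply_right]
    by_contra h3
    have h4 : σ (σ k) ≠ σ k := fun h5 => hk (σ.injective h5)
    have h5 := hfix (σ (σ k)) h3 h4
    exact h4 (σ.injective h5)
  · rw [Equiv.swap_apply_of_ne_of_ne h1 h2, hfix m h1 h2]

/-- the elements of a commuting set of transvections are conjugate to transpositions -/
theorem fam (hodd : Odd n) {B : Set (MulAut A)} (hB : B ⊆ L) (hc : ∀ a ∈ B, ∀ b ∈ B, a * b = b * a)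
    (ht : ∀ a ∈ B, ∃ c, Tr a c) : ∃ g ∈ L, (∀ a ∈ B, ∀ c, Tr a c → ∃ i j, i ≠ j ∧
      Ac e (g * a * g⁻¹) (Equiv.swap i j) ∧ g c = pr e i j) ∧
      ∀ a ∈ B, ∀ b ∈ B, ∀ c, Tr (a * b) c → ∃ i j, i ≠ j ∧
      Ac e (g * (a * b) * g⁻¹) (Equiv.swap i j) := by
  obtain ⟨g, hg, h1⟩ := h.conj (closure B) (by rwa [closure_le]) (closure_isPGroup hc fun a ha => by
    obtain ⟨c, hc⟩ := ht a ha
    exact hc.sq h.sq)
  refine ⟨g, hg, fun a ha c hac => ?_, fun a ha b hb c habc => ?_⟩
  · obtain ⟨σ, h2, -⟩ := h.perm _ (h1 a (subset_closure ha))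
    obtain ⟨i, j, h3, rfl, h4⟩ := h.tr_perm hodd h2 (hac.conj g)
    exact ⟨i, j, h3, h2, h4⟩
  · obtain ⟨σ, h2, -⟩ := h.perm _ (h1 (a * b) (mul_mem (subset_closure ha) (subset_closure hb)))
    obtain ⟨i, j, h3, rfl, h4⟩ := h.tr_perm hodd h2 (habc.conj g)
    exact ⟨i, j, h3, h2⟩

theorem ac_unique (hn : 3 ≤ n) (hodd : Odd n) {α : MulAut A} {σ τ : Equiv.Perm (Fin n)} (h1 : Ac e α σ) (h2 : Ac e α τ) :
    σ = τ := by
  ext k
  congr 1
  have h3 := (h1.single k).symm.trans (h2.single k)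
  have h4 := congrFun (h.inj_tot hodd h3 (by rw [tot_single, tot_single])) (σ k)
  rw [Pi.single_eq_same] at h4
  by_contra h5
  rw [Pi.single_eq_of_ne h5] at h4
  exact one_ne_zero h4

/-- (2) -/
theorem no_fours (hn : 3 ≤ n) (hodd : Odd n) {α β : MulAut A} (hα : α ∈ L) (hβ : β ∈ L) {c d f : A} (h1 : Tr α c)
    (h2 : Tr β d) (h3 : Tr (α * β) f) (h4 : α * β = β * α) : False := by
  obtain ⟨g, -, h5, h6⟩ := h.fam hodd (B := {α, β}) (by
    rintro x (rfl | rfl)
    · exact hα
    · exact hβ) (by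
    rintro x (rfl | rfl) y (rfl | rfl)
    · rfl
    · exact h4
    · exact h4.symm
    · rfl) (by
    rintro x (rfl | rfl)
    · exact ⟨c, h1⟩
    · exact ⟨d, h2⟩)
  obtain ⟨i, j, hij, h7, -⟩ := h5 α (Or.inl rfl) c h1
  obtain ⟨k, l, hkl, h8, -⟩ := h5 β (Or.inr rfl) d h2
  obtain ⟨a, b, hab, h9⟩ := h6 α (Or.inl rfl) β (Or.inr rfl) f h3
  have h10 := h7.mul h8
  have e1 : g * α * g⁻¹ * (g * β * g⁻¹) = g * (α * β) * g⁻¹ := by group
  rw [e1] at h10
  exact swap_ne_swap_mul hij hkl hab (h.ac_unique hn hodd h10 h9)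

/-- (3): `β` fixes the centre of `α` only if `α` fixes the centre of `β` -/
theorem symm (hn : 3 ≤ n) (hodd : Odd n) {α β : MulAut A} (hα : α ∈ L) (hβ : β ∈ L) {c d : A} (h1 : Tr α c)
    (h2 : Tr β d) (h3 : β c = c) : α d = d := by
  by_contra h4
  have h5 : α d = d * c := (h1.act d).resolve_left h4
  have hcc : ∀ v : A, v * c * c = v := fun v => by rw [mul_assoc, h.sq, mul_one]
  have hdd : ∀ v : A, v * d * d = v := fun v => by rw [mul_assoc, h.sq, mul_one]
  have hαc := h1.fix h.sq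
  have hβd := h2.fix h.sq
  have hai : α⁻¹ = α := h1.inv h.sq
  -- `γ = α β α⁻¹`
  have g0 : ∀ v, (α * β * α⁻¹) v = α (β (α v)) := by
    intro v
    rw [hai]
    rfl
  have g1 : ∀ v, β v = v → (α * β * α⁻¹) v = v := by
    intro v hv
    rw [g0]
    rcases h1.act v with h6 | h6
    · rw [h6, hv, h6]
    · rw [h6, map_mul, hv, h3, map_mul, h6, hαc, hcc]
  have g2 : ∀ v, β v = v * d → (α * β * α⁻¹) v = v * d * c := by
    intro v hv
    rw [g0]
    rcases h1.act v with h6 | h6
    · rw [h6, hv, map_mul, h6, h5, mul_assoc]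
    · rw [h6, map_mul, hv, h3, map_mul, map_mul, h6, h5, hαc, mul_assoc (v * c) (d * c) c, hcc d, mul_assoc v c d,
        mul_comm c d, mul_assoc v d c]
  have g3 : ∀ v, (β * (α * β * α⁻¹)) v = v ∨ (β * (α * β * α⁻¹)) v = v * c := by
    intro v
    rcases h2.act v with h6 | h6
    · left
      rw [MulAut.mul_apply, g1 v h6, h6]
    · right
      rw [MulAut.mul_apply, g2 v h6, map_mul, map_mul, h6, hβd, h3, hdd]
  have hL : α * β * α⁻¹ ∈ L := mul_mem (mul_mem hα hβ) (inv_mem hα)
  refine h.no_fours hn hodd hβ hL h2 (h2.conj α) (f := c) ⟨g3, ?_⟩ ?_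
  · obtain ⟨v, hv⟩ := h2.ne
    refine ⟨v, fun h7 => ?_⟩
    have h6 := (h2.act v).resolve_left hv
    rw [MulAut.mul_apply, g2 v h6, map_mul, map_mul, h6, hβd, h3, hdd] at h7
    exact h1.ne_one (mul_eq_left.mp h7)
  · ext v
    change β ((α * β * α⁻¹) v) = (α * β * α⁻¹) (β v)
    rcases h2.act v with h6 | h6
    · rw [g1 v h6, h6, g1 v h6]
    · rw [g2 v h6, h6, map_mul β, map_mul β, h6, hβd, h3, hdd, map_mul, g2 v h6, g1 d hβd]
      rw [mul_assoc (v * d), mul_comm c, ← mul_assoc, hdd]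


/-- the pairs generate -/
theorem gen (hodd : Odd n) (H : Subgroup A) (hH : ∀ i j, i ≠ j → pr e i j ∈ H) : ∀ a, a ∈ H := by
  have hpt : ∀ i, e (Pi.single i 1) ∈ H := by
    intro i
    have h1 : ∏ j : Fin n, (e (Pi.single j 1) * e (Pi.single i 1)) ∈ H := by
      refine Subgroup.prod_mem _ fun j _ => ?_
      by_cases hj : j = i
      · subst hj
        rw [h.sq]
        exact one_mem _
      · rw [← h.add]
        exact hH j i hj
    rw [Finset.prod_mul_distrib, Finset.prod_const, Finset.card_univ, Fintype.card_fin] at h1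
    have h2 : ∏ j : Fin n, e (Pi.single j 1) = 1 := by
      have h3 : ∀ s : Finset (Fin n), ∏ j ∈ s, e (Pi.single j 1) = e (∑ j ∈ s, Pi.single j 1) := by
        intro s
        induction s using Finset.induction_on with
        | empty => rw [Finset.prod_empty, Finset.sum_empty, h.zero]
        | insert a s ha ih => rw [Finset.prod_insert ha, Finset.sum_insert ha, h.add, ih]
      rw [h3, ← h.one]
      congr 1
      funext k
      rw [Finset.sum_apply, Pi.one_apply, Finset.sum_eq_single k]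
      · rw [Pi.single_eq_same]
      · intro j _ hj
        exact Pi.single_eq_of_ne (Ne.symm hj) _
      · intro h4
        exact absurd (Finset.mem_univ k) h4
    rw [h2, one_mul] at h1
    have h5 : ∀ a : A, a ^ n = a := by
      intro a
      obtain ⟨k, hk⟩ := hodd
      rw [hk, pow_succ, pow_mul, pow_two, h.sq, one_pow, one_mul]
    rwa [h5] at h1
  intro a
  obtain ⟨x, rfl⟩ := h.surj a
  have h3 : x = ∑ j : Fin n, x j • (Pi.single j 1 : Fin n → ZMod 2) := by
    funext k
    rw [Finset.sum_apply, Finset.sum_eq_single k]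
    · simp
    · intro j _ hj
      simp [Pi.single_apply, Ne.symm hj]
    · intro h4
      exact absurd (Finset.mem_univ k) h4
  rw [h3]
  have h4 : ∀ s : Finset (Fin n), e (∑ j ∈ s, x j • (Pi.single j 1 : Fin n → ZMod 2)) ∈ H := by
    intro s
    induction s using Finset.induction_on with
    | empty => rw [Finset.sum_empty, h.zero]; exact one_mem _
    | insert a s ha ih =>
      rw [Finset.sum_insert ha, h.add]
      refine mul_mem ?_ ih
      rcases z2 (x a) with h5 | h5
      · rw [h5, zero_smul, h.zero]; exact one_mem _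
      · rw [h5, one_smul]; exact hpt a
  exact h4 _

/-- two transvections of `L` with the same centre are equal -/
theorem unique (hn : 3 ≤ n) (hodd : Odd n) {α β : MulAut A} (hα : α ∈ L) (hβ : β ∈ L) {c : A} (h1 : Tr α c)
    (h2 : Tr β c) : α = β := by
  let H : Subgroup A :=
    { carrier := {a | α a = β a}
      one_mem' := by
        change α 1 = β 1
        rw [map_one, map_one]
      mul_mem' := fun {x y} hx hy => by
        change α (x * y) = β (x * y)
        rw [map_mul, map_mul, show α x = β x from hx, show α y = β y from hy]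
      inv_mem' := fun {x} hx => by
        change α x⁻¹ = β x⁻¹
        rw [map_inv, map_inv, show α x = β x from hx] }
  ext a
  refine h.gen hodd H (fun i j hij => ?_) a
  change α (pr e i j) = β (pr e i j)
  obtain ⟨τ, hτ, hτa⟩ := h.full (Equiv.swap i j)
  have ht := h.tr_pair hn hodd hij hτa
  have key : ∀ {α' : MulAut A}, α' ∈ L → Tr α' c → (α' (pr e i j) = pr e i j ↔ τ c = c) := by
    intro α' hα' h1'
    exact ⟨fun h3 => h.symm hn hodd hτ hα' ht h1' h3, fun h3 => h.symm hn hodd hα' hτ h1' ht h3⟩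
  by_cases h3 : τ c = c
  · rw [(key hα h1).mpr h3, (key hβ h2).mpr h3]
  · rw [(h1.act _).resolve_left (fun h4 => h3 ((key hα h1).mp h4)),
      (h2.act _).resolve_left (fun h4 => h3 ((key hβ h2).mp h4))]

/-- no point is a centre -/
theorem point (hn : 5 ≤ n) (hodd : Odd n) [Finite A] {α : MulAut A} (hα : α ∈ L) (h1 : Tr α (e (Pi.single o 1))) : False := by
  have hcomm : ∀ s ∈ Sb, s * α * s⁻¹ = α := by
    intro s hs
    obtain ⟨σ, h2, h3⟩ := h.perm s hs
    have h4 := h1.conj s
    rw [h2.single, h3] at h4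
    exact h.unique (by omega) hodd (mul_mem (mul_mem (h.sub hs) hα) (inv_mem (h.sub hs))) hα h4 h1
  -- `⟨Sb, α⟩` is a 2-group
  have hz : IsPGroup 2 (zpowers α) := by
    have h2 : α ^ 2 = 1 := by rw [pow_two]; exact h1.sq h.sq
    intro x
    refine ⟨1, ?_⟩
    obtain ⟨k, hk⟩ := mem_zpowers_iff.mp x.2
    apply Subtype.ext
    rw [pow_one]
    change (x : MulAut A) ^ 2 = 1
    rw [← hk, ← zpow_natCast, ← zpow_mul, mul_comm, zpow_mul, zpow_natCast, h2, one_zpow]
  have hnorm : Sb ≤ normalizer (zpowers α : Set (MulAut A)) := by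
    intro s hs
    have h2 := hcomm s hs
    rw [mem_normalizer_iff]
    intro x
    have h3 : ∀ k : ℤ, s * α ^ k * s⁻¹ = α ^ k := by
      intro k
      rw [← conj_zpow, h2]
    constructor
    · rintro ⟨k, rfl⟩
      exact ⟨k, (h3 k).symm⟩
    · rintro ⟨k, hk⟩
      refine ⟨k, ?_⟩
      have h4 : x = s⁻¹ * (s * x * s⁻¹) * s := by group
      have h5 : s⁻¹ * α ^ k * s = α ^ k := by
        nth_rewrite 1 [← h3 k]
        group
      rw [h4, ← hk]
      exact h5.symm
  have hX : IsPGroup 2 (Sb ⊔ zpowers α : Subgroup (MulAut A)) :=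
    IsPGroup.to_sup_of_normal_right' h.two hz hnorm
  obtain ⟨g, -, hg⟩ := h.conj (Sb ⊔ zpowers α) (sup_le h.sub ((zpowers_le).mpr hα)) hX
  have hfin : Finite (MulAut A) := Finite.of_injective (fun f : MulAut A => (f : A → A)) fun f g h =>
    MulEquiv.ext fun y => congrFun h y
  have hle : Nat.card (Sb ⊔ zpowers α : Subgroup (MulAut A)) ≤ Nat.card Sb := by
    refine Nat.card_le_card_of_injective (fun x : (Sb ⊔ zpowers α : Subgroup (MulAut A)) =>
      (⟨g * x * g⁻¹, hg x x.2⟩ : Sb)) ?_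
    intro x y hxy
    have h3 : g * (x : MulAut A) * g⁻¹ = g * y * g⁻¹ := congrArg Subtype.val hxy
    exact Subtype.ext (mul_left_cancel (mul_right_cancel h3))
  have heq : Sb = Sb ⊔ zpowers α := Subgroup.eq_of_le_of_card_ge le_sup_left hle
  have hαS : α ∈ Sb := by
    rw [heq]
    exact (le_sup_right : zpowers α ≤ _) (mem_zpowers α)
  obtain ⟨σ, h2, -⟩ := h.perm α hαS
  obtain ⟨i, j, hij, -, h3⟩ := h.tr_perm hodd h2 h1
  unfold pr at h3
  rcases h.eq_iff.mp h3 with h4 | h4
  · have h5 := congrArg tot h4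
    rw [tot_single, tot_pr] at h5
    exact one_ne_zero h5
  · have hcard : ({o, i, j} : Finset (Fin n)).card < (Finset.univ : Finset (Fin n)).card := by
      rw [Finset.card_univ, Fintype.card_fin]
      exact lt_of_le_of_lt Finset.card_le_three (by omega)
    obtain ⟨k, -, hk⟩ := Finset.exists_mem_notMem_of_card_lt_card hcard
    simp only [Finset.mem_insert, Finset.mem_singleton, not_or] at hk
    have h5 := congrFun h4 k
    rw [Pi.single_eq_of_ne hk.1, Pi.add_apply, Pi.add_apply, Pi.single_eq_of_ne hk.2.1,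
      Pi.single_eq_of_ne hk.2.2, Pi.one_apply] at h5
    revert h5
    decide


/-- an element of `L` inducing `σ`, and the transvections are permuted -/
theorem exists_conj {α : MulAut A} (hα : α ∈ L) {x : Fin n → ZMod 2} (h1 : Tr α (e x)) (σ : Equiv.Perm (Fin n)) :
    ∃ β ∈ L, Tr β (e (x ∘ σ.symm)) := by
  obtain ⟨g, hg, hgσ⟩ := h.full σ
  have h2 := h1.conj g
  rw [hgσ] at h2
  exact ⟨_, mul_mem (mul_mem hg hα) (inv_mem hg), h2⟩

/-- (4): the centres are the pairs -/
theorem centre (hn : 5 ≤ n) (hodd : Odd n) [Finite A] {α : MulAut A} (hα : α ∈ L) {c : A} (h1 : Tr α c) :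
    ∃ i j, i ≠ j ∧ c = pr e i j := by
  obtain ⟨x, rfl, hx⟩ := h.exists_even hodd c
  have hx0 : x ≠ 0 := by
    rintro rfl
    exact h1.ne_one h.zero
  obtain ⟨i, hi⟩ : ∃ i, x i = 1 := by
    by_contra h2
    push Not at h2
    apply hx0
    funext k
    exact (z2 (x k)).resolve_right (h2 k)
  obtain ⟨j, hj, hji⟩ : ∃ j, x j = 1 ∧ j ≠ i := by
    by_contra h2
    push Not at h2
    have h3 : x = Pi.single i 1 := by
      funext k
      by_cases hk : k = i
      · subst hk; rw [Pi.single_eq_same, hi]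
      · rw [Pi.single_eq_of_ne hk]
        exact (z2 (x k)).resolve_right fun h4 => hk (h2 k h4)
    rw [h3, tot_single] at hx
    exact one_ne_zero hx
  by_cases h2 : ∀ k, x k = 1 → k = i ∨ k = j
  · refine ⟨i, j, Ne.symm hji, ?_⟩
    unfold pr
    congr 1
    funext k
    rw [Pi.add_apply]
    by_cases hk : k = i
    · subst hk; rw [Pi.single_eq_same, Pi.single_eq_of_ne (Ne.symm hji), hi, add_zero]
    by_cases hk' : k = j
    · subst hk'; rw [Pi.single_eq_same, Pi.single_eq_of_ne hk, hj, zero_add]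
    rw [Pi.single_eq_of_ne hk, Pi.single_eq_of_ne hk', add_zero]
    exact (z2 (x k)).resolve_right fun h4 => by
      rcases h2 k h4 with h5 | h5
      · exact hk h5
      · exact hk' h5
  exfalso
  push Not at h2
  obtain ⟨k, hk, hki, hkj⟩ := h2
  obtain ⟨a, ha⟩ : ∃ a, x a = 0 := by
    by_contra h3
    push Not at h3
    have h4 : x = 1 := by
      funext b
      exact (z2 (x b)).resolve_left (h3 b)
    rw [h4, tot_one hodd] at hx
    exact one_ne_zero hx
  by_cases h3 : ∀ b, x b = 0 → b = a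
  · -- the centre is a point
    have h4 : x = Pi.single a 1 + 1 := by
      funext b
      rw [Pi.add_apply, Pi.one_apply]
      by_cases hb : b = a
      · subst hb; rw [Pi.single_eq_same, ha]; decide
      · rw [Pi.single_eq_of_ne hb, zero_add]
        exact (z2 (x b)).resolve_left fun h5 => hb (h3 b h5)
    have h5 : e x = e (Pi.single a 1) := by rw [h4, h.add, h.one, mul_one]
    rw [h5] at h1
    obtain ⟨β, hβ, hβ1⟩ := h.exists_conj hα h1 (Equiv.swap a o)
    rw [single_comp, Equiv.swap_apply_left] at hβ1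
    exact h.point hn hodd hβ hβ1
  push Not at h3
  obtain ⟨b, hb, hba⟩ := h3
  -- letters: `i, j, k` in the support, `a, b` outside
  have hia : i ≠ a := fun h0 => by rw [h0, ha] at hi; exact zero_ne_one hi
  have hib : i ≠ b := fun h0 => by rw [h0, hb] at hi; exact zero_ne_one hi
  have hja : j ≠ a := fun h0 => by rw [h0, ha] at hj; exact zero_ne_one hj
  have hjb : j ≠ b := fun h0 => by rw [h0, hb] at hj; exact zero_ne_one hj
  have hka : k ≠ a := fun h0 => by rw [h0, ha] at hk; exact zero_ne_one hk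
  have hkb : k ≠ b := fun h0 => by rw [h0, hb] at hk; exact zero_ne_one hk
  obtain ⟨β, hβ, hβ1⟩ := h.exists_conj hα h1 (Equiv.swap i a * Equiv.swap j b)
  set y : Fin n → ZMod 2 := x + (Pi.single i 1 + Pi.single j 1) + (Pi.single a 1 + Pi.single b 1) with hy
  have hπ : (Equiv.swap i a * Equiv.swap j b).symm = Equiv.swap i a * Equiv.swap j b := by
    have h4 : Equiv.swap i a * Equiv.swap j b * (Equiv.swap i a * Equiv.swap j b) = 1 := by
      have h5 : Equiv.swap i a * Equiv.swap j b = Equiv.swap j b * Equiv.swap i a := by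
        have h6 : (Equiv.swap i a).Disjoint (Equiv.swap j b) := by
          rw [Equiv.Perm.disjoint_iff_disjoint_support, Equiv.Perm.support_swap hia, Equiv.Perm.support_swap hjb]
          simp [hji, Ne.symm hji, hib, Ne.symm hib, hja, Ne.symm hja, hba, Ne.symm hba]
        exact h6.commute
      calc Equiv.swap i a * Equiv.swap j b * (Equiv.swap i a * Equiv.swap j b)
          = Equiv.swap i a * Equiv.swap j b * (Equiv.swap j b * Equiv.swap i a) := by rw [← h5]
        _ = Equiv.swap i a * (Equiv.swap j b * Equiv.swap j b) * Equiv.swap i a := by group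
        _ = 1 := by rw [Equiv.swap_mul_self, mul_one, Equiv.swap_mul_self]
    exact inv_eq_of_mul_eq_one_left h4
  have hxy : x ∘ (Equiv.swap i a * Equiv.swap j b).symm = y := by
    funext m
    rw [hπ, Function.comp_apply, Equiv.Perm.mul_apply]
    simp only [hy, Pi.add_apply]
    by_cases m1 : m = i
    · subst m1
      rw [Equiv.swap_apply_of_ne_of_ne (Ne.symm hji) hib, Equiv.swap_apply_left, Pi.single_eq_same,
        Pi.single_eq_of_ne (Ne.symm hji), Pi.single_eq_of_ne hia, Pi.single_eq_of_ne hib, ha, hi]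
      decide
    by_cases m2 : m = j
    · subst m2
      rw [Equiv.swap_apply_left, Equiv.swap_apply_of_ne_of_ne (Ne.symm hib) hba, Pi.single_eq_same,
        Pi.single_eq_of_ne hji, Pi.single_eq_of_ne hja, Pi.single_eq_of_ne hjb, hb, hj]
      decide
    by_cases m3 : m = a
    · subst m3
      rw [Equiv.swap_apply_of_ne_of_ne (Ne.symm hja) (Ne.symm hba), Equiv.swap_apply_right, Pi.single_eq_same,
        Pi.single_eq_of_ne (Ne.symm hia), Pi.single_eq_of_ne (Ne.symm hja), Pi.single_eq_of_ne (Ne.symm hba), ha, hi]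
      decide
    by_cases m4 : m = b
    · subst m4
      rw [Equiv.swap_apply_right, Equiv.swap_apply_of_ne_of_ne hji hja, Pi.single_eq_same,
        Pi.single_eq_of_ne (Ne.symm hib), Pi.single_eq_of_ne (Ne.symm hjb), Pi.single_eq_of_ne hba, hb, hj]
      decide
    rw [Equiv.swap_apply_of_ne_of_ne m2 m4, Equiv.swap_apply_of_ne_of_ne m1 m3, Pi.single_eq_of_ne m1,
      Pi.single_eq_of_ne m2, Pi.single_eq_of_ne m3, Pi.single_eq_of_ne m4]
    simp
  rw [hxy] at hβ1
  obtain ⟨τ, hτ, hτa⟩ := h.full (Equiv.swap i j)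
  obtain ⟨ρ, hρ, hρa⟩ := h.full (Equiv.swap a b)
  have hτ1 := h.tr_pair (by omega) hodd (Ne.symm hji) hτa
  have hρ1 := h.tr_pair (by omega) hodd (Ne.symm hba) hρa
  have hyi : y i = 0 := by
    simp only [hy, Pi.add_apply]
    rw [Pi.single_eq_same, Pi.single_eq_of_ne (Ne.symm hji), Pi.single_eq_of_ne hia, Pi.single_eq_of_ne hib, hi]
    decide
  have hyj : y j = 0 := by
    simp only [hy, Pi.add_apply]
    rw [Pi.single_eq_same, Pi.single_eq_of_ne hji, Pi.single_eq_of_ne hja, Pi.single_eq_of_ne hjb, hj]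
    decide
  have hya : y a = 1 := by
    simp only [hy, Pi.add_apply]
    rw [Pi.single_eq_same, Pi.single_eq_of_ne (Ne.symm hia), Pi.single_eq_of_ne (Ne.symm hja),
      Pi.single_eq_of_ne (Ne.symm hba), ha]
    decide
  have hyb : y b = 1 := by
    simp only [hy, Pi.add_apply]
    rw [Pi.single_eq_same, Pi.single_eq_of_ne (Ne.symm hib), Pi.single_eq_of_ne (Ne.symm hjb),
      Pi.single_eq_of_ne hba, hb]
    decide
  have hyk : y k = 1 := by
    simp only [hy, Pi.add_apply]
    rw [Pi.single_eq_of_ne hki, Pi.single_eq_of_ne hkj, Pi.single_eq_of_ne hka, Pi.single_eq_of_ne hkb, hk]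
    decide
  -- the relation
  have hrel : e x * e y = pr e i j * pr e a b := by
    unfold pr
    rw [← h.add, ← h.add]
    congr 1
    rw [hy, add_assoc x, ← add_assoc x x, vec_self, zero_add]
  -- fixed centres
  have f1 : τ (e x) = e x := (h.ac_swap hτa x).1 (by rw [hi, hj])
  have f2 : ρ (e x) = e x := (h.ac_swap hρa x).1 (by rw [ha, hb])
  have f3 : τ (e y) = e y := (h.ac_swap hτa y).1 (by rw [hyi, hyj])
  have f4 : ρ (e y) = e y := (h.ac_swap hρa y).1 (by rw [hya, hyb])
  have hn3 : 3 ≤ n := by omega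
  have f5 : α (pr e i j) = pr e i j := h.symm hn3 hodd hα hτ h1 hτ1 f1
  have f6 : α (pr e a b) = pr e a b := h.symm hn3 hodd hα hρ h1 hρ1 f2
  have f7 : β (pr e i j) = pr e i j := h.symm hn3 hodd hβ hτ hβ1 hτ1 f3
  have f8 : β (pr e a b) = pr e a b := h.symm hn3 hodd hβ hρ hβ1 hρ1 f4
  have hyx : e y = e x * (pr e i j * pr e a b) := by
    rw [← hrel, ← mul_assoc, h.sq, one_mul]
  have f9 : α (e y) = e y := by
    rw [hyx, map_mul, map_mul, h1.fix h.sq, f5, f6]
  have f10 : β (e x) = e x := h.symm hn3 hodd hβ hα hβ1 h1 f9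
  have f11 : τ (pr e a b) = pr e a b := (h.ac_swap hτa _).1 (by
    rw [Pi.add_apply, Pi.add_apply, Pi.single_eq_of_ne hia, Pi.single_eq_of_ne hib, Pi.single_eq_of_ne hja,
      Pi.single_eq_of_ne hjb])
  have f12 : ρ (pr e i j) = pr e i j := h.symm hn3 hodd hρ hτ hρ1 hτ1 f11
  -- commuting
  have c1 := Tr.comm h.sq h1 hβ1 f9 f10
  have c2 := Tr.comm h.sq h1 hτ1 f5 f1
  have c3 := Tr.comm h.sq h1 hρ1 f6 f2
  have c4 := Tr.comm h.sq hβ1 hτ1 f7 f3
  have c5 := Tr.comm h.sq hβ1 hρ1 f8 f4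
  have c6 := Tr.comm h.sq hτ1 hρ1 f11 f12
  obtain ⟨g, hg, h5, -⟩ := h.fam hodd (B := {α, β, τ, ρ}) (by
    rintro u (rfl | rfl | rfl | rfl)
    · exact hα
    · exact hβ
    · exact hτ
    · exact hρ) (by
    rintro u (rfl | rfl | rfl | rfl) v (rfl | rfl | rfl | rfl)
    all_goals first | rfl | assumption | (symm; assumption)) (by
    rintro u (rfl | rfl | rfl | rfl)
    · exact ⟨_, h1⟩
    · exact ⟨_, hβ1⟩
    · exact ⟨_, hτ1⟩
    · exact ⟨_, hρ1⟩)
  obtain ⟨i0, j0, n0, -, e0⟩ := h5 α (Or.inl rfl) _ h1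
  obtain ⟨i1, j1, n1, a1, e1⟩ := h5 β (Or.inr (Or.inl rfl)) _ hβ1
  obtain ⟨i2, j2, n2, a2, e2⟩ := h5 τ (Or.inr (Or.inr (Or.inl rfl))) _ hτ1
  obtain ⟨i3, j3, n3, a3, e3⟩ := h5 ρ (Or.inr (Or.inr (Or.inr rfl))) _ hρ1
  -- a commuting transposition with another centre does not move `i0`
  have off : ∀ (γ : MulAut A) (k l : Fin n), Ac e (g * γ * g⁻¹) (Equiv.swap k l) → k ≠ l → γ (e x) = e x →
      pr e i0 j0 ≠ pr e k l → i0 ≠ k ∧ i0 ≠ l := by
    intro γ k l h6 hkl h7 h8
    have h9 : (g * γ * g⁻¹) (pr e i0 j0) = pr e i0 j0 := by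
      rw [← e0]
      change g (γ (g⁻¹ (g (e x)))) = g (e x)
      rw [← MulAut.mul_apply _ g⁻¹ g, inv_mul_cancel, MulAut.one_apply, h7]
    have h10 : (Pi.single i0 1 + Pi.single j0 1 : Fin n → ZMod 2) k =
        (Pi.single i0 1 + Pi.single j0 1 : Fin n → ZMod 2) l := by
      by_contra h11
      have h12 := (h.ac_swap h6 _).2 h11
      change (g * γ * g⁻¹) (pr e i0 j0) = pr e i0 j0 * pr e k l at h12
      rw [h9] at h12
      exact h.pr_ne hodd hkl (left_eq_mul.mp h12)
    rw [Pi.add_apply, Pi.add_apply] at h10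
    constructor
    · rintro rfl
      rw [Pi.single_eq_same, Pi.single_eq_of_ne n0, add_zero, Pi.single_eq_of_ne (Ne.symm hkl), zero_add] at h10
      by_cases h11 : l = j0
      · exact h8 (by rw [h11])
      · rw [Pi.single_eq_of_ne h11] at h10
        exact one_ne_zero h10
    · rintro rfl
      rw [Pi.single_eq_of_ne hkl, zero_add, Pi.single_eq_same, Pi.single_eq_of_ne n0, add_zero] at h10
      by_cases h11 : k = j0
      · exact h8 (by rw [h11]; exact h.pr_symm _ _)
      · rw [Pi.single_eq_of_ne h11] at h10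
        exact zero_ne_one h10
  have hty : tot y = 0 := by
    rw [hy, tot_add, tot_add, hx, tot_pr, tot_pr]
    decide
  have d1 : e x ≠ e y := by
    intro h6
    have h7 := congrFun (h.inj_tot hodd h6 (by rw [hx, hty])) i
    rw [hi, hyi] at h7
    exact one_ne_zero h7
  have d2 : e x ≠ pr e i j := by
    intro h6
    have h7 := congrFun (h.inj_tot hodd h6 (by rw [hx, tot_pr])) k
    rw [hk, Pi.add_apply, Pi.single_eq_of_ne hki, Pi.single_eq_of_ne hkj] at h7
    exact one_ne_zero h7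
  have d3 : e x ≠ pr e a b := by
    intro h6
    have h7 := congrFun (h.inj_tot hodd h6 (by rw [hx, tot_pr])) i
    rw [hi, Pi.add_apply, Pi.single_eq_of_ne hia, Pi.single_eq_of_ne hib] at h7
    exact one_ne_zero h7
  obtain ⟨o1, o1'⟩ := off β i1 j1 a1 n1 f10 (by rw [← e0, ← e1]; exact fun h6 => d1 (g.injective h6))
  obtain ⟨o2, o2'⟩ := off τ i2 j2 a2 n2 f1 (by rw [← e0, ← e2]; exact fun h6 => d2 (g.injective h6))
  obtain ⟨o3, o3'⟩ := off ρ i3 j3 a3 n3 f2 (by rw [← e0, ← e3]; exact fun h6 => d3 (g.injective h6))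
  have h6 := congrArg g hrel
  rw [map_mul, map_mul, e0, e1, e2, e3] at h6
  unfold pr at h6
  rw [← h.add, ← h.add] at h6
  have htt : ∀ p q r s : Fin n, tot (Pi.single p 1 + Pi.single q 1 + (Pi.single r 1 + Pi.single s 1) :
      Fin n → ZMod 2) = 0 := by
    intro p q r s
    rw [tot_add, tot_pr, tot_pr, add_zero]
  have h7 := congrFun (h.inj_tot hodd h6 (by rw [htt, htt])) i0
  simp only [Pi.add_apply] at h7
  rw [Pi.single_eq_same, Pi.single_eq_of_ne n0, Pi.single_eq_of_ne o1, Pi.single_eq_of_ne o1', Pi.single_eq_of_ne o2,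
    Pi.single_eq_of_ne o2', Pi.single_eq_of_ne o3, Pi.single_eq_of_ne o3'] at h7
  revert h7
  decide


theorem share (hodd : Odd n) {k l a b u v : Fin n} (hkl : k ≠ l) (h1 : pr e k l * pr e a b = pr e u v) :
    k = a ∨ k = b ∨ l = a ∨ l = b ∨ a = b := by
  by_contra h2
  push Not at h2
  obtain ⟨h3, h4, h5, h6, h7⟩ := h2
  unfold pr at h1
  rw [← h.add] at h1
  have h8 := h.inj_tot hodd h1 (by rw [tot_add, tot_pr, tot_pr, tot_pr, add_zero])
  have hk := congrFun h8 k
  have hl := congrFun h8 l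
  have ha := congrFun h8 a
  simp only [Pi.add_apply] at hk hl ha
  rw [Pi.single_eq_same, Pi.single_eq_of_ne hkl, Pi.single_eq_of_ne h3, Pi.single_eq_of_ne h4] at hk
  rw [Pi.single_eq_same, Pi.single_eq_of_ne hkl.symm, Pi.single_eq_of_ne h5, Pi.single_eq_of_ne h6] at hl
  rw [Pi.single_eq_same, Pi.single_eq_of_ne (Ne.symm h3), Pi.single_eq_of_ne (Ne.symm h5),
    Pi.single_eq_of_ne h7] at ha
  have key : ∀ m : Fin n, (1 : ZMod 2) = (Pi.single u 1 : Fin n → ZMod 2) m + (Pi.single v 1 : Fin n → ZMod 2) m →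
      m = u ∨ m = v := by
    intro m hm
    by_contra h9
    push Not at h9
    rw [Pi.single_eq_of_ne h9.1, Pi.single_eq_of_ne h9.2] at hm
    revert hm
    decide
  have k1 := key k (by rw [← hk]; decide)
  have k2 := key l (by rw [← hl]; decide)
  have k3 := key a (by rw [← ha]; decide)
  rcases k1 with rfl | rfl
  · rcases k2 with h9 | rfl
    · exact hkl h9.symm
    · rcases k3 with h9 | h9
      · exact h3 h9.symm
      · exact h5 h9.symm
  · rcases k2 with rfl | h9
    · rcases k3 with h9 | h9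
      · exact h5 h9.symm
      · exact h3 h9.symm
    · exact hkl h9.symm

/-- the star -/
theorem star (hn : 5 ≤ n) (hodd : Odd n) {α : MulAut A}
    (hα : ∀ i j, i ≠ j → ∃ k l, k ≠ l ∧ α (pr e i j) = pr e k l) (i : Fin n) :
    ∃ a, ∀ j, j ≠ i → ∃ b, b ≠ a ∧ α (pr e i j) = pr e a b := by
  obtain ⟨j₁, -, h1⟩ := Finset.exists_mem_notMem_of_card_lt_card (s := ({i} : Finset (Fin n)))
    (t := Finset.univ) (by rw [Finset.card_univ, Fintype.card_fin, Finset.card_singleton]; omega)
  obtain ⟨j₂, -, h2⟩ := Finset.exists_mem_notMem_of_card_lt_card (s := ({i, j₁} : Finset (Fin n)))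
    (t := Finset.univ) (by
      rw [Finset.card_univ, Fintype.card_fin]
      exact lt_of_le_of_lt Finset.card_le_two (by omega))
  simp only [Finset.mem_insert, Finset.mem_singleton, not_or] at h1 h2
  -- `{a, b}`, `{a, c}`
  have hab : ∃ a b c, a ≠ b ∧ a ≠ c ∧ b ≠ c ∧ α (pr e i j₁) = pr e a b ∧ α (pr e i j₂) = pr e a c := by
    obtain ⟨k, l, hkl, e1⟩ := hα i j₁ (Ne.symm h1)
    obtain ⟨k', l', hkl', e2⟩ := hα i j₂ (Ne.symm h2.1)
    obtain ⟨u, v, -, e3⟩ := hα j₁ j₂ (Ne.symm h2.2)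
    have h3 : pr e k l * pr e k' l' = pr e u v := by
      rw [← e1, ← e2, ← e3, ← map_mul, h.pr_symm i j₁, h.pr_add]
    have hne : pr e k l ≠ pr e k' l' := by
      rw [← e1, ← e2]
      intro h4
      rcases h.pr_eq hodd (Ne.symm h1) (α.injective h4) with ⟨-, h5⟩ | ⟨h5, h6⟩
      · exact h2.2 h5.symm
      · exact h1 h6
    rcases h.share hodd hkl h3 with h4 | h4 | h4 | h4 | h4
    · subst h4
      exact ⟨k, l, l', hkl, hkl', fun h5 => hne (by rw [h5]), e1, e2⟩
    · subst h4
      exact ⟨k, l, k', hkl, hkl'.symm, fun h5 => hne (by rw [h5]; exact h.pr_symm _ _), e1,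
        by rw [e2]; exact h.pr_symm _ _⟩
    · subst h4
      exact ⟨l, k, l', hkl.symm, hkl', fun h5 => hne (by rw [h5]; exact h.pr_symm _ _),
        by rw [e1]; exact h.pr_symm _ _, e2⟩
    · subst h4
      exact ⟨l, k, k', hkl.symm, hkl'.symm, fun h5 => hne (by rw [h5]), by rw [e1]; exact h.pr_symm _ _,
        by rw [e2]; exact h.pr_symm _ _⟩
    · exact absurd h4 hkl'
  obtain ⟨a, b, c, n1, n2, n3, e1, e2⟩ := hab
  refine ⟨a, fun j hj => ?_⟩
  by_cases hj1 : j = j₁
  · subst hj1; exact ⟨b, n1.symm, e1⟩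
  by_cases hj2 : j = j₂
  · subst hj2; exact ⟨c, n2.symm, e2⟩
  obtain ⟨k, l, hkl, e3⟩ := hα i j (Ne.symm hj)
  obtain ⟨u, v, -, e4⟩ := hα j j₁ hj1
  obtain ⟨u', v', -, e5⟩ := hα j j₂ hj2
  have h3 : pr e k l * pr e a b = pr e u v := by
    rw [← e1, ← e3, ← e4, ← map_mul, h.pr_symm i j, h.pr_add]
  have h4 : pr e k l * pr e a c = pr e u' v' := by
    rw [← e2, ← e3, ← e5, ← map_mul, h.pr_symm i j, h.pr_add]
  by_cases hka : k = a
  · subst hka; exact ⟨l, hkl.symm, e3⟩
  by_cases hla : l = a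
  · subst hla; exact ⟨k, hkl, by rw [e3]; exact h.pr_symm _ _⟩
  exfalso
  have h5 : pr e k l = pr e b c := by
    rcases h.share hodd hkl h3 with h5 | h5 | h5 | h5 | h5
    · exact absurd h5 hka
    · rcases h.share hodd hkl h4 with h6 | h6 | h6 | h6 | h6
      · exact absurd h6 hka
      · exact absurd (h5.symm.trans h6) n3
      · exact absurd h6 hla
      · rw [h5, h6]
      · exact absurd h6 n2
    · exact absurd h5 hla
    · rcases h.share hodd hkl h4 with h6 | h6 | h6 | h6 | h6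
      · exact absurd h6 hka
      · rw [h5, h6]; exact h.pr_symm _ _
      · exact absurd h6 hla
      · exact absurd (h5.symm.trans h6) n3
      · exact absurd h6 n2
    · exact absurd h5 n1
  have h6 : α (pr e j₁ j₂) = pr e b c := by
    have h7 : pr e j₁ j₂ = pr e i j₁ * pr e i j₂ := by rw [h.pr_symm i j₁, h.pr_add]
    rw [h7, map_mul, e1, e2, h.pr_symm a b, h.pr_add]
  have h7 := α.injective (h6.trans (h5.symm.trans e3.symm))
  rcases h.pr_eq hodd (Ne.symm h2.2) h7 with ⟨h8, -⟩ | ⟨-, h8⟩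
  · exact h1 h8
  · exact h2.1 h8

/-- **every element of `L` is a permutation.** -/
theorem main (hn : 5 ≤ n) (hodd : Odd n) [Finite A] {α : MulAut A} (hα : α ∈ L) : ∃ σ, Ac e α σ := by
  have hpair : ∀ i j, i ≠ j → ∃ k l, k ≠ l ∧ α (pr e i j) = pr e k l := by
    intro i j hij
    obtain ⟨τ, hτ, hτa⟩ := h.full (Equiv.swap i j)
    exact h.centre hn hodd (mul_mem (mul_mem hα hτ) (inv_mem hα))
      ((h.tr_pair (by omega) hodd hij hτa).conj α)
  choose f hf using h.star hn hodd hpair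
  have hinj : Function.Injective f := by
    intro i j hij
    by_contra hne
    obtain ⟨k, -, hk⟩ := Finset.exists_mem_notMem_of_card_lt_card (s := ({i, j} : Finset (Fin n)))
      (t := Finset.univ) (by
        rw [Finset.card_univ, Fintype.card_fin]
        exact lt_of_le_of_lt Finset.card_le_two (by omega))
    simp only [Finset.mem_insert, Finset.mem_singleton, not_or] at hk
    obtain ⟨b, hb, e1⟩ := hf i j (Ne.symm hne)
    obtain ⟨c, hc, e2⟩ := hf i k hk.1
    obtain ⟨d, hd, e3⟩ := hf j k hk.2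
    have h1 : pr e (f i) b = pr e c d := by
      have h2 : pr e i j = pr e i k * pr e j k := by rw [h.pr_symm j k, h.pr_add]
      rw [← e1, h2, map_mul, e2, e3, ← hij, h.pr_symm (f i) c, h.pr_add]
    rcases h.pr_eq hodd (Ne.symm hb) h1 with ⟨h2, -⟩ | ⟨h2, -⟩
    · exact hc h2.symm
    · rw [hij] at h2
      exact hd h2.symm
  let σ : Equiv.Perm (Fin n) := Equiv.ofBijective f ((Finite.injective_iff_bijective).mp hinj)
  have hσ : ∀ i, σ i = f i := fun _ => rfl
  obtain ⟨τ, hτ, hτa⟩ := h.full σ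
  have hpr : ∀ i j, i ≠ j → α (pr e i j) = τ (pr e i j) := by
    intro i j hij
    rw [hτa.pr, hσ, hσ]
    obtain ⟨b, hb, e1⟩ := hf i j (Ne.symm hij)
    obtain ⟨c, hc, e2⟩ := hf j i hij
    rw [h.pr_symm j i, e1] at e2
    rcases h.pr_eq hodd (Ne.symm hb) e2 with ⟨h2, -⟩ | ⟨-, h2⟩
    · exact absurd (hinj h2) hij
    · rw [e1, h2]
  let H : Subgroup A :=
    { carrier := {a | α a = τ a}
      one_mem' := by
        change α 1 = τ 1
        rw [map_one, map_one]
      mul_mem' := fun {x y} hx hy => by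
        change α (x * y) = τ (x * y)
        rw [map_mul, map_mul, show α x = τ x from hx, show α y = τ y from hy]
      inv_mem' := fun {x} hx => by
        change α x⁻¹ = τ x⁻¹
        rw [map_inv, map_inv, show α x = τ x from hx] }
  refine ⟨σ, fun x => ?_⟩
  have h1 : α (e x) = τ (e x) := h.gen hodd H hpr (e x)
  rw [h1, hτa]

end Md

end abs

/-! ### groups -/

section grp

open Cfsg.Agent.Omega.S5.Def Cfsg.Agent.Omega.S5.Syl

variable {G : Type u} [Group G] {n : ℕ} {V P : Subgroup G} {ε : (Fin n → ZMod 2) → G}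

/-- **`N_G(V)` acts as the symmetric group.** -/
theorem evenSet [Finite G] (hn : 5 ≤ n) (hodd : Odd n) (S : Sylow 2 G) (h : EvenSet n V P ε)
    (hSP : (S : Subgroup G) ≤ P) {o : Fin n}
    (ho : ∀ s ∈ (S : Subgroup G), ∀ σ : Equiv.Perm (Fin n), Acts ε s σ → σ o = o) :
    EvenSet n V (normalizer (V : Set G)) ε := by
  classical
  have hf : Fact (Nat.Prime 2) := ⟨Nat.prime_two⟩
  letI : CommGroup V := { (inferInstance : Group V) with mul_comm := fun a b => Subtype.ext (h.comm_mem a.2 b.2) }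
  have hPN : P ≤ normalizer (V : Set G) := h.le_normalizer
  have hSN : (S : Subgroup G) ≤ normalizer (V : Set G) := hSP.trans hPN
  let π : normalizer (V : Set G) →* MulAut V := V.normalizerMonoidHom
  have hπ : ∀ (g : normalizer (V : Set G)) (v : V), ((π g v : V) : G) = g * v * (g : G)⁻¹ := fun _ _ => rfl
  let e : (Fin n → ZMod 2) → V := fun x => ⟨ε x, h.mem x⟩
  have hAc : ∀ (g : normalizer (V : Set G)) (σ : Equiv.Perm (Fin n)), Ac e (π g) σ ↔ Acts ε (g : G) σ := by
    intro g σ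
    constructor
    · intro h1 x
      exact congrArg Subtype.val (h1 x)
    · intro h1 x
      exact Subtype.ext (h1 x)
  let T : Subgroup (normalizer (V : Set G)) := (S : Subgroup G).subgroupOf (normalizer (V : Set G))
  have hT : IsPGroup 2 T := S.isPGroup'.comap_of_injective _ (Subgroup.subtype_injective _)
  have hTi : ¬ 2 ∣ T.index := MinSimple.Basic.not_dvd_relIndex S hSN
  let π' : normalizer (V : Set G) →* π.range := π.rangeRestrict
  have hπ' : Function.Surjective π' := π.rangeRestrict_surjective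
  have hM : Md e π.range (T.map π) o :=
    { add := fun x y => Subtype.ext (h.add x y)
      surj := fun a => by
        obtain ⟨x, hx⟩ := h.surj a a.2
        exact ⟨x, Subtype.ext hx⟩
      ker := fun x => by
        rw [← h.ker x]
        exact ⟨fun h1 => congrArg Subtype.val h1, fun h1 => Subtype.ext h1⟩
      full := fun σ => by
        obtain ⟨g, hg, hσ⟩ := h.full σ
        exact ⟨π ⟨g, hPN hg⟩, ⟨_, rfl⟩, (hAc ⟨g, hPN hg⟩ σ).mpr hσ⟩
      sub := by
        rintro _ ⟨g, -, rfl⟩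
        exact ⟨g, rfl⟩
      two := hT.map π
      perm := by
        rintro _ ⟨g, hg, rfl⟩
        have hgS : (g : G) ∈ (S : Subgroup G) := hg
        obtain ⟨σ, hσ⟩ := h.perm g (hSP hgS)
        exact ⟨σ, (hAc g σ).mpr hσ, ho g hgS σ hσ⟩
      conj := by
        intro X hX hX2
        have hX' : IsPGroup 2 (X.subgroupOf π.range) := hX2.comap_of_injective _ (Subgroup.subtype_injective _)
        obtain ⟨Q, hQ⟩ := hX'.exists_le_sylow
        obtain ⟨g, hg⟩ := MulAction.exists_smul_eq π.range Q ((hT.toSylow hTi).mapSurjective hπ')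
        refine ⟨g, g.2, fun x hx => ?_⟩
        have h1 : (⟨x, hX hx⟩ : π.range) ∈ (Q : Subgroup π.range) := hQ hx
        have h2 : g * ⟨x, hX hx⟩ * g⁻¹ ∈ ((g • Q : Sylow 2 π.range) : Subgroup π.range) := by
          rw [Sylow.coe_subgroup_smul]
          exact Subgroup.smul_mem_pointwise_smul _ (MulAut.conj g) _ h1
        rw [hg] at h2
        obtain ⟨t, ht, h3⟩ := h2
        exact ⟨t, ht, congrArg Subtype.val h3⟩ }
  refine h.change (fun g hg => ?_) (fun σ => ?_)
  · obtain ⟨σ, hσ⟩ := hM.main hn hodd (α := π ⟨g, hg⟩) ⟨_, rfl⟩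
    exact ⟨σ, (hAc ⟨g, hg⟩ σ).mp hσ⟩
  · obtain ⟨g, hg, hσ⟩ := h.full σ
    exact ⟨g, hPN hg, hσ⟩

/-- The version with `Fix0`. -/
theorem evenSet' [Finite G] {m : ℕ} (hm : 2 ≤ m) (S : Sylow 2 G) {ε : (Fin (2 ^ m + 1) → ZMod 2) → G}
    (h : EvenSet (2 ^ m + 1) V P ε) (hSP : (S : Subgroup G) ≤ P) (h0 : Fix0 ε (S : Subgroup G)) :
    EvenSet (2 ^ m + 1) V (normalizer (V : Set G)) ε := by
  have h4 : 2 ^ 2 ≤ 2 ^ m := Nat.pow_le_pow_right (by norm_num) hm
  refine evenSet (by omega) ?_ S h hSP (o := 0) fun s hs σ hσ => h0 s hs σ hσ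
  exact ⟨2 ^ (m - 1), by rw [← pow_succ']; congr 2; omega⟩

end grp

end Cfsg.Agent.Omega.NSix.Norm
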