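import Cfsg.Agent.Omega.NSix.Basic
import Cfsg.Agent.Omega.S5.Syl
import Cfsg.Agent.MinSimple.Basic

/-!
# OMEGA N6, bb #13506 (1): `V ≤ O₂(C_G(z_i))`

`V` is the even-subset module of degree `2 ^ m + 1`, `m ≥ 3`, for `P ≥ S`, `S` a Sylow 2-subgroup of `G`, `G` of
characteristic 2 type.

* `two_normal` : a normal 2-subgroup of a group inducing `Sym(Λ)`, `|Λ| ≥ 5`, acts trivially on `Λ`;
* `norm_two` : a 2-subgroup of `P` normalised by `P` centralises `V` (any degree `≥ 5`);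
* `pt` : `z_j ∈ O₂(C_G(z_i))`.
-/

set_option autoImplicit false
set_option linter.dupNamespace false

namespace Cfsg.Agent.Omega.NSix.PtCen

open Subgroup Cfsg Cfsg.Agent.ZN Cfsg.Agent.Omega.S5.Def Cfsg.Agent.Omega.S5.Syl
open Cfsg.Agent.Omega.NSix.Base Cfsg.Agent.Omega.NSix.Basic
open Cfsg.Agent.MinSimple.VModule (o2_isPGroup o2_le le_o2 le_normalizer_o2 o2_le_of_sylow)

universe u

/-- A normal 2-subgroup of a group inducing `Sym(Λ)`, `|Λ| ≥ 5`, acts trivially on `Λ`. -/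
theorem two_normal {Λ : Type*} [Finite Λ] (h5 : 5 ≤ Nat.card Λ) {A : Type*} [Group A]
    (ψ : A →* Equiv.Perm Λ) (hψ : Function.Surjective ψ) {N : Subgroup A} (hN : N.Normal) (h2 : IsPGroup 2 N) :
    ∀ x ∈ N, ψ x = 1 := by
  classical
  have : Fintype Λ := Fintype.ofFinite Λ
  by_contra hcon
  push Not at hcon
  obtain ⟨x, hx, hx1⟩ := hcon
  have hMn : (N.map ψ).Normal := hN.map _ hψ
  have hnt : Nontrivial (N.map ψ) :=
    ⟨⟨⟨ψ x, x, hx, rfl⟩, 1, fun h => hx1 (congrArg Subtype.val h)⟩⟩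
  have h1 := Equiv.Perm.alternatingGroup_le_of_normal h5 hnt
  rw [Nat.card_eq_fintype_card, ← Finset.card_univ] at h5
  obtain ⟨a, b, c, hab, hac, hbc⟩ : ∃ a b c : Λ, a ≠ b ∧ a ≠ c ∧ b ≠ c := by
    obtain ⟨a, -, b, -, c, -, h6, h7, h8⟩ :=
      Finset.two_lt_card.mp (show 2 < (Finset.univ : Finset Λ).card by omega)
    exact ⟨a, b, c, h6, h7, h8⟩
  have h3 := Equiv.Perm.isThreeCycle_swap_mul_swap_same hab hac hbc
  have h4 : Equiv.swap a b * Equiv.swap a c ∈ N.map ψ := h1 h3.mem_alternatingGroup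
  obtain ⟨k, hk⟩ := (h2.map ψ) ⟨_, h4⟩
  have h6 : (Equiv.swap a b * Equiv.swap a c) ^ 2 ^ k = 1 := congrArg Subtype.val hk
  have h7 := orderOf_dvd_of_pow_eq_one h6
  rw [h3.orderOf] at h7
  have h8 := Nat.Prime.dvd_of_dvd_pow Nat.prime_three h7
  omega

variable {G : Type u} [Group G]

/-- A 2-subgroup of `P` normalised by `P` centralises `V`. -/
theorem norm_two {n : ℕ} {V P U : Subgroup G} {ε : (Fin n → ZMod 2) → G} (hn : 5 ≤ n) (h : EvenSet n V P ε)
    (hUP : U ≤ P) (hU : IsPGroup 2 U) (hPU : P ≤ normalizer (U : Set G)) : U ≤ centralizer (V : Set G) := by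
  have hn3 : 3 ≤ n := by omega
  intro u hu
  have hN : (U.subgroupOf P).Normal := normal_subgroupOf_of_le_normalizer hPU
  have h1 := two_normal (by rw [Nat.card_fin]; exact hn) (h.hom hn3) (h.hom_surjective hn3) hN
    (hU.comap_of_injective _ P.subtype_injective) ⟨u, hUP hu⟩ hu
  have h2 := h.acts_hom hn3 ⟨u, hUP hu⟩
  rw [h1] at h2
  exact h.acts_one_iff.mp h2

/-- conjugation of `O₂(C_G(a))` -/
theorem conj_o2_cent {g a x : G} (hx : x ∈ o2 (centralizer ({a} : Set G))) :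
    g * x * g⁻¹ ∈ o2 (centralizer ({g * a * g⁻¹} : Set G)) := by
  have hc : ∀ y, g * y * g⁻¹ ∈ centralizer ({g * a * g⁻¹} : Set G) ↔ y ∈ centralizer ({a} : Set G) := by
    intro y
    rw [mem_centralizer_singleton_iff, mem_centralizer_singleton_iff]
    constructor
    · intro h1
      have h2 : g * (y * a) * g⁻¹ = g * (a * y) * g⁻¹ := by
        calc g * (y * a) * g⁻¹ = g * y * g⁻¹ * (g * a * g⁻¹) := by group
          _ = g * a * g⁻¹ * (g * y * g⁻¹) := h1
          _ = _ := by group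
      exact mul_left_cancel (mul_right_cancel h2)
    · intro h1
      calc g * y * g⁻¹ * (g * a * g⁻¹) = g * (y * a) * g⁻¹ := by group
        _ = g * (a * y) * g⁻¹ := by rw [h1]
        _ = _ := by group
  have h1 : (o2 (centralizer ({a} : Set G))).map (MulAut.conj g).toMonoidHom ≤
      o2 (centralizer ({g * a * g⁻¹} : Set G)) := by
    apply le_o2
    · rintro _ ⟨y, hy, rfl⟩
      exact (hc y).mpr (o2_le _ hy)
    · exact (o2_isPGroup _).map _
    · have key : ∀ l ∈ centralizer ({g * a * g⁻¹} : Set G),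
          ∀ y ∈ (o2 (centralizer ({a} : Set G))).map (MulAut.conj g).toMonoidHom,
          l * y * l⁻¹ ∈ (o2 (centralizer ({a} : Set G))).map (MulAut.conj g).toMonoidHom := by
        rintro l hl _ ⟨y, hy, rfl⟩
        have h2 : g⁻¹ * l * g ∈ centralizer ({a} : Set G) := by
          rw [← hc]
          have e : g * (g⁻¹ * l * g) * g⁻¹ = l := by group
          rwa [e]
        refine ⟨(g⁻¹ * l * g) * y * (g⁻¹ * l * g)⁻¹,
          (mem_normalizer_iff.mp (le_normalizer_o2 _ h2) y).mp hy, ?_⟩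
        change g * ((g⁻¹ * l * g) * y * (g⁻¹ * l * g)⁻¹) * g⁻¹ = l * (g * y * g⁻¹) * l⁻¹
        group
      intro l hl
      rw [mem_normalizer_iff]
      refine fun y => ⟨key l hl y, fun hy => ?_⟩
      have := key l⁻¹ (inv_mem hl) _ hy
      have h3 : l⁻¹ * (l * y * l⁻¹) * l⁻¹⁻¹ = y := by group
      rwa [h3] at this
  exact h1 ⟨x, hx, rfl⟩

section

variable {m : ℕ} {V P : Subgroup G} {ε : (Fin (2 ^ m + 1) → ZMod 2) → G}

/-- `C_P(z_0)` acts on the labels `≠ 0`. -/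
theorem fix_zero (hm : 1 ≤ m) (h : EvenSet (2 ^ m + 1) V P ε) (g : ↥(P ⊓ centralizer ({zz ε 0} : Set G))) :
    h.hom (three_le hm) (Subgroup.inclusion inf_le_left g) 0 = 0 :=
  (h.fixes_iff (three_le hm) (h.acts_hom (three_le hm) _) 0).mp (mem_centralizer_singleton_iff.mp g.2.2)

/-- The action of `C_P(z_0)` on the labels `≠ 0`. -/
noncomputable def psi (hm : 1 ≤ m) (h : EvenSet (2 ^ m + 1) V P ε) :
    ↥(P ⊓ centralizer ({zz ε 0} : Set G)) →* Equiv.Perm {k : Fin (2 ^ m + 1) // k ≠ 0} where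
  toFun g := (h.hom (three_le hm) (Subgroup.inclusion inf_le_left g)).subtypePerm fun k => by
    have h1 := fix_zero hm h g
    refine ⟨fun h2 h3 => h2 (by rw [h3, h1]), fun h2 h3 => h2 ?_⟩
    exact (h.hom (three_le hm) (Subgroup.inclusion inf_le_left g)).injective (h3.trans h1.symm)
  map_one' := by
    ext k
    simp
  map_mul' a b := by
    ext k
    simp
    rfl

theorem psi_apply (hm : 1 ≤ m) (h : EvenSet (2 ^ m + 1) V P ε) (g : ↥(P ⊓ centralizer ({zz ε 0} : Set G)))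
    (k : {k : Fin (2 ^ m + 1) // k ≠ 0}) : ((psi hm h g k : {k : Fin (2 ^ m + 1) // k ≠ 0}) : Fin (2 ^ m + 1)) =
      h.hom (three_le hm) (Subgroup.inclusion inf_le_left g) k := rfl

theorem psi_surj (hm : 1 ≤ m) (h : EvenSet (2 ^ m + 1) V P ε) : Function.Surjective (psi hm h) := by
  intro τ
  obtain ⟨g, hg, hσ⟩ := h.full (Equiv.Perm.ofSubtype τ)
  have h1 : Equiv.Perm.ofSubtype τ 0 = 0 := Equiv.Perm.ofSubtype_apply_of_not_mem τ (by simp)
  have hA : g ∈ P ⊓ centralizer ({zz ε 0} : Set G) :=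
    ⟨hg, mem_centralizer_singleton_iff.mpr ((h.fixes_iff (three_le hm) hσ 0).mpr h1)⟩
  refine ⟨⟨g, hA⟩, ?_⟩
  ext k
  rw [psi_apply]
  have h4 : h.hom (three_le hm) (Subgroup.inclusion inf_le_left (⟨g, hA⟩ :
      ↥(P ⊓ centralizer ({zz ε 0} : Set G)))) = Equiv.Perm.ofSubtype τ := h.hom_eq (three_le hm) hσ
  rw [h4, Equiv.Perm.ofSubtype_apply_coe]

/-- `O₂(C_G(z_0))` centralises `V`. -/
theorem o2_le_cent [Finite G] (S : Sylow 2 G) (hm : 3 ≤ m) (h : EvenSet (2 ^ m + 1) V P ε)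
    (hSP : (S : Subgroup G) ≤ P) (h0 : Fix0 ε (S : Subgroup G)) :
    o2 (centralizer ({zz ε 0} : Set G)) ≤ centralizer (V : Set G) := by
  have hm1 : 1 ≤ m := by omega
  have hSC : (S : Subgroup G) ≤ centralizer ({zz ε 0} : Set G) := by
    intro s hs
    obtain ⟨σ, hσ⟩ := h.perm s (hSP hs)
    exact mem_centralizer_singleton_iff.mpr ((h.fixes_iff (three_le hm1) hσ 0).2 (h0 s hs σ hσ))
  have hUS : o2 (centralizer ({zz ε 0} : Set G)) ≤ (S : Subgroup G) :=
    o2_le_of_sylow S.isPGroup' (MinSimple.Basic.not_dvd_relIndex S hSC)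
  have hUA : o2 (centralizer ({zz ε 0} : Set G)) ≤ P ⊓ centralizer ({zz ε 0} : Set G) :=
    le_inf (hUS.trans hSP) (o2_le _)
  have hN : ((o2 (centralizer ({zz ε 0} : Set G))).subgroupOf (P ⊓ centralizer ({zz ε 0} : Set G))).Normal :=
    normal_subgroupOf_of_le_normalizer (inf_le_right.trans (le_normalizer_o2 _))
  have h8 : 5 ≤ Nat.card {k : Fin (2 ^ m + 1) // k ≠ 0} := by
    classical
    have h1 : 2 ^ 3 ≤ 2 ^ m := Nat.pow_le_pow_right (by norm_num) hm
    rw [Nat.card_eq_fintype_card, Fintype.card_subtype_compl, Fintype.card_fin, Fintype.card_subtype_eq]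
    omega
  intro u hu
  have h1 := two_normal h8 (psi hm1 h) (psi_surj hm1 h) hN
    ((o2_isPGroup _).comap_of_injective _ (Subgroup.subtype_injective _)) ⟨u, hUA hu⟩ hu
  have h2 := h.acts_hom (three_le hm1) (Subgroup.inclusion inf_le_left (⟨u, hUA hu⟩ :
      ↥(P ⊓ centralizer ({zz ε 0} : Set G))))
  have h3 : h.hom (three_le hm1) (Subgroup.inclusion inf_le_left (⟨u, hUA hu⟩ :
      ↥(P ⊓ centralizer ({zz ε 0} : Set G)))) = 1 := by
    ext k
    congr 1
    by_cases hk : k = 0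
    · rw [hk]
      exact fix_zero hm1 h _
    · have h4 := psi_apply hm1 h ⟨u, hUA hu⟩ ⟨k, hk⟩
      rw [h1] at h4
      exact h4.symm
  rw [h3] at h2
  exact h.acts_one_iff.mp h2

/-- **(F1)** `V ≤ O₂(C_G(z_i))`. -/
theorem le_o2_cent [Finite G] (hG : IsCharacteristicTwoType G) (S : Sylow 2 G) (hm : 3 ≤ m)
    (h : EvenSet (2 ^ m + 1) V P ε) (hSP : (S : Subgroup G) ≤ P) (h0 : Fix0 ε (S : Subgroup G))
    (i : Fin (2 ^ m + 1)) : V ≤ o2 (centralizer ({zz ε i} : Set G)) := by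
  have hn : 3 ≤ 2 ^ m + 1 := three_le (by omega)
  have h1 := o2_le_cent S hm h hSP h0
  have h2 : V ≤ o2 (centralizer ({zz ε 0} : Set G)) := by
    refine le_trans ?_ (MinSimple.Basic.char2_centralizer hG (z := zz ε 0)
      (by rw [pow_two]; exact zz_sq h 0) (h.single_ne_one hn 0))
    intro v hv
    refine ⟨mem_centralizer_singleton_iff.mpr (h.comm_mem hv (zz_mem h 0)), mem_centralizer_iff.mpr fun x hx => ?_⟩
    exact (mem_centralizer_iff.mp (h1 hx) v hv).symm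
  obtain ⟨g, hg, hσ⟩ := h.full (Equiv.swap 0 i)
  intro v hv
  have h3 : g⁻¹ * v * g ∈ V := by
    have := (mem_normalizer_iff.mp (h.le_normalizer (P.inv_mem hg)) v).mp hv
    rwa [inv_inv] at this
  have h4 := conj_o2_cent (g := g) (h2 h3)
  rw [zz_conj hσ, Equiv.swap_apply_left] at h4
  have h5 : g * (g⁻¹ * v * g) * g⁻¹ = v := by group
  rwa [h5] at h4

end

end Cfsg.Agent.Omega.NSix.PtCen
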