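import Mathlib

/-!
# The matching lemma (OMEGA, type `S_{2^m+1}`, #14103 of helper945), abstract part

`α` is a finite set of even order at least 4, `β = Option α`, `Y` is an `𝔽₂`-space with an action of
`Perm α × Perm β`; `a : Y` is fixed, `c : β → Y` is injective and equivariant.  `S` is a subgroup of `Perm α`
which centralises a fixed-point-free involution `t`, and the fixed points of `S × S` (`S` fixing `none`) on `Y`
are `0, a, c none, a + c none`.

* `Frame.pair`: an equivariant symmetric family `X i j` (`i ≠ j`) is `ε a + δ (c i + c j)`;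
* `Frame.triple`: an equivariant symmetric family `X i j k` is `ε a + δ (c i + c j + c k)`.
-/

set_option autoImplicit false

namespace Cfsg.Agent.Omega.NSix.MatchP

open Equiv Finset

/-! ### Transitivity -/

theorem exists_perm {β : Type*} [Fintype β] [DecidableEq β] {n : ℕ} {x y : Fin n → β}
    (hx : Function.Injective x) (hy : Function.Injective y) : ∃ g : Perm β, ∀ i, g (x i) = y i := by
  have h := Equiv.Perm.isMultiplyPretransitive β n
  obtain ⟨g, hg⟩ := h.exists_smul_eq (⟨x, hx⟩ : Fin n ↪ β) ⟨y, hy⟩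
  refine ⟨g, fun i => ?_⟩
  have := DFunLike.congr_fun hg i
  exact this

theorem inj4 {β : Type*} {i j k l : β} (h1 : i ≠ j) (h2 : i ≠ k) (h3 : i ≠ l) (h4 : j ≠ k) (h5 : j ≠ l)
    (h6 : k ≠ l) : Function.Injective ![i, j, k, l] := by
  intro x y hxy
  fin_cases x <;> fin_cases y <;> simp_all [eq_comm]

theorem inj5 {β : Type*} {i j k l m : β} (h1 : i ≠ j) (h2 : i ≠ k) (h3 : i ≠ l) (h3' : i ≠ m) (h4 : j ≠ k)
    (h5 : j ≠ l) (h5' : j ≠ m) (h6 : k ≠ l) (h6' : k ≠ m) (h7 : l ≠ m) :
    Function.Injective ![i, j, k, l, m] := by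
  intro x y hxy
  fin_cases x <;> fin_cases y <;> simp_all [eq_comm]

section char2

variable {Y : Type*} [AddCommGroup Y]

theorem eq_of_add (h2 : ∀ y : Y, y + y = 0) {x y : Y} (h : x + y = 0) : x = y := by
  have h1 := h2 y
  rw [← h1] at h
  exact add_right_cancel h

theorem odd_nsmul (h2 : ∀ y : Y, y + y = 0) {n : ℕ} (hn : Odd n) (y : Y) : n • y = y := by
  obtain ⟨k, rfl⟩ := hn
  rw [add_nsmul, one_nsmul, mul_comm, mul_nsmul, two_nsmul]
  rw [← two_nsmul, ← mul_nsmul, mul_comm, mul_nsmul', two_nsmul, h2, zero_add]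

end char2

section frame

variable {α : Type*} [Fintype α] [DecidableEq α] {Y : Type*} [AddCommGroup Y]
  [DistribMulAction (Perm α × Perm (Option α)) Y]

/-- The hypotheses of the matching lemma. -/
structure Frame (S : Subgroup (Perm α)) (t : Perm α) (a : Y) (c : Option α → Y) : Prop where
  two : ∀ y : Y, y + y = 0
  even : Even (Fintype.card α)
  four : 4 ≤ Fintype.card α
  tc : ∀ s ∈ S, ∀ i, s (t i) = t (s i)
  t2 : ∀ i, t (t i) = i
  tf : ∀ i, t i ≠ i
  smul_a : ∀ g : Perm α × Perm (Option α), g • a = a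
  smul_c : ∀ (g : Perm α × Perm (Option α)) (i : Option α), g • c i = c (g.2 i)
  inj : Function.Injective c
  fix : ∀ y : Y, (∀ s ∈ S, ∀ s' ∈ S, ((s, optionCongr s') : Perm α × Perm (Option α)) • y = y) →
    y = 0 ∨ y = a ∨ y = c none ∨ y = a + c none

variable {S : Subgroup (Perm α)} {t : Perm α} {a : Y} {c : Option α → Y}

/-- the swap of `none` and `some j` -/
def sw (j : α) : Perm α × Perm (Option α) := (1, swap none (some j))

theorem Frame.sw_c (h : Frame S t a c) (j : α) : sw j • c none = c (some j) := by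
  rw [h.smul_c]
  exact congrArg c (swap_apply_left _ _)

/-- `y + y^τ` for the possible fixed points `y` -/
theorem Frame.add_sw (h : Frame S t a c) {y : Y} (hy : y = 0 ∨ y = a ∨ y = c none ∨ y = a + c none) :
    (∀ j : α, y + sw j • y = 0) ∨ ∀ j : α, y + sw j • y = c none + c (some j) := by
  rcases hy with rfl | rfl | rfl | rfl
  · exact Or.inl fun j => by rw [smul_zero, add_zero]
  · exact Or.inl fun j => by rw [h.smul_a, h.two]
  · exact Or.inr fun j => by rw [h.sw_c]
  · refine Or.inr fun j => ?_
    rw [smul_add, h.smul_a, h.sw_c]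
    calc a + c none + (a + c (some j)) = (a + a) + (c none + c (some j)) := by abel
      _ = c none + c (some j) := by rw [h.two, zero_add]

/-- the elements fixed by everything -/
theorem Frame.fix_all (h : Frame S t a c) {y : Y} (hy : ∀ g : Perm α × Perm (Option α), g • y = y) :
    y = 0 ∨ y = a := by
  have h0 : 0 < Fintype.card α := lt_of_lt_of_le (by norm_num) h.four
  obtain ⟨j⟩ := Fintype.card_pos_iff.mp h0
  have h1 := h.fix y fun s _ s' _ => hy _
  have hne : c none + c (some j) ≠ 0 := by
    intro h2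
    have := h.inj (eq_of_add h.two h2)
    exact Option.some_ne_none j this.symm
  rcases h1 with h1 | h1 | h1 | h1
  · exact Or.inl h1
  · exact Or.inr h1
  · exfalso
    have h2 := hy (sw j)
    rw [h1, h.sw_c] at h2
    exact hne (by rw [h2, h.two])
  · exfalso
    have h2 := hy (sw j)
    rw [h1, smul_add, h.smul_a, h.sw_c, add_right_inj] at h2
    exact hne (by rw [h2, h.two])

/-- an additive equivariant family of pair vectors is a multiple of `c i + c j` -/
theorem Frame.lin (h : Frame S t a c) {d : Option α → Option α → Y} (hs : ∀ i j, d i j = d j i)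
    (ha : ∀ i j k, i ≠ j → j ≠ k → i ≠ k → d i j + d j k = d i k)
    (hd : ∀ (g : Perm α × Perm (Option α)) i j, i ≠ j → g • d i j = d (g.2 i) (g.2 j)) :
    (∀ i j, i ≠ j → d i j = 0) ∨ ∀ i j, i ≠ j → d i j = c i + c j := by
  set B : Y := ∑ i : α, d none (some i) with hB
  have hfix : ∀ s ∈ S, ∀ s' ∈ S, ((s, optionCongr s') : Perm α × Perm (Option α)) • B = B := by
    intro s _ s' _
    rw [hB, Finset.smul_sum]
    calc ∑ i : α, ((s, optionCongr s') : Perm α × Perm (Option α)) • d none (some i)
        = ∑ i : α, d none (some (s' i)) := by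
          refine Finset.sum_congr rfl fun i _ => ?_
          rw [hd _ _ _ (Option.some_ne_none i).symm]
          rfl
      _ = ∑ i : α, d none (some i) := Equiv.sum_comp s' fun i => d none (some i)
  have hsw : ∀ j : α, B + sw j • B = d none (some j) := by
    intro j
    rw [hB, Finset.smul_sum, ← Finset.sum_add_distrib]
    have h1 : ∀ i : α, d none (some i) + sw j • d none (some i) =
        if i = j then 0 else d none (some j) := by
      intro i
      rw [hd _ _ _ (Option.some_ne_none i).symm]
      change d none (some i) + d (swap none (some j) none) (swap none (some j) (some i)) = _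
      rw [swap_apply_left]
      split_ifs with hij
      · rw [hij, swap_apply_right, hs (some j) none, h.two]
      · rw [swap_apply_of_ne_of_ne (Option.some_ne_none i) (fun e => hij (Option.some.inj e)),
          hs (some j) (some i)]
        exact ha _ _ _ (Option.some_ne_none i).symm (fun e => hij (Option.some.inj e))
          (Option.some_ne_none j).symm
    rw [Finset.sum_congr rfl fun i _ => h1 i, Finset.sum_ite, Finset.sum_const_zero, zero_add, Finset.sum_const]
    refine odd_nsmul h.two ?_ _
    have h2 : (Finset.univ.filter fun i : α => ¬ i = j) = Finset.univ.erase j := by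
      ext i
      simp
    rw [h2, Finset.card_erase_of_mem (Finset.mem_univ j), Finset.card_univ]
    exact Nat.Even.sub_odd (le_trans (by norm_num) h.four) h.even odd_one
  rcases h.add_sw (h.fix B hfix) with h1 | h1
  · left
    have h2 : ∀ j : α, d none (some j) = 0 := fun j => by rw [← hsw j, h1 j]
    intro i j hij
    rcases i with _ | i <;> rcases j with _ | j
    · exact absurd rfl hij
    · exact h2 j
    · rw [hs, h2 i]
    · rw [← ha (some i) none (some j) (Option.some_ne_none i) (Option.some_ne_none j).symm hij, hs (some i) none,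
        h2, h2, add_zero]
  · right
    have h2 : ∀ j : α, d none (some j) = c none + c (some j) := fun j => by rw [← hsw j, h1 j]
    intro i j hij
    rcases i with _ | i <;> rcases j with _ | j
    · exact absurd rfl hij
    · exact h2 j
    · rw [hs, h2 i, add_comm]
    · rw [← ha (some i) none (some j) (Option.some_ne_none i) (Option.some_ne_none j).symm hij, hs (some i) none,
        h2, h2]
      calc c none + c (some i) + (c none + c (some j)) = (c none + c none) + (c (some i) + c (some j)) := by abel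
        _ = _ := by rw [h.two, zero_add]

/-- the two matchings `12 | 34 | ...` and `13 | 24 | ...` -/
theorem Frame.four_term (h : Frame S t a c) {f : α → α → Y} (hs : ∀ i j, f i j = f j i)
    (hf : ∀ (s s' : Perm α) i j, i ≠ j →
      ((s, optionCongr s') : Perm α × Perm (Option α)) • f i j = f (s' i) (s' j)) :
    ∀ i j k l : α, i ≠ j → i ≠ k → i ≠ l → j ≠ k → j ≠ l → k ≠ l → f i j + f k l + (f i k + f j l) = 0 := by
  classical
  -- the matching of `t`
  set P : Finset (Sym2 α) := Finset.univ.image fun i => s(i, t i) with hP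
  set F : Sym2 α → Y := Sym2.lift ⟨f, hs⟩ with hF
  have hFm : ∀ i j, F s(i, j) = f i j := fun i j => rfl
  have hact : ∀ (s s' : Perm α), ∀ e ∈ P,
      ((s, optionCongr s') : Perm α × Perm (Option α)) • F e = F (e.map s') := by
    intro s s' e he
    obtain ⟨i, -, rfl⟩ := Finset.mem_image.mp he
    rw [hFm, hf _ _ _ _ (h.tf i).symm]
    rfl
  set M : Y := ∑ e ∈ P, F e with hM
  have hMact : ∀ (s s' : Perm α), ((s, optionCongr s') : Perm α × Perm (Option α)) • M =
      ∑ e ∈ P, F (e.map s') := by
    intro s s'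
    rw [hM, Finset.smul_sum]
    exact Finset.sum_congr rfl fun e he => hact s s' e he
  have hMfix : ∀ s ∈ S, ∀ s' ∈ S, ((s, optionCongr s') : Perm α × Perm (Option α)) • M = M := by
    intro s _ s' hs'
    rw [hMact, hM]
    have hinj : Function.Injective (Sym2.map (s' : α → α)) := Sym2.map.injective s'.injective
    rw [← Finset.sum_image (f := F) (g := Sym2.map (s' : α → α)) fun x _ y _ hxy => hinj hxy]
    congr 1
    rw [hP, Finset.image_image]
    ext e
    simp only [Finset.mem_image, Finset.mem_univ, true_and, Function.comp_apply, Sym2.map_mk]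
    constructor
    · rintro ⟨i, rfl⟩
      exact ⟨s' i, by rw [h.tc s' hs' i]⟩
    · rintro ⟨i, rfl⟩
      refine ⟨s'.symm i, ?_⟩
      rw [h.tc s' hs' _, Equiv.apply_symm_apply]
  -- two pairs of the matching
  obtain ⟨i0⟩ := Fintype.card_pos_iff.mp (lt_of_lt_of_le (by norm_num : 0 < 4) h.four)
  obtain ⟨k0, hk1, hk2⟩ : ∃ k, k ≠ i0 ∧ k ≠ t i0 := by
    by_contra hcon
    push Not at hcon
    have h1 : (Finset.univ : Finset α) ⊆ {i0, t i0} := by
      intro x _
      by_cases hx : x = i0
      · simp [hx]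
      · simp [hcon x hx]
    have h2 := Finset.card_le_card h1
    rw [Finset.card_univ] at h2
    have h3 := Finset.card_le_two (a := i0) (b := t i0)
    have := h.four
    omega
  have hk3 : t k0 ≠ i0 := fun e => hk2 (by rw [← e, h.t2])
  have hk4 : t k0 ≠ t i0 := fun e => hk1 (t.injective e)
  have hσ := hMact 1 (swap (t i0) k0)
  have hσM : ((1, optionCongr (swap (t i0) k0)) : Perm α × Perm (Option α)) • M = M := by
    rcases h.fix M hMfix with h1 | h1 | h1 | h1
    · rw [h1, smul_zero]
    · rw [h1, h.smul_a]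
    · rw [h1, h.smul_c]
      rfl
    · rw [h1, smul_add, h.smul_a, h.smul_c]
      rfl
  rw [hσM] at hσ
  have hsum : ∑ e ∈ P, (F e + F (e.map (swap (t i0) k0))) = 0 := by
    rw [Finset.sum_add_distrib, ← hσ, ← hM, h.two]
  have hsub : ({s(i0, t i0), s(k0, t k0)} : Finset (Sym2 α)) ⊆ P := by
    intro e he
    rcases Finset.mem_insert.mp he with rfl | he
    · exact Finset.mem_image_of_mem _ (Finset.mem_univ _)
    · rw [Finset.mem_singleton.mp he]
      exact Finset.mem_image_of_mem _ (Finset.mem_univ _)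
  rw [← Finset.sum_subset hsub, Finset.sum_pair] at hsum
  · simp only [Sym2.map_mk, hFm] at hsum
    rw [swap_apply_left, swap_apply_right, swap_apply_of_ne_of_ne (h.tf i0).symm hk1.symm,
      swap_apply_of_ne_of_ne hk4 (h.tf k0)] at hsum
    -- the base relation
    have hbase : f i0 (t i0) + f k0 (t k0) + (f i0 k0 + f (t i0) (t k0)) = 0 := by
      rw [← hsum]; abel
    intro i j k l hij hik hil hjk hjl hkl
    obtain ⟨g, hg⟩ := exists_perm (inj4 (h.tf i0).symm hk1.symm hk3.symm hk2.symm hk4.symm (h.tf k0).symm)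
      (inj4 hij hik hil hjk hjl hkl)
    have g0 : g i0 = i := hg 0
    have g1 : g (t i0) = j := hg 1
    have g2 : g k0 = k := hg 2
    have g3 : g (t k0) = l := hg 3
    have h4 := congrArg (fun y => ((1, optionCongr g) : Perm α × Perm (Option α)) • y) hbase
    simp only [smul_add, smul_zero] at h4
    rw [hf _ _ _ _ (h.tf i0).symm, hf _ _ _ _ (h.tf k0).symm, hf _ _ _ _ hk1.symm, hf _ _ _ _ hk4.symm,
      g0, g1, g2, g3] at h4
    exact h4
  · intro he
    rcases Sym2.eq_iff.mp he with ⟨h1, _⟩ | ⟨h1, _⟩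
    · exact hk1 h1.symm
    · exact hk3 h1.symm
  · intro e he hne
    obtain ⟨i, -, rfl⟩ := Finset.mem_image.mp he
    have hne' : ∀ j, i ≠ j ∧ i ≠ t j ∨ s(i, t i) = s(j, t j) := by
      intro j
      by_cases h1 : i = j
      · right; rw [h1]
      · by_cases h2 : i = t j
        · right
          rw [h2, h.t2, Sym2.eq_swap]
        · exact Or.inl ⟨h1, h2⟩
    have ha : i ≠ i0 ∧ i ≠ t i0 := (hne' i0).resolve_right fun e => hne (by rw [e]; simp)
    have hb : i ≠ k0 ∧ i ≠ t k0 := (hne' k0).resolve_right fun e => hne (by rw [e]; simp)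
    rw [Sym2.map_mk, swap_apply_of_ne_of_ne ha.2 hb.1, swap_apply_of_ne_of_ne
      (fun e => ha.1 (t.injective e)) (fun e => hb.2 (by rw [← e, h.t2])), h.two]

/-- a letter outside two given letters -/
theorem Frame.exists_ne2 (h : Frame S t a c) (j k : Option α) : ∃ i, i ≠ j ∧ i ≠ k := by
  by_contra hcon
  push Not at hcon
  have h1 : (Finset.univ : Finset (Option α)) ⊆ {j, k} := by
    intro x _
    by_cases hx : x = j
    · simp [hx]
    · simp [hcon x hx]
  have h2 := Finset.card_le_card h1
  rw [Finset.card_univ, Fintype.card_option] at h2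
  have h3 := Finset.card_le_two (a := j) (b := k)
  have := h.four
  omega

theorem Frame.exists_ne3 (h : Frame S t a c) (j k l : Option α) : ∃ i, i ≠ j ∧ i ≠ k ∧ i ≠ l := by
  by_contra hcon
  push Not at hcon
  have h1 : (Finset.univ : Finset (Option α)) ⊆ {j, k, l} := by
    intro x _
    by_cases hx : x = j
    · simp [hx]
    · by_cases hx' : x = k
      · simp [hx']
      · simp [hcon x hx hx']
  have h2 := Finset.card_le_card h1
  rw [Finset.card_univ, Fintype.card_option] at h2
  have h3 := Finset.card_le_three (a := j) (b := k) (c := l)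
  have := h.four
  omega

/-- a function on pairs of letters which does not change if one letter is changed is constant -/
theorem const_pair {β Y : Type*} {κ : β → β → Y} (hs : ∀ i j, κ i j = κ j i)
    (hc : ∀ i j k, i ≠ j → i ≠ k → j ≠ k → κ i j = κ i k) {i j i' j' : β} (h : i ≠ j) (h' : i' ≠ j') :
    κ i j = κ i' j' := by
  have hc' : ∀ i j k, i ≠ j → i ≠ k → κ i j = κ i k := by
    intro i j k h1 h2
    by_cases h3 : j = k
    · rw [h3]
    · exact hc i j k h1 h2 h3
  by_cases h1 : i = i'
  · rw [h1]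
    exact hc' _ _ _ (h1 ▸ h) h'
  · rw [hc' i j i' h h1, hs i i', hc' i' i j' (Ne.symm h1) h']

/-- **The matching lemma for pairs.** -/
theorem Frame.pair (h : Frame S t a c) {X : Option α → Option α → Y} (hs : ∀ i j, X i j = X j i)
    (hX : ∀ (g : Perm α × Perm (Option α)) i j, i ≠ j → g • X i j = X (g.2 i) (g.2 j)) :
    ∃ k : Y, (k = 0 ∨ k = a) ∧ ((∀ i j, i ≠ j → X i j = k) ∨ ∀ i j, i ≠ j → X i j = k + (c i + c j)) := by
  classical
  -- the four term relation
  have hR0 := h.four_term (f := fun i j => X (some i) (some j)) (fun i j => hs _ _)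
    (fun s s' i j hij => by rw [hX _ _ _ (fun e => hij (Option.some.inj e))]; rfl)
  have hR : ∀ i j k l : Option α, i ≠ j → i ≠ k → i ≠ l → j ≠ k → j ≠ l → k ≠ l →
      X i j + X k l + (X i k + X j l) = 0 := by
    obtain ⟨x0⟩ := Fintype.card_pos_iff.mp (lt_of_lt_of_le (by norm_num : 0 < 4) h.four)
    obtain ⟨x1, hx1⟩ : ∃ x1, x1 ≠ x0 := ⟨t x0, h.tf x0⟩
    obtain ⟨x2', h21, h22, h23⟩ := h.exists_ne3 (some x0) (some x1) none
    obtain ⟨x2, rfl⟩ := Option.ne_none_iff_exists'.mp h23
    have h4' : ∃ x3 : α, x3 ≠ x0 ∧ x3 ≠ x1 ∧ x3 ≠ x2 := by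
      by_contra hcon
      push Not at hcon
      have h1 : (Finset.univ : Finset α) ⊆ {x0, x1, x2} := by
        intro x _
        by_cases hx : x = x0
        · simp [hx]
        · by_cases hx' : x = x1
          · simp [hx']
          · simp [hcon x hx hx']
      have h2 := Finset.card_le_card h1
      rw [Finset.card_univ] at h2
      have h3 := Finset.card_le_three (a := x0) (b := x1) (c := x2)
      have := h.four
      omega
    obtain ⟨x3, h30, h31, h32⟩ := h4'
    have e20 : x2 ≠ x0 := fun e => h21 (congrArg some e)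
    have e21 : x2 ≠ x1 := fun e => h22 (congrArg some e)
    have hb := hR0 x0 x1 x2 x3 hx1.symm e20.symm h30.symm e21.symm h31.symm h32.symm
    have so : ∀ {u v : α}, u ≠ v → (some u : Option α) ≠ some v := fun huv e => huv (Option.some.inj e)
    intro i j k l hij hik hil hjk hjl hkl
    obtain ⟨g, hg⟩ := exists_perm (inj4 (so hx1.symm) (so e20.symm) (so h30.symm) (so e21.symm) (so h31.symm)
      (so h32.symm)) (inj4 hij hik hil hjk hjl hkl)
    have g0 : g (some x0) = i := hg 0
    have g1 : g (some x1) = j := hg 1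
    have g2 : g (some x2) = k := hg 2
    have g3 : g (some x3) = l := hg 3
    have h4 := congrArg (fun y => ((1, g) : Perm α × Perm (Option α)) • y) hb
    simp only [smul_add, smul_zero] at h4
    rw [hX _ _ _ (so hx1.symm), hX _ _ _ (so h32.symm), hX _ _ _ (so e20.symm), hX _ _ _ (so h31.symm)] at h4
    simp only [g0, g1, g2, g3] at h4
    exact h4
  -- the differences
  have hind : ∀ i i' j k, j ≠ k → i ≠ j → i ≠ k → i' ≠ j → i' ≠ k → X i j + X i k = X i' j + X i' k := by
    intro i i' j k hjk hij hik hij' hik'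
    by_cases hii : i = i'
    · rw [hii]
    · have h1 := hR i j k i' hij hik hii hjk hij'.symm hik'.symm
      refine eq_of_add h.two ?_
      rw [← h1, hs k i', hs j i']
      abel
  set d : Option α → Option α → Y := fun j k =>
    if hjk : j ≠ k then X (h.exists_ne2 j k).choose j + X (h.exists_ne2 j k).choose k else 0 with hd
  have hdef : ∀ i j k, j ≠ k → i ≠ j → i ≠ k → d j k = X i j + X i k := by
    intro i j k hjk hij hik
    simp only [hd]
    rw [dif_pos hjk]
    exact hind _ _ _ _ hjk (h.exists_ne2 j k).choose_spec.1 (h.exists_ne2 j k).choose_spec.2 hij hik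
  have hdz : ∀ j, d j j = 0 := fun j => by simp [hd]
  have hdl := h.lin (d := d)
    (by
      intro i j
      by_cases hij : i = j
      · rw [hij]
      · obtain ⟨l, hl1, hl2⟩ := h.exists_ne2 i j
        rw [hdef l i j hij hl1 hl2, hdef l j i (Ne.symm hij) hl2 hl1, add_comm])
    (by
      intro i j k hij hjk hik
      obtain ⟨l, hl1, hl2, hl3⟩ := h.exists_ne3 i j k
      rw [hdef l i j hij hl1 hl2, hdef l j k hjk hl2 hl3, hdef l i k hik hl1 hl3]
      calc X l i + X l j + (X l j + X l k) = X l i + X l k + (X l j + X l j) := by abel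
        _ = _ := by rw [h.two, add_zero])
    (by
      intro g i j hij
      obtain ⟨l, hl1, hl2⟩ := h.exists_ne2 i j
      rw [hdef l i j hij hl1 hl2, smul_add, hX _ _ _ hl1, hX _ _ _ hl2, hdef (g.2 l) (g.2 i) (g.2 j)
        (fun e => hij (g.2.injective e)) (fun e => hl1 (g.2.injective e)) (fun e => hl2 (g.2.injective e))])
  -- the constant
  obtain ⟨u0⟩ := Fintype.card_pos_iff.mp (lt_of_lt_of_le (by norm_num : 0 < 4) h.four)
  have hu : (none : Option α) ≠ some u0 := (Option.some_ne_none u0).symm
  rcases hdl with hdl | hdl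
  · have hconst : ∀ i j, i ≠ j → X i j = X none (some u0) := by
      intro i j hij
      refine const_pair hs ?_ hij hu
      intro i j k hij hik hjk
      refine eq_of_add h.two ?_
      rw [← hdef i j k hjk hij hik, hdl j k hjk]
    refine ⟨X none (some u0), h.fix_all fun g => ?_, Or.inl hconst⟩
    rw [hX _ _ _ hu]
    exact hconst _ _ fun e => hu (g.2.injective e)
  · have hconst : ∀ i j, i ≠ j → X i j + (c i + c j) = X none (some u0) + (c none + c (some u0)) := by
      intro i j hij
      refine const_pair (κ := fun i j => X i j + (c i + c j)) (fun i j => by simp only [hs i j, add_comm (c i)])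
        ?_ hij hu
      intro i j k hij hik hjk
      refine eq_of_add h.two ?_
      have h1 := hdef i j k hjk hij hik
      rw [hdl j k hjk] at h1
      calc X i j + (c i + c j) + (X i k + (c i + c k))
          = (X i j + X i k) + (c j + c k) + (c i + c i) := by abel
        _ = 0 := by rw [← h1, h.two, h.two, add_zero]
    refine ⟨X none (some u0) + (c none + c (some u0)), h.fix_all fun g => ?_, Or.inr ?_⟩
    · rw [smul_add, smul_add, hX _ _ _ hu, h.smul_c, h.smul_c]
      exact hconst _ _ fun e => hu (g.2.injective e)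
    · intro i j hij
      rw [← hconst i j hij, add_assoc, h.two, add_zero]

/-- `const_pair` for the letters with a property -/
theorem const_pair_on {β Y : Type*} {κ : β → β → Y} {p : β → Prop} (hs : ∀ i j, κ i j = κ j i)
    (hc : ∀ i j k, p i → p j → p k → i ≠ j → i ≠ k → j ≠ k → κ i j = κ i k) {i j i' j' : β} (pi : p i)
    (pj : p j) (pi' : p i') (pj' : p j') (h : i ≠ j) (h' : i' ≠ j') : κ i j = κ i' j' := by
  have hc' : ∀ i j k, p i → p j → p k → i ≠ j → i ≠ k → κ i j = κ i k := by
    intro i j k hi hj hk h1 h2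
    by_cases h3 : j = k
    · rw [h3]
    · exact hc i j k hi hj hk h1 h2 h3
  by_cases h1 : i = i'
  · rw [h1]
    exact hc' _ _ _ pi' pj pj' (h1 ▸ h) h'
  · rw [hc' i j i' pi pj pi' h h1, hs i i', hc' i' i j' pi' pi pj' (Ne.symm h1) h']

/-- the same for triples -/
theorem const_triple {β Y : Type*} {κ : β → β → β → Y} (hs1 : ∀ i j k, κ i j k = κ j i k)
    (hs2 : ∀ i j k, κ i j k = κ i k j) (he : ∀ j k : β, ∃ i, i ≠ j ∧ i ≠ k)
    (hc : ∀ i j k l, i ≠ j → i ≠ k → i ≠ l → j ≠ k → j ≠ l → k ≠ l → κ i j k = κ i j l)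
    {i j k i' j' k' : β} (h1 : i ≠ j) (h2 : i ≠ k) (h3 : j ≠ k) (h1' : i' ≠ j') (h2' : i' ≠ k') (h3' : j' ≠ k') :
    κ i j k = κ i' j' k' := by
  have key : ∀ i j k j' k', i ≠ j → i ≠ k → j ≠ k → i ≠ j' → i ≠ k' → j' ≠ k' → κ i j k = κ i j' k' := by
    intro i j k j' k' h1 h2 h3 h1' h2' h3'
    exact const_pair_on (κ := κ i) (p := fun x => i ≠ x) (hs2 i)
      (fun x y z px py pz hxy hxz hyz => hc i x y z px py pz hxy hxz hyz) h1 h2 h1' h2' h3 h3'
  by_cases hii : i = i'
  · subst hii
    exact key _ _ _ _ _ h1 h2 h3 h1' h2' h3'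
  · obtain ⟨l, hl1, hl2⟩ := he i i'
    rw [key i j k i' l h1 h2 h3 hii hl1.symm hl2.symm, hs1 i i' l,
      key i' i l j' k' (Ne.symm hii) hl2.symm hl1.symm h1' h2' h3']

/-- **The matching lemma for triples.** -/
theorem Frame.triple (h : Frame S t a c) {X : Option α → Option α → Option α → Y}
    (hs1 : ∀ i j k, X i j k = X j i k) (hs2 : ∀ i j k, X i j k = X i k j)
    (hX : ∀ (g : Perm α × Perm (Option α)) i j k, i ≠ j → i ≠ k → j ≠ k →
      g • X i j k = X (g.2 i) (g.2 j) (g.2 k)) :
    ∃ z : Y, (z = 0 ∨ z = a) ∧ ((∀ i j k, i ≠ j → i ≠ k → j ≠ k → X i j k = z) ∨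
      ∀ i j k, i ≠ j → i ≠ k → j ≠ k → X i j k = z + (c i + c j + c k)) := by
  classical
  have so : ∀ {u v : α}, u ≠ v → (some u : Option α) ≠ some v := fun huv e => huv (Option.some.inj e)
  have no : ∀ u : α, (none : Option α) ≠ some u := fun u => (Option.some_ne_none u).symm
  -- the four term relation
  have hR0 := h.four_term (f := fun i j => X none (some i) (some j)) (fun i j => hs2 _ _ _)
    (fun s s' i j hij => by rw [hX _ _ _ _ (no i) (no j) (so hij)]; rfl)
  have hR : ∀ i j k l m : Option α, i ≠ j → i ≠ k → i ≠ l → i ≠ m → j ≠ k → j ≠ l → j ≠ m → k ≠ l → k ≠ m →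
      l ≠ m → X i j k + X i l m + (X i j l + X i k m) = 0 := by
    obtain ⟨x0⟩ := Fintype.card_pos_iff.mp (lt_of_lt_of_le (by norm_num : 0 < 4) h.four)
    obtain ⟨x1, hx1⟩ : ∃ x1, x1 ≠ x0 := ⟨t x0, h.tf x0⟩
    obtain ⟨x2', h21, h22, h23⟩ := h.exists_ne3 (some x0) (some x1) none
    obtain ⟨x2, rfl⟩ := Option.ne_none_iff_exists'.mp h23
    have h4' : ∃ x3 : α, x3 ≠ x0 ∧ x3 ≠ x1 ∧ x3 ≠ x2 := by
      by_contra hcon
      push Not at hcon
      have h1 : (Finset.univ : Finset α) ⊆ {x0, x1, x2} := by
        intro x _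
        by_cases hx : x = x0
        · simp [hx]
        · by_cases hx' : x = x1
          · simp [hx']
          · simp [hcon x hx hx']
      have h2 := Finset.card_le_card h1
      rw [Finset.card_univ] at h2
      have h3 := Finset.card_le_three (a := x0) (b := x1) (c := x2)
      have := h.four
      omega
    obtain ⟨x3, h30, h31, h32⟩ := h4'
    have e20 : x2 ≠ x0 := fun e => h21 (congrArg some e)
    have e21 : x2 ≠ x1 := fun e => h22 (congrArg some e)
    have hb := hR0 x0 x1 x2 x3 hx1.symm e20.symm h30.symm e21.symm h31.symm h32.symm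
    intro i j k l m hij hik hil him hjk hjl hjm hkl hkm hlm
    obtain ⟨g, hg⟩ := exists_perm (inj5 (no x0) (no x1) (no x2) (no x3) (so hx1.symm) (so e20.symm)
      (so h30.symm) (so e21.symm) (so h31.symm) (so h32.symm)) (inj5 hij hik hil him hjk hjl hjm hkl hkm hlm)
    have gn : g none = i := hg 0
    have g0 : g (some x0) = j := hg 1
    have g1 : g (some x1) = k := hg 2
    have g2 : g (some x2) = l := hg 3
    have g3 : g (some x3) = m := hg 4
    have h4 := congrArg (fun y => ((1, g) : Perm α × Perm (Option α)) • y) hb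
    simp only [smul_add, smul_zero] at h4
    rw [hX _ _ _ _ (no _) (no _) (so hx1.symm), hX _ _ _ _ (no _) (no _) (so h32.symm),
      hX _ _ _ _ (no _) (no _) (so e20.symm), hX _ _ _ _ (no _) (no _) (so h31.symm)] at h4
    simp only [gn, g0, g1, g2, g3] at h4
    exact h4
  -- the differences
  have hind : ∀ j k, j ≠ k → ∀ i l i' l', i ≠ j ∧ i ≠ k → l ≠ j ∧ l ≠ k → i' ≠ j ∧ i' ≠ k → l' ≠ j ∧ l' ≠ k →
      i ≠ l → i' ≠ l' → X i l j + X i l k = X i' l' j + X i' l' k := by
    intro j k hjk i l i' l' pi pl pi' pl' hil hil'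
    refine const_pair_on (κ := fun i l => X i l j + X i l k) (p := fun x => x ≠ j ∧ x ≠ k)
      (fun x y => by simp only [hs1 x y]) ?_ pi pl pi' pl' hil hil'
    intro x y z px py pz hxy hxz hyz
    refine eq_of_add h.two ?_
    have h1 := hR x y j k z hxy px.1 px.2 hxz py.1 py.2 hyz hjk pz.1.symm pz.2.symm
    rw [← h1, hs2 x k z, hs2 x j z]
    abel
  set d : Option α → Option α → Y := fun j k =>
    if hjk : j ≠ k then
      X (h.exists_ne2 j k).choose (h.exists_ne3 j k (h.exists_ne2 j k).choose).choose j +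
      X (h.exists_ne2 j k).choose (h.exists_ne3 j k (h.exists_ne2 j k).choose).choose k else 0 with hd
  have hdef : ∀ i l j k, j ≠ k → i ≠ j → i ≠ k → l ≠ j → l ≠ k → i ≠ l → d j k = X i l j + X i l k := by
    intro i l j k hjk hij hik hlj hlk hil
    simp only [hd]
    rw [dif_pos hjk]
    have e1 := (h.exists_ne2 j k).choose_spec
    have e2 := (h.exists_ne3 j k (h.exists_ne2 j k).choose).choose_spec
    exact hind j k hjk _ _ _ _ e1 ⟨e2.1, e2.2.1⟩ ⟨hij, hik⟩ ⟨hlj, hlk⟩ e2.2.2.symm hil
  have h4 : ∀ j k l m : Option α, ∃ i, i ≠ j ∧ i ≠ k ∧ i ≠ l ∧ i ≠ m := by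
    intro j k l m
    by_contra hcon
    push Not at hcon
    have h1 : (Finset.univ : Finset (Option α)) ⊆ {j, k, l, m} := by
      intro x _
      by_cases hx : x = j
      · simp [hx]
      · by_cases hx' : x = k
        · simp [hx']
        · by_cases hx'' : x = l
          · simp [hx'']
          · simp [hcon x hx hx' hx'']
    have h2 := Finset.card_le_card h1
    rw [Finset.card_univ, Fintype.card_option] at h2
    have h3 := Finset.card_le_four (a := j) (b := k) (c := l) (d := m)
    have := h.four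
    omega
  have hdl := h.lin (d := d)
    (by
      intro i j
      by_cases hij : i = j
      · rw [hij]
      · obtain ⟨l, hl1, hl2⟩ := h.exists_ne2 i j
        obtain ⟨m, hm1, hm2, hm3⟩ := h.exists_ne3 i j l
        rw [hdef l m i j hij hl1 hl2 hm1 hm2 hm3.symm, hdef l m j i (Ne.symm hij) hl2 hl1 hm2 hm1 hm3.symm,
          add_comm])
    (by
      intro i j k hij hjk hik
      obtain ⟨l, hl1, hl2, hl3⟩ := h.exists_ne3 i j k
      obtain ⟨m, hm1, hm2, hm3, hm4⟩ := h4 i j k l
      rw [hdef l m i j hij hl1 hl2 hm1 hm2 hm4.symm, hdef l m j k hjk hl2 hl3 hm2 hm3 hm4.symm,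
        hdef l m i k hik hl1 hl3 hm1 hm3 hm4.symm]
      calc X l m i + X l m j + (X l m j + X l m k) = X l m i + X l m k + (X l m j + X l m j) := by abel
        _ = _ := by rw [h.two, add_zero])
    (by
      intro g i j hij
      obtain ⟨l, hl1, hl2⟩ := h.exists_ne2 i j
      obtain ⟨m, hm1, hm2, hm3⟩ := h.exists_ne3 i j l
      have gi : ∀ {u v : Option α}, u ≠ v → g.2 u ≠ g.2 v := fun huv e => huv (g.2.injective e)
      rw [hdef l m i j hij hl1 hl2 hm1 hm2 hm3.symm, smul_add, hX _ _ _ _ hm3.symm hl1 hm1,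
        hX _ _ _ _ hm3.symm hl2 hm2, hdef (g.2 l) (g.2 m) (g.2 i) (g.2 j) (gi hij) (gi hl1) (gi hl2) (gi hm1)
        (gi hm2) (gi hm3.symm)])
  -- the constant
  obtain ⟨u0⟩ := Fintype.card_pos_iff.mp (lt_of_lt_of_le (by norm_num : 0 < 4) h.four)
  have hu := no u0
  obtain ⟨v0, hv1, hv2⟩ := h.exists_ne2 none (some u0)
  rcases hdl with hdl | hdl
  · have hconst : ∀ i j k, i ≠ j → i ≠ k → j ≠ k → X i j k = X none (some u0) v0 := by
      intro i j k hij hik hjk
      refine const_triple hs1 hs2 h.exists_ne2 ?_ hij hik hjk hu hv1.symm hv2.symm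
      intro i j k l hij hik hil hjk hjl hkl
      refine eq_of_add h.two ?_
      rw [← hdef i j k l hkl hik hil hjk hjl hij, hdl k l hkl]
    refine ⟨X none (some u0) v0, h.fix_all fun g => ?_, Or.inl hconst⟩
    rw [hX _ _ _ _ hu hv1.symm hv2.symm]
    exact hconst _ _ _ (fun e => hu (g.2.injective e)) (fun e => hv1 (g.2.injective e).symm)
      (fun e => hv2 (g.2.injective e).symm)
  · have hconst : ∀ i j k, i ≠ j → i ≠ k → j ≠ k →
        X i j k + (c i + c j + c k) = X none (some u0) v0 + (c none + c (some u0) + c v0) := by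
      intro i j k hij hik hjk
      refine const_triple (κ := fun i j k => X i j k + (c i + c j + c k))
        (fun i j k => by simp only [hs1 i j k, add_comm (c i)])
        (fun i j k => by simp only [hs2 i j k, add_assoc, add_comm (c j)]) h.exists_ne2 ?_ hij hik hjk hu
        hv1.symm hv2.symm
      intro i j k l hij hik hil hjk hjl hkl
      refine eq_of_add h.two ?_
      have h1 := hdef i j k l hkl hik hil hjk hjl hij
      rw [hdl k l hkl] at h1
      calc X i j k + (c i + c j + c k) + (X i j l + (c i + c j + c l))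
          = (X i j k + X i j l) + (c k + c l) + (c i + c i) + (c j + c j) := by abel
        _ = 0 := by rw [← h1]; simp only [h.two, add_zero]
    refine ⟨X none (some u0) v0 + (c none + c (some u0) + c v0), h.fix_all fun g => ?_, Or.inr ?_⟩
    · rw [smul_add, smul_add, smul_add, hX _ _ _ _ hu hv1.symm hv2.symm, h.smul_c, h.smul_c, h.smul_c]
      exact hconst _ _ _ (fun e => hu (g.2.injective e)) (fun e => hv1 (g.2.injective e).symm)
        (fun e => hv2 (g.2.injective e).symm)
    · intro i j k hij hik hjk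
      rw [← hconst i j k hij hik hjk, add_assoc, h.two, add_zero]

end frame

end Cfsg.Agent.Omega.NSix.MatchP
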