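import Mathlib

/-!
# OMEGA N6 (B1), #14749: the abstract core

`W` a 2-group, `C_H(W) ≤ W ⊴ H`, `u`, `u' ∈ H`, `[W, u], [W, u'] ≤ C(x)`, `C_W(x) ≤ C(u) ∩ C(u')`.  Then the
commutator `[u, u']` is not `x ≠ 1`.
-/

set_option autoImplicit false

namespace Cfsg.Agent.Omega.NSix.KillTwo

open Subgroup

universe u

variable {G : Type u} [Group G]

/-- `w ∈ N_W(K)`, `K = C_W(x)`, centralises `x = [u, u']`. -/
theorem step {W : Subgroup G} {x u u' w : G} (hnu : ∀ v ∈ W, u * v * u⁻¹ ∈ W)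
    (hnu' : ∀ v ∈ W, u' * v * u'⁻¹ ∈ W)
    (p1 : ∀ v ∈ W, (v⁻¹ * u * v * u⁻¹) * x = x * (v⁻¹ * u * v * u⁻¹))
    (p1' : ∀ v ∈ W, (v⁻¹ * u' * v * u'⁻¹) * x = x * (v⁻¹ * u' * v * u'⁻¹))
    (p2 : ∀ v ∈ W, v * x = x * v → v * u = u * v) (p2' : ∀ v ∈ W, v * x = x * v → v * u' = u' * v)
    (hcomm : u * u' * u⁻¹ * u'⁻¹ = x) (hw : w ∈ W)
    (hK : ∀ v ∈ W, v * x = x * v → w * v * w⁻¹ * x = x * (w * v * w⁻¹)) : w * x = x * w := by
  -- `c = w⁻¹ u w u⁻¹`, `c' = w⁻¹ u' w u'⁻¹`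
  have hcW : w⁻¹ * u * w * u⁻¹ ∈ W := by
    have : w⁻¹ * u * w * u⁻¹ = w⁻¹ * (u * w * u⁻¹) := by group
    rw [this]; exact mul_mem (inv_mem hw) (hnu w hw)
  have hcW' : w⁻¹ * u' * w * u'⁻¹ ∈ W := by
    have : w⁻¹ * u' * w * u'⁻¹ = w⁻¹ * (u' * w * u'⁻¹) := by group
    rw [this]; exact mul_mem (inv_mem hw) (hnu' w hw)
  set c := w⁻¹ * u * w * u⁻¹ with hc
  set c' := w⁻¹ * u' * w * u'⁻¹ with hc'
  have ex : c * x = x * c := p1 w hw
  have ex' : c' * x = x * c' := p1' w hw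
  have e1 : u * w * u⁻¹ = w * c := by rw [hc]; group
  have e1' : u' * w * u'⁻¹ = w * c' := by rw [hc']; group
  -- `c` commutes with `c'`
  have hcc : c * c' = c' * c := by
    -- `c` centralises `K = C_W(x)`
    have h1 := hK c' hcW' ex'
    have h2 : w * c' * w⁻¹ ∈ W := mul_mem (mul_mem hw hcW') (inv_mem hw)
    have h3 := p2 _ h2 h1
    have h4 := p2 _ hcW' ex'
    have h5 : u⁻¹ * c' * u = c' := by
      calc u⁻¹ * c' * u = u⁻¹ * (c' * u) := by group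
        _ = c' := by rw [h4]; group
    calc c * c' = w⁻¹ * u * w * (u⁻¹ * c' * u) * u⁻¹ := by rw [hc]; group
      _ = w⁻¹ * (u * (w * c' * w⁻¹)) * w * u⁻¹ := by rw [h5]; group
      _ = w⁻¹ * (w * c' * w⁻¹ * u) * w * u⁻¹ := by rw [h3]
      _ = c' * c := by rw [hc]; group
  have k1 : u * c' * u⁻¹ = c' := by
    have h4 := p2 _ hcW' ex'
    rw [← h4]; group
  have k1' : u' * c * u'⁻¹ = c := by
    have h4 := p2' _ hcW ex
    rw [← h4]; group
  have f1 : u * u' * w * (u * u')⁻¹ = w * c * c' := by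
    calc u * u' * w * (u * u')⁻¹ = u * (u' * w * u'⁻¹) * u⁻¹ := by group
      _ = (u * w * u⁻¹) * (u * c' * u⁻¹) := by rw [e1']; group
      _ = w * c * c' := by rw [e1, k1]
  have f2 : u' * u * w * (u' * u)⁻¹ = w * c * c' := by
    calc u' * u * w * (u' * u)⁻¹ = u' * (u * w * u⁻¹) * u'⁻¹ := by group
      _ = (u' * w * u'⁻¹) * (u' * c * u'⁻¹) := by rw [e1]; group
      _ = w * (c' * c) := by rw [e1', k1']; group
      _ = w * c * c' := by rw [← hcc]; group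
  have g1 : x * (w * c * c') * x⁻¹ = w * c * c' := by
    have hx : x = (u * u') * (u' * u)⁻¹ := by rw [← hcomm]; group
    calc x * (w * c * c') * x⁻¹ = x * (u' * u * w * (u' * u)⁻¹) * x⁻¹ := by rw [f2]
      _ = u * u' * w * (u * u')⁻¹ := by rw [hx]; group
      _ = w * c * c' := f1
  have g2 : (w * c * c') * x = x * (w * c * c') := by
    calc (w * c * c') * x = x * (w * c * c') * x⁻¹ * x := by rw [g1]
      _ = _ := by group
  have g3 : (w * c * c') * x = w * x * (c * c') := by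
    calc (w * c * c') * x = w * c * (c' * x) := by group
      _ = w * (c * x) * c' := by rw [ex']; group
      _ = w * x * (c * c') := by rw [ex]; group
  rw [g3] at g2
  have g4 : x * (w * c * c') = x * w * (c * c') := by group
  rw [g4] at g2
  exact mul_right_cancel g2

/-- **The abstract core of (B1).** -/
theorem kill [Finite G] {H W : Subgroup G} {x u u' : G} (hW : IsPGroup 2 W)
    (hn : H ≤ normalizer (W : Set G)) (hc : H ⊓ centralizer (W : Set G) ≤ W) (hu : u ∈ H) (hu' : u' ∈ H)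
    (p1 : ∀ w ∈ W, (w⁻¹ * u * w * u⁻¹) * x = x * (w⁻¹ * u * w * u⁻¹))
    (p1' : ∀ w ∈ W, (w⁻¹ * u' * w * u'⁻¹) * x = x * (w⁻¹ * u' * w * u'⁻¹))
    (p2 : ∀ w ∈ W, w * x = x * w → w * u = u * w) (p2' : ∀ w ∈ W, w * x = x * w → w * u' = u' * w)
    (hcomm : u * u' * u⁻¹ * u'⁻¹ = x) (hx : x ≠ 1) : False := by
  have h2 : Fact (Nat.Prime 2) := ⟨Nat.prime_two⟩
  by_cases hK : ∀ w ∈ W, w * x = x * w
  · -- `u`, `u' ∈ C_H(W) ≤ W`
    apply hx
    have h1 : u' ∈ W := hc ⟨hu', fun w hw => p2' w hw (hK w hw)⟩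
    have h3 := p2 u' h1 (hK u' h1)
    rw [← hcomm, ← h3]
    group
  · push Not at hK
    obtain ⟨w0, hw0, hw0x⟩ := hK
    set K : Subgroup W := (centralizer ({x} : Set G)).subgroupOf W with hKd
    have hKmem : ∀ w : W, w ∈ K ↔ (w : G) * x = x * w := fun w => by
      rw [hKd, mem_subgroupOf, mem_centralizer_singleton_iff]
    have hlt : K < ⊤ := by
      rw [lt_top_iff_ne_top]
      intro h0
      apply hw0x
      have h1 : (⟨w0, hw0⟩ : W) ∈ K := by rw [h0]; exact mem_top _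
      exact (hKmem _).mp h1
    have hnil : Group.IsNilpotent W := hW.isNilpotent
    obtain ⟨w, hwN, hwK⟩ := SetLike.exists_of_lt (Group.normalizerCondition_of_isNilpotent K hlt)
    apply hwK
    rw [hKmem]
    have hnorm : ∀ g ∈ H, ∀ v ∈ W, g * v * g⁻¹ ∈ W := fun g hg v hv =>
      (mem_normalizer_iff.mp (hn hg) v).mp hv
    refine step (hnorm u hu) (hnorm u' hu') p1 p1' p2 p2' hcomm w.2 ?_
    intro v hv hvx
    have h1 : (⟨v, hv⟩ : W) ∈ K := (hKmem _).mpr hvx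
    have h3 := (mem_normalizer_iff.mp hwN ⟨v, hv⟩).mp h1
    exact (hKmem _).mp h3

end Cfsg.Agent.Omega.NSix.KillTwo
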