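import Cfsg.Agent.Omega.S5.Main
import Cfsg.Agent.Omega.NSix.Basic
import Cfsg.Agent.Omega.NSix.KillTwo

/-!
# OMEGA N6 (B1), #14749 (helper666): no mutual pair of type `T^k`, `k ≥ 2`

* `matching` : two transpositions `(i j)`, `(k l)` induced by `V'` on `V` and the corresponding transpositions induced
  by `V` on `V'`, with the same commutators `r_ij = r'_i'j'`, `r_kl = r'_k'l'`;
* `eq_swap` : all transpositions induced by `V'` on `V` are equal;
* `acts_or`, `twoAct`, `labTwo`.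
-/

set_option autoImplicit false

namespace Cfsg.Agent.Omega.NSix.TkPair

open Subgroup Cfsg Cfsg.Agent.ZN Cfsg.Agent.ZN.ChoiceBase
open Cfsg.Agent.Omega.S5.Def Cfsg.Agent.Omega.S5.Syl Cfsg.Agent.Omega.S5.Pair Cfsg.Agent.Omega.S5.Main
open Cfsg.Agent.Omega.NSix.Base Cfsg.Agent.Omega.NSix.Basic

universe u

variable {G : Type u} [Group G]

/-! ### Transpositions -/

theorem swap_comm_disj {ι : Type*} [DecidableEq ι] {i j k l : ι} (hij : i ≠ j) (hkl : k ≠ l)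
    (hc : Equiv.swap i j * Equiv.swap k l = Equiv.swap k l * Equiv.swap i j) :
    Equiv.swap i j = Equiv.swap k l ∨ (k ≠ i ∧ k ≠ j ∧ l ≠ i ∧ l ≠ j) := by
  by_cases h1 : k = i
  · subst h1
    left
    have h2 := Equiv.ext_iff.mp hc k
    rw [Equiv.Perm.mul_apply, Equiv.Perm.mul_apply, Equiv.swap_apply_left, Equiv.swap_apply_left] at h2
    by_cases h3 : l = j
    · rw [h3]
    · rw [Equiv.swap_apply_of_ne_of_ne hkl.symm h3, Equiv.swap_apply_of_ne_of_ne hij.symm (Ne.symm h3)] at h2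
      exact absurd h2 h3
  by_cases h2 : k = j
  · subst h2
    left
    have h3 := Equiv.ext_iff.mp hc k
    rw [Equiv.Perm.mul_apply, Equiv.Perm.mul_apply, Equiv.swap_apply_left, Equiv.swap_apply_right] at h3
    by_cases h4 : l = i
    · rw [h4, Equiv.swap_comm]
    · rw [Equiv.swap_apply_of_ne_of_ne h4 hkl.symm, Equiv.swap_apply_of_ne_of_ne hij (Ne.symm h4)] at h3
      exact absurd h3 h4
  by_cases h3 : l = i
  · subst h3
    have h4 := Equiv.ext_iff.mp hc l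
    rw [Equiv.Perm.mul_apply, Equiv.Perm.mul_apply, Equiv.swap_apply_left, Equiv.swap_apply_right,
      Equiv.swap_apply_of_ne_of_ne h1 h2, Equiv.swap_apply_of_ne_of_ne (Ne.symm h2) hij.symm] at h4
    exact absurd h4 h2
  by_cases h4 : l = j
  · subst h4
    have h5 := Equiv.ext_iff.mp hc l
    rw [Equiv.Perm.mul_apply, Equiv.Perm.mul_apply, Equiv.swap_apply_right, Equiv.swap_apply_right,
      Equiv.swap_apply_of_ne_of_ne h1 h2, Equiv.swap_apply_of_ne_of_ne (Ne.symm h1) hij] at h5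
    exact absurd h5 h1
  exact Or.inr ⟨h1, h2, h3, h4⟩

section

variable {n n' : ℕ} {V V' L L' : Subgroup G} {ε : (Fin n → ZMod 2) → G} {ε' : (Fin n' → ZMod 2) → G}

theorem rr_eq (h : EvenSet n V L ε) (i j : Fin n) : rr ε i j = ε (Pi.single i 1 + Pi.single j 1) :=
  (h.add _ _).symm

/-- the pair is determined by the transposition -/
theorem rr_of_swap (h : EvenSet n V L ε) {i j k l : Fin n} (hij : i ≠ j) (hs : Equiv.swap i j = Equiv.swap k l) :
    rr ε i j = rr ε k l := by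
  have h1 : Equiv.swap k l i = j := by rw [← hs, Equiv.swap_apply_left]
  by_cases hk : i = k
  · subst hk
    rw [Equiv.swap_apply_left] at h1
    rw [h1]
  by_cases hl : i = l
  · subst hl
    rw [Equiv.swap_apply_right] at h1
    rw [h1, rr_symm h]
  · rw [Equiv.swap_apply_of_ne_of_ne hk hl] at h1
    exact absurd h1 hij

/-- disjoint pairs are different (five points) -/
theorem rr_ne (h : EvenSet n V L ε) (hn : 5 ≤ n) {i j k l : Fin n} (hij : i ≠ j)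
    (hki : k ≠ i) (hli : l ≠ i) : rr ε i j ≠ rr ε k l := by
  intro h0
  rw [rr_eq h, rr_eq h, h.eq_iff] at h0
  obtain ⟨q, hq⟩ : ∃ q : Fin n, q ∉ ({i, j, k, l} : Finset (Fin n)) := by
    by_contra hc
    push Not at hc
    have h1 : (Finset.univ : Finset (Fin n)).card ≤ ({i, j, k, l} : Finset (Fin n)).card :=
      Finset.card_le_card fun x _ => hc x
    have h2 : ({i, j, k, l} : Finset (Fin n)).card ≤ 4 := Finset.card_le_four
    rw [Finset.card_univ, Fintype.card_fin] at h1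
    omega
  simp only [Finset.mem_insert, Finset.mem_singleton, not_or] at hq
  obtain ⟨q1, q2, q3, q4⟩ := hq
  rcases h0 with h0 | h0
  · have h1 := congrFun h0 i
    rw [Pi.add_apply, Pi.add_apply, Pi.single_eq_same, Pi.single_eq_of_ne hij, Pi.single_eq_of_ne hki.symm,
      Pi.single_eq_of_ne hli.symm, add_zero, add_zero] at h1
    exact one_ne_zero h1
  · have h1 := congrFun h0 q
    rw [Pi.add_apply, Pi.add_apply, Pi.add_apply, Pi.single_eq_of_ne q1, Pi.single_eq_of_ne q2,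
      Pi.single_eq_of_ne q3, Pi.single_eq_of_ne q4, Pi.one_apply, add_zero, zero_add] at h1
    exact zero_ne_one h1

/-- commuting elements acting as transpositions -/
theorem disj_of_comm (h : EvenSet n V L ε) (hn : 3 ≤ n) {a b : G} {i j k l : Fin n} (hij : i ≠ j) (hkl : k ≠ l)
    (ha : Acts ε a (Equiv.swap i j)) (hb : Acts ε b (Equiv.swap k l)) (hab : a * b = b * a) :
    Equiv.swap i j = Equiv.swap k l ∨ (k ≠ i ∧ k ≠ j ∧ l ≠ i ∧ l ≠ j) := by
  have h1 := ha.mul hb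
  rw [hab] at h1
  exact swap_comm_disj hij hkl (h.acts_unique hn h1 (hb.mul ha))

/-- **Matching.** -/
theorem matching (h : EvenSet n V L ε) (h' : EvenSet n' V' L' ε') (hn : 5 ≤ n) (hn' : 3 ≤ n')
    (hs : Side V ε') {b₁ b₂ : G} (hb₁ : b₁ ∈ V') (hb₂ : b₂ ∈ V') {i j k l : Fin n} (hij : i ≠ j) (hkl : k ≠ l)
    (hki : k ≠ i) (hli : l ≠ i) (a₁ : Acts ε b₁ (Equiv.swap i j)) (a₂ : Acts ε b₂ (Equiv.swap k l)) :
    ∃ i' j' k' l' : Fin n', i' ≠ j' ∧ k' ≠ l' ∧ (k' ≠ i' ∧ k' ≠ j' ∧ l' ≠ i' ∧ l' ≠ j') ∧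
      rr ε i j = rr ε' i' j' ∧ rr ε k l = rr ε' k' l' ∧ (∃ c ∈ V, Acts ε' c (Equiv.swap i' j')) ∧
      ∃ z, b₂ = ε' z ∧ z i' = z j' := by
  have hn3 : 3 ≤ n := by omega
  obtain ⟨i', j', hij', e1, c₁, hc₁, s₁, -⟩ := match_swap h h' hn3 hn' hs hb₁ hij a₁
  obtain ⟨k', l', hkl', e2, c₂, hc₂, s₂, -⟩ := match_swap h h' hn3 hn' hs hb₂ hkl a₂
  rw [← rr_eq h, ← rr_eq h'] at e1 e2
  have hne : rr ε i j ≠ rr ε k l := rr_ne h hn hij hki hli
  have hdis : k' ≠ i' ∧ k' ≠ j' ∧ l' ≠ i' ∧ l' ≠ j' := by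
    rcases disj_of_comm h' hn' hij' hkl' s₁ s₂ (h.comm_mem hc₁ hc₂) with h0 | h0
    · exact absurd (by rw [e1, e2, rr_of_swap h' hij' h0]) hne
    · exact h0
  refine ⟨i', j', k', l', hij', hkl', hdis, e1, e2, ⟨c₁, hc₁, s₁⟩, ?_⟩
  obtain ⟨z, rfl⟩ := h'.surj b₂ hb₂
  refine ⟨z, rfl, ?_⟩
  by_contra hz
  obtain ⟨u, rfl⟩ := h.surj c₁ hc₁
  -- `[c₁, b₂] = r'_i'j'`
  have f1 := (acts_swap h' s₁ z).2 hz
  rw [← rr_eq h', ← e1] at f1
  have hu : u k ≠ u l := by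
    intro h0
    have f3 := (acts_swap h a₂ u).1 h0
    rw [← f3, mul_inv_cancel_right, left_eq_mul] at f1
    exact rr_ne_one h hn3 hij f1
  have f2 := (acts_swap h a₂ u).2 hu
  rw [← rr_eq h] at f2
  -- both are the commutator
  apply hne
  have g1 : ε' z * rr ε i j = rr ε i j * ε' z := by
    rw [e1]; exact h'.comm_mem (h'.mem z) (rr_mem h' _ _)
  have g2 : ε u * rr ε k l = rr ε k l * ε u := h.comm_mem (h.mem u) (rr_mem h _ _)
  have g3 : ε u * ε' z * (ε u)⁻¹ * (ε' z)⁻¹ = rr ε i j := by rw [f1, g1]; group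
  have g4 : ε' z * ε u * (ε' z)⁻¹ * (ε u)⁻¹ = rr ε k l := by rw [f2, g2]; group
  calc rr ε i j = ε u * ε' z * (ε u)⁻¹ * (ε' z)⁻¹ := g3.symm
    _ = (ε' z * ε u * (ε' z)⁻¹ * (ε u)⁻¹)⁻¹ := by group
    _ = rr ε k l := by rw [g4, rr_inv h]

/-- The output of `CosetAct` for the pair `{i, j}`, `W = O₂(C_G(r_ij))`: `[W, v]` centralises `V` and
`C_W(r_kl) = C_W(v)` for `v ∈ r_ij^⊥`. -/
structure OneSide (V : Subgroup G) (ε : (Fin n → ZMod 2) → G) (i j : Fin n) : Prop where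
  p1 : ∀ x : Fin n → ZMod 2, x i = x j → ∀ w ∈ o2 (centralizer ({rr ε i j} : Set G)),
    w⁻¹ * ε x * w * (ε x)⁻¹ ∈ centralizer (V : Set G)
  p2 : ∀ w ∈ o2 (centralizer ({rr ε i j} : Set G)), ∀ k l : Fin n, k ≠ l →
    (k ≠ i ∧ k ≠ j ∧ l ≠ i ∧ l ≠ j) → w * rr ε k l = rr ε k l * w →
    ∀ x : Fin n → ZMod 2, x i = x j → w * ε x = ε x * w

/-- Two disjoint transpositions are impossible. -/
theorem false_of_two [Finite G] (hG : IsCharacteristicTwoType G) (h : EvenSet n V L ε)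
    (h' : EvenSet n' V' L' ε') (hn : 5 ≤ n) (hn' : 3 ≤ n') (hs : Side V ε') {b₁ b₂ : G} (hb₁ : b₁ ∈ V')
    (hb₂ : b₂ ∈ V') {i j k l : Fin n} (hij : i ≠ j) (hkl : k ≠ l)
    (hd : k ≠ i ∧ k ≠ j ∧ l ≠ i ∧ l ≠ j) (a₁ : Acts ε b₁ (Equiv.swap i j)) (a₂ : Acts ε b₂ (Equiv.swap k l))
    (q : OneSide V ε i j)
    (q' : ∀ i' j' : Fin n', i' ≠ j' → (∃ c ∈ V, Acts ε' c (Equiv.swap i' j')) → OneSide V' ε' i' j') : False := by
  have hn3 : 3 ≤ n := by omega
  obtain ⟨i', j', k', l', hij', hkl', hd', e1, e2, hc, z, hz, hz2⟩ :=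
    matching h h' hn hn' hs hb₁ hb₂ hij hkl hd.1 hd.2.2.1 a₁ a₂
  have Q := q' i' j' hij' hc
  have e1' : rr ε' i' j' = rr ε i j := e1.symm
  have hu : (Pi.single k 1 : Fin n → ZMod 2) i = (Pi.single k 1 : Fin n → ZMod 2) j := by
    rw [Pi.single_eq_of_ne hd.1.symm, Pi.single_eq_of_ne hd.2.1.symm]
  refine KillTwo.kill (H := centralizer ({rr ε i j} : Set G)) (W := o2 (centralizer ({rr ε i j} : Set G)))
    (x := rr ε k l) (u := zz ε k) (u' := b₂) (MinSimple.VModule.o2_isPGroup _)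
    (MinSimple.VModule.le_normalizer_o2 _) ?_ ?_ ?_ ?_ ?_ ?_ ?_ ?_ (rr_ne_one h hn3 hkl)
  · refine MinSimple.Basic.char2_centralizer hG ?_ (rr_ne_one h hn3 hij)
    rw [pow_two, rr_sq h]
  · rw [mem_centralizer_singleton_iff]
    exact h.comm_mem (zz_mem h k) (rr_mem h i j)
  · rw [mem_centralizer_singleton_iff, hz, e1]
    exact h'.comm_mem (h'.mem z) (rr_mem h' i' j')
  · intro w hw
    exact (mem_centralizer_iff.mp (q.p1 _ hu w hw) _ (rr_mem h k l)).symm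
  · intro w hw
    rw [hz]
    have h1 := mem_centralizer_iff.mp (Q.p1 z hz2 w (by rw [e1']; exact hw)) _ (rr_mem h' k' l')
    rw [← e2] at h1
    exact h1.symm
  · intro w hw hwx
    exact q.p2 w hw k l hkl hd hwx _ hu
  · intro w hw hwx
    rw [hz]
    exact Q.p2 w (by rw [e1']; exact hw) k' l' hkl' hd' (by rw [← e2]; exact hwx) z hz2
  · have h1 : b₂ * zz ε k * b₂⁻¹ = zz ε l := by rw [zz_conj a₂, Equiv.swap_apply_left]
    calc zz ε k * b₂ * (zz ε k)⁻¹ * b₂⁻¹ = zz ε k * (b₂ * zz ε k * b₂⁻¹)⁻¹ := by group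
      _ = rr ε k l := by rw [h1, zz_inv h]; rfl

/-! ### The index form -/

/-- All elements of `V'` act on `V` trivially or as one transposition. -/
theorem acts_or (hs : Side V' ε)
    (hq : ∀ b₁ ∈ V', ∀ b₂ ∈ V', ∀ i j k l : Fin n, i ≠ j → k ≠ l → Acts ε b₁ (Equiv.swap i j) →
      Acts ε b₂ (Equiv.swap k l) → Equiv.swap i j = Equiv.swap k l) {b : G} (hb : b ∈ V') :
    Acts ε b 1 ∨ ∃ i j, i ≠ j ∧ Acts ε b (Equiv.swap i j) := by
  obtain ⟨τ, hτ, h2⟩ := hs b hb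
  by_cases h1 : τ = 1
  · left; rw [← h1]; exact hτ
  right
  obtain ⟨i, hi⟩ : ∃ i, τ i ≠ i := by
    by_contra hc
    push Not at hc
    exact h1 (Equiv.ext hc)
  refine ⟨i, τ i, hi.symm, ?_⟩
  obtain ⟨hii, c, hc, hcs⟩ := h2 i hi
  have h3 : τ = Equiv.swap i (τ i) := by
    ext j
    congr 1
    by_cases hj : τ j = j
    · have h4 : j ≠ i := by rintro rfl; exact hi hj
      have h5 : j ≠ τ i := by rintro rfl; exact hi (τ.injective hj)
      rw [hj, Equiv.swap_apply_of_ne_of_ne h4 h5]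
    · obtain ⟨-, d, hd, hds⟩ := h2 j hj
      rw [hq c hc d hd i (τ i) j (τ j) hi.symm (Ne.symm hj) hcs hds, Equiv.swap_apply_left]
  rw [← h3]
  exact hτ

theorem twoAct_of (h : EvenSet n V L ε) (hs : Side V' ε)
    (hq : ∀ b₁ ∈ V', ∀ b₂ ∈ V', ∀ i j k l : Fin n, i ≠ j → k ≠ l → Acts ε b₁ (Equiv.swap i j) →
      Acts ε b₂ (Equiv.swap k l) → Equiv.swap i j = Equiv.swap k l) : S5.Types.TwoAct V' V := by
  intro w hw w' hw' h1 h2
  rcases acts_or hs hq hw with h3 | ⟨i, j, hij, h3⟩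
  · exact absurd (h.acts_one_iff.mp h3) h1
  rcases acts_or hs hq hw' with h4 | ⟨k, l, hkl, h4⟩
  · exact absurd (h.acts_one_iff.mp h4) h2
  rw [← hq w hw w' hw' i j k l hij hkl h3 h4] at h4
  exact h.mem_centralizer_of_acts h4 h3

end

end Cfsg.Agent.Omega.NSix.TkPair
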