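import Cfsg.Agent.Omega.NSix.CosetAct
import Cfsg.Agent.Omega.NSix.TkPair

/-!
# OMEGA N6 (B1), #14749 (helper666): no mutual pair of type `T^k`, `k ≥ 2`

* `eq_swap` : `V`, `V'` even-subset modules of degree `2^m + 1`, `2^m' + 1` (`m, m' ≥ 2`) over Sylow 2-subgroups
  `T ≥ V'`, `T' ≥ V` of `G`, acting on each other by products of disjoint transpositions: all transpositions induced
  by `V'` on `V` are equal;
* `acts_or`, `twoAct`: the elements of `V'` act on `V` trivially or as this transposition;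
* `labTwo` : the same for `S5.Main.LabTwo`.
-/

set_option autoImplicit false

namespace Cfsg.Agent.Omega.NSix.NoTk

open Subgroup Cfsg Cfsg.Agent.ZN Cfsg.Agent.ZN.ChoiceBase
open Cfsg.Agent.Omega.S5.Def Cfsg.Agent.Omega.S5.Syl Cfsg.Agent.Omega.S5.Pair Cfsg.Agent.Omega.S5.Main
open Cfsg.Agent.Omega.NSix.Base Cfsg.Agent.Omega.NSix.Basic

universe u

variable {G : Type u} [Group G]

theorem card_le_sylow [Finite G] (S : Sylow 2 G) {T : Subgroup G} (hT : IsPGroup 2 T) :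
    Nat.card T ≤ Nat.card (S : Subgroup G) := by
  have h2 : Fact (Nat.Prime 2) := ⟨Nat.prime_two⟩
  obtain ⟨R, hR⟩ := hT.exists_le_sylow
  have h1 : Nat.card (R : Subgroup G) = Nat.card (S : Subgroup G) := by
    rw [R.card_eq_multiplicity, S.card_eq_multiplicity]
  rw [← h1]
  exact Subgroup.card_le_of_le hR

/-- A 2-group normalised by a Sylow 2-subgroup is contained in it. -/
theorem le_sylow (S : Sylow 2 G) {V : Subgroup G} (hV : IsPGroup 2 V)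
    (hn : (S : Subgroup G) ≤ normalizer (V : Set G)) : V ≤ (S : Subgroup G) := by
  have h1 : IsPGroup 2 ((S : Subgroup G) ⊔ V : Subgroup G) := S.isPGroup'.to_sup_of_normal_right' hV hn
  have h2 := S.is_maximal' h1 le_sup_left
  rw [← h2]
  exact le_sup_right

theorem hyp [Finite G] (S : Sylow 2 G) {m : ℕ} (hm : 2 ≤ m) {V P : Subgroup G}
    {ε : (Fin (2 ^ m + 1) → ZMod 2) → G} (h : EvenSet (2 ^ m + 1) V P ε) (hSP : (S : Subgroup G) ≤ P)
    (hf : Fix0 ε (S : Subgroup G)) {i j : Fin (2 ^ m + 1)} (hij : i ≠ j)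
    (hsw : ∃ a ∈ (S : Subgroup G), Acts ε a (Equiv.swap i j)) :
    CosetAct.Hyp V P (S : Subgroup G) (o2 (centralizer ({rr ε i j} : Set G))) ε i j where
  even := h
  VP := (le_sylow S h.isPGroup (hSP.trans h.le_normalizer)).trans hSP
  two_le := hm
  le := hSP
  isP := S.isPGroup'
  max _ hT := card_le_sylow S hT
  fix0 := hf
  ne := hij
  swap := hsw
  isPW := MinSimple.VModule.o2_isPGroup _
  leW := MinSimple.VModule.o2_le _
  norm := MinSimple.VModule.le_normalizer_o2 _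

theorem oneSide [Finite G] (S : Sylow 2 G) {m : ℕ} (hm : 2 ≤ m) {V P : Subgroup G}
    {ε : (Fin (2 ^ m + 1) → ZMod 2) → G} (h : EvenSet (2 ^ m + 1) V P ε) (hSP : (S : Subgroup G) ≤ P)
    (hf : Fix0 ε (S : Subgroup G)) {i j : Fin (2 ^ m + 1)} (hij : i ≠ j)
    (hsw : ∃ a ∈ (S : Subgroup G), Acts ε a (Equiv.swap i j)) : TkPair.OneSide V ε i j where
  p1 _ hx _ hw := (hyp S hm h hSP hf hij hsw).p1 (CosetAct.mem_V0 h hx) hw
  p2 _ hw _ _ hkl hd hc _ hx := (hyp S hm h hSP hf hij hsw).p2 hw ⟨hd.1, hd.2.1⟩ ⟨hd.2.2.1, hd.2.2.2⟩ hkl hc _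
    (CosetAct.mem_V0 h hx)

/-- The position of `V`, `V'`. -/
structure Two {n n' : ℕ} [NeZero n] [NeZero n'] (V V' L L' T T' : Subgroup G)
    (ε : (Fin n → ZMod 2) → G) (ε' : (Fin n' → ZMod 2) → G) : Prop where
  even : EvenSet n V L ε
  even' : EvenSet n' V' L' ε'
  le : T ≤ L
  le' : T' ≤ L'
  fix : Fix0 ε T
  fix' : Fix0 ε' T'
  in' : V' ≤ T
  in_ : V ≤ T'
  side : Side V' ε
  side' : Side V ε'

theorem Two.symm {n n' : ℕ} [NeZero n] [NeZero n'] {V V' L L' T T' : Subgroup G}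
    {ε : (Fin n → ZMod 2) → G} {ε' : (Fin n' → ZMod 2) → G} (h : Two V V' L L' T T' ε ε') :
    Two V' V L' L T' T ε' ε :=
  ⟨h.even', h.even, h.le', h.le, h.fix', h.fix, h.in_, h.in', h.side', h.side⟩

section

variable {m m' : ℕ} {V V' L L' : Subgroup G} {T T' : Sylow 2 G} {ε : (Fin (2 ^ m + 1) → ZMod 2) → G}
  {ε' : (Fin (2 ^ m' + 1) → ZMod 2) → G}

/-- **(B1).** All transpositions induced by `V'` on `V` are equal. -/
theorem eq_swap [Finite G] (hG : IsCharacteristicTwoType G) (hm : 2 ≤ m) (hm' : 2 ≤ m')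
    (h : Two V V' L L' (T : Subgroup G) (T' : Subgroup G) ε ε') :
    ∀ b₁ ∈ V', ∀ b₂ ∈ V', ∀ i j k l : Fin (2 ^ m + 1), i ≠ j → k ≠ l → Acts ε b₁ (Equiv.swap i j) →
      Acts ε b₂ (Equiv.swap k l) → Equiv.swap i j = Equiv.swap k l := by
  intro b₁ hb₁ b₂ hb₂ i j k l hij hkl a₁ a₂
  have h5 := five_le hm
  have h3' := three_le (by omega : 1 ≤ m')
  rcases TkPair.disj_of_comm h.even (by omega) hij hkl a₁ a₂ (h.even'.comm_mem hb₁ hb₂) with h0 | hd
  · exact h0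
  exfalso
  exact TkPair.false_of_two hG h.even h.even' h5 h3' h.side' hb₁ hb₂ hij hkl hd a₁ a₂
    (oneSide T hm h.even h.le h.fix hij ⟨b₁, h.in' hb₁, a₁⟩)
    fun i' j' hij' ⟨c, hc, ha⟩ => oneSide T' hm' h.even' h.le' h.fix' hij' ⟨c, h.in_ hc, ha⟩

/-- The elements of `V'` act on `V` trivially or as a transposition. -/
theorem acts_or [Finite G] (hG : IsCharacteristicTwoType G) (hm : 2 ≤ m) (hm' : 2 ≤ m')
    (h : Two V V' L L' (T : Subgroup G) (T' : Subgroup G) ε ε') {b : G} (hb : b ∈ V') :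
    Acts ε b 1 ∨ ∃ i j, i ≠ j ∧ Acts ε b (Equiv.swap i j) :=
  TkPair.acts_or h.side (eq_swap hG hm hm' h) hb

/-- All elements of `V'` act on `V` trivially or as one fixed transposition. -/
theorem acts_one_or [Finite G] (hG : IsCharacteristicTwoType G) (hm : 2 ≤ m) (hm' : 2 ≤ m')
    (h : Two V V' L L' (T : Subgroup G) (T' : Subgroup G) ε ε') (hne : ¬ V' ≤ centralizer (V : Set G)) :
    ∃ i j, i ≠ j ∧ (∃ b ∈ V', Acts ε b (Equiv.swap i j)) ∧
      ∀ b ∈ V', Acts ε b 1 ∨ Acts ε b (Equiv.swap i j) := by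
  obtain ⟨b, hb, hbV⟩ := SetLike.not_le_iff_exists.mp hne
  rcases acts_or hG hm hm' h hb with h1 | ⟨i, j, hij, h1⟩
  · exact absurd (h.even.acts_one_iff.mp h1) hbV
  refine ⟨i, j, hij, ⟨b, hb, h1⟩, fun c hc => ?_⟩
  rcases acts_or hG hm hm' h hc with h2 | ⟨k, l, hkl, h2⟩
  · exact Or.inl h2
  · rw [← eq_swap hG hm hm' h b hb c hc i j k l hij hkl h1 h2] at h2
    exact Or.inr h2

theorem twoAct [Finite G] (hG : IsCharacteristicTwoType G) (hm : 2 ≤ m) (hm' : 2 ≤ m')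
    (h : Two V V' L L' (T : Subgroup G) (T' : Subgroup G) ε ε') : S5.Types.TwoAct V' V :=
  TkPair.twoAct_of h.even h.side (eq_swap hG hm hm' h)

end

/-! ### `LabTwo` -/

theorem coe_smul (S : Sylow 2 G) (y : G) : ((y • S : Sylow 2 G) : Subgroup G) = cj y (S : Subgroup G) := by
  rw [Sylow.coe_subgroup_smul]
  rfl

theorem fix0_conj {n : ℕ} [NeZero n] {ε : (Fin n → ZMod 2) → G} {S : Subgroup G} (h : Fix0 ε S) (y : G) :
    Fix0 (fun x => y * ε x * y⁻¹) (cj y S) := by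
  intro s hs σ hσ
  rw [mem_cj] at hs
  refine h _ hs σ ?_
  have e : y * (y⁻¹ * s * y) * y⁻¹ = s := by group
  rw [← acts_conj_label_iff y, e]
  exact hσ

variable {S : Sylow 2 G} {P₁ P₂ : Subgroup G} {y : G} {m m' : ℕ} {ε : (Fin (2 ^ m + 1) → ZMod 2) → G}
  {ε₂ : (Fin (2 ^ m' + 1) → ZMod 2) → G}

theorem two_of_lab [Finite G] (hl : LabTwo S P₁ P₂ y m m' ε ε₂) :
    Two (zl (S : Subgroup G) P₁) (cj y (zl (S : Subgroup G) P₂)) P₁ (cj y P₂) (S : Subgroup G)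
      ((y • S : Sylow 2 G) : Subgroup G) ε fun x => y * ε₂ x * y⁻¹ where
  even := hl.even
  even' := hl.even₂.conj y
  le := hl.pair.star₁.le
  le' := by rw [coe_smul]; exact cj_mono y hl.pair.star₂.le
  fix := hl.fix0
  fix' := by rw [coe_smul]; exact fix0_conj hl.fix0₂ y
  in' := hl.le
  in_ := by rw [coe_smul]; exact hl.ge
  side := hl.side
  side' := hl.side₂

/-- **(B1) for `LabTwo`**: `|V' : C_V'(V)| ≤ 2`, `|V : C_V(V')| ≤ 2`. -/
theorem labTwo [Finite G] (hG : IsCharacteristicTwoType G) (hm : 2 ≤ m) (hm' : 2 ≤ m')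
    (hl : LabTwo S P₁ P₂ y m m' ε ε₂) :
    S5.Types.TwoAct (cj y (zl (S : Subgroup G) P₂)) (zl (S : Subgroup G) P₁) ∧
      S5.Types.TwoAct (zl (S : Subgroup G) P₁) (cj y (zl (S : Subgroup G) P₂)) :=
  ⟨twoAct hG hm hm' (two_of_lab hl), twoAct hG hm' hm (two_of_lab hl).symm⟩

theorem not_cent₁ [Finite G] (hl : LabTwo S P₁ P₂ y m m' ε ε₂) :
    ¬ cj y (zl (S : Subgroup G) P₂) ≤ centralizer (zl (S : Subgroup G) P₁ : Set G) := fun h =>
  hl.pair.ne (commutator_eq_bot_iff_le_centralizer.mpr (le_centralizer_iff.mp h))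

theorem not_cent₂ [Finite G] (hl : LabTwo S P₁ P₂ y m m' ε ε₂) :
    ¬ zl (S : Subgroup G) P₁ ≤ centralizer (cj y (zl (S : Subgroup G) P₂) : Set G) := fun h =>
  hl.pair.ne (commutator_eq_bot_iff_le_centralizer.mpr h)

/-- Elementwise: `V'` acts on `V` as `⟨(i j)⟩`. -/
theorem labTwo_acts₁ [Finite G] (hG : IsCharacteristicTwoType G) (hm : 2 ≤ m) (hm' : 2 ≤ m')
    (hl : LabTwo S P₁ P₂ y m m' ε ε₂) : ∃ i j, i ≠ j ∧
      (∃ b ∈ cj y (zl (S : Subgroup G) P₂), Acts ε b (Equiv.swap i j)) ∧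
      ∀ b ∈ cj y (zl (S : Subgroup G) P₂), Acts ε b 1 ∨ Acts ε b (Equiv.swap i j) :=
  acts_one_or hG hm hm' (two_of_lab hl) (not_cent₁ hl)

/-- Elementwise: `V` acts on `V'` as `⟨(i' j')⟩`. -/
theorem labTwo_acts₂ [Finite G] (hG : IsCharacteristicTwoType G) (hm : 2 ≤ m) (hm' : 2 ≤ m')
    (hl : LabTwo S P₁ P₂ y m m' ε ε₂) : ∃ i j, i ≠ j ∧
      (∃ b ∈ zl (S : Subgroup G) P₁, Acts (fun x => y * ε₂ x * y⁻¹) b (Equiv.swap i j)) ∧
      ∀ b ∈ zl (S : Subgroup G) P₁, Acts (fun x => y * ε₂ x * y⁻¹) b 1 ∨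
        Acts (fun x => y * ε₂ x * y⁻¹) b (Equiv.swap i j) :=
  acts_one_or hG hm' hm (two_of_lab hl).symm (not_cent₂ hl)

end Cfsg.Agent.Omega.NSix.NoTk
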