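import Cfsg.Agent.Omega.NSix.PtCen
import Cfsg.Agent.Omega.NSix.FixApp
import Cfsg.Agent.Omega.NSix.MatchApp
import Cfsg.Agent.Omega.NSix.NoTk
import Cfsg.Agent.Omega.F4Leaf.HOne
import Cfsg.Agent.Omega.S5.NatBig

/-!
# OMEGA N6: the facts (F1), (F2), (H1) (bb #13506, #13864, #14103, #14675)

`Sit S V P ε` : `G` has characteristic 2 type, `S ∈ Syl₂(G)`, `V ≥ Ω₁(Z(S))` is the even-subset module of degree
`2 ^ m + 1`, `m ≥ 3`, for `P ≥ S`, `S` fixes the label 0.

* `Sit.pt` : `z_j ∈ O₂(C_G(z_i))`;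
* `Sit.pair` : `O₂(C_G(r_ij))` centralises `z_k`, `k ≠ i, j`;
* `Sit.o2_le_P` : `O₂(C_G(r_ij)) ≤ P`;
* `Sit.facts` : `S5.NatBig.Facts ε P`;
* `allFacts` : `S5.NatBig.AllFacts`.
-/

set_option autoImplicit false
set_option linter.dupNamespace false

namespace Cfsg.Agent.Omega.NSix.AllFacts

open Subgroup Pointwise Cfsg Cfsg.Agent.ZN Cfsg.Agent.Omega.S5.Def Cfsg.Agent.Omega.S5.Syl
open Cfsg.Agent.Omega.NSix.Base Cfsg.Agent.Omega.NSix.Basic Cfsg.Agent.Omega.NSix.CosetAct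
open Cfsg.Agent.Omega.NSix.FixApp Cfsg.Agent.Omega.NSix.StabPerm
open Cfsg.Agent.Omega.NSix.Match (ind)
open Cfsg.Agent.MinSimple.VModule (o2_isPGroup o2_le le_o2 le_normalizer_o2 o2_le_of_sylow mem_zc zc_le
  normalizer_le_normalizer_zc zc_le_zl)

universe u

variable {G : Type u} [Group G]

/-! ### Permutations and subsets -/

theorem ind_comp {n : ℕ} (σ : Equiv.Perm (Fin n)) (A : Finset (Fin n)) :
    ind A ∘ σ.symm = ind (σ • A) := by
  funext x
  have h1 : σ.symm x ∈ A ↔ x ∈ σ • A := by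
    rw [← Finset.inv_smul_mem_iff]
    rfl
  simp only [ind, Function.comp, h1]

theorem ind_swap {n : ℕ} {A : Finset (Fin n)} {k l : Fin n} (hk : k ∈ A) (hl : l ∉ A) :
    ind A ∘ (Equiv.swap k l).symm = ind A + (Pi.single k 1 + Pi.single l 1) := by
  have hkl : k ≠ l := fun h => hl (h ▸ hk)
  funext x
  rw [Equiv.symm_swap]
  simp only [Function.comp, Pi.add_apply, ind]
  by_cases h1 : x = k
  · subst h1
    rw [Equiv.swap_apply_left, if_neg hl, if_pos hk, Pi.single_eq_same, Pi.single_eq_of_ne hkl]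
    decide
  · by_cases h2 : x = l
    · subst h2
      rw [Equiv.swap_apply_right, if_neg hl, if_pos hk, Pi.single_eq_same, Pi.single_eq_of_ne hkl.symm]
      decide
    · rw [Equiv.swap_apply_of_ne_of_ne h1 h2, Pi.single_eq_of_ne h1, Pi.single_eq_of_ne h2, add_zero, add_zero]

/-- Even subsets off `{i, j}` are in `V_n`. -/
theorem ind_mem_Vn {n : ℕ} {V P : Subgroup G} {ε : (Fin n → ZMod 2) → G} (h : EvenSet n V P ε) {i j : Fin n}
    {A : Finset (Fin n)} (hi : i ∉ A) (hj : j ∉ A) (hA : Even A.card) : ε (ind A) ∈ Vn ε i j := by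
  classical
  rcases A.eq_empty_or_nonempty with h0 | ⟨k, hk⟩
  · subst h0
    have h1 : (ind (∅ : Finset (Fin n))) = 0 := by
      funext x
      simp [ind]
    rw [h1, h.zero]
    exact one_mem _
  have h1 : (∑ a ∈ A, (Pi.single a 1 + Pi.single k 1 : Fin n → ZMod 2)) = ind A := by
    rw [Finset.sum_add_distrib, Finset.sum_const]
    obtain ⟨r, hr⟩ := hA
    have h2 : A.card • (Pi.single k 1 : Fin n → ZMod 2) = 0 := by
      rw [hr, add_smul]
      exact S5.Def.add_self _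
    rw [h2, add_zero]
    funext x
    rw [Finset.sum_apply]
    simp only [ind]
    by_cases hx : x ∈ A
    · rw [if_pos hx, Finset.sum_eq_single x]
      · rw [Pi.single_eq_same]
      · intro b _ hb
        rw [Pi.single_eq_of_ne hb.symm]
      · intro h3
        exact absurd hx h3
    · rw [if_neg hx]
      refine Finset.sum_eq_zero fun b hb => ?_
      rw [Pi.single_eq_of_ne]
      rintro rfl
      exact hx hb
  rw [← h1]
  have h2 : (∑ a ∈ A, (Pi.single a 1 + Pi.single k 1 : Fin n → ZMod 2)) ∈ pre h (Vn ε i j) := by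
    refine sum_mem fun a ha => ?_
    rw [mem_pre, h.add]
    exact rr_mem_Vn ⟨fun h3 => hi (h3 ▸ ha), fun h3 => hj (h3 ▸ ha)⟩
      ⟨fun h3 => hi (h3 ▸ hk), fun h3 => hj (h3 ▸ hk)⟩
  exact h2

theorem mem_St_of_smul {n : ℕ} {σ : Equiv.Perm (Fin n)} {i j : Fin n} (hij : i ≠ j)
    (h : σ • ({i, j} : Finset (Fin n)) = {i, j}) : σ ∈ St i j := by
  rw [Match.pair_smul] at h
  have h1 : σ i ∈ ({i, j} : Finset (Fin n)) := h ▸ Finset.mem_insert_self _ _
  have h2 : σ j ∈ ({i, j} : Finset (Fin n)) := by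
    rw [← h]
    exact Finset.mem_insert_of_mem (Finset.mem_singleton_self _)
  rw [Finset.mem_insert, Finset.mem_singleton] at h1 h2
  have h3 : σ i ≠ σ j := fun h0 => hij (σ.injective h0)
  rcases h1 with h1 | h1 <;> rcases h2 with h2 | h2
  · exact absurd (h1.trans h2.symm) h3
  · exact Or.inl ⟨h1, h2⟩
  · exact Or.inr ⟨h1, h2⟩
  · exact absurd (h1.trans h2.symm) h3

/-- `S` induces a transposition. -/
theorem exists_swap [Finite G] {m : ℕ} (hm : 1 ≤ m) {S V P : Subgroup G} {ε : (Fin (2 ^ m + 1) → ZMod 2) → G}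
    (h : EvenSet (2 ^ m + 1) V P ε) (hSP : S ≤ P) (hS2 : ¬ 2 ∣ S.relIndex P) :
    ∃ i j, i ≠ j ∧ ∃ a ∈ S, Acts ε a (Equiv.swap i j) := by
  have hn := three_le hm
  let π := h.hom hn
  let H : Subgroup (Equiv.Perm (Fin (2 ^ m + 1))) := (S.subgroupOf P).map π
  have hodd : ¬ 2 ∣ H.relIndex ⊤ := by
    rw [relIndex_top_right]
    exact fun h2 => hS2 (h2.trans (index_map_dvd _ (h.hom_surjective hn)))
  let a : Fin (2 ^ m + 1) := ⟨0, by omega⟩
  let b : Fin (2 ^ m + 1) := ⟨1, by omega⟩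
  have hab : a ≠ b := by
    intro h0
    have h1 := congrArg Fin.val h0
    change 0 = 1 at h1
    exact zero_ne_one h1
  obtain ⟨g, -, s, hs, hg⟩ := exists_conj hodd (mem_top (Equiv.swap a b)) (Equiv.swap_mul_self a b)
  rw [conj_swap] at hg
  refine ⟨g⁻¹ a, g⁻¹ b, fun h0 => hab (g⁻¹.injective h0), s, hs, ?_⟩
  rw [← hg]
  exact h.acts_hom hn s

theorem exists_mul_of_mem_sup {A B : Subgroup G} (hn : ∀ a ∈ A, ∀ b ∈ B, a * b * a⁻¹ ∈ B) {x : G}
    (hx : x ∈ A ⊔ B) : ∃ a ∈ A, ∃ c ∈ B, x = a * c := by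
  have hn' : ∀ a ∈ A, ∀ b ∈ B, a⁻¹ * b * a ∈ B := by
    intro a ha b hb
    have := hn a⁻¹ (inv_mem ha) b hb
    rwa [inv_inv] at this
  let T : Subgroup G :=
    { carrier := {x | ∃ a ∈ A, ∃ c ∈ B, x = a * c}
      one_mem' := ⟨1, one_mem _, 1, one_mem _, by group⟩
      mul_mem' := by
        rintro _ _ ⟨a, ha, c, hc, rfl⟩ ⟨a', ha', c', hc', rfl⟩
        exact ⟨a * a', mul_mem ha ha', a'⁻¹ * c * a' * c', mul_mem (hn' a' ha' c hc) hc', by group⟩
      inv_mem' := by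
        rintro _ ⟨a, ha, c, hc, rfl⟩
        exact ⟨a⁻¹, inv_mem ha, a * c⁻¹ * a⁻¹, hn a ha _ (inv_mem hc), by group⟩ }
  have hT : A ⊔ B ≤ T := sup_le (fun a ha => ⟨a, ha, 1, one_mem _, by group⟩)
    (fun c hc => ⟨1, one_mem _, c, hc, by group⟩)
  exact hT hx

/-! ### The setting -/

structure Sit (S : Sylow 2 G) (V P : Subgroup G) {m : ℕ} (ε : (Fin (2 ^ m + 1) → ZMod 2) → G) : Prop where
  c2 : IsCharacteristicTwoType G
  m3 : 3 ≤ m
  ev : EvenSet (2 ^ m + 1) V P ε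
  le : (S : Subgroup G) ≤ P
  fix0 : Fix0 ε (S : Subgroup G)
  zc_le : zc (S : Subgroup G) ≤ V

/-- `C_S(V)` -/
def TT (S : Sylow 2 G) (V : Subgroup G) : Subgroup G := (S : Subgroup G) ⊓ centralizer (V : Set G)

/-- `N_P(C_S(V))` -/
def PP (S : Sylow 2 G) (V P : Subgroup G) : Subgroup G := P ⊓ normalizer (TT S V : Set G)

namespace Sit

variable {S : Sylow 2 G} {V P : Subgroup G} {m : ℕ} {ε : (Fin (2 ^ m + 1) → ZMod 2) → G} (h : Sit S V P ε)
include h

theorem three : 3 ≤ 2 ^ m + 1 := three_le (by have := h.m3; omega)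

theorem nine : 9 ≤ 2 ^ m + 1 := by
  have h1 : 2 ^ 3 ≤ 2 ^ m := Nat.pow_le_pow_right (by norm_num) h.m3
  omega

/-- **(F1)** -/
theorem pt [Finite G] (i j : Fin (2 ^ m + 1)) : zz ε j ∈ o2 (centralizer ({zz ε i} : Set G)) :=
  PtCen.le_o2_cent h.c2 S h.m3 h.ev h.le h.fix0 i (zz_mem h.ev j)

theorem V_le_S : V ≤ (S : Subgroup G) := NoTk.le_sylow S h.ev.isPGroup (h.le.trans h.ev.le_normalizer)

theorem V_le_T : V ≤ TT S V := fun v hv =>
  ⟨h.V_le_S hv, mem_centralizer_iff.mpr fun w hw => h.ev.comm_mem hw hv⟩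

theorem V_ne_bot : V ≠ ⊥ := by
  intro h0
  have h1 := zz_mem h.ev 0
  rw [h0, mem_bot] at h1
  exact h.ev.single_ne_one h.three 0 h1

/-- `C_G(T) ≤ T` -/
theorem cent_T [Finite G] {g : G} (hg : ∀ q ∈ TT S V, g * q = q * g) : g ∈ TT S V := by
  have hM := MinSimple.Basic.char2_normalizer h.c2 h.ev.isPGroup h.V_ne_bot
  have hSM : (S : Subgroup G) ≤ normalizer (V : Set G) := h.le.trans h.ev.le_normalizer
  have h1 : o2 (normalizer (V : Set G)) ≤ (S : Subgroup G) :=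
    o2_le_of_sylow S.isPGroup' (MinSimple.Basic.not_dvd_relIndex S hSM)
  have h2 : o2 (normalizer (V : Set G)) ≤ centralizer (V : Set G) :=
    PtCen.norm_two (by have := h.nine; omega) h.ev (h1.trans h.le) (o2_isPGroup _)
      (h.ev.le_normalizer.trans (le_normalizer_o2 _))
  have h3 : o2 (normalizer (V : Set G)) ≤ TT S V := le_inf h1 h2
  have h4 : g ∈ centralizer (V : Set G) := mem_centralizer_iff.mpr fun v hv => (hg v (h.V_le_T hv)).symm
  have h5 : g ∈ normalizer (V : Set G) := centralizer_le_normalizer _ h4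
  exact h3 (hM ⟨h5, mem_centralizer_iff.mpr fun x hx => (hg x (h3 hx)).symm⟩)

theorem S_le_PP : (S : Subgroup G) ≤ PP S V P := by
  refine le_inf h.le ?_
  intro s hs
  have key : ∀ s ∈ (S : Subgroup G), ∀ x ∈ TT S V, s * x * s⁻¹ ∈ TT S V := by
    rintro s hs x ⟨hx1, hx2⟩
    exact ⟨(S : Subgroup G).mul_mem ((S : Subgroup G).mul_mem hs hx1) ((S : Subgroup G).inv_mem hs),
      conj_cent (h.ev.le_normalizer (h.le hs)) hx2⟩
  rw [mem_normalizer_iff]
  refine fun x => ⟨key s hs x, fun hx => ?_⟩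
  have h1 := key s⁻¹ (inv_mem hs) _ hx
  have h2 : s⁻¹ * (s * x * s⁻¹) * s⁻¹⁻¹ = x := by group
  rwa [h2] at h1

theorem ev1 [Finite G] : EvenSet (2 ^ m + 1) V (PP S V P) ε := by
  refine h.ev.change (fun g hg => h.ev.perm g hg.1) fun σ => ?_
  obtain ⟨g, hg, hσ⟩ := h.ev.full σ
  have hPC : P ≤ normalizer (centralizer (V : Set G) : Set G) := by
    intro p hp
    rw [mem_normalizer_iff]
    refine fun x => ⟨conj_cent (h.ev.le_normalizer hp), fun hx => ?_⟩
    have h1 := conj_cent (h.ev.le_normalizer (inv_mem hp)) hx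
    have h2 : p⁻¹ * (p * x * p⁻¹) * p⁻¹⁻¹ = x := by group
    rwa [h2] at h1
  have h1 := MinSimple.Basic.frattini h.le S.isPGroup' (MinSimple.Basic.not_dvd_relIndex S h.le) hPC hg
  rw [sup_comm] at h1
  have h4 : ∀ a ∈ P ⊓ normalizer (((S : Subgroup G) ⊓ centralizer (V : Set G) : Subgroup G) : Set G),
      ∀ c ∈ centralizer (V : Set G), a * c * a⁻¹ ∈ centralizer (V : Set G) :=
    fun a ha c hc => (mem_normalizer_iff.mp (hPC ha.1) c).mp hc
  obtain ⟨a, ha, c, hc, hac⟩ := exists_mul_of_mem_sup h4 h1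
  refine ⟨a, ha, ?_⟩
  have h2 : a = g * c⁻¹ := by rw [hac]; group
  have h3 := hσ.mul (h.ev.acts_one_iff.mpr (inv_mem hc))
  rwa [← h2, mul_one] at h3

theorem sit1 [Finite G] : Sit S V (PP S V P) ε := ⟨h.c2, h.m3, h.ev1, h.S_le_PP, h.fix0, h.zc_le⟩

/-- `Y = Ω₁(Z(C_S(V)))` -/
theorem big [Finite G] : MatchApp.Big (S : Subgroup G) (PP S V P) V (zc (TT S V)) ε where
  ev := h.ev1
  fix0 := h.fix0
  le := h.S_le_PP
  comm := MinSimple.VModule.zc_comm _
  sq y hy := by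
    rw [← pow_two]
    exact MinSimple.VModule.zc_sq _ y hy
  ge v hv := mem_zc.mpr ⟨h.V_le_T hv, fun t ht => (mem_centralizer_iff.mp ht.2 v hv).symm, by
    rw [pow_two]; exact h.ev.sq_mem hv⟩
  nrm g hg y hy := (mem_normalizer_iff.mp (normalizer_le_normalizer_zc _ hg.2) y).mp hy
  syl s hs hsV := mem_centralizer_iff.mpr fun y hy => ((mem_zc.mp hy).2.1 s ⟨hs, hsV⟩).symm
  fixed y hy hS := by
    have hy' := mem_zc.mp hy
    have h1 : y ∈ zc (S : Subgroup G) := mem_zc.mpr ⟨hy'.1.1, hS, hy'.2.2⟩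
    exact S5.Syl.fixed (by have := h.m3; omega) h.ev h.le (MinSimple.Basic.not_dvd_relIndex S h.le) h.fix0
      (h.zc_le h1) hS

/-- The matching lemma for a transposition of `S`. -/
theorem pair0 [Finite G] {i j : Fin (2 ^ m + 1)} (hij : i ≠ j)
    (hsw : ∃ a ∈ (S : Subgroup G), Acts ε a (Equiv.swap i j)) :
    ∀ w ∈ o2 (centralizer ({rr ε i j} : Set G)), ∀ u ∈ V0 ε i j, w * u = u * w := by
  classical
  have hm := h.m3
  have hn := h.three
  have h9 := h.nine
  have H : Hyp V (PP S V P) (S : Subgroup G) (o2 (centralizer ({rr ε i j} : Set G))) ε i j :=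
    NoTk.hyp S (by omega) h.ev1 h.S_le_PP h.fix0 hij hsw
  have hS2 : ¬ 2 ∣ (S : Subgroup G).relIndex (PP S V P) := MinSimple.Basic.not_dvd_relIndex S h.S_le_PP
  obtain ⟨φ, fmul, finj, fval, fperm⟩ := FixApp.exists_phi H (Q := TT S V)
    (fun g hg hgw => MinSimple.Basic.char2_centralizer h.c2 (z := rr ε i j)
      (by rw [pow_two]; exact rr_sq h.ev i j) (rr_ne_one h.ev hn hij)
      ⟨hg, mem_centralizer_iff.mpr fun w hw => (hgw w hw).symm⟩)
    (inf_le_left.trans h.S_le_PP) (S.isPGroup'.to_le inf_le_left) inf_le_right (fun g hg => h.cent_T hg)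
  -- the set `A`
  have h2m : 2 ^ m = 2 * 2 ^ (m - 1) := by
    rw [← pow_succ']
    congr 1
    omega
  have h2m' : 4 ≤ 2 ^ (m - 1) := by
    have : 2 ^ 2 ≤ 2 ^ (m - 1) := Nat.pow_le_pow_right (by norm_num) (by omega)
    omega
  have hccard : (({i, j} : Finset (Fin (2 ^ m + 1)))ᶜ).card = 2 ^ m - 1 := by
    rw [Finset.card_compl, Fintype.card_fin, Finset.card_pair hij]
    omega
  obtain ⟨A, hAsub, hA⟩ := Finset.exists_subset_card_eq (s := ({i, j} : Finset (Fin (2 ^ m + 1)))ᶜ)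
    (n := 2 ^ (m - 1)) (by rw [hccard]; omega)
  have hAn : ∀ {a}, a ∈ A → a ≠ i ∧ a ≠ j := by
    intro a ha
    have h1 := hAsub ha
    simp only [Finset.mem_compl, Finset.mem_insert, Finset.mem_singleton, not_or] at h1
    exact h1
  have hd : Disjoint ({i, j} : Finset (Fin (2 ^ m + 1))) A := by
    rw [Finset.disjoint_left]
    intro a ha hA'
    rw [Finset.mem_insert, Finset.mem_singleton] at ha
    rcases ha with ha | ha
    · exact (hAn hA').1 ha
    · exact (hAn hA').2 ha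
  have hv : ε (ind A) ∈ Vn ε i j := by
    refine ind_mem_Vn h.ev (fun h0 => (hAn h0).1 rfl) (fun h0 => (hAn h0).2 rfl) ?_
    rw [hA]
    exact (Nat.even_pow.mpr ⟨even_two, by omega⟩)
  -- labels inside and outside of `A`
  obtain ⟨k, hk⟩ : A.Nonempty := Finset.card_pos.mp (by omega)
  obtain ⟨l, hl, hlA⟩ := Finset.exists_mem_notMem_of_card_lt_card (s := A)
    (t := ({i, j} : Finset (Fin (2 ^ m + 1)))ᶜ) (by rw [hccard, hA]; omega)
  simp only [Finset.mem_compl, Finset.mem_insert, Finset.mem_singleton, not_or] at hl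
  have hkl : k ≠ l := fun h0 => hlA (h0 ▸ hk)
  have hkn := hAn hk
  obtain ⟨-, hcW, hT, hTc, hsq⟩ := fval _ hv
  have hxY : φ (ε (ind A)) ∈ zc (TT S V) := mem_zc.mpr ⟨hT, fun q hq => (hTc q hq).symm, by rw [pow_two]; exact hsq⟩
  have hbig := h.big
  have key := hbig.mem h.m3 hS2 S.isPGroup' hA (Finset.card_pair hij) hd hxY (by
    intro g hg σ hσ hσA hσe
    obtain ⟨g', ⟨hg'P, -⟩, hg'σ, hφ⟩ := fperm σ (mem_St_of_smul hij hσe)
    rw [hbig.act_eq hS2 S.isPGroup' hg hg'P hσ hg'σ hxY, ← (hφ _ hv).2, hg'σ, ind_comp, hσA])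
  -- `v` and its conjugate under `(k l)`
  have hconj : ∀ g, Acts ε g (Equiv.swap k l) → g * ε (ind A) * g⁻¹ = ε (ind A) * rr ε k l := by
    intro g hg
    rw [hg, ind_swap hk hlA, h.ev.add, h.ev.add]
    rfl
  have hrij : ∀ w ∈ o2 (centralizer ({rr ε i j} : Set G)), rr ε i j * w = w * rr ε i j := fun w hw =>
    (mem_centralizer_singleton_iff.mp (o2_le _ hw)).symm
  have hind : ε (ind ({i, j} : Finset (Fin (2 ^ m + 1)))) = rr ε i j := by
    unfold rr zz
    rw [← h.ev.add]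
    congr 1
    funext x
    simp only [ind, Pi.add_apply]
    by_cases h1 : x = i
    · subst h1
      rw [if_pos (Finset.mem_insert_self _ _), Pi.single_eq_same, Pi.single_eq_of_ne hij, add_zero]
    · by_cases h2 : x = j
      · subst h2
        rw [if_pos (Finset.mem_insert_of_mem (Finset.mem_singleton_self _)), Pi.single_eq_same,
          Pi.single_eq_of_ne hij.symm, zero_add]
      · rw [if_neg (by rw [Finset.mem_insert, Finset.mem_singleton]; tauto), Pi.single_eq_of_ne h1,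
          Pi.single_eq_of_ne h2, add_zero]
  -- `W` commutes with `v`
  have hvW : ∀ w ∈ o2 (centralizer ({rr ε i j} : Set G)), w * ε (ind A) = ε (ind A) * w := by
    intro w hw
    have hne : ∀ x, φ (ε (ind A)) = x → (∀ g ∈ NN ε i j, g * x * g⁻¹ = x) → False := by
      intro x hx hfix
      obtain ⟨g, ⟨-, hgN⟩, hgσ, hφ⟩ := fperm _ (swap_mem_St hkn hl)
      have h1 := (hφ _ hv).2
      rw [hx, hfix g hgN, hconj g hgσ, fmul _ hv _ (rr_mem_Vn hkn hl), hx] at h1
      have h2 : φ (rr ε k l) = 1 := by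
        have h3 : x * φ (rr ε k l) = x * 1 := by rw [h1, mul_one]
        exact mul_left_cancel h3
      exact rr_ne_one h.ev hn hkl (finj _ (rr_mem_Vn hkn hl) h2)
    rcases key with h1 | h1 | h1 | h1
    · exact (hne 1 h1 fun g _ => by group).elim
    · have h2 := hcW w hw
      rw [h1] at h2
      exact h2.symm
    · rw [hind] at h1
      exact (hne _ h1 fun g hg => mem_NN'.mp hg).elim
    · rw [hind] at h1
      have h2 := hcW w hw
      rw [h1] at h2
      have h3 : ε (ind A) * w * rr ε i j = w * ε (ind A) * rr ε i j := by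
        calc ε (ind A) * w * rr ε i j = ε (ind A) * (w * rr ε i j) := by group
          _ = ε (ind A) * rr ε i j * w := by rw [← hrij w hw]; group
          _ = w * (ε (ind A) * rr ε i j) := h2
          _ = _ := by group
      exact (mul_right_cancel h3).symm
  -- `W` commutes with `r_kl`
  have hrW : ∀ w ∈ o2 (centralizer ({rr ε i j} : Set G)), w * rr ε k l = rr ε k l * w := by
    intro w hw
    obtain ⟨g, hg, hgσ⟩ := h.ev.full (Equiv.swap k l)
    have hgN : g ∈ NN ε i j := mem_NN_of h.ev hgσ (swap_mem_St hkn hl)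
    have h1 : g⁻¹ * w * g ∈ o2 (centralizer ({rr ε i j} : Set G)) := by
      have := H.conjW (inv_mem hgN) hw
      rwa [inv_inv] at this
    have h2 := hvW _ h1
    have h3 : w * (g * ε (ind A) * g⁻¹) = g * ε (ind A) * g⁻¹ * w := by
      calc w * (g * ε (ind A) * g⁻¹) = g * (g⁻¹ * w * g * ε (ind A)) * g⁻¹ := by group
        _ = g * (ε (ind A) * (g⁻¹ * w * g)) * g⁻¹ := by rw [h2]
        _ = _ := by group
    rw [hconj g hgσ] at h3
    have h4 : ε (ind A) * (w * rr ε k l) = ε (ind A) * (rr ε k l * w) := by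
      calc ε (ind A) * (w * rr ε k l) = w * ε (ind A) * rr ε k l := by rw [hvW w hw]; group
        _ = w * (ε (ind A) * rr ε k l) := by group
        _ = ε (ind A) * rr ε k l * w := h3
        _ = _ := by group
    exact mul_left_cancel h4
  exact fun w hw => H.p2 hw hkn hl hkl (hrW w hw)

/-- **(F2)**: `O₂(C_G(r_ij))` centralises `z_k`, `k ≠ i, j`. -/
theorem pair [Finite G] {i j : Fin (2 ^ m + 1)} (hij : i ≠ j) {k : Fin (2 ^ m + 1)} (hki : k ≠ i) (hkj : k ≠ j)
    {q : G} (hq : q ∈ o2 (centralizer ({rr ε i j} : Set G))) : q * zz ε k = zz ε k * q := by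
  obtain ⟨i0, j0, h0, hsw⟩ := exists_swap (by have := h.m3; omega) h.ev h.le
    (MinSimple.Basic.not_dvd_relIndex S h.le)
  obtain ⟨σ, h1, h2, -⟩ := exists_perm hij h0
  obtain ⟨g, -, hσ⟩ := h.ev.full σ
  have h3 := PtCen.conj_o2_cent (g := g) hq
  rw [rr_conj hσ, h1, h2] at h3
  have h4 := h.pair0 h0 hsw _ h3 (zz ε (σ k)) (subset_closure ⟨σ k, fun h5 => hki (σ.injective (h5.trans h1.symm)),
    fun h5 => hkj (σ.injective (h5.trans h2.symm)), rfl⟩)
  rw [← zz_conj hσ] at h4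
  have h5 : g * (q * zz ε k) * g⁻¹ = g * (zz ε k * q) * g⁻¹ := by
    calc g * (q * zz ε k) * g⁻¹ = g * q * g⁻¹ * (g * zz ε k * g⁻¹) := by group
      _ = g * zz ε k * g⁻¹ * (g * q * g⁻¹) := h4
      _ = _ := by group
  exact mul_left_cancel (mul_right_cancel h5)

/-- `O₂(C_G(r_ij))` centralises `r_kl`. -/
theorem pair_rr [Finite G] {i j k l : Fin (2 ^ m + 1)} (hij : i ≠ j) (h1 : i ≠ k) (h2 : i ≠ l) (h3 : j ≠ k)
    (h4 : j ≠ l) {q : G} (hq : q ∈ o2 (NN ε i j)) : q * rr ε k l = rr ε k l * q := by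
  have h5 := h.pair hij h1.symm h3.symm hq
  have h6 := h.pair hij h2.symm h4.symm hq
  unfold rr
  calc q * (zz ε k * zz ε l) = q * zz ε k * zz ε l := by group
    _ = zz ε k * (q * zz ε l) := by rw [h5]; group
    _ = zz ε k * zz ε l * q := by rw [h6]; group

/-- **(H1)**: `O₂(C_G(r_ij)) ≤ P`. -/
theorem o2_le_P [Finite G] {i j : Fin (2 ^ m + 1)} (hij : i ≠ j) :
    o2 (centralizer ({rr ε i j} : Set G)) ≤ P := by
  have hf : Fact (Nat.Prime 2) := ⟨Nat.prime_two⟩
  exact F4Leaf.HOne.o2_le_P (by have := h.m3; omega) h.ev h.fix0 h.le S.isPGroup' S.not_dvd_index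
    (fun i j k l hij _ h1 h2 h3 h4 x hx => h.pair_rr hij h1 h2 h3 h4 hx) hij

theorem facts [Finite G] : S5.NatBig.Facts ε P where
  pt := h.pt
  pair _ _ hij _ hki hkj _ hq := h.pair hij hki hkj hq
  le _ _ hij := h.o2_le_P hij

end Sit

/-- The facts (F1), (F2), (H1) for all even-subset modules of degree `2^m + 1`, `m ≥ 3`. -/
theorem allFacts : S5.NatBig.AllFacts.{u} := by
  intro G _ _ hG S P m ε hm hP hev h0
  have h : Sit S (zl (S : Subgroup G) P) P ε := ⟨hG, hm, hev, hP.le, h0, zc_le_zl _ _⟩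
  exact h.facts

end Cfsg.Agent.Omega.NSix.AllFacts
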