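import Cfsg.Agent.Omega.OM.ROneSym
import Cfsg.Agent.Omega.NSix.NoTk

/-!
# OMEGA N6 (B2), #14749 (helper666): `J(S) ≰ O₂(P)` implies `O₂(C_G(n)) ≤ S`

`P ∈ P(S)` of type `S_{2^m+1}` with `C_V(O²(P)) = 1`, `J(S) ≰ O₂(P)`, `(i j)` a transposition induced by `S` on
`V = V_P`, `n = r_ij`.

* `mem_bau_of` : a 2-subgroup `T ≥ bau S` satisfies `C_T(Ω₁(Z(J(S)))) = bau S`;
* `zj_pair` : `n ∈ Ω₁(Z(J(S)))` and `(i j)` is induced by `J(S)`;
* `zj_le_V0` : `Ω₁(Z(J(S))) ≤ n^⊥`;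
* `le_bau` : a 2-subgroup `W` normalised by `C_G(n)` and centralising `n^⊥` is contained in `bau S`.
-/

set_option autoImplicit false

namespace Cfsg.Agent.Omega.NSix.JIn

open Subgroup Cfsg Cfsg.Agent.ZN Cfsg.Agent.ZN.ChoiceBase Cfsg.Agent.ZN.ChoiceSit
open Cfsg.Agent.Omega.S5.Def Cfsg.Agent.Omega.S5.Syl Cfsg.Agent.Omega.S5.Pair
open Cfsg.Agent.Omega.NSix.Base Cfsg.Agent.Omega.NSix.Basic
open Cfsg.Agent.Omega.FFThm (SymK)
open Cfsg.Agent.Omega.FrameFF (cv Free)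
open Cfsg.Agent.Omega.MinPar

universe u w

variable {G : Type u} [Group G]

/-! ### The Baumann subgroup -/

/-- A 2-subgroup `T ≥ bau S` satisfies `C_T(Ω₁(Z(J(S)))) = bau S`. -/
theorem mem_bau_of [Finite G] (S : Sylow 2 G) {T : Subgroup G} (hT : IsPGroup 2 T)
    (h : bau (S : Subgroup G) ≤ T) {w : G} (hw : w ∈ T)
    (hc : ∀ z ∈ zj (S : Subgroup G), z * w = w * z) : w ∈ bau (S : Subgroup G) := by
  have h2 : Fact (Nat.Prime 2) := ⟨Nat.prime_two⟩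
  obtain ⟨R, hR⟩ := hT.exists_le_sylow
  obtain ⟨g, hg⟩ := MulAction.exists_smul_eq G S R
  have e : (R : Subgroup G) = cj g (S : Subgroup G) := by rw [← hg, NoTk.coe_smul]
  have hm : mm (R : Subgroup G) = mm (S : Subgroup G) := by rw [e, mm_cj]
  have h1 : jj (S : Subgroup G) ≤ jj (R : Subgroup G) := by
    have h3 := jj_mono (h.trans hR) (by rw [mm_bau, hm])
    rwa [jj_bau] at h3
  have h3 : jj (S : Subgroup G) = jj (R : Subgroup G) :=
    Subgroup.eq_of_le_of_card_ge h1 (by rw [e, jj_cj, card_cj])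
  have h4 : zj (S : Subgroup G) = zj (R : Subgroup G) := zj_congr h3
  have h5 : bau (S : Subgroup G) ≤ bau (R : Subgroup G) := fun x hx =>
    mem_bau.2 ⟨hR (h hx), fun y hy => (mem_bau.1 hx).2 y (h4 ▸ hy)⟩
  have h6 : bau (S : Subgroup G) = bau (R : Subgroup G) :=
    Subgroup.eq_of_le_of_card_ge h5 (by rw [e, bau_cj, card_cj])
  rw [h6]
  exact mem_bau.2 ⟨hR hw, fun y hy => hc y (h4 ▸ hy)⟩

/-! ### Transvections are transpositions -/

theorem swap_of_tv {n : ℕ} (hn : 5 ≤ n) {V L : Subgroup G} {ε : (Fin n → ZMod 2) → G} (h : EvenSet n V L ε)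
    {t d : G} {σ : Equiv.Perm (Fin n)} (hσ : Acts ε t σ)
    (hd : ∀ v ∈ V, t * v * t⁻¹ = v ∨ t * v * t⁻¹ = d * v) (hne : ¬ ∀ v ∈ V, t * v = v * t) :
    ∃ c e, c ≠ e ∧ σ = Equiv.swap c e ∧ d = rr ε c e := by
  have hn3 : 3 ≤ n := by omega
  have hd' : ∀ k, σ k ≠ k → d = rr ε k (σ k) := by
    intro k hk
    rcases hd _ (zz_mem h k) with h1 | h1
    · rw [zz_conj hσ] at h1
      exact absurd (h.single_inj hn3 h1) hk
    · rw [zz_conj hσ] at h1
      have h2 : d = zz ε (σ k) * zz ε k := by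
        rw [h1, mul_assoc, zz_sq h, mul_one]
      rw [h2, zz_comm h]
      rfl
  obtain ⟨c, hc⟩ : ∃ c, σ c ≠ c := by
    by_contra hcon
    push Not at hcon
    apply hne
    have h1 : σ = 1 := Equiv.ext hcon
    subst h1
    intro v hv
    exact (mem_centralizer_iff.mp (h.acts_one_iff.mp hσ) v hv).symm
  have hmv : ∀ k, σ k ≠ k → k = c ∨ k = σ c := by
    intro k hk
    by_contra hcon
    push Not at hcon
    exact TkPair.rr_ne h hn (Ne.symm hk) hcon.1.symm hcon.2.symm ((hd' k hk).symm.trans (hd' c hc))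
  refine ⟨c, σ c, hc.symm, ?_, hd' c hc⟩
  have h1 : σ (σ c) ≠ σ c := fun h0 => hc (σ.injective h0)
  have h2 : σ (σ c) = c := by
    have h3 : σ (σ (σ c)) ≠ σ (σ c) := fun h0 => h1 (σ.injective h0)
    rcases hmv _ h3 with h4 | h4
    · exact h4
    · exact absurd h4 h1
  ext k
  congr 1
  by_cases hk : k = c
  · rw [hk, Equiv.swap_apply_left]
  by_cases hk' : k = σ c
  · rw [hk', h2, Equiv.swap_apply_right]
  rw [Equiv.swap_apply_of_ne_of_ne hk hk']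
  by_contra hcon
  rcases hmv k hcon with h3 | h3
  · exact hk h3
  · exact hk' h3

/-! ### The position of `J(S)` -/

section

variable {S : Sylow 2 G} {P : Subgroup G} {m : ℕ} {ε : (Fin (2 ^ m + 1) → ZMod 2) → G}

/-- `n ∈ Ω₁(Z(J(S)))`, and the transposition of `n` is induced by `J(S)`. -/
theorem zj_pair [Finite G] (hm : 2 ≤ m) {V Q : Subgroup G} {ι : Type w} {N : ι → Subgroup G} {d t r : ι → G}
    (h : EvenSet (2 ^ m + 1) V P ε) (hSP : (S : Subgroup G) ≤ P) (hf : Fix0 ε (S : Subgroup G))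
    (B : SQ1.BauS.In P (S : Subgroup G) Q V N d t r) (i₀ : ι) {i j : Fin (2 ^ m + 1)} (hij : i ≠ j)
    (hsw : ∃ a ∈ (S : Subgroup G), Acts ε a (Equiv.swap i j)) :
    rr ε i j ∈ zj (S : Subgroup G) ∧ ∃ b ∈ jj (S : Subgroup G), Acts ε b (Equiv.swap i j) := by
  have hyp := NoTk.hyp S hm h hSP hf hij hsw
  have h5 := five_le hm
  obtain ⟨σ, hσ⟩ := h.perm _ (B.tH i₀)
  have hne : ¬ ∀ v ∈ V, t i₀ * v = v * t i₀ := by
    intro hcon
    have hmV : r i₀ * d i₀ * (r i₀)⁻¹ ∈ V := B.NV i₀ (B.r_N i₀ (B.dN i₀))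
    have h1 := B.t_m i₀
    rw [hcon _ hmV, mul_inv_cancel_right, right_eq_mul] at h1
    exact B.d1 i₀ h1
  obtain ⟨c, e, hce, hσe, hde⟩ := swap_of_tv h5 h hσ (B.t_comm i₀) hne
  subst hσe
  have hc0 : c ≠ 0 := by
    intro h0
    have h1 := hf _ (B.tT i₀) _ hσ
    rw [h0, Equiv.swap_apply_left] at h1
    exact hce (h0.trans h1.symm)
  obtain ⟨s, hs, τ, hτ, hτc⟩ := trans (by omega : 1 ≤ m) h hSP (MinSimple.Basic.not_dvd_relIndex S hSP) hf hc0
    hyp.i_ne_zero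
  have hb := hτ.conj hσ
  have h1 : τ * Equiv.swap c e * τ⁻¹ = Equiv.swap i (τ e) := by rw [← Equiv.swap_apply_apply, hτc]
  rw [h1] at hb
  have hie : τ e ≠ i := by
    rw [← hτc]
    exact fun h0 => hce (τ.injective h0.symm)
  have hbJ : s * t i₀ * s⁻¹ ∈ jj (S : Subgroup G) := SQ1.FFSym.SyT.J_norm hs (B.tJ i₀)
  have hej : τ e = j := by
    by_contra hne'
    obtain ⟨a, ha, haj⟩ := hsw
    have h2 := hb.conj haj
    have h3 : Equiv.swap i (τ e) * Equiv.swap i j * (Equiv.swap i (τ e))⁻¹ = Equiv.swap (τ e) j := by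
      rw [← Equiv.swap_apply_apply, Equiv.swap_apply_left,
        Equiv.swap_apply_of_ne_of_ne hij.symm (Ne.symm hne')]
    rw [h3] at h2
    have hbS := jj_le _ hbJ
    have h4 := hyp.fix_j (mul_mem (mul_mem hbS ha) (inv_mem hbS)) h2
      (Equiv.swap_apply_of_ne_of_ne hie.symm hij)
    rw [Equiv.swap_apply_right] at h4
    exact hne' h4
  rw [hej] at hb
  refine ⟨?_, _, hbJ, hb⟩
  have h2 : rr ε i j = s * d i₀ * s⁻¹ := by rw [hde, rr_conj hτ, hτc, hej]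
  rw [h2]
  exact SQ1.Bau.In.T_norm_Z _ hs (B.d_mem_Z i₀)

/-- `Ω₁(Z(J(S))) ≤ n^⊥`. -/
theorem zj_le_V0 [Finite G] (hm : 2 ≤ m) {V : Subgroup G} (h : EvenSet (2 ^ m + 1) V P ε)
    (hz : zj (S : Subgroup G) ≤ V) {i j : Fin (2 ^ m + 1)} (hij : i ≠ j)
    (hb : ∃ b ∈ jj (S : Subgroup G), Acts ε b (Equiv.swap i j)) :
    zj (S : Subgroup G) ≤ CosetAct.V0 ε i j := by
  intro z hzz
  obtain ⟨b, hb, hbs⟩ := hb
  obtain ⟨x, rfl⟩ := h.surj z (hz hzz)
  exact CosetAct.mem_V0 h ((swap_comm_iff h (three_le (by omega)) hij hbs x).mp ((mem_zj.1 hzz).2.2 b hb))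

/-- **(B2)**, general form. -/
theorem le_bau_of [Finite G] (hm : 2 ≤ m) {V Q : Subgroup G} {ι : Type w} {N : ι → Subgroup G} {d t r : ι → G}
    (h : EvenSet (2 ^ m + 1) V P ε) (hSP : (S : Subgroup G) ≤ P) (hf : Fix0 ε (S : Subgroup G))
    (B : SQ1.BauS.In P (S : Subgroup G) Q V N d t r) (i₀ : ι) (hz : zj (S : Subgroup G) ≤ V)
    {i j : Fin (2 ^ m + 1)} (hij : i ≠ j) (hsw : ∃ a ∈ (S : Subgroup G), Acts ε a (Equiv.swap i j))
    {W : Subgroup G} (hW : IsPGroup 2 W)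
    (hn : (S : Subgroup G) ⊓ centralizer ({rr ε i j} : Set G) ≤ normalizer (W : Set G))
    (hc : ∀ w ∈ W, ∀ v ∈ CosetAct.V0 ε i j, w * v = v * w) : W ≤ bau (S : Subgroup G) := by
  obtain ⟨h1, h2⟩ := zj_pair hm h hSP hf B i₀ hij hsw
  have h3 := zj_le_V0 hm h hz hij h2
  have hT1 : IsPGroup 2 ((S : Subgroup G) ⊓ centralizer ({rr ε i j} : Set G) : Subgroup G) :=
    S.isPGroup'.to_le inf_le_left
  have hT : IsPGroup 2 (((S : Subgroup G) ⊓ centralizer ({rr ε i j} : Set G)) ⊔ W : Subgroup G) :=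
    hT1.to_sup_of_normal_right' hW hn
  have hB : bau (S : Subgroup G) ≤ (S : Subgroup G) ⊓ centralizer ({rr ε i j} : Set G) := by
    refine le_inf (bau_le _) fun x hx => ?_
    rw [mem_centralizer_singleton_iff]
    exact ((mem_bau.1 hx).2 _ h1).symm
  intro w hw
  exact mem_bau_of S hT (hB.trans le_sup_left) (mem_sup_right hw)
    fun z hzz => (hc w hw z (h3 hzz)).symm

/-- **(B2)** (bb #14749): `P ∈ P(S)` of type `S_{2^m+1}`, `C_V(O²(P)) = 1`, `J(S) ≰ O₂(P)`: a 2-subgroup `W` which is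
normalised by `C_S(n)` and centralises `n^⊥` is contained in `bau S ≤ S`. -/
theorem le_bau [Finite G] (hG : IsCharacteristicTwoType G) (hP : IsPar (S : Subgroup G) P)
    (hm : 2 ≤ m)
    (N : SymK (S : Subgroup G) P (zl (S : Subgroup G) P) (cv (S : Subgroup G) P) 1 m)
    (hF : Free (S : Subgroup G) P) (hJ : ¬ jj (S : Subgroup G) ≤ o2 P)
    (h : EvenSet (2 ^ m + 1) (zl (S : Subgroup G) P) P ε) (hf : Fix0 ε (S : Subgroup G))
    {i j : Fin (2 ^ m + 1)} (hij : i ≠ j) (hsw : ∃ a ∈ (S : Subgroup G), Acts ε a (Equiv.swap i j))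
    {W : Subgroup G} (hW : IsPGroup 2 W)
    (hn : (S : Subgroup G) ⊓ centralizer ({rr ε i j} : Set G) ≤ normalizer (W : Set G))
    (hc : ∀ w ∈ W, ∀ v ∈ CosetAct.V0 ε i j, w * v = v * w) : W ≤ bau (S : Subgroup G) := by
  obtain ⟨ι, J, X, Y, t, r, h1, -, h2⟩ := OM.symOut (FFThm.syl_of_sylow S hP.le) hP.toIsMinPar
    (hP.isLoc.char2 S hG) hJ Nat.one_pos (by omega) N hF
  obtain ⟨i₀⟩ := h2.ne
  exact le_bau_of hm h hP.le hf h2.bau i₀ h2.zj_le hij hsw hW hn hc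

/-- **(B2)**, for `W = O₂(C_G(n))`: `W ≤ bau S ≤ S ≤ P`, i.e. (H1). -/
theorem o2_le [Finite G] (hG : IsCharacteristicTwoType G) (hP : IsPar (S : Subgroup G) P)
    (hm : 2 ≤ m)
    (N : SymK (S : Subgroup G) P (zl (S : Subgroup G) P) (cv (S : Subgroup G) P) 1 m)
    (hF : Free (S : Subgroup G) P) (hJ : ¬ jj (S : Subgroup G) ≤ o2 P)
    (h : EvenSet (2 ^ m + 1) (zl (S : Subgroup G) P) P ε) (hf : Fix0 ε (S : Subgroup G))
    {i j : Fin (2 ^ m + 1)} (hij : i ≠ j) (hsw : ∃ a ∈ (S : Subgroup G), Acts ε a (Equiv.swap i j))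
    (hc : ∀ w ∈ o2 (centralizer ({rr ε i j} : Set G)), ∀ v ∈ CosetAct.V0 ε i j, w * v = v * w) :
    o2 (centralizer ({rr ε i j} : Set G)) ≤ bau (S : Subgroup G) :=
  le_bau hG hP hm N hF hJ h hf hij hsw (MinSimple.VModule.o2_isPGroup _)
    (inf_le_right.trans (MinSimple.VModule.le_normalizer_o2 _)) hc

end

end Cfsg.Agent.Omega.NSix.JIn
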