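import Cfsg.Agent.Omega.NSix.JNot
import Cfsg.Agent.Omega.NSix.CaseJ.Base
import Cfsg.Agent.Omega.NSix.JIn

/-!
# OMEGA N6, #16862 (helper556): `J(S) ≰ O₂(P)`, the assembly  (helper537)

`main` : `CaseJ.Base.Hyp S P ε`, `⟨P, C_G(Z)⟩` 2-local (THEOREM SN), (5), (7), (8) of #16037 (helper628,
`NSix/CaseJ`), **(N)**: `C_G(r_ij) ≤ N_G(V)` for all pairs.
-/

set_option autoImplicit false

namespace Cfsg.Agent.Omega.NSix.JNotPlug

open Subgroup Cfsg Cfsg.Agent.Omega.MinPar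
open Cfsg.Agent.ZN (o2 zc zl jj zj)
open Cfsg.Agent.ZN.ChoiceBase (mem_zj)
open Cfsg.Agent.Omega.FrameNOFF (CZ)
open Cfsg.Agent.Omega.S5.Def Cfsg.Agent.Omega.S5.Syl
open Cfsg.Agent.Omega.NSix.Base Cfsg.Agent.Omega.NSix.Basic
open Cfsg.Agent.Omega.NSix.Zero (WP mem_WP)
open Cfsg.Agent.Omega.NSix.CaseJ.Base (Hyp)
open Cfsg.Agent.Omega.NSix.JNot
open Cfsg.Agent.MinSimple.MinParabolic (IsMinPar)

universe u

variable {G : Type u} [Group G] [Finite G] {S : Sylow 2 G} {P : Subgroup G} {m : ℕ}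
  {ε : (Fin (2 ^ m + 1) → ZMod 2) → G}

/-- `J(S) ≤ C_G(r_ij)` if `S` induces `(i j)`. -/
theorem jj_le (h : Hyp S P ε) {i j : Fin (2 ^ m + 1)} (hij : i ≠ j)
    (hsw : ∃ b ∈ (S : Subgroup G), Acts ε b (Equiv.swap i j)) :
    jj (S : Subgroup G) ≤ centralizer ({rr ε i j} : Set G) := by
  obtain ⟨ι, X, Y, N, t, r, ⟨i₀⟩, hD⟩ := h.exists_dat
  have h1 := (JIn.zj_pair h.hm h.ev h.SP h.fix0 hD.bas i₀ hij hsw).1
  intro x hx
  rw [mem_centralizer_singleton_iff]
  exact (mem_zj.1 h1).2.2 x hx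

/-- **#16862**: case `J(S) ≰ O₂(P)`. -/
theorem main (h : Hyp S P ε) (hloc : ¬ NonLoc P (CZ (S : Subgroup G)))
    (h5 : normalizer (jj (S : Subgroup G) : Set G) ≤ normalizer (zl (S : Subgroup G) P : Set G))
    (h7 : ∀ (v g : G), v ∈ zl (S : Subgroup G) P → g * v * g⁻¹ ∈ zl (S : Subgroup G) P →
      ∃ k ∈ normalizer (zl (S : Subgroup G) P : Set G), k * v * k⁻¹ = g * v * g⁻¹)
    (h8 : ∀ i j, i ≠ j → (∃ b ∈ (S : Subgroup G), Acts ε b (Equiv.swap i j)) →
      ∀ P₁ : Subgroup G, IsMinPar ((S : Subgroup G) ⊓ centralizer ({rr ε i j} : Set G)) P₁ →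
        P₁ ≤ centralizer ({rr ε i j} : Set G) → ¬ P₁ ≤ normalizer (zl (S : Subgroup G) P : Set G) →
          P₁ ≤ centralizer ((zl (S : Subgroup G) P ⊓ centralizer (((S : Subgroup G) ⊓
            centralizer ({rr ε i j} : Set G) : Subgroup G) : Set G) : Subgroup G) : Set G))
    (hN : ∃ i j, i ≠ j ∧ ∃ g ∈ WP ε i j, ¬ g ∈ centralizer (zl (S : Subgroup G) P : Set G)) :
    P ⊔ CZ (S : Subgroup G) ≤ normalizer (zl (S : Subgroup G) P : Set G) ∧
      ∀ i j, i ≠ j → NN ε i j ≤ normalizer (zl (S : Subgroup G) P : Set G) := by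
  have hX : IsLoc (S : Subgroup G) (P ⊔ CZ (S : Subgroup G)) := (not_nonLoc_iff S h.SP).1 hloc
  set X := P ⊔ CZ (S : Subgroup G) with hXdef
  have hm1 : 1 ≤ m := by have := h.hm; omega
  have h5' : 5 ≤ 2 ^ m + 1 := h.five
  have hz := fun {x : G} => zc_iff (x := x) h.hG hm1 h.hP h.ev h.fix0
  have hCX : centralizer ({zz ε 0} : Set G) ≤ X := by
    refine le_trans ?_ le_sup_right
    intro x hx
    rw [mem_centralizer_singleton_iff] at hx
    rw [CZ, mem_centralizer_iff]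
    intro y hy
    rcases hz.1 hy with rfl | rfl
    · rw [one_mul, mul_one]
    · exact hx.symm
  have hPX : P ≤ X := le_sup_left
  have hNV := normalizer_le h.hm h.hP h.ev h.fix0 hPX hCX
  -- `N_ij ≤ X` for the transpositions of `S`
  obtain ⟨i, j, hij, hsw⟩ := PairCen.exists_swap_mem h.hm h.ev
    (MinSimple.Basic.not_dvd_relIndex S h.SP)
  have hNX : NN ε i j ≤ X := by
    have hJ := jj_le h hij hsw
    have hJS : jj (S : Subgroup G) ≤ (S : Subgroup G) := Cfsg.Agent.ZN.jj_le _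
    have hJT : jj ((S : Subgroup G) ⊓ centralizer ({rr ε i j} : Set G) : Subgroup G) =
        jj (S : Subgroup G) := Cfsg.Agent.ZN.jj_eq_of_le (le_inf hJS hJ) inf_le_left
    refine Cfsg.Agent.MinSimple.MinParabolic.le_of_forall
      (S := (S : Subgroup G) ⊓ centralizer ({rr ε i j} : Set G)) inf_le_right ?_ ?_
    · refine inf_le_right.trans ?_
      have h1 := Cfsg.Agent.ZN.normalizer_le_normalizer_jj
        ((S : Subgroup G) ⊓ centralizer ({rr ε i j} : Set G) : Subgroup G)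
      rw [hJT] at h1
      exact h1.trans (h5.trans hNV)
    · intro P₁ hP₁ hP₁N
      by_cases h1 : P₁ ≤ normalizer (zl (S : Subgroup G) P : Set G)
      · exact h1.trans hNV
      · refine (h8 i j hij hsw P₁ hP₁ hP₁N h1).trans ((centralizer_le ?_).trans hCX)
        rw [Set.singleton_subset_iff]
        refine mem_inf.2 ⟨zz_mem h.ev 0, mem_centralizer_iff.2 fun s hs => ?_⟩
        exact ((MinSimple.VModule.mem_zc.1 (hz.2 (Or.inr rfl))).2.1 s (mem_inf.1 hs).1)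
  have hfus : ∀ i j, i ≠ j → ∀ g ∈ X, zz ε 0 ≠ g * rr ε i j * g⁻¹ := by
    intro i j hij g _ he
    obtain ⟨k, hk, hk1⟩ := h7 (rr ε i j) g (rr_mem h.ev i j) (by rw [← he]; exact zz_mem h.ev 0)
    rw [← he] at hk1
    obtain ⟨σ, hσ⟩ := (Norm.evenSet' h.hm S h.ev h.SP h.fix0).perm k hk
    rw [rr_conj hσ] at hk1
    have h1 : ε (Pi.single (σ i) 1 + Pi.single (σ j) 1 + Pi.single 0 1) = 1 := by
      rw [h.ev.add, h.ev.add]
      change rr ε (σ i) (σ j) * zz ε 0 = 1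
      rw [hk1, zz_sq h.ev]
    classical
    obtain ⟨l, hl⟩ : ∃ l : Fin (2 ^ m + 1), l ∉ ({σ i, σ j, 0} : Finset (Fin (2 ^ m + 1))) := by
      by_contra hcon
      push Not at hcon
      have h8 : (Finset.univ : Finset (Fin (2 ^ m + 1))) ⊆ {σ i, σ j, 0} := fun l _ => hcon l
      have h9 := Finset.card_le_card h8
      have h10 : ({σ i, σ j, 0} : Finset (Fin (2 ^ m + 1))).card ≤ 3 := Finset.card_le_three
      rw [Finset.card_univ, Fintype.card_fin] at h9
      omega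
    simp only [Finset.mem_insert, Finset.mem_singleton, not_or] at hl
    have h0 : (Pi.single (σ i) 1 + Pi.single (σ j) 1 + Pi.single 0 1 :
        Fin (2 ^ m + 1) → ZMod 2) l = 0 := by
      simp only [Pi.add_apply]
      rw [Pi.single_eq_of_ne hl.1, Pi.single_eq_of_ne hl.2.1, Pi.single_eq_of_ne hl.2.2]
      rfl
    rcases (h.ev.ker _).1 h1 with h2 | h2
    · -- the sum of the coordinates
      have h3 := congrArg (fun x : Fin (2 ^ m + 1) → ZMod 2 => ∑ l, x l) h2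
      simp only [Pi.add_apply, Finset.sum_add_distrib, Finset.sum_pi_single', Finset.mem_univ,
        if_true, Pi.zero_apply, Finset.sum_const_zero] at h3
      revert h3; decide
    · have h3 := congrFun h2 l
      rw [h0, Pi.one_apply] at h3
      exact zero_ne_one h3
  obtain ⟨k, l, hkl, hN'⟩ := hN
  have hXV : X ≤ normalizer (zl (S : Subgroup G) P : Set G) :=
    nn_le h.hG h.hm h.hP h.ev h.fix0 hX hPX hkl (NN_le_of_one h.ev hPX hij hNX hkl) (hfus k l hkl) hN'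
  exact ⟨hXV, fun a b hab => (NN_le_of_one h.ev hPX hij hNX hab).trans hXV⟩

end Cfsg.Agent.Omega.NSix.JNotPlug
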