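import Mathlib

/-!
# OMEGA N6, bb #13864 (A3): an equivariant homomorphism fixed by `W` and `T`

`V_n ≤ A`, `A` abelian, `V_n` of exponent 2 and not trivial; the 2-groups `W`, `T` and the group `E` act on `A` by
conjugation, `E` and `T` normalise `V_n`, `T` normalises `E` and `W`, and `W` commutes with `E` on `A`.  Then there
is a non-trivial homomorphism `φ : V_n → A` which commutes with `E` and `T` and whose image is centralised by `W`.
-/

set_option autoImplicit false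

namespace Cfsg.Agent.Omega.NSix.FixHom

open Subgroup

universe u

variable {G : Type u} [Group G]

/-- The homomorphisms `V_n → A` which commute with `E`, as functions on `G` which are 1 outside `V_n`. -/
def homs (Vn A E : Subgroup G) (hA : ∀ a ∈ A, ∀ b ∈ A, a * b = b * a) : Subgroup (G → G) where
  carrier := {f | (∀ v ∈ Vn, f v ∈ A) ∧ (∀ v, v ∉ Vn → f v = 1) ∧ (∀ v ∈ Vn, ∀ w ∈ Vn, f (v * w) = f v * f w) ∧
    ∀ e ∈ E, ∀ v ∈ Vn, f (e * v * e⁻¹) = e * f v * e⁻¹}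
  one_mem' := by
    refine ⟨fun v _ => A.one_mem, fun v _ => rfl, fun v _ w _ => ?_, fun e _ v _ => ?_⟩
    · exact (one_mul (1 : G)).symm
    · change (1 : G) = e * 1 * e⁻¹
      group
  mul_mem' := by
    rintro f g ⟨f1, f2, f3, f4⟩ ⟨g1, g2, g3, g4⟩
    refine ⟨fun v hv => A.mul_mem (f1 v hv) (g1 v hv), fun v hv => ?_, fun v hv w hw => ?_, fun e he v hv => ?_⟩
    · change f v * g v = 1
      rw [f2 v hv, g2 v hv, one_mul]
    · change f (v * w) * g (v * w) = f v * g v * (f w * g w)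
      rw [f3 v hv w hw, g3 v hv w hw]
      calc f v * f w * (g v * g w) = f v * (f w * g v) * g w := by group
        _ = f v * (g v * f w) * g w := by rw [hA _ (f1 w hw) _ (g1 v hv)]
        _ = _ := by group
    · change f (e * v * e⁻¹) * g (e * v * e⁻¹) = e * (f v * g v) * e⁻¹
      rw [f4 e he v hv, g4 e he v hv]
      group
  inv_mem' := by
    rintro f ⟨f1, f2, f3, f4⟩
    refine ⟨fun v hv => A.inv_mem (f1 v hv), fun v hv => ?_, fun v hv w hw => ?_, fun e he v hv => ?_⟩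
    · change (f v)⁻¹ = 1
      rw [f2 v hv, inv_one]
    · change (f (v * w))⁻¹ = (f v)⁻¹ * (f w)⁻¹
      rw [f3 v hv w hw, hA _ (f1 v hv) _ (f1 w hw), mul_inv_rev]
    · change (f (e * v * e⁻¹))⁻¹ = e * (f v)⁻¹ * e⁻¹
      rw [f4 e he v hv]
      group

/-- A 2-group acting on a group of even order, by maps fixing 1, has a fixed point different from 1. -/
theorem exists_fixed {X : Type u} [Group X] [Finite X] {T : Type u} [Group T] (hT : IsPGroup 2 T)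
    (act : MulAction T X) (h1 : ∀ t : T, t • (1 : X) = 1) (h2 : 2 ∣ Nat.card X) :
    ∃ x : X, x ≠ 1 ∧ ∀ t : T, t • x = x := by
  have hf : Fact (Nat.Prime 2) := ⟨Nat.prime_two⟩
  obtain ⟨w, hw, hw1⟩ := hT.exists_fixed_point_of_prime_dvd_card_of_fixed_point X h2 (a := (1 : X)) h1
  exact ⟨w, fun h => hw1 h.symm, hw⟩

theorem two_dvd {X : Type u} [Group X] [Finite X] {x : X} (hx : x ≠ 1) (hx2 : x * x = 1) : 2 ∣ Nat.card X := by
  have hf : Fact (Nat.Prime 2) := ⟨Nat.prime_two⟩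
  have h1 : orderOf x ∣ Nat.card X := orderOf_dvd_natCard _
  have h2 : orderOf x = 2 := by
    apply orderOf_eq_prime
    · rwa [pow_two]
    · exact hx
  rwa [h2] at h1

variable [Finite G]

theorem exists_hom {Vn A E W T : Subgroup G} (hVA : Vn ≤ A) (hne : Vn ≠ ⊥)
    (hA : ∀ a ∈ A, ∀ b ∈ A, a * b = b * a) (hsq : ∀ a ∈ A, a * a = 1)
    (hW : IsPGroup 2 W) (hT : IsPGroup 2 T)
    (hEV : ∀ e ∈ E, ∀ v ∈ Vn, e * v * e⁻¹ ∈ Vn) (hTV : ∀ t ∈ T, ∀ v ∈ Vn, t * v * t⁻¹ ∈ Vn)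
    (hWA : ∀ w ∈ W, ∀ a ∈ A, w * a * w⁻¹ ∈ A)
    (hTA : ∀ t ∈ T, ∀ a ∈ A, t * a * t⁻¹ ∈ A) (hTW : ∀ t ∈ T, ∀ w ∈ W, t * w * t⁻¹ ∈ W)
    (hTE : ∀ t ∈ T, ∀ e ∈ E, t * e * t⁻¹ ∈ E)
    (hWE : ∀ w ∈ W, ∀ e ∈ E, ∀ a ∈ A, w * (e * a * e⁻¹) * w⁻¹ = e * (w * a * w⁻¹) * e⁻¹) :
    ∃ φ : G → G, (∀ v ∈ Vn, φ v ∈ A) ∧ (∀ v ∈ Vn, ∀ w ∈ Vn, φ (v * w) = φ v * φ w) ∧
      (∃ v ∈ Vn, φ v ≠ 1) ∧ (∀ w ∈ W, ∀ v ∈ Vn, w * φ v * w⁻¹ = φ v) ∧
      ∀ g ∈ E ⊔ T, ∀ v ∈ Vn, g * v * g⁻¹ ∈ Vn ∧ φ (g * v * g⁻¹) = g * φ v * g⁻¹ := by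
  classical
  have hf : Fact (Nat.Prime 2) := ⟨Nat.prime_two⟩
  let H := homs Vn A E hA
  have hfin : Finite (G → G) := inferInstance
  -- the inclusion
  let ι : G → G := fun v => if v ∈ Vn then v else 1
  have hι : ∀ v ∈ Vn, ι v = v := fun v hv => if_pos hv
  have hιH : ι ∈ H := by
    refine ⟨fun v hv => ?_, fun v hv => if_neg hv, fun v hv w hw => ?_, fun e he v hv => ?_⟩
    · rw [hι v hv]
      exact hVA hv
    · rw [hι v hv, hι w hw, hι _ (Vn.mul_mem hv hw)]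
    · rw [hι v hv, hι _ (hEV e he v hv)]
  have hι1 : ι ≠ 1 := by
    intro h0
    apply hne
    rw [eq_bot_iff]
    intro v hv
    rw [mem_bot, ← hι v hv, h0]
    rfl
  have hsqH : ∀ f ∈ H, f * f = 1 := by
    rintro f ⟨f1, f2, -, -⟩
    funext v
    change f v * f v = 1
    by_cases hv : v ∈ Vn
    · exact hsq _ (f1 v hv)
    · rw [f2 v hv, one_mul]
  have hcard : 2 ∣ Nat.card H := two_dvd (x := (⟨ι, hιH⟩ : H)) (fun h => hι1 (congrArg Subtype.val h))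
    (Subtype.ext (hsqH ι hιH))
  -- the action of `W`
  have hWH : ∀ w ∈ W, ∀ f ∈ H, (fun v => w * f v * w⁻¹) ∈ H := by
    rintro w hw f ⟨f1, f2, f3, f4⟩
    refine ⟨fun v hv => hWA w hw _ (f1 v hv), fun v hv => ?_, fun v hv v' hv' => ?_, fun e he v hv => ?_⟩
    · change w * f v * w⁻¹ = 1
      rw [f2 v hv]
      group
    · change w * f (v * v') * w⁻¹ = w * f v * w⁻¹ * (w * f v' * w⁻¹)
      rw [f3 v hv v' hv']
      group
    · change w * f (e * v * e⁻¹) * w⁻¹ = e * (w * f v * w⁻¹) * e⁻¹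
      rw [f4 e he v hv]
      exact hWE w hw e he _ (f1 v hv)
  let actW : MulAction W H :=
    { smul := fun w f => ⟨fun v => w * (f : G → G) v * (w : G)⁻¹, hWH w w.2 f f.2⟩
      one_smul := fun f => Subtype.ext (funext fun v => by
        change (1 : G) * (f : G → G) v * (1 : G)⁻¹ = (f : G → G) v
        group)
      mul_smul := fun w w' f => Subtype.ext (funext fun v => by
        change ((w : G) * w') * (f : G → G) v * ((w : G) * w')⁻¹ = w * (w' * (f : G → G) v * (w' : G)⁻¹) * (w : G)⁻¹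
        group) }
  obtain ⟨f0, hf01, hf0W⟩ := exists_fixed hW actW (fun w => Subtype.ext (funext fun v => by
        change (w : G) * (1 : G) * (w : G)⁻¹ = 1
        group)) hcard
  -- the fixed points of `W`
  let H1 : Subgroup (G → G) :=
    { carrier := {f | f ∈ H ∧ ∀ w ∈ W, ∀ v, w * f v * w⁻¹ = f v}
      one_mem' := ⟨H.one_mem, fun w _ v => by
        change w * (1 : G) * w⁻¹ = 1
        group⟩
      mul_mem' := fun {f g} hf hg => ⟨H.mul_mem hf.1 hg.1, fun w hw v => by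
        change w * (f v * g v) * w⁻¹ = f v * g v
        calc w * (f v * g v) * w⁻¹ = w * f v * w⁻¹ * (w * g v * w⁻¹) := by group
          _ = _ := by rw [hf.2 w hw v, hg.2 w hw v]⟩
      inv_mem' := fun {f} hf => ⟨H.inv_mem hf.1, fun w hw v => by
        change w * (f v)⁻¹ * w⁻¹ = (f v)⁻¹
        calc w * (f v)⁻¹ * w⁻¹ = (w * f v * w⁻¹)⁻¹ := by group
          _ = _ := by rw [hf.2 w hw v]⟩ }
  have hf0 : (f0 : G → G) ∈ H1 := ⟨f0.2, fun w hw v => congrFun (congrArg Subtype.val (hf0W ⟨w, hw⟩)) v⟩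
  have hcard1 : 2 ∣ Nat.card H1 := two_dvd (x := (⟨f0, hf0⟩ : H1))
    (fun h => hf01 (Subtype.ext (congrArg (fun x : H1 => (x : G → G)) h))) (Subtype.ext (hsqH f0 f0.2))
  have hTV' : ∀ t ∈ T, ∀ v, v ∉ Vn → t * v * t⁻¹ ∉ Vn := by
    intro t ht v hv h1
    apply hv
    have h2 := hTV t⁻¹ (T.inv_mem ht) _ h1
    have h3 : t⁻¹ * (t * v * t⁻¹) * t⁻¹⁻¹ = v := by group
    rwa [h3] at h2
  have hTH : ∀ t ∈ T, ∀ f ∈ H1, (fun v => t * f (t⁻¹ * v * t) * t⁻¹) ∈ H1 := by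
    rintro t ht f ⟨⟨f1, f2, f3, f4⟩, f5⟩
    have hti : ∀ v ∈ Vn, t⁻¹ * v * t ∈ Vn := by
      intro v hv
      have := hTV t⁻¹ (T.inv_mem ht) v hv
      rwa [inv_inv] at this
    refine ⟨⟨fun v hv => hTA t ht _ (f1 _ (hti v hv)), fun v hv => ?_, fun v hv v' hv' => ?_, fun e he v hv => ?_⟩,
      fun w hw v => ?_⟩
    · change t * f (t⁻¹ * v * t) * t⁻¹ = 1
      have h1 := hTV' t⁻¹ (T.inv_mem ht) v hv
      rw [inv_inv] at h1
      rw [f2 _ h1]
      group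
    · change t * f (t⁻¹ * (v * v') * t) * t⁻¹ = t * f (t⁻¹ * v * t) * t⁻¹ * (t * f (t⁻¹ * v' * t) * t⁻¹)
      have h1 : t⁻¹ * (v * v') * t = (t⁻¹ * v * t) * (t⁻¹ * v' * t) := by group
      rw [h1, f3 _ (hti v hv) _ (hti v' hv')]
      group
    · change t * f (t⁻¹ * (e * v * e⁻¹) * t) * t⁻¹ = e * (t * f (t⁻¹ * v * t) * t⁻¹) * e⁻¹
      have h1 : t⁻¹ * (e * v * e⁻¹) * t = (t⁻¹ * e * t) * (t⁻¹ * v * t) * (t⁻¹ * e * t)⁻¹ := by group
      have h2 : t⁻¹ * e * t ∈ E := by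
        have := hTE t⁻¹ (T.inv_mem ht) e he
        rwa [inv_inv] at this
      rw [h1, f4 _ h2 _ (hti v hv)]
      group
    · change w * (t * f (t⁻¹ * v * t) * t⁻¹) * w⁻¹ = t * f (t⁻¹ * v * t) * t⁻¹
      have h2 : t⁻¹ * w * t ∈ W := by
        have := hTW t⁻¹ (T.inv_mem ht) w hw
        rwa [inv_inv] at this
      calc w * (t * f (t⁻¹ * v * t) * t⁻¹) * w⁻¹
          = t * ((t⁻¹ * w * t) * f (t⁻¹ * v * t) * (t⁻¹ * w * t)⁻¹) * t⁻¹ := by group
        _ = _ := by rw [f5 _ h2]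
  let actT : MulAction T H1 :=
    { smul := fun t f => ⟨fun v => t * (f : G → G) ((t : G)⁻¹ * v * t) * (t : G)⁻¹, hTH t t.2 f f.2⟩
      one_smul := fun f => Subtype.ext (funext fun v => by
        change (1 : G) * (f : G → G) ((1 : G)⁻¹ * v * 1) * (1 : G)⁻¹ = (f : G → G) v
        rw [inv_one, one_mul, mul_one, one_mul, mul_one])
      mul_smul := fun t t' f => Subtype.ext (funext fun v => by
        change ((t : G) * t') * (f : G → G) (((t : G) * t')⁻¹ * v * ((t : G) * t')) * ((t : G) * t')⁻¹ =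
          t * (t' * (f : G → G) ((t' : G)⁻¹ * ((t : G)⁻¹ * v * t) * t') * (t' : G)⁻¹) * (t : G)⁻¹
        have h1 : ((t : G) * t')⁻¹ * v * ((t : G) * t') = (t' : G)⁻¹ * ((t : G)⁻¹ * v * t) * t' := by group
        rw [h1]
        group) }
  obtain ⟨f, hf1, hfT⟩ := exists_fixed hT actT (fun t => Subtype.ext (funext fun v => by
        change (t : G) * (1 : G) * (t : G)⁻¹ = 1
        group)) hcard1
  obtain ⟨⟨f, ⟨f1, f2, f3, f4⟩, f5⟩, rfl⟩ : ∃ f' : H1, f' = f := ⟨f, rfl⟩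
  have hfT' : ∀ t ∈ T, ∀ v, t * f (t⁻¹ * v * t) * t⁻¹ = f v :=
    fun t ht v => congrFun (congrArg Subtype.val (hfT ⟨t, ht⟩)) v
  refine ⟨f, f1, f3, ?_, fun w hw v _ => f5 w hw v, ?_⟩
  · by_contra h0
    push Not at h0
    apply hf1
    refine Subtype.ext (funext fun v => ?_)
    change f v = 1
    by_cases hv : v ∈ Vn
    · exact h0 v hv
    · exact f2 v hv
  · -- the elements which commute with `f`
    have hnor : ∀ {K : Subgroup G}, (∀ g ∈ K, ∀ v ∈ Vn, g * v * g⁻¹ ∈ Vn) → K ≤ normalizer (Vn : Set G) := by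
      intro K hK g hg
      rw [mem_normalizer_iff]
      refine fun v => ⟨hK g hg v, fun hv => ?_⟩
      have h1 := hK g⁻¹ (K.inv_mem hg) _ hv
      have h2 : g⁻¹ * (g * v * g⁻¹) * g⁻¹⁻¹ = v := by group
      rwa [h2] at h1
    let Q : Subgroup G :=
      { carrier := {g | g ∈ normalizer (Vn : Set G) ∧ ∀ v ∈ Vn, f (g * v * g⁻¹) = g * f v * g⁻¹}
        one_mem' := ⟨one_mem _, fun v _ => by rw [one_mul, inv_one, mul_one, one_mul, mul_one]⟩
        mul_mem' := by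
          rintro a b ⟨ha, ha'⟩ ⟨hb, hb'⟩
          refine ⟨mul_mem ha hb, fun v hv => ?_⟩
          have h1 : a * b * v * (a * b)⁻¹ = a * (b * v * b⁻¹) * a⁻¹ := by group
          rw [h1, ha' _ ((mem_normalizer_iff.mp hb v).mp hv), hb' v hv]
          group
        inv_mem' := by
          rintro a ⟨ha, ha'⟩
          refine ⟨inv_mem ha, fun v hv => ?_⟩
          have h1 := ha' _ ((mem_normalizer_iff.mp (inv_mem ha) v).mp hv)
          have h2 : a * (a⁻¹ * v * a⁻¹⁻¹) * a⁻¹ = v := by group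
          rw [h2] at h1
          rw [h1]
          group }
    have hEQ : E ≤ Q := fun e he => ⟨hnor hEV he, f4 e he⟩
    have hTQ : T ≤ Q := by
      intro t ht
      refine ⟨hnor hTV ht, fun v _ => ?_⟩
      have h1 := hfT' t ht (t * v * t⁻¹)
      have h2 : t⁻¹ * (t * v * t⁻¹) * t = v := by group
      rw [h2] at h1
      exact h1.symm
    intro g hg v hv
    obtain ⟨h1, h2⟩ := sup_le hEQ hTQ hg
    exact ⟨(mem_normalizer_iff.mp h1 v).mp hv, h2 v hv⟩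

end Cfsg.Agent.Omega.NSix.FixHom
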