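import Cfsg.Agent.Omega.NSix.SymF

/-!
# OMEGA N6 (H2): the end of (1b) of #16633

`Hyp.full` : under `SymF.Hyp K m`, if `K` fixes the all-one vector then `K = Sym Λ`.
-/

set_option autoImplicit false
set_option linter.unusedSectionVars false

namespace Cfsg.Agent.Omega.NSix.SymFull

open Finset Cfsg.Agent.Omega.NSix.SymF

variable {Λ : Type*} [Fintype Λ] [DecidableEq Λ]

theorem ex_not (l : List Λ) (h : l.length < Fintype.card Λ) : ∃ x, ∀ y ∈ l, x ≠ y := by
  by_contra hc
  push Not at hc
  have h1 : l.toFinset = Finset.univ := by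
    ext x
    obtain ⟨y, hy, rfl⟩ := hc x
    simpa using hy
  have h2 := l.toFinset_card_le
  rw [h1, Finset.card_univ] at h2
  omega

/-- a pair with two given coordinates -/
theorem pair_eq {v : Λ → ZMod 2} (hv : ∃ i j, i ≠ j ∧ v = Pi.single i 1 + Pi.single j 1) {b c : Λ}
    (hbc : b ≠ c) (hb : v b = 1) (hc : v c = 1) : v = Pi.single b 1 + Pi.single c 1 := by
  obtain ⟨i, j, hij, rfl⟩ := hv
  rw [Pi.add_apply] at hb hc
  by_cases h1 : b = i
  · subst h1
    by_cases h2 : c = j
    · rw [h2]
    · rw [Pi.single_eq_of_ne hbc.symm, Pi.single_eq_of_ne h2] at hc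
      exact absurd hc (by decide)
  · rw [Pi.single_eq_of_ne h1] at hb
    have h3 : b = j := by
      by_contra h3
      rw [Pi.single_eq_of_ne h3] at hb
      exact absurd hb (by decide)
    subst h3
    rw [Pi.single_eq_of_ne hbc.symm, add_zero] at hc
    have h4 : c = i := by
      by_contra h4
      rw [Pi.single_eq_of_ne h4] at hc
      exact absurd hc (by decide)
    rw [h4, add_comm]

/-- a map on pairs which preserves the form and is additive comes from a permutation -/
theorem perm_of (h7 : 5 ≤ Fintype.card Λ) (μ : Λ → Λ → (Λ → ZMod 2))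
    (hp : ∀ i j, i ≠ j → ∃ a b, a ≠ b ∧ μ i j = Pi.single a 1 + Pi.single b 1)
    (hs : ∀ i j, μ i j = μ j i)
    (ha : ∀ i j k, i ≠ j → j ≠ k → i ≠ k → μ i j = μ i k + μ j k)
    (hd : ∀ i j k, i ≠ j → i ≠ k → j ≠ k → dt (μ i j) (μ i k) = 1) :
    ∃ σ : Equiv.Perm Λ, ∀ i j, i ≠ j → μ i j = Pi.single (σ i) 1 + Pi.single (σ j) 1 := by
  have star : ∀ i, ∃ a, ∀ j, j ≠ i → μ i j a = 1 := by
    intro i
    obtain ⟨j, hj⟩ := ex_not [i] (by simp; omega)
    obtain ⟨k, hk⟩ := ex_not [i, j] (by simp; omega)
    simp only [List.mem_cons, List.not_mem_nil, or_false, forall_eq_or_imp, forall_eq] at hj hk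
    have h1 := hd i j k hj.symm hk.1.symm hk.2.symm
    obtain ⟨a, b, hab, e1⟩ := hp i j hj.symm
    -- the common letter
    have h2 : ∃ a b c, a ≠ b ∧ a ≠ c ∧ b ≠ c ∧ μ i j = Pi.single a 1 + Pi.single b 1 ∧
        μ i k = Pi.single a 1 + Pi.single c 1 := by
      obtain ⟨c, d, hcd, e2⟩ := hp i k hk.1.symm
      rw [e1, add_dt, single_dt, single_dt, e2, Pi.add_apply, Pi.add_apply] at h1
      by_cases q1 : a = c
      · subst q1
        by_cases q2 : b = d
        · subst q2
          rw [Pi.single_eq_same, Pi.single_eq_same, Pi.single_eq_of_ne hab,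
            Pi.single_eq_of_ne hab.symm] at h1
          exact absurd h1 (by decide)
        · exact ⟨a, b, d, hab, hcd, q2, e1, e2⟩
      · by_cases q2 : a = d
        · subst q2
          by_cases q3 : b = c
          · subst q3
            rw [Pi.single_eq_same, Pi.single_eq_same, Pi.single_eq_of_ne hab,
              Pi.single_eq_of_ne hab.symm] at h1
            exact absurd h1 (by decide)
          · exact ⟨a, b, c, hab, q1, q3, e1, by rw [e2, add_comm]⟩
        · rw [Pi.single_eq_of_ne q1, Pi.single_eq_of_ne q2] at h1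
          by_cases q3 : b = c
          · subst q3
            exact ⟨b, a, d, hab.symm, hcd, q2, by rw [e1, add_comm], e2⟩
          · by_cases q4 : b = d
            · subst q4
              exact ⟨b, a, c, hab.symm, hcd.symm, q1, by rw [e1, add_comm],
                by rw [e2, add_comm]⟩
            · rw [Pi.single_eq_of_ne q3, Pi.single_eq_of_ne q4] at h1
              exact absurd h1 (by decide)
    clear e1 hab a b
    obtain ⟨a, b, c, hab, hac, hbc, e1, e2⟩ := h2
    refine ⟨a, fun l hl => ?_⟩
    rcases two_cases (μ i l a) with h0 | h0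
    · exfalso
      have lj : l ≠ j := by
        rintro rfl
        rw [e1, Pi.add_apply, Pi.single_eq_same, Pi.single_eq_of_ne hab] at h0
        exact absurd h0 (by decide)
      have lk : l ≠ k := by
        rintro rfl
        rw [e2, Pi.add_apply, Pi.single_eq_same, Pi.single_eq_of_ne hac] at h0
        exact absurd h0 (by decide)
      have l1 := hd i l j hl.symm hj.symm lj
      have l2 := hd i l k hl.symm hk.1.symm lk
      rw [e1, dt_add, dt_single, dt_single, h0, zero_add] at l1
      rw [e2, dt_add, dt_single, dt_single, h0, zero_add] at l2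
      have e3 := pair_eq (hp i l hl.symm) hbc l1 l2
      obtain ⟨m, hm⟩ := ex_not [i, j, k, l] (by simp; omega)
      simp only [List.mem_cons, List.not_mem_nil, or_false, forall_eq_or_imp, forall_eq] at hm
      have m1 := hd i m j hm.1.symm hj.symm hm.2.1
      have m2 := hd i m k hm.1.symm hk.1.symm hm.2.2.1
      have m3 := hd i m l hm.1.symm hl.symm hm.2.2.2
      rw [e1, dt_add, dt_single, dt_single] at m1
      rw [e2, dt_add, dt_single, dt_single] at m2
      rw [e3, dt_add, dt_single, dt_single] at m3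
      rcases two_cases (μ i m a) with q1 | q1 <;> rcases two_cases (μ i m b) with q2 | q2 <;>
        rcases two_cases (μ i m c) with q3 | q3 <;> rw [q1, q2] at m1 <;> rw [q1, q3] at m2 <;>
        rw [q2, q3] at m3 <;> revert m1 m2 m3 <;> decide
    · exact h0
  choose σ hσ using star
  have hinj : Function.Injective σ := by
    intro i j hij
    by_contra hne
    obtain ⟨k, hk⟩ := ex_not [i, j] (by simp; omega)
    simp only [List.mem_cons, List.not_mem_nil, or_false, forall_eq_or_imp, forall_eq] at hk
    have h1 := congrFun (ha i j k hne hk.2.symm hk.1.symm) (σ i)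
    rw [Pi.add_apply, hσ i j (Ne.symm hne), hσ i k hk.1] at h1
    rw [hij, hσ j k hk.2] at h1
    exact absurd h1 (by decide)
  refine ⟨Equiv.ofBijective σ (Finite.injective_iff_bijective.1 hinj), fun i j hij => ?_⟩
  refine pair_eq (hp i j hij) (fun h => hij (hinj h)) (hσ i j hij.symm) ?_
  rw [hs]
  exact hσ j i hij

variable {K : Subgroup (GV Λ)} {m : ℕ}

theorem card7 (H : Hyp K m) : 7 ≤ Fintype.card Λ := by
  have h1 := H.card
  have h2 : 2 ^ 3 ≤ 2 ^ m := Nat.pow_le_pow_right (by norm_num) H.hm
  omega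

theorem card_odd (H : Hyp K m) : ((Fintype.card Λ : ℕ) : ZMod 2) = 1 := by
  have h1 := H.card
  have h2 : 2 ∣ 2 ^ m := dvd_pow_self 2 (by have := H.hm; omega)
  have h3 : Fintype.card Λ % 2 = 1 := by omega
  have h4 : ((Fintype.card Λ : ℕ) : ZMod 2) = ((Fintype.card Λ % 2 : ℕ) : ZMod 2) :=
    (ZMod.natCast_mod _ _).symm
  rw [h4, h3]
  rfl

theorem dt_one_one (H : Hyp K m) : dt (1 : Λ → ZMod 2) 1 = 1 := by
  rw [dt_one, Finset.sum_congr rfl fun l _ => Pi.one_apply l, Finset.sum_const, Finset.card_univ,
    nsmul_eq_mul, mul_one, card_odd H]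

/-- an element of `K` fixing all pairs modulo `1` -/
theorem one_of (H : Hyp K m) {k : GV Λ} (hk : k ∈ K) (hp : ∀ i j, i ≠ j →
    k (Pi.single i 1 + Pi.single j 1) = Pi.single i 1 + Pi.single j 1 ∨
    k (Pi.single i 1 + Pi.single j 1) = Pi.single i 1 + Pi.single j 1 + 1) (h1 : k 1 = 1) :
    k = 1 := by
  have h7 := card7 H
  let S : AddSubgroup (Λ → ZMod 2) :=
    { carrier := {x | k x = x ∨ k x = x + 1}
      add_mem' := by
        rintro x y (h2 | h2) (h3 | h3)
        · left; rw [map_add, h2, h3]
        · right; rw [map_add, h2, h3, add_assoc]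
        · right; rw [map_add, h2, h3, add_right_comm]
        · left
          rw [map_add, h2, h3]
          have : x + 1 + (y + 1) = x + y + (1 + 1) := by abel
          rw [this, add_self_W, add_zero]
      zero_mem' := Or.inl (map_zero k)
      neg_mem' := by
        intro x h2
        have e : -x = x := by
          rw [neg_eq_iff_add_eq_zero, add_self_W]
        change k (-x) = -x ∨ k (-x) = -x + 1
        rw [e]
        exact h2 }
  have hS1 : (1 : Λ → ZMod 2) ∈ S := Or.inl h1
  have hSp : ∀ i j, (Pi.single i 1 + Pi.single j 1 : Λ → ZMod 2) ∈ S := by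
    intro i j
    by_cases hij : i = j
    · subst hij
      rw [add_self_W]
      exact zero_mem _
    · exact hp i j hij
  have hSs : ∀ i, (Pi.single i 1 : Λ → ZMod 2) ∈ S := by
    intro i
    have e : (Pi.single i 1 : Λ → ZMod 2) =
        1 + ∑ j, (Pi.single i 1 + Pi.single j 1 : Λ → ZMod 2) := by
      rw [Finset.sum_add_distrib, Finset.sum_const, Finset.card_univ]
      have e2 : (∑ j, Pi.single j 1 : Λ → ZMod 2) = 1 := by
        funext l
        rw [Finset.sum_apply, Pi.one_apply]
        simp [Pi.single_apply]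
      have e3 : (Fintype.card Λ • (Pi.single i 1 : Λ → ZMod 2)) = Pi.single i 1 := by
        have : (Fintype.card Λ • (Pi.single i 1 : Λ → ZMod 2)) =
            ((Fintype.card Λ : ℕ) : ZMod 2) • (Pi.single i 1 : Λ → ZMod 2) :=
          (Nat.cast_smul_eq_nsmul (ZMod 2) _ _).symm
        rw [this, card_odd H, one_smul]
      rw [e2, e3, add_comm (Pi.single i 1) 1, ← add_assoc, add_self_W, zero_add]
    rw [e]
    exact add_mem hS1 (sum_mem fun j _ => hSp i j)
  let b : Λ → ZMod 2 := fun l => if k (Pi.single l 1) = Pi.single l 1 then 0 else 1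
  have hb : ∀ l, k (Pi.single l 1) = Pi.single l 1 + b l • (1 : Λ → ZMod 2) := by
    intro l
    by_cases h5 : k (Pi.single l 1) = Pi.single l 1
    · have : b l = 0 := if_pos h5
      rw [this, zero_smul, add_zero, h5]
    · have : b l = 1 := if_neg h5
      rw [this, one_smul]
      exact (hSs l).resolve_left h5
  have hx : ∀ x, k x = x + (∑ i, b i * x i) • (1 : Λ → ZMod 2) := by
    intro x
    have e : x = ∑ l, Pi.single l (x l) := (Finset.univ_sum_single x).symm
    have e1 : k x = ∑ l, k (Pi.single l (x l)) := by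
      conv_lhs => rw [e]
      rw [map_sum]
    have e2 : ∀ l, k (Pi.single l (x l)) = Pi.single l (x l) + (b l * x l) • (1 : Λ → ZMod 2) := by
      intro l
      rcases two_cases (x l) with h5 | h5 <;> rw [h5]
      · rw [Pi.single_zero, map_zero, mul_zero, zero_smul, add_zero]
      · rw [mul_one, hb]
    rw [e1, Finset.sum_congr rfl fun l _ => e2 l, Finset.sum_add_distrib, ← e,
      ← Finset.sum_smul]
  have one_ne : (1 : Λ → ZMod 2) ≠ 0 := by
    obtain ⟨a, -⟩ := ex_not ([] : List Λ) (by simp; omega)
    intro h0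
    have := congrFun h0 a
    rw [Pi.one_apply, Pi.zero_apply] at this
    exact absurd this (by decide)
  have hs : ∑ i, b i = 0 := by
    have h5 := hx 1
    rw [h1] at h5
    have h6 : (∑ i, b i * (1 : Λ → ZMod 2) i) = ∑ i, b i :=
      Finset.sum_congr rfl fun i _ => by rw [Pi.one_apply, mul_one]
    rw [h6] at h5
    by_contra h7
    rw [(two_cases _).resolve_left h7, one_smul, add_self_W] at h5
    exact one_ne h5
  have hb0 : b = 0 := by
    rcases H.main hk hs hx with h5 | h5 | ⟨h5, i, j, hij, h6⟩
    · exact h5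
    · exact absurd h5 one_ne
    · exfalso
      obtain ⟨l, hl⟩ := ex_not [i, j] (by simp; omega)
      simp only [List.mem_cons, List.not_mem_nil, or_false, forall_eq_or_imp, forall_eq] at hl
      rcases h5 with h5 | h5
      · have := congrFun h5 l
        rw [h6, Pi.add_apply, Pi.single_eq_of_ne hl.1, Pi.single_eq_of_ne hl.2,
          Pi.one_apply] at this
        exact absurd this (by decide)
      · have := congrFun h5 i
        rw [h6, Pi.add_apply, Pi.add_apply, Pi.single_eq_same, Pi.single_eq_of_ne hij,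
          Pi.one_apply] at this
        exact absurd this (by decide)
  apply LinearEquiv.ext
  intro x
  rw [hx, hb0]
  simp

/-- every element of `K` is a permutation -/
theorem full (H : Hyp K m) {k : GV Λ} (hk : k ∈ K) (hfix : k 1 = 1) : ∃ σ, k = pm σ := by
  have h7 := card7 H
  have ki : k⁻¹ 1 = 1 := by
    have h1 : k⁻¹ (k 1) = 1 := LinearEquiv.symm_apply_apply k 1
    rwa [hfix] at h1
  -- the images of the pairs
  have main : ∀ i j, i ≠ j → ∃ b' : Λ → ZMod 2, (∀ x, dt b' (k x) =
      dt (Pi.single i 1 + Pi.single j 1) x) ∧ (k (Pi.single i 1 + Pi.single j 1) = b' ∨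
      k (Pi.single i 1 + Pi.single j 1) = b' + 1) ∧
      ∃ a b, a ≠ b ∧ b' = Pi.single a 1 + Pi.single b 1 := by
    intro i j hij
    have hbne : (Pi.single i 1 + Pi.single j 1 : Λ → ZMod 2) ≠ 0 := by
      intro h0
      have := congrFun h0 i
      rw [Pi.add_apply, Pi.single_eq_same, Pi.single_eq_of_ne hij, Pi.zero_apply] at this
      exact absurd this (by decide)
    let b' : Λ → ZMod 2 := fun l => dt (Pi.single i 1 + Pi.single j 1) (k⁻¹ (Pi.single l 1))
    have hb' : ∀ x, dt b' x = dt (Pi.single i 1 + Pi.single j 1) (k⁻¹ x) := by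
      intro x
      have e : x = ∑ l, x l • (Pi.single l 1 : Λ → ZMod 2) := by
        conv_lhs => rw [← Finset.univ_sum_single x]
        refine Finset.sum_congr rfl fun l _ => ?_
        rcases two_cases (x l) with h | h <;> rw [h]
        · rw [Pi.single_zero, zero_smul]
        · rw [one_smul]
      have e2 : ∀ (s : Finset Λ) (f : Λ → Λ → ZMod 2), dt (Pi.single i 1 + Pi.single j 1)
          (∑ l ∈ s, f l) = ∑ l ∈ s, dt (Pi.single i 1 + Pi.single j 1) (f l) := by
        intro s f
        induction s using Finset.induction_on with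
        | empty => rw [Finset.sum_empty, Finset.sum_empty, dt_zero]
        | insert l s hl ih => rw [Finset.sum_insert hl, Finset.sum_insert hl, dt_add, ih]
      conv_rhs => rw [e]
      rw [map_sum, e2]
      unfold dt
      refine Finset.sum_congr rfl fun l _ => ?_
      rw [map_smul]
      change b' l * x l = dt (Pi.single i 1 + Pi.single j 1) (x l • k⁻¹ (Pi.single l 1))
      rw [dt_smul, mul_comm]
    have hT := (isT_swap i j hij).conj (g := k) hb'
    have hmem : k * pm (Equiv.swap i j) * k⁻¹ ∈ K :=
      mul_mem (mul_mem hk (H.perm _)) (inv_mem hk)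
    have hsum : ∑ l, b' l = 0 := by
      rw [← dt_one, hb', ki, add_dt, single_dt, single_dt, Pi.one_apply, Pi.one_apply]
      decide
    refine ⟨b', fun x => ?_, ?_⟩
    · rw [hb']
      congr 1
      exact LinearEquiv.symm_apply_apply k x
    · rcases H.main hmem hsum hT with h1 | h1 | h1
      · exfalso
        have h2 : dt b' (k (Pi.single i 1)) = 0 := by rw [h1, zero_dt]
        rw [hb'] at h2
        have h3 : k⁻¹ (k (Pi.single i 1)) = Pi.single i 1 := LinearEquiv.symm_apply_apply k _
        rw [h3, dt_single, Pi.add_apply, Pi.single_eq_same, Pi.single_eq_of_ne hij] at h2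
        exact absurd h2 (by decide)
      · exfalso
        apply hbne
        exact (LinearEquiv.map_eq_zero_iff k).1 h1
      · exact h1
  choose! μ h1 h2 h3 using main
  have one_ne : (1 : ZMod 2) ≠ 0 := by decide
  have ev : ∀ i j, i ≠ j → dt (μ i j) 1 = 0 := by
    intro i j hij
    rw [← hfix, h1 i j hij, add_dt, single_dt, single_dt, Pi.one_apply, Pi.one_apply]
    decide
  -- the pair is determined by the image
  have un : ∀ u v w : Λ → ZMod 2, dt v 1 = 0 → dt w 1 = 0 → (u = v ∨ u = v + 1) →
      (u = w ∨ u = w + 1) → v = w := by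
    intro u v w hv hw h4 h5
    rcases h4 with rfl | rfl <;> rcases h5 with h5 | h5
    · exact h5
    · rw [h5, add_dt, hw, dt_one_one H] at hv
      exact absurd hv (by decide)
    · rw [← h5, add_dt, hv, dt_one_one H] at hw
      exact absurd hw (by decide)
    · exact add_right_cancel h5
  have hsymm : ∀ i j, i ≠ j → μ i j = μ j i := by
    intro i j hij
    refine un _ _ _ (ev i j hij) (ev j i hij.symm) (h2 i j hij) ?_
    rw [add_comm]
    exact h2 j i hij.symm
  -- make `μ` total
  have hd : ∀ i j k', i ≠ j → i ≠ k' → j ≠ k' → dt (μ i j) (μ i k') = 1 := by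
    intro i j k' hij hik hjk
    have e1 : dt (μ i j) (k (Pi.single i 1 + Pi.single k' 1)) = 1 := by
      rw [h1 i j hij, add_dt, single_dt, single_dt, Pi.add_apply, Pi.add_apply,
        Pi.single_eq_same, Pi.single_eq_of_ne hik, Pi.single_eq_of_ne hij.symm,
        Pi.single_eq_of_ne hjk]
      decide
    rcases h2 i k' hik with h4 | h4
    · rwa [h4] at e1
    · rwa [h4, dt_add, ev i j hij, add_zero] at e1
  have hadd : ∀ i j k', i ≠ j → j ≠ k' → i ≠ k' → μ i j = μ i k' + μ j k' := by
    intro i j k' hij hjk hik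
    refine un _ _ _ (ev i j hij) ?_ (h2 i j hij) ?_
    · rw [add_dt, ev i k' hik, ev j k' hjk, add_zero]
    · have e1 : (Pi.single i 1 + Pi.single j 1 : Λ → ZMod 2) =
          (Pi.single i 1 + Pi.single k' 1) + (Pi.single j 1 + Pi.single k' 1) := by
        have : (Pi.single i 1 + Pi.single k' 1 : Λ → ZMod 2) + (Pi.single j 1 + Pi.single k' 1) =
          Pi.single i 1 + Pi.single j 1 + (Pi.single k' 1 + Pi.single k' 1) := by abel
        rw [this, add_self_W, add_zero]
      rw [e1, map_add]
      rcases h2 i k' hik with h4 | h4 <;> rcases h2 j k' hjk with h5 | h5 <;> rw [h4, h5]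
      · exact Or.inl rfl
      · right; rw [add_assoc]
      · right; rw [add_right_comm]
      · left
        have : μ i k' + 1 + (μ j k' + 1) = μ i k' + μ j k' + (1 + 1) := by abel
        rw [this, add_self_W, add_zero]
  obtain ⟨σ, hσ⟩ := perm_of (by omega) (fun i j => if i = j then 0 else μ i j)
    (fun i j hij => by
      simp only [if_neg hij]
      exact h3 i j hij)
    (fun i j => by
      by_cases hij : i = j
      · subst hij; rfl
      · simp only [if_neg hij, if_neg (Ne.symm hij)]
        exact hsymm i j hij)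
    (fun i j k' hij hjk hik => by
      simp only [if_neg hij, if_neg hjk, if_neg hik]
      exact hadd i j k' hij hjk hik)
    (fun i j k' hij hik hjk => by
      simp only [if_neg hij, if_neg hik]
      exact hd i j k' hij hik hjk)
  refine ⟨σ, ?_⟩
  -- `k' = k σ⁻¹`
  have hk' : k * (pm σ)⁻¹ ∈ K := mul_mem hk (inv_mem (H.perm σ))
  have hpair : ∀ i j, i ≠ j → (k * (pm σ)⁻¹) (Pi.single i 1 + Pi.single j 1) =
      Pi.single i 1 + Pi.single j 1 ∨ (k * (pm σ)⁻¹) (Pi.single i 1 + Pi.single j 1) =
      Pi.single i 1 + Pi.single j 1 + 1 := by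
    intro i j hij
    have hne : σ⁻¹ i ≠ σ⁻¹ j := fun h => hij (σ⁻¹.injective h)
    have e1 : (pm σ)⁻¹ (Pi.single i 1 + Pi.single j 1 : Λ → ZMod 2) =
        Pi.single (σ⁻¹ i) 1 + Pi.single (σ⁻¹ j) 1 := by
      rw [← map_inv, map_add, pm_single, pm_single]
    have e2 : (k * (pm σ)⁻¹) (Pi.single i 1 + Pi.single j 1) =
        k (Pi.single (σ⁻¹ i) 1 + Pi.single (σ⁻¹ j) 1) := by
      change k ((pm σ)⁻¹ _) = _
      rw [e1]
    have e3 := hσ _ _ hne
    simp only [if_neg hne] at e3
    have e5 : ∀ i, σ (σ⁻¹ i) = i := fun i => Equiv.apply_symm_apply σ i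
    rw [e5, e5] at e3
    have e4 := h2 _ _ hne
    rw [e3] at e4
    rw [e2]
    exact e4
  have hone : (k * (pm σ)⁻¹) 1 = 1 := by
    change k ((pm σ)⁻¹ 1) = 1
    have : (pm σ)⁻¹ (1 : Λ → ZMod 2) = 1 := by
      rw [← map_inv, pm_one_vec]
    rw [this, hfix]
  have e6 := one_of H hk' hpair hone
  rw [mul_inv_eq_one] at e6
  exact e6

end Cfsg.Agent.Omega.NSix.SymFull
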