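import Cfsg.Agent.Omega.NSix.TLCount
import Cfsg.Agent.Omega.NSix.SymFull
import Cfsg.Agent.Omega.NSix.Engine.ThmT

/-!
# OMEGA N6 (H2): #16633 in the group

`Sy S V P ε m` : `Engine.Hyp V P ε`, `S ∈ Syl₂(G)`, `S ≤ P`, `n = 2 ^ m + 1`, `m ≥ 3`.
* `Sy.oneB` : (1b);
* `Sy.no_tv` : (3): if disjoint `U`'s do not commute, no element of `N_ij` induces a transvection `≠ 1` with centre in
  `V_ij - ⟨r_ij⟩` killing `V_ij`;
* `Sy.three` : `⋂ {U_kl : k, l ∉ {i, j}} ≤ V` (three blocks);
* `Sy.CV_le` : `C_G(V_ij) ≤ L`;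
* `Sy.norm_le` : `N_{N_ij}(V_ij) ≤ L` (the hypothesis `hX` of `Engine.Hyp.thmT`).
-/

set_option autoImplicit false
set_option linter.unusedSectionVars false

namespace Cfsg.Agent.Omega.NSix.TLEnd

open Subgroup Cfsg.Agent.Omega.S5.Def Cfsg.Agent.Omega.NSix.Base Cfsg.Agent.Omega.NSix.Basic
open Cfsg.Agent.Omega.NSix.Tv (z2 z2_one z2_zero z2_add)
open Cfsg.Agent.Omega.NSix.TLg Cfsg.Agent.Omega.NSix.TLCount
open Cfsg.Agent.Omega.NSix.Engine (D4 KK LL Lab)
open Cfsg.Agent.Omega.TTn.Di (cm cj)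

universe u

variable {G : Type u} [Group G] {n : ℕ} {V P : Subgroup G} {ε : (Fin n → ZMod 2) → G} {i j : Fin n}

/-- the linear map induced by `g` -/
theorem exists_GV (h : Engine.Hyp V P ε) {g : G} {f : (Lt i j → ZMod 2) → (Lt i j → ZMod 2)}
    (hf : ∀ x, g * ε (ext i j x) * g⁻¹ = ε (ext i j (f x))) :
    ∃ k : GV (Lt i j), (∀ x, k x = f x) ∧ Ind ε i j g k := by
  have hadd : ∀ x y, f (x + y) = f x + f y := by
    intro x y
    apply eps_inj_ext h
    rw [← hf, ext_add, ext_add, h.ev.add, h.ev.add, ← hf, ← hf]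
    group
  have hinj : Function.Injective f := by
    intro x y hxy
    apply eps_inj_ext h
    have h1 := hf x
    rw [hxy, ← hf y] at h1
    exact mul_left_cancel (mul_right_cancel h1)
  let L : (Lt i j → ZMod 2) →ₗ[ZMod 2] (Lt i j → ZMod 2) :=
    (AddMonoidHom.mk' f hadd).toZModLinearMap 2
  have hL : ∀ x, L x = f x := fun x => rfl
  have hLi : Function.Injective L := hinj
  refine ⟨LinearEquiv.ofInjectiveEndo L hLi, fun x => ?_, fun x => ?_⟩
  · rw [LinearEquiv.coe_ofInjectiveEndo, hL]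
  · rw [hf, LinearEquiv.coe_ofInjectiveEndo, hL]

/-- the situation -/
structure Sy (S : Sylow 2 G) (V P : Subgroup G) (ε : (Fin n → ZMod 2) → G) (m : ℕ) : Prop where
  hyp : Engine.Hyp V P ε
  le : (S : Subgroup G) ≤ P
  m3 : 3 ≤ m
  hn : n = 2 ^ m + 1

/-- some disjoint `U`'s do not commute -/
def Nc (ε : (Fin n → ZMod 2) → G) : Prop :=
  ∃ i j k l, D4 i j k l ∧ ∃ u ∈ UU ε i j, ∃ y ∈ UU ε k l, u * y ≠ y * u

namespace Sy

variable {S : Sylow 2 G} {m : ℕ} (s : Sy S V P ε m)

include s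

theorem nine : 9 ≤ n := by
  have h1 : 2 ^ 3 ≤ 2 ^ m := Nat.pow_le_pow_right (by norm_num) s.m3
  have := s.hn
  omega

theorem symHyp [Finite G] (hij : i ≠ j) : SymF.Hyp (KV ε i j) m where
  hm := s.m3
  card := by
    rw [card_Lt hij]
    have := s.hn
    have := s.nine
    omega
  perm := by
    intro σ
    obtain ⟨τ, ti, tj, ht⟩ := exists_perm_ext (i := i) (j := j) σ⁻¹
    obtain ⟨g, hg, hga⟩ := s.hyp.ev.full τ⁻¹
    have hgN : g ∈ NN ε i j := by
      refine s.hyp.acts_NN hga ?_ ?_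
      · rw [Equiv.Perm.inv_eq_iff_eq, ti]
      · rw [Equiv.Perm.inv_eq_iff_eq, tj]
    refine ⟨g, hgN, fun x => ?_⟩
    have h1 := hga (ext i j x)
    have h2 : ext i j x ∘ (τ⁻¹ : Equiv.Perm (Fin n)).symm = ext i j x ∘ τ := rfl
    rw [h2, ht x] at h1
    exact h1
  count := fun R hR hRp => count s.hyp hij S s.le (by have := s.m3; omega) s.hn R hR hRp

/-- **(1b)** -/
theorem oneB [Finite G] (hij : i ≠ j) : OneB ε i j := by
  intro g hg b c hb hc hx
  obtain ⟨k, hk, hki⟩ := exists_GV s.hyp hx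
  rcases (s.symHyp hij).main (k := k) ⟨g, hg, hki⟩ hb hk with h1 | h1 | h1
  · exact Or.inl h1
  · exact absurd h1 hc
  · exact Or.inr h1

theorem exists_D4 (hij : i ≠ j) : ∃ k l, D4 i j k l := by
  obtain ⟨k, hk1, hk2, -, -⟩ := Engine.exists_fifth (by have := s.nine; omega) i j i j
  obtain ⟨l, hl1, hl2, hl3, -⟩ := Engine.exists_fifth (by have := s.nine; omega) i j k k
  exact ⟨k, l, hij, hk1.symm, hl1.symm, hk2.symm, hl2.symm, hl3.symm⟩

/-- **(3)** -/
theorem no_tv [Finite G] (hnc : Nc ε) (hij : i ≠ j) {g : G} (hg : g ∈ NN ε i j)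
    {v : Fin n → ZMod 2} (hv : v i = v j) (hv1 : ε v ≠ 1) (hv2 : ε v ≠ rr ε i j)
    (hu : ∀ u ∈ UU ε i j, g * u * g⁻¹ = u ∨ g * u * g⁻¹ = u * ε v)
    (hk : ∀ y : Fin n → ZMod 2, y i = y j → g * ε y = ε y * g) :
    ∀ u ∈ UU ε i j, g * u = u * g := by
  by_contra hne
  push Not at hne
  obtain ⟨k, l, hD⟩ := s.exists_D4 hij
  have h1 : ∀ u ∈ UU ε i j, ∀ y ∈ UU ε k l, u * y = y * u := fun u hU y hy =>
    TLg.no_tv s.hyp hij s.nine (s.oneB hij) hg hv hv1 hv2 hu hk hne hD hU hy
  obtain ⟨a, b, c, d, hD', u, hU, y, hy, hne'⟩ := hnc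
  exact hne' (s.hyp.comm_transfer hD hD' h1 u hU y hy)

/-- no transvection with centre `r_ij` (`O₂(N_ij / C_ij) = 1` for such elements); `Nc` is not needed -/
theorem cen_rr [Finite G] (hij : i ≠ j) {g : G} (hg : g ∈ NN ε i j)
    (hu : ∀ u ∈ UU ε i j, g * u * g⁻¹ = u ∨ g * u * g⁻¹ = u * rr ε i j) :
    ∀ u ∈ UU ε i j, g * u = u * g := by
  have h := s.hyp
  have D := dat h hij s.nine (s.oneB hij)
  obtain ⟨e, he, he1⟩ := hh_ex (M := UU ε i j) (hc := fun _ hu _ hv => h.Uab hij hu hv)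
    (h2 := fun _ hu => h.Usq hij hu) (N := NN ε i j) (fun g hg => nn_norm hg) hg
  have fx : ∀ f ∈ HA h hij (NN ε i j), ∀ r ∈ AddSubgroup.closure {zt h hij 1}, f r = r := by
    intro f hf r hr
    refine AddSubgroup.closure_induction (p := fun r _ => f r = r) ?_ ?_ ?_ ?_ hr
    · rintro x rfl
      exact D.fix f hf
    · exact map_zero f
    · intro x y _ _ hx hy
      rw [map_add, hx, hy]
    · intro x _ hx
      rw [map_neg, hx]
  have key := o2_of_irr D (fun R hR h1 hne => irr h hij R hR h1 hne)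
    (AddSubgroup.closure {zt h hij 1}) (fun f hf r hr => by rw [fx f hf r hr]; exact hr) e he
    (fun a => by
      rcases hu _ (val_mem a) with h1 | h1
      · have h2 : e a = a := val_inj (by rw [he1, h1])
        rw [h2, TL.two]
        exact zero_mem _
      · have h2 : e a = a + zt h hij 1 := val_inj (by rw [he1, h1, val_add, val_zt_one])
        rw [h2, add_right_comm, TL.two, zero_add]
        exact AddSubgroup.subset_closure rfl)
    (fun r hr => fx e he r hr)
  intro u hU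
  have h1 := he1 (TLg.mk _ _ hU)
  rw [key, val_mk, eq_mul_inv_iff_mul_eq] at h1
  exact h1.symm

/-- the elements of `V_ij` -/
theorem single_ne {k : Fin n} (hki : k ≠ i) (hkj : k ≠ j) : zz ε k ≠ rr ε i j := by
  intro h1
  have h2 : ε (Pi.single k 1) = ε (Pi.single i 1 + Pi.single j 1) := by
    rw [s.hyp.ev.add]; exact h1
  have h9 := s.nine
  obtain ⟨l, l1, l2, l3, -⟩ := Engine.exists_fifth (by omega) i j k k
  rcases s.hyp.ev.eq_iff.1 h2 with h3 | h3
  · have := congrFun h3 k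
    rw [Pi.single_eq_same, Pi.add_apply, Pi.single_eq_of_ne hki, Pi.single_eq_of_ne hkj] at this
    exact absurd this (by decide)
  · have := congrFun h3 l
    rw [Pi.single_eq_of_ne l3, Pi.add_apply, Pi.add_apply, Pi.single_eq_of_ne l1,
      Pi.single_eq_of_ne l2, Pi.one_apply] at this
    exact absurd this (by decide)

theorem three_aux [Finite G] {w : Fin n → Fin n → G}
    (F : Engine.Fr ε (UU ε) (Engine.W2 ε) (fun i j => Cfsg.Agent.ZN.o2 (NN ε i j)) w)
    (hnc : Nc ε) (hij : i ≠ j) {x : G} (hx : ∀ k l, k ≠ i → k ≠ j → l ≠ i → l ≠ j → k ≠ l → x ∈ UU ε k l)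
    {k : Fin n} (hki : k ≠ i) (hkj : k ≠ j) : ∀ u ∈ UU ε i k, x * u = u * x := by
  have h := s.hyp
  -- `x ∈ C_G(V)`
  obtain ⟨l, l1, l2, l3, -⟩ := Engine.exists_fifth (by have := s.nine; omega) i j k k
  have hxK : x ∈ KK ε := h.UK l3.symm (hx k l hki hkj l1 l2 l3.symm)
  have lx : ∀ a b, a ≠ i → a ≠ j → b ≠ i → b ≠ j → Lab (UU ε) x a b := by
    intro a b a1 a2 b1 b2
    by_cases hab : a = b
    · exact Or.inl hab
    · exact Or.inr (hx a b a1 a2 b1 b2 hab)
  have key : ∀ u ∈ UU ε i k, x * u * x⁻¹ = u ∨ x * u * x⁻¹ = u * ε (Pi.single j 1) := by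
    intro u hu
    have huK : u ∈ KK ε := h.UK hki.symm hu
    -- the commutator is labelled by one block and `j`
    have lc : ∀ b, b ≠ j → Lab (UU ε) (cm x u) k b := by
      intro b hb
      by_cases hbi : b = i
      · subst hbi
        have h1 : Lab (UU ε) u b k := Or.inr hu
        exact F.lab_cm_right hxK (F.lab_symm h1)
      · exact F.lab_cm_left (lx k b hki hkj hbi hb) huK
    have hcK : cm x u ∈ KK ε := by
      unfold cm
      exact mul_mem (mul_mem (mul_mem hxK huK) (inv_mem hxK)) (inv_mem huK)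
    have hcU : cm x u ∈ UU ε i k := by
      have h1 := F.lab_symm (lc i hij)
      exact h1.resolve_left hki.symm
    obtain ⟨y, yi, yk, hy⟩ := h.fix_V hki.symm hcU (fun a hai hak z hz => by
      left
      by_cases haj : a = j
      · subst haj
        -- `[c, z]` has all labels
        apply F.star (i := k)
        intro b
        by_cases hb : b = a
        · subst hb
          have h1 : Lab (UU ε) (cm (cm x u) z) k i := F.lab_cm_left (lc i hij) (h.UK hai.symm hz)
          exact F.lab_trans h1 (F.lab_cm_right hcK (Or.inr hz))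
        · exact F.lab_cm_left (lc b hb) (h.UK hai.symm hz)
      · have h1 : cm x u ∈ UU ε i a :=
          (F.lab_trans (F.lab_symm (lc i hij)) (lc a haj)).resolve_left hai.symm
        exact Cfsg.Agent.Omega.TTn.Di.cm_one_iff.2 (h.Uab hai.symm h1 hz))
    have hyv : ∀ b, b ≠ j → y b = 0 := by
      intro b hb
      have h1 := lc b hb
      rw [hy, F.lab_e, yk] at h1
      exact h1.symm
    have hc : cm x u * u = x * u * x⁻¹ := by unfold cm; group
    rcases z2 (y j) with h0 | h0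
    · left
      have h1 : y = 0 := by
        funext b
        by_cases hb : b = j
        · rw [hb, h0]; rfl
        · rw [hyv b hb]; rfl
      rw [← hc, hy, h1, h.ev.zero, one_mul]
    · right
      have h1 : y = Pi.single j 1 := by
        funext b
        by_cases hb : b = j
        · rw [hb, h0, Pi.single_eq_same]
        · rw [hyv b hb, Pi.single_eq_of_ne hb]
      rw [← hc, hy, h1]
      exact (Engine.mem_KK'.1 huK _).symm
  have hxe : ∀ y : Fin n → ZMod 2, x * ε y = ε y * x := Engine.mem_KK'.1 hxK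
  refine s.no_tv hnc hki.symm (h.KK_le_NN i k hxK) (v := Pi.single j 1) ?_ ?_ ?_ key
    (fun y _ => hxe y)
  · rw [Pi.single_eq_of_ne hij, Pi.single_eq_of_ne hkj]
  · exact zz_ne_one h.ev h.n3 j
  · exact s.single_ne hij.symm hkj.symm

/-- three blocks -/
theorem three [Finite G] (hnc : Nc ε) (hij : i ≠ j) {x : G}
    (hx : ∀ k l, k ≠ i → k ≠ j → l ≠ i → l ≠ j → k ≠ l → x ∈ UU ε k l) :
    ∃ y : Fin n → ZMod 2, (∀ k l, k ≠ i → k ≠ j → l ≠ i → l ≠ j → y k = y l) ∧ x = ε y := by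
  have h := s.hyp
  obtain ⟨w, F⟩ := h.exists_fr
  obtain ⟨k, l, hD⟩ := s.exists_D4 hij
  have hkl := hD.kl
  have hxU := hx k l hD.ik.symm hD.jk.symm hD.il.symm hD.jl.symm hkl
  obtain ⟨y, yk, yl, hy⟩ := h.fix_V hkl hxU (fun a hak hal z hz => by
    left
    apply Cfsg.Agent.Omega.TTn.Di.cm_one_iff.2
    by_cases hai : a = i
    · subst hai
      rw [UU_symm h.ev] at hz
      exact s.three_aux F hnc hij hx hak.symm hD.jk.symm z hz
    · by_cases haj : a = j
      · subst haj
        rw [UU_symm h.ev] at hz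
        exact s.three_aux F hnc hij.symm (fun k l h1 h2 h3 h4 h5 => hx k l h2 h1 h4 h3 h5)
          hak.symm hD.ik.symm z hz
      · exact h.Uab hak.symm (hx k a hD.ik.symm hD.jk.symm hai haj hak.symm) hz)
  refine ⟨y, fun a b a1 a2 b1 b2 => ?_, hy⟩
  by_cases hab : a = b
  · rw [hab]
  · rw [← h.eU hab, ← hy]
    exact hx a b a1 a2 b1 b2 hab

/-- **`C_G(V_ij) ≤ L`** -/
theorem CV_le [Finite G] (hnc : Nc ε) (hij : i ≠ j) : CV ε i j ≤ LL ε := by
  intro g hg
  have h := s.hyp
  have h9 := s.nine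
  have hgN : g ∈ NN ε i j := CV_le_NN h hij hg
  -- `g` commutes with `z_k`, `k ≠ i, j`
  have gz : ∀ k, k ≠ i → k ≠ j → g * zz ε k = zz ε k * g := by
    intro k h1 h2
    have h3 := hg (Pi.single ⟨k, h1, h2⟩ 1)
    rwa [ext_single] at h3
  have gN : ∀ k l, k ≠ i → k ≠ j → l ≠ i → l ≠ j → g ∈ NN ε k l := by
    intro k l k1 k2 l1 l2
    rw [mem_NN]
    unfold rr
    rw [← mul_assoc, gz k k1 k2, mul_assoc, gz l l1 l2, mul_assoc]
  obtain ⟨y, hy1, hy2⟩ := s.three hnc hij (x := g * zz ε i * g⁻¹) (fun k l k1 k2 l1 l2 hkl =>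
    UU_normal (gN k l k1 k2 l1 l2) (zz_mem_UU k1.symm l1.symm))
  obtain ⟨k0, l0, hD⟩ := s.exists_D4 hij
  -- normalise `y` to `0` off `i`, `j`
  obtain ⟨y', hy1', hy2'⟩ : ∃ y' : Fin n → ZMod 2, (∀ k, k ≠ i → k ≠ j → y' k = 0) ∧
      g * zz ε i * g⁻¹ = ε y' := by
    rcases z2 (y k0) with h0 | h0
    · exact ⟨y, fun k k1 k2 => by rw [hy1 k k0 k1 k2 hD.ik.symm hD.jk.symm, h0], hy2⟩
    · refine ⟨y + 1, fun k k1 k2 => ?_, ?_⟩
      · rw [Pi.add_apply, Pi.one_apply, hy1 k k0 k1 k2 hD.ik.symm hD.jk.symm, h0]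
        decide
      · rw [h.ev.add, h.ev.one, mul_one, hy2]
  have hzi : zz ε i ≠ 1 := zz_ne_one h.ev h.n3 i
  have hzj : zz ε j ≠ 1 := zz_ne_one h.ev h.n3 j
  have hne1 : g * zz ε i * g⁻¹ ≠ 1 := by
    intro h1
    apply hzi
    rw [mul_inv_eq_one, mul_eq_left] at h1
    exact h1
  have cases : g * zz ε i * g⁻¹ = zz ε i ∨ g * zz ε i * g⁻¹ = zz ε j := by
    have e : y' = y' i • Pi.single i 1 + y' j • Pi.single j 1 := by
      funext k
      rw [Pi.add_apply, Pi.smul_apply, Pi.smul_apply, smul_eq_mul, smul_eq_mul]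
      by_cases h1 : k = i
      · subst h1
        rw [Pi.single_eq_same, Pi.single_eq_of_ne hij, mul_one, mul_zero, add_zero]
      · by_cases h2 : k = j
        · subst h2
          rw [Pi.single_eq_same, Pi.single_eq_of_ne h1, mul_one, mul_zero, zero_add]
        · rw [hy1' k h1 h2, Pi.single_eq_of_ne h1, Pi.single_eq_of_ne h2, mul_zero, mul_zero,
            add_zero]
    rcases z2 (y' i) with h1 | h1 <;> rcases z2 (y' j) with h2 | h2 <;> rw [h1, h2] at e
    · rw [zero_smul, zero_smul, add_zero] at e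
      rw [hy2', e, h.ev.zero] at hne1
      exact absurd rfl hne1
    · right
      rw [zero_smul, one_smul, zero_add] at e
      rw [hy2', e]; rfl
    · left
      rw [zero_smul, one_smul, add_zero] at e
      rw [hy2', e]; rfl
    · exfalso
      rw [one_smul, one_smul] at e
      have h3 : g * zz ε i * g⁻¹ = rr ε i j := by
        rw [hy2', e, h.ev.add]; rfl
      rw [← mem_NN'.1 hgN] at h3
      have h4 : zz ε i = rr ε i j := mul_left_cancel (mul_right_cancel h3)
      unfold rr at h4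
      exact hzj (left_eq_mul.1 h4)
  -- an element fixing all points is in `C_G(V)`
  have fixK : ∀ t : G, (∀ k, t * zz ε k = zz ε k * t) → t ∈ LL ε := by
    intro t ht
    apply Engine.KK_le_LL
    rw [Engine.mem_KK']
    have h1 : V ≤ centralizer {t} := by
      intro v hv
      obtain ⟨x, rfl⟩ := h.ev.surj v hv
      have e : x = ∑ k, Pi.single k (x k) := (Finset.univ_sum_single x).symm
      rw [e]
      refine Finset.sum_induction _ (fun y => ε y ∈ centralizer ({t} : Set G)) ?_ ?_ ?_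
      · intro a b ha hb
        rw [h.ev.add]
        exact mul_mem ha hb
      · rw [h.ev.zero]; exact one_mem _
      · intro k _
        rcases z2 (x k) with h2 | h2 <;> rw [h2]
        · rw [Pi.single_zero, h.ev.zero]; exact one_mem _
        · rw [mem_centralizer_singleton_iff]
          exact (ht k).symm
    intro x
    have h2 := h1 (h.ev.mem x)
    rw [mem_centralizer_singleton_iff] at h2
    exact h2.symm
  rcases cases with h1 | h1
  · apply fixK
    intro k
    by_cases hki : k = i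
    · subst hki
      rwa [mul_inv_eq_iff_eq_mul] at h1
    · by_cases hkj : k = j
      · subst hkj
        have e : zz ε k = zz ε i * rr ε i k := by
          unfold rr
          rw [← mul_assoc, zz_sq h.ev, one_mul]
        rw [mul_inv_eq_iff_eq_mul] at h1
        rw [e, ← mul_assoc, h1, mul_assoc, mem_NN.1 hgN, mul_assoc]
      · exact gz k hki hkj
  · obtain ⟨w, hw, hwA⟩ := h.exists_w hij
    have hwg : w * g ∈ LL ε := by
      apply fixK
      have w1 : w * zz ε j * w⁻¹ = zz ε i := by rw [zz_conj hwA, Equiv.swap_apply_right]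
      have w2 : ∀ k, k ≠ i → k ≠ j → w * zz ε k = zz ε k * w := by
        intro k k1 k2
        have h2 := zz_conj hwA k
        rwa [Equiv.swap_apply_of_ne_of_ne k1 k2, mul_inv_eq_iff_eq_mul] at h2
      have w3 : w * rr ε i j = rr ε i j * w := by
        have h2 := rr_conj hwA i j
        rw [Equiv.swap_apply_left, Equiv.swap_apply_right, rr_symm h.ev j i,
          mul_inv_eq_iff_eq_mul] at h2
        exact h2
      have e1 : w * g * zz ε i = zz ε i * (w * g) := by
        have e2 : w * g * zz ε i = (w * (g * zz ε i * g⁻¹) * w⁻¹) * (w * g) := by group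
        rw [e2, h1, w1]
      intro k
      by_cases hki : k = i
      · subst hki; exact e1
      · by_cases hkj : k = j
        · subst hkj
          have e : zz ε k = zz ε i * rr ε i k := by
            unfold rr
            rw [← mul_assoc, zz_sq h.ev, one_mul]
          have e3 : w * g * rr ε i k = rr ε i k * (w * g) := by
            rw [mul_assoc, mem_NN.1 hgN, ← mul_assoc, w3, mul_assoc]
          rw [e, ← mul_assoc, e1, mul_assoc, e3, mul_assoc]
        · rw [mul_assoc, gz k hki hkj, ← mul_assoc, w2 k hki hkj, mul_assoc]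
    have hwL : w ∈ LL ε := ⟨_, hwA⟩
    have := mul_mem (inv_mem hwL) hwg
    rwa [inv_mul_cancel_left] at this

/-- **`N_{N_ij}(V_ij) ≤ L`** -/
theorem norm_le [Finite G] (hnc : Nc ε) (hij : i ≠ j) {g : G} (hg : g ∈ NN ε i j)
    (hn : ∀ x : Fin n → ZMod 2, x i = x j → ∃ y : Fin n → ZMod 2, y i = y j ∧ cj g (ε x) = ε y) :
    g ∈ LL ε := by
  have h := s.hyp
  have h1 : ∀ x : Lt i j → ZMod 2, ∃ y : Lt i j → ZMod 2,
      g * ε (ext i j x) * g⁻¹ = ε (ext i j y) := by
    intro x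
    obtain ⟨y, hy, hy'⟩ := hn (ext i j x) (by rw [ext_i, ext_j])
    obtain ⟨γ, hγ⟩ := exists_zt h hy
    exact ⟨γ, by rw [hγ, ← hy']; rfl⟩
  choose f hf using h1
  obtain ⟨k, hk, hki⟩ := exists_GV h hf
  have hkK : k ∈ KV ε i j := ⟨g, hg, hki⟩
  have hk1 : k 1 = 1 := by
    apply eps_inj_ext h
    rw [← hki 1]
    have h2 : ε (ext i j 1) = rr ε i j := by rw [← val_zt h hij, val_zt_one h hij]
    rw [h2]
    exact mem_NN'.1 hg
  obtain ⟨σ, hσ⟩ := SymFull.full (s.symHyp hij) hkK hk1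
  obtain ⟨τ, ti, tj, ht⟩ := exists_perm_ext (i := i) (j := j) σ⁻¹
  obtain ⟨l, hl, hla⟩ := h.ev.full τ⁻¹
  have hlL : l ∈ LL ε := ⟨_, hla⟩
  have hlI : Ind ε i j l k := by
    intro x
    have h1 := hla (ext i j x)
    have h2 : ext i j x ∘ (τ⁻¹ : Equiv.Perm (Fin n)).symm = ext i j x ∘ τ := rfl
    rw [h2, ht x] at h1
    rw [h1, hσ]
    rfl
  have h3 : l⁻¹ * g ∈ CV ε i j := by
    rw [← ind_one_iff]
    have h4 := hlI.inv.mul hki
    rwa [inv_mul_cancel] at h4
  have h5 := mul_mem hlL (s.CV_le hnc hij h3)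
  rwa [mul_inv_cancel_left] at h5

end Sy

end Cfsg.Agent.Omega.NSix.TLEnd
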