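import Cfsg.Agent.Omega.NSix.FixApp
import Cfsg.Agent.Omega.NSix.MatchApp
import Cfsg.Agent.Omega.MinPar
import Cfsg.Agent.Omega.S5.TT

/-!
# OMEGA N6, #14103 (F2): `O₂(C_G(r_ij))` centralises `z_k`, `k ≠ i, j` (`m ≥ 3`)

* `cen_V0` : the statement for one pair `{i, j}` with a transposition in `S`, from `FixApp.exists_phi` (#13864, (A3))
  and `MatchApp.Big.mem` (the matching lemma);
* `pair` : the literal form of `S5.NatBig.Facts.pair`.
-/

set_option autoImplicit false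

namespace Cfsg.Agent.Omega.NSix.PairCen

open Subgroup Cfsg Cfsg.Agent.ZN Cfsg.Agent.Omega.MinPar Cfsg.Agent.Omega.S5.Def Cfsg.Agent.Omega.S5.Syl Cfsg.Agent.Omega.NSix.Base
  Cfsg.Agent.Omega.NSix.Basic Cfsg.Agent.Omega.NSix.CosetAct Cfsg.Agent.Omega.NSix.FixApp
  Cfsg.Agent.Omega.NSix.StabPerm Cfsg.Agent.Omega.NSix.MatchApp

open Cfsg.Agent.Omega.NSix.Match (ind)

open scoped Pointwise

universe u

variable {G : Type u} [Group G]

section

variable {n : ℕ} {V P : Subgroup G} {ε : (Fin n → ZMod 2) → G} {i j : Fin n}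

/-- The even sets off `{i, j}` belong to `V_n`. -/
theorem ind_mem_Vn (h : EvenSet n V P ε) {A : Finset (Fin n)} (hA : 2 ∣ A.card)
    (hd : ∀ a ∈ A, a ≠ i ∧ a ≠ j) : ε (ind A) ∈ Vn ε i j := by
  classical
  rcases A.eq_empty_or_nonempty with rfl | ⟨a0, ha0⟩
  · have : ind (∅ : Finset (Fin n)) = 0 := by
      funext x
      simp [ind]
    rw [this, h.zero]
    exact one_mem _
  · have h1 : ind A = ∑ a ∈ A, ((Pi.single a 1 : Fin n → ZMod 2) + Pi.single a0 1) := by
      rw [Finset.sum_add_distrib, Finset.sum_const]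
      have h2 : A.card • (Pi.single a0 1 : Fin n → ZMod 2) = 0 := by
        obtain ⟨k, hk⟩ := hA
        rw [hk, mul_comm, mul_smul, two_smul, add_self, smul_zero]
      rw [h2, add_zero]
      funext x
      rw [Finset.sum_apply]
      unfold ind
      split_ifs with hx
      · rw [Finset.sum_eq_single x]
        · rw [Pi.single_eq_same]
        · intro b _ hb
          exact Pi.single_eq_of_ne hb.symm _
        · exact fun h0 => absurd hx h0
      · rw [Finset.sum_eq_zero]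
        intro b hb
        exact Pi.single_eq_of_ne (fun h0 => hx (by rw [h0]; exact hb)) _
    have h3 : ind A ∈ pre h (Vn ε i j) := by
      rw [h1]
      refine sum_mem fun a ha => ?_
      rw [mem_pre, h.add]
      exact rr_mem_Vn (hd a ha) (hd a0 ha0)
    exact h3

end

section

variable {m : ℕ} {V P S W Y Q : Subgroup G} {ε : (Fin (2 ^ m + 1) → ZMod 2) → G} {i j : Fin (2 ^ m + 1)}

theorem comp_symm_ind {σ : Equiv.Perm (Fin (2 ^ m + 1))} {A : Finset (Fin (2 ^ m + 1))} (h : σ • A = A) :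
    ind A ∘ σ.symm = ind A := by
  funext x
  change ind A (σ.symm x) = ind A x
  unfold ind
  have h1 : σ.symm x ∈ A ↔ x ∈ A := by
    constructor
    · intro hx
      rw [← h, Finset.mem_smul_finset]
      exact ⟨_, hx, Equiv.apply_symm_apply σ x⟩
    · intro hx
      rw [← h, Finset.mem_smul_finset] at hx
      obtain ⟨y, hy, rfl⟩ := hx
      change σ.symm (σ y) ∈ A
      rwa [Equiv.symm_apply_apply]
  simp only [h1]

/-- (F2) for the pair `{i, j}`. -/
theorem cen_V0 [Finite G] (h : Hyp V P S W ε i j) (hm : 3 ≤ m) (hB : Big S P V Y ε)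
    (hS2 : ¬ 2 ∣ S.relIndex P)
    (hWc : ∀ g ∈ NN ε i j, (∀ w ∈ W, g * w = w * g) → g ∈ W)
    (hQP : Q ≤ P) (hQ2 : IsPGroup 2 Q) (hQV : Q ≤ centralizer (V : Set G))
    (hQc : ∀ g : G, (∀ q ∈ Q, g * q = q * g) → g ∈ Q)
    (hQY : ∀ y ∈ Q, (∀ q ∈ Q, y * q = q * y) → y * y = 1 → y ∈ Y) :
    ∀ w ∈ W, ∀ u ∈ V0 ε i j, w * u = u * w := by
  classical
  obtain ⟨φ, f1, f2, f3, f4⟩ := exists_phi h hWc hQP hQ2 hQV hQc
  -- a set of size `2 ^ (m - 1)` off `{i, j}`
  have hpow : 2 ^ m = 2 * 2 ^ (m - 1) := by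
    rw [← pow_succ']
    congr 1
    omega
  have hpow2 : 2 ∣ 2 ^ (m - 1) := dvd_pow_self 2 (by omega)
  have hp1 : 2 ≤ 2 ^ (m - 1) := Nat.le_of_dvd (by positivity) hpow2
  have hcard : ((Finset.univ \ {i, j} : Finset (Fin (2 ^ m + 1)))).card = 2 ^ m + 1 - 2 := by
    rw [Finset.card_sdiff_of_subset (Finset.subset_univ _), Finset.card_univ, Fintype.card_fin,
      Finset.card_pair h.ne]
  obtain ⟨A, hAs, hAc⟩ := Finset.exists_subset_card_eq (s := (Finset.univ \ {i, j} : Finset (Fin (2 ^ m + 1))))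
    (n := 2 ^ (m - 1)) (by rw [hcard]; omega)
  have hAoff : ∀ a ∈ A, a ≠ i ∧ a ≠ j := by
    intro a ha
    have h1 := hAs ha
    simp only [Finset.mem_sdiff, Finset.mem_univ, true_and, Finset.mem_insert, Finset.mem_singleton, not_or] at h1
    exact h1
  have hiA : i ∉ A := fun h0 => (hAoff i h0).1 rfl
  have hjA : j ∉ A := fun h0 => (hAoff j h0).2 rfl
  have haV : ε (ind A) ∈ Vn ε i j := ind_mem_Vn h.even (by rw [hAc]; exact hpow2) hAoff
  set x := φ (ε (ind A)) with hx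
  obtain ⟨-, -, hxQ, hxQ', hx2⟩ := f3 _ haV
  have hxY : x ∈ Y := hQY x hxQ hxQ' hx2
  have hd : Disjoint ({i, j} : Finset (Fin (2 ^ m + 1))) A := by
    rw [Finset.disjoint_left]
    intro a ha ha'
    rw [Finset.mem_insert, Finset.mem_singleton] at ha
    rcases ha with rfl | rfl
    · exact hiA ha'
    · exact hjA ha'
  have hmem := hB.mem hm hS2 h.isP hAc (Finset.card_pair h.ne) hd hxY (by
    intro g hg σ hσ hσA hσe
    have hσSt : σ ∈ St i j := by
      have h1 : σ i ∈ ({i, j} : Finset (Fin (2 ^ m + 1))) := by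
        rw [← hσe, Finset.mem_smul_finset]
        exact ⟨i, by simp, rfl⟩
      have h2 : σ j ∈ ({i, j} : Finset (Fin (2 ^ m + 1))) := by
        rw [← hσe, Finset.mem_smul_finset]
        exact ⟨j, by simp, rfl⟩
      rw [Finset.mem_insert, Finset.mem_singleton] at h1 h2
      rcases h1 with h1 | h1 <;> rcases h2 with h2 | h2
      · exact absurd (σ.injective (h1.trans h2.symm)) h.ne
      · exact Or.inl ⟨h1, h2⟩
      · exact Or.inr ⟨h1, h2⟩
      · exact absurd (σ.injective (h1.trans h2.symm)) h.ne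
    obtain ⟨g', hg', hgσ', hφ⟩ := f4 σ hσSt
    rw [hB.act_eq hS2 h.isP hg hg'.1 hσ hgσ' hxY, hx, ← (hφ _ haV).2, hgσ', comp_symm_ind hσA])
  -- a transposition `(k l)`, `k ∈ A`, `l ∉ A ∪ {i, j}`
  obtain ⟨k, hk⟩ : A.Nonempty := by
    rw [← Finset.card_pos, hAc]
    omega
  obtain ⟨l, hl, hlA⟩ : ∃ l, (l ≠ i ∧ l ≠ j) ∧ l ∉ A := by
    have h1 : A.card < ((Finset.univ \ {i, j} : Finset (Fin (2 ^ m + 1)))).card := by
      rw [hcard, hAc]
      omega
    obtain ⟨l, h2, h3⟩ := Finset.exists_mem_notMem_of_card_lt_card h1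
    simp only [Finset.mem_sdiff, Finset.mem_univ, true_and, Finset.mem_insert, Finset.mem_singleton, not_or] at h2
    exact ⟨l, h2, h3⟩
  have hkij := hAoff k hk
  have hkl : k ≠ l := fun h0 => hlA (by rw [← h0]; exact hk)
  obtain ⟨g, hg, hgσ, hφ⟩ := f4 _ (swap_mem_St hkij hl)
  have hr : ε (ind A) * (g * ε (ind A) * g⁻¹) = rr ε k l := by
    rw [hgσ, ← h.even.add]
    change _ = ε _ * ε _
    rw [← h.even.add]
    congr 1
    funext a
    rw [Pi.add_apply, Pi.add_apply]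
    change ind A a + ind A ((Equiv.swap k l).symm a) = _
    rw [Equiv.symm_swap]
    unfold ind
    by_cases hak : a = k
    · subst hak
      rw [Equiv.swap_apply_left, if_pos hk, if_neg hlA, Pi.single_eq_same, Pi.single_eq_of_ne hkl]
    · by_cases hal : a = l
      · subst hal
        rw [Equiv.swap_apply_right, if_pos hk, if_neg hlA, Pi.single_eq_same, Pi.single_eq_of_ne hkl.symm, add_comm]
      · rw [Equiv.swap_apply_of_ne_of_ne hak hal, Pi.single_eq_of_ne hak, Pi.single_eq_of_ne hal]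
        split_ifs
        · decide
        · decide
  have hre : g * ε (ind {i, j}) * g⁻¹ = ε (ind {i, j}) := by
    rw [hgσ]
    congr 1
    refine comp_symm_ind ?_
    exact Match.swap_smul_eq_self (by simp [hkij]) (by simp [hl])
  have hφr : φ (rr ε k l) = x * (g * x * g⁻¹) := by
    rw [← hr, f1 _ haV _ (hφ _ haV).1, (hφ _ haV).2]
  have hkey : φ (rr ε k l) = rr ε k l := by
    have hrne : φ (rr ε k l) ≠ 1 := fun h0 =>
      rr_ne_one h.even h.three hkl (f2 _ (rr_mem_Vn hkij hl) h0)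
    rcases hmem with h1 | h1 | h1 | h1
    · exfalso
      apply hrne
      rw [hφr, h1]
      group
    · rw [hφr, h1, hr]
    · exfalso
      apply hrne
      rw [hφr, h1, hre, h.even.sq]
    · rw [hφr, h1]
      calc ε (ind A) * ε (ind {i, j}) * (g * (ε (ind A) * ε (ind {i, j})) * g⁻¹)
          = ε (ind A) * (ε (ind {i, j}) * (g * ε (ind A) * g⁻¹)) * (g * ε (ind {i, j}) * g⁻¹) := by group
        _ = ε (ind A) * ((g * ε (ind A) * g⁻¹) * ε (ind {i, j})) * ε (ind {i, j}) := by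
          rw [hre, hgσ, h.even.comm]
        _ = (ε (ind A) * (g * ε (ind A) * g⁻¹)) * (ε (ind {i, j}) * ε (ind {i, j})) := by group
        _ = _ := by rw [hr, h.even.sq, mul_one]
  intro w hw
  refine h.p2 hw hkij hl hkl ?_
  have h1 := (f3 _ (rr_mem_Vn hkij hl)).2.1 w hw
  rw [hkey] at h1
  exact h1.symm

end

section

open Cfsg.Agent.MinSimple.VModule (mem_zc zc_comm zc_le le_centralizer_zc normalizer_le_normalizer_zc zc_le_zl
  o2_isPGroup le_normalizer_o2)

variable [Finite G]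

omit [Finite G] in
/-- Some transposition is induced by an element of `S`. -/
theorem exists_swap_mem {m : ℕ} (hm : 2 ≤ m) {V P S : Subgroup G} {ε : (Fin (2 ^ m + 1) → ZMod 2) → G}
    (h : EvenSet (2 ^ m + 1) V P ε) (hS2 : ¬ 2 ∣ S.relIndex P) :
    ∃ i j, i ≠ j ∧ ∃ a ∈ S, Acts ε a (Equiv.swap i j) := by
  have h5 := five_le hm
  have hn : 3 ≤ 2 ^ m + 1 := by omega
  let π := h.hom hn
  have hSi : ¬ 2 ∣ ((S.subgroupOf P).map π).relIndex ⊤ := by
    rw [relIndex_top_right]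
    exact fun h2 => hS2 (h2.trans (index_map_dvd _ (h.hom_surjective hn)))
  obtain ⟨i, j, hij⟩ : ∃ i j : Fin (2 ^ m + 1), i ≠ j :=
    ⟨⟨0, by omega⟩, ⟨1, by omega⟩, fun h0 => by simpa using congrArg Fin.val h0⟩
  obtain ⟨g, -, h1⟩ := exists_conj (K := ⊤) (H := (S.subgroupOf P).map π) hSi (mem_top (Equiv.swap i j))
    (Equiv.swap_mul_self i j)
  rw [conj_swap] at h1
  obtain ⟨a, ha, ha1⟩ := h1
  refine ⟨g⁻¹ i, g⁻¹ j, fun h0 => hij (g⁻¹.injective h0), a, ha, ?_⟩
  rw [← ha1]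
  exact h.acts_hom hn a

/-- **(F2)**: `O₂(C_G(r_ij))` commutes with `z_k`, `k ≠ i, j`. -/
theorem pair (hG : IsCharacteristicTwoType G) (S : Sylow 2 G) {P : Subgroup G} {m : ℕ}
    {ε : (Fin (2 ^ m + 1) → ZMod 2) → G} (hm : 3 ≤ m) (hP : IsParS (S : Subgroup G) P)
    (h : EvenSet (2 ^ m + 1) (zl (S : Subgroup G) P) P ε) (h0 : Fix0 ε (S : Subgroup G)) :
    ∀ i j, i ≠ j → ∀ k, k ≠ i → k ≠ j → ∀ q ∈ o2 (centralizer ({rr ε i j} : Set G)),
      q * zz ε k = zz ε k * q := by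
  have hf : Fact (Nat.Prime 2) := ⟨Nat.prime_two⟩
  have h5 : 5 ≤ 2 ^ m + 1 := five_le (by omega)
  have hn : 3 ≤ 2 ^ m + 1 := by omega
  have hS2 : ¬ 2 ∣ (S : Subgroup G).relIndex P := MinSimple.Basic.not_dvd_relIndex S hP.le
  have hL := hP.isLoc
  have hVz : zl (S : Subgroup G) P ≤ zc (o2 P) := hL.zl_le S hG
  have hVP : zl (S : Subgroup G) P ≤ P := hVz.trans ((zc_le _).trans (MinSimple.VModule.o2_le P))
  have hB : Big (S : Subgroup G) P (zl (S : Subgroup G) P) (zc (o2 P)) ε :=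
    { ev := h
      fix0 := h0
      le := hP.le
      comm := zc_comm _
      sq := fun y hy => by
        have := (mem_zc.mp hy).2.2
        rwa [pow_two] at this
      ge := hVz
      nrm := fun g hg y hy =>
        (mem_normalizer_iff.mp (normalizer_le_normalizer_zc _ (le_normalizer_o2 P hg)) y).mp hy
      syl := fun s hs hsV => le_centralizer_zc _ (by
        rw [← hP.inf_centralizer S hG]
        exact ⟨hs, hsV⟩)
      fixed := fun y hy hys => by
        have h1 : y ∈ zc (S : Subgroup G) :=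
          mem_zc.mpr ⟨hL.o2_le S (zc_le _ hy), hys, (mem_zc.mp hy).2.2⟩
        exact fixed (by omega) h hP.le hS2 h0 (zc_le_zl _ _ h1) hys }
  obtain ⟨i₀, j₀, hij₀, a, ha, haσ⟩ := exists_swap_mem (by omega) h hS2
  have hr1 : rr ε i₀ j₀ ≠ 1 := rr_ne_one h hn hij₀
  have hr2 : rr ε i₀ j₀ ^ 2 = 1 := by
    rw [pow_two]
    exact rr_sq h _ _
  have hH : Hyp (zl (S : Subgroup G) P) P (S : Subgroup G) (o2 (centralizer ({rr ε i₀ j₀} : Set G))) ε i₀ j₀ :=
    { even := h
      VP := hVP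
      two_le := by omega
      le := hP.le
      isP := S.isPGroup'
      max := fun T hT => by
        obtain ⟨T', hT'⟩ := hT.exists_le_sylow
        calc Nat.card T ≤ Nat.card (T' : Subgroup G) := Subgroup.card_le_of_le hT'
          _ = Nat.card (S : Subgroup G) := Nat.card_congr (Sylow.equiv T' S).toEquiv
      fix0 := h0
      ne := hij₀
      swap := ⟨a, ha, haσ⟩
      isPW := o2_isPGroup _
      leW := MinSimple.VModule.o2_le _
      norm := le_normalizer_o2 _ }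
  -- `C_G(O₂(P)) ≤ O₂(P)`
  have hQc : ∀ g : G, (∀ q ∈ o2 P, g * q = q * g) → g ∈ o2 P := by
    intro g hg
    have hN := hL.normalizer_o2 S
    have h1 : o2 (normalizer (o2 P : Set G)) ≤ o2 P := o2_le_o2 S hP.le (le_normalizer_o2 P)
    have hgC : g ∈ centralizer (o2 P : Set G) := mem_centralizer_iff.mpr fun q hq => (hg q hq).symm
    exact h1 (hN.char2 S hG ⟨centralizer_le_normalizer _ hgC, centralizer_le h1 hgC⟩)
  have hcen := cen_V0 hH hm hB hS2 (Q := o2 P)
    (fun g hg hgW => MinSimple.Basic.char2_centralizer hG hr2 hr1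
      ⟨hg, mem_centralizer_iff.mpr fun w hw => (hgW w hw).symm⟩)
    (MinSimple.VModule.o2_le P) (o2_isPGroup P)
    (fun q hq => by
      have h1 : q ∈ (S : Subgroup G) ⊓ centralizer (zl (S : Subgroup G) P : Set G) := by
        rw [hP.inf_centralizer S hG]
        exact hq
      exact h1.2) hQc
    (fun y hy hyq hy2 => mem_zc.mpr ⟨hy, fun b hb => (hyq b hb).symm, by rw [pow_two]; exact hy2⟩)
  -- all pairs are conjugate under `P`
  intro i j hij k hki hkj q hq
  obtain ⟨σ, h1, h2, -⟩ := exists_perm hij₀ hij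
  obtain ⟨g, -, hgσ⟩ := h.full σ
  have hrr : g * rr ε i₀ j₀ * g⁻¹ = rr ε i j := by
    rw [rr_conj hgσ, h1, h2]
  have h3 : g⁻¹ * q * g ∈ o2 (centralizer ({rr ε i₀ j₀} : Set G)) := by
    rw [← hrr, ← S5.TT.o2_conj, ChoiceBase.mem_cj] at hq
    exact hq
  have h4 : zz ε (σ⁻¹ k) ∈ V0 ε i₀ j₀ := by
    refine subset_closure ⟨σ⁻¹ k, fun h6 => hki ?_, fun h6 => hkj ?_, rfl⟩
    · rw [← h1, ← h6]
      exact (Equiv.apply_symm_apply σ k).symm
    · rw [← h2, ← h6]
      exact (Equiv.apply_symm_apply σ k).symm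
  have h6 := hcen _ h3 _ h4
  have h7 : g * zz ε (σ⁻¹ k) * g⁻¹ = zz ε k := by
    rw [zz_conj hgσ]
    congr 1
    exact Equiv.apply_symm_apply σ k
  rw [← h7]
  calc q * (g * zz ε (σ⁻¹ k) * g⁻¹) = g * (g⁻¹ * q * g * zz ε (σ⁻¹ k)) * g⁻¹ := by group
    _ = g * (zz ε (σ⁻¹ k) * (g⁻¹ * q * g)) * g⁻¹ := by rw [h6]
    _ = g * zz ε (σ⁻¹ k) * g⁻¹ * q := by group

end

end Cfsg.Agent.Omega.NSix.PairCen
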