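import Cfsg.Agent.Omega.NSix.Engine.Frame
import Cfsg.Agent.Omega.NSix.Basic
import Cfsg.Agent.GTwoFour.Tools

/-!
# OMEGA N6: `U_12 / ⟨r_12⟩` is an absolutely irreducible `N_12`-module (#16487 (1), #16945 (IRR))

`Fr` is the frame of `Engine/Frame.lean`; `cen` is (4) of #15755: `C_{U_ij}(⟨U_ik : k ≠ i, j⟩) ≤ V`.
-/

set_option autoImplicit false

namespace Cfsg.Agent.Omega.NSix.Irr

open Subgroup Cfsg.Agent.Omega.S5.Def Cfsg.Agent.Omega.NSix.Base Cfsg.Agent.Omega.NSix.Engine
open Cfsg.Agent.Omega.TTn.Di (cm cj cj_mul cj_inv cj_cj cj_one cj_eq_of_comm comm_of_cj cj_eq_cm cm_eq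
  cm_one_iff cm_eq')
open scoped commutatorElement

universe u

variable {G : Type u} [Group G] {n : ℕ}

/-- The input. -/
structure Hyp (ε : (Fin n → ZMod 2) → G) (U W Q : Fin n → Fin n → Subgroup G) (w : Fin n → Fin n → G)
    (T : Subgroup G) (i j : Fin n) : Prop where
  fr : Fr ε U W Q w
  ij : i ≠ j
  odd : Odd n
  three : ∃ k l : Fin n, D4 i j k l
  nrm : ∀ g ∈ NN ε i j, ∀ u ∈ U i j, g * u * g⁻¹ ∈ U i j
  gen : U i j ≤ UU ε i j
  cen : ∀ u ∈ U i j, (∀ k, k ≠ i → k ≠ j → ∀ y ∈ U i k, u * y = y * u) → ∃ x, u = ε x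
  two : IsPGroup 2 T
  UT : ∀ k, k ≠ i → U i k ≤ T
  TK : T ≤ KK ε

section

variable {ε : (Fin n → ZMod 2) → G} {U W Q : Fin n → Fin n → Subgroup G} {w : Fin n → Fin n → G}
  {T : Subgroup G} {i j : Fin n} (h : Hyp ε U W Q w T i j)
include h

omit h in
theorem kn : KK ε ≤ NN ε i j := by
  intro g hg
  rw [Basic.mem_NN]
  exact Fr.Kr hg i j

/-- a swap of two letters different from `i`, `j` is induced by an element of `N_ij` -/
theorem w_mem {k l : Fin n} (hd : D4 i j k l) : w k l ∈ NN ε i j := by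
  rw [Basic.mem_NN', Basic.rr_conj (h.fr.wA hd.kl), Equiv.swap_apply_of_ne_of_ne hd.ik hd.il,
    Equiv.swap_apply_of_ne_of_ne hd.jk hd.jl]

/-- `[u, U_ik] ≤ ⟨r_ij⟩` for all `k` implies `u ∈ V` -/
theorem fix {u : G} (hu : u ∈ U i j)
    (hf : ∀ k, k ≠ i → k ≠ j → ∀ y ∈ U i k, cm u y = 1 ∨ cm u y = rr ε i j) : ∃ x, u = ε x := by
  apply h.cen u hu
  intro k hki hkj y hy
  rcases hf k hki hkj y hy with h1 | h1
  · exact cm_one_iff.1 h1
  · exfalso
    have h2 : cm u y ∈ U i k := h.fr.cm_right hki.symm (h.fr.UK h.ij hu) hy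
    rw [h1] at h2
    exact h.fr.r_nmem hki.symm h.ij.symm hkj.symm h2

/-- the irreducibility of the even subsets of the remaining letters: `R` contains an element
`ε x` not in `⟨r_ij⟩` -/
theorem of_e {R : Subgroup G} (hR : ∀ g ∈ NN ε i j, ∀ u ∈ R, g * u * g⁻¹ ∈ R) (hr : rr ε i j ∈ R)
    {x : Fin n → ZMod 2} (hx : ε x ∈ R) {k l : Fin n} (hd : D4 i j k l) (hkl : x k ≠ x l) :
    ∀ m, m ≠ i → m ≠ j → zz ε m ∈ R := by
  have F := h.fr
  -- the pair `k l`
  have h1 : rr ε k l ∈ R := by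
    have h2 := R.mul_mem (hR _ (w_mem h hd) _ hx) (R.inv_mem hx)
    rw [F.wA hd.kl x, F.einv, ← F.add] at h2
    rw [F.rr_eq]
    convert h2 using 2
    funext m
    have hs : (x ∘ (Equiv.swap k l).symm + x) m = x (Equiv.swap k l m) + x m := rfl
    rw [hs, Pi.add_apply]
    have hone : ∀ a b : ZMod 2, a ≠ b → 1 = b + a := by decide
    by_cases hk : m = k
    · subst hk
      rw [Equiv.swap_apply_left, Pi.single_eq_same, Pi.single_eq_of_ne hd.kl, add_zero]
      exact hone _ _ hkl
    · by_cases hl : m = l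
      · subst hl
        rw [Equiv.swap_apply_right, Pi.single_eq_same, Pi.single_eq_of_ne hd.kl.symm, zero_add]
        exact hone _ _ hkl.symm
      · rw [Equiv.swap_apply_of_ne_of_ne hk hl, Pi.single_eq_of_ne hk, Pi.single_eq_of_ne hl,
          CharTwo.add_self_eq_zero, CharTwo.add_self_eq_zero]
  -- all pairs
  have conj : ∀ {a b c d : Fin n}, D4 i j a b → rr ε c d ∈ R →
      rr ε (Equiv.swap a b c) (Equiv.swap a b d) ∈ R := by
    intro a b c d hab hcd
    have h2 := hR _ (w_mem h hab) _ hcd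
    rwa [Basic.rr_conj (F.wA hab.kl)] at h2
  have h2 : ∀ m, m ≠ i → m ≠ j → rr ε k m ∈ R := by
    intro m hmi hmj
    rcases eq_or_ne m k with rfl | hmk
    · have h3 : rr ε m m = 1 := F.z_sq m
      rw [h3]
      exact R.one_mem
    rcases eq_or_ne m l with rfl | hml
    · exact h1
    · have h3 := conj (a := l) (b := m) ⟨hd.ij, hd.il, hmi.symm, hd.jl, hmj.symm, hml.symm⟩ h1
      rwa [Equiv.swap_apply_left, Equiv.swap_apply_of_ne_of_ne hd.kl hmk.symm] at h3
  have h3 : ∀ m m', m ≠ i → m ≠ j → m' ≠ i → m' ≠ j → rr ε m m' ∈ R := by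
    intro m m' a b c d
    have h4 := R.mul_mem (h2 m a b) (h2 m' c d)
    have e : rr ε k m * rr ε k m' = rr ε m m' := by
      unfold rr
      rw [F.z_comm k m, mul_assoc, ← mul_assoc (zz ε k), F.z_sq, one_mul]
    rwa [e] at h4
  -- the points: product of all letters is 1
  intro m hmi hmj
  -- for a finset `S` of letters `≠ i, j` : if `S` is even then `ε (∑ S) ∈ R`
  have key : ∀ S : Finset (Fin n), i ∉ S → j ∉ S →
      ε (∑ k ∈ S, Pi.single k 1) ∈ R ∧ Even S.card ∨
      ε (∑ k ∈ S, Pi.single k 1) * zz ε m ∈ R ∧ Odd S.card := by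
    intro S
    induction S using Finset.induction_on with
    | empty =>
      intro _ _
      left
      rw [Finset.sum_empty, F.zero, Finset.card_empty]
      exact ⟨R.one_mem, Even.zero⟩
    | insert a S ha ih =>
      intro h4 h5
      rw [Finset.mem_insert, not_or] at h4 h5
      rw [Finset.sum_insert ha, F.add, Finset.card_insert_of_notMem ha]
      have e : ε (Pi.single a 1) = zz ε a := rfl
      rw [e]
      rcases ih h4.2 h5.2 with ⟨h6, h7⟩ | ⟨h6, h7⟩
      · right
        refine ⟨?_, h7.add_one⟩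
        have h8 := R.mul_mem (h3 a m (Ne.symm h4.1) (Ne.symm h5.1) hmi hmj) h6
        have e2 : rr ε a m * ε (∑ k ∈ S, Pi.single k 1) =
            zz ε a * ε (∑ k ∈ S, Pi.single k 1) * zz ε m := by
          have e3 : ε (∑ k ∈ S, Pi.single k 1) * zz ε m = zz ε m * ε (∑ k ∈ S, Pi.single k 1) :=
            F.ecomm _ _
          rw [mul_assoc, e3, ← mul_assoc]
          rfl
        rwa [e2] at h8
      · left
        refine ⟨?_, h7.add_one⟩
        have h8 := R.mul_mem (h3 a m (Ne.symm h4.1) (Ne.symm h5.1) hmi hmj) h6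
        have e2 : rr ε a m * (ε (∑ k ∈ S, Pi.single k 1) * zz ε m) =
            zz ε a * ε (∑ k ∈ S, Pi.single k 1) := by
          have e3 : ε (∑ k ∈ S, Pi.single k 1) * zz ε m = zz ε m * ε (∑ k ∈ S, Pi.single k 1) :=
            F.ecomm _ _
          rw [e3, ← mul_assoc]
          unfold rr
          rw [mul_assoc (zz ε a), F.z_sq, mul_one]
        rwa [e2] at h8
  rcases key (Finset.univ \ {i, j}) (by simp) (by simp) with ⟨_, h5⟩ | ⟨h4, _⟩
  · exfalso
    have h6 : (Finset.univ \ {i, j} : Finset (Fin n)).card = n - 2 := by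
      rw [Finset.card_sdiff_of_subset (Finset.subset_univ _), Finset.card_univ, Fintype.card_fin,
        Finset.card_pair h.ij]
    rw [h6] at h5
    have h7 := h.odd
    have h8 : 2 ≤ n := by
      have h9 : ({i, j} : Finset (Fin n)).card ≤ Fintype.card (Fin n) := Finset.card_le_univ _
      rwa [Finset.card_pair h.ij, Fintype.card_fin] at h9
    rw [Nat.even_sub h8] at h5
    rcases h7 with ⟨a, ha⟩
    rcases h5.2 even_two with ⟨b, hb⟩
    omega
  · have h5 : (∑ k ∈ Finset.univ \ {i, j}, Pi.single k 1 : Fin n → ZMod 2) =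
        1 + (Pi.single i 1 + Pi.single j 1) := by
      funext a
      rw [Finset.sum_apply, Pi.add_apply, Pi.add_apply, Pi.one_apply]
      by_cases hai : a = i
      · subst hai
        rw [Pi.single_eq_same, Pi.single_eq_of_ne h.ij, Finset.sum_eq_zero]
        · decide
        · intro b hb
          have : a ≠ b := by rintro rfl; simp at hb
          exact Pi.single_eq_of_ne this _
      by_cases haj : a = j
      · subst haj
        rw [Pi.single_eq_same, Pi.single_eq_of_ne hai, Finset.sum_eq_zero]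
        · decide
        · intro b hb
          have : a ≠ b := by rintro rfl; simp at hb
          exact Pi.single_eq_of_ne this _
      · rw [Pi.single_eq_of_ne hai, Pi.single_eq_of_ne haj, Finset.sum_eq_single a]
        · rw [Pi.single_eq_same, add_zero, add_zero]
        · intro b _ hb
          exact Pi.single_eq_of_ne (Ne.symm hb) _
        · intro h0
          exfalso
          apply h0
          simp [hai, haj]
    rw [h5, F.add, F.eone, one_mul, ← F.rr_eq] at h4
    have h6 := R.mul_mem hr h4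
    rwa [← mul_assoc, F.r_sq, one_mul] at h6

/-- an element `ε x` of `U_ij` not in `⟨r_ij⟩` is not constant on the remaining letters -/
theorem exists_ne {x : Fin n → ZMod 2} (hx : ε x ∈ U i j) (h1 : ε x ≠ 1) (h2 : ε x ≠ rr ε i j) :
    ∃ k l : Fin n, D4 i j k l ∧ x k ≠ x l := by
  have F := h.fr
  by_contra hc
  push Not at hc
  obtain ⟨k, l, hd⟩ := h.three
  have h3 := (F.eU h.ij x).1 hx
  have h4 : ∀ m, m ≠ i → m ≠ j → x m = x k := by
    intro m hmi hmj
    rcases eq_or_ne m k with rfl | hmk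
    · rfl
    · exact hc m k ⟨h.ij, hmi.symm, hd.ik, hmj.symm, hd.jk, hmk⟩
  have hz : ∀ a : ZMod 2, a = 0 ∨ a = 1 := by decide
  -- four cases
  have e1 : x = (fun _ => x k) + (fun _ => x k + x i) * (Pi.single i 1 + Pi.single j 1) := by
    funext m
    rw [Pi.add_apply, Pi.mul_apply, Pi.add_apply]
    by_cases hmi : m = i
    · subst hmi
      rw [Pi.single_eq_same, Pi.single_eq_of_ne h.ij, add_zero, mul_one, ← add_assoc,
        CharTwo.add_self_eq_zero, zero_add]
    by_cases hmj : m = j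
    · subst hmj
      rw [Pi.single_eq_same, Pi.single_eq_of_ne hmi, zero_add, mul_one, ← add_assoc,
        CharTwo.add_self_eq_zero, zero_add, ← h3]
    · rw [Pi.single_eq_of_ne hmi, Pi.single_eq_of_ne hmj, add_zero, mul_zero, add_zero]
      exact h4 m hmi hmj
  have e0 : ∀ a : ZMod 2, ε (fun _ => a) = 1 := by
    intro a
    rcases hz a with rfl | rfl
    · exact F.zero
    · exact F.eone
  rw [e1, F.add, e0, one_mul] at h1 h2
  rcases hz (x k + x i) with h5 | h5
  · apply h1
    rw [h5]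
    have : (fun _ => (0 : ZMod 2)) * (Pi.single i 1 + Pi.single j 1 : Fin n → ZMod 2) = 0 :=
      zero_mul (Pi.single i 1 + Pi.single j 1 : Fin n → ZMod 2)
    rw [this, F.zero]
  · apply h2
    rw [h5, F.rr_eq]
    exact congrArg ε (one_mul (Pi.single i 1 + Pi.single j 1 : Fin n → ZMod 2))

/-- **(IRR)** `U_ij / ⟨r_ij⟩` is an irreducible `N_ij`-module -/
theorem irr [Finite G] {R : Subgroup G} (hR : ∀ g ∈ NN ε i j, ∀ u ∈ R, g * u * g⁻¹ ∈ R)
    (hr : rr ε i j ∈ R) (hRU : R ≤ U i j) (hne : ∃ u ∈ R, u ≠ 1 ∧ u ≠ rr ε i j) : R = U i j := by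
  have F := h.fr
  have : Fact (Nat.Prime 2) := ⟨Nat.prime_two⟩
  obtain ⟨u, hu, hu1, hu2⟩ := hne
  have hmem : ∀ x : G, x ∈ zpowers (rr ε i j) ↔ x = 1 ∨ x = rr ε i j := by
    intro x
    rw [mem_zpowers_iff]
    constructor
    · rintro ⟨k, rfl⟩
      rcases Int.even_or_odd k with ⟨a, rfl⟩ | ⟨a, rfl⟩
      · left
        rw [← two_mul, zpow_mul, zpow_two, F.r_sq, one_zpow]
      · right
        rw [zpow_add, zpow_mul, zpow_two, F.r_sq, one_zpow, one_mul, zpow_one]
    · rintro (rfl | rfl)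
      · exact ⟨0, zpow_zero _⟩
      · exact ⟨1, zpow_one _⟩
  obtain ⟨v, hv, hv1, hv2⟩ := GTwoFour.Tools.exists_fixed_mod (p := 2) (Y := T) (N := R)
    (M := zpowers (rr ε i j)) h.two (hRU.trans (by
      have := h.UT j h.ij.symm
      exact this)) (fun y hy m hm => hR y (kn (h.TK hy)) m hm)
    (fun y hy m hm => by
      have h3 := h.TK hy
      rcases (hmem m).1 hm with rfl | rfl
      · rw [mul_one, mul_inv_cancel]; exact one_mem _
      · rw [Fr.Kr h3, mul_inv_cancel_right]; exact mem_zpowers _)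
    ⟨u, hu, fun h0 => by
      rcases (hmem u).1 h0 with h3 | h3
      · exact hu1 h3
      · exact hu2 h3⟩
  rw [hmem, not_or] at hv1
  have hvU := hRU hv
  have h3 : ∃ x, v = ε x := by
    refine fix h hvU ?_
    intro k hki hkj y hy
    have h4 := hv2 y (h.UT k hki hy)
    rw [hmem] at h4
    have e : cm v y = ⁅y, v⁆⁻¹ := by
      unfold cm
      rw [commutatorElement_inv, commutatorElement_def]
    rw [e]
    rcases h4 with h4 | h4
    · left; rw [h4, inv_one]
    · right; rw [h4, F.r_inv]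
  obtain ⟨x, rfl⟩ := h3
  obtain ⟨k, l, hd, hkl⟩ := exists_ne h hvU hv1.1 hv1.2
  have h4 := of_e h hR hr hv hd hkl
  refine le_antisymm hRU (h.gen.trans ?_)
  unfold UU
  rw [closure_le]
  rintro y ⟨g, hg, m, hmi, hmj, rfl⟩
  exact hR g hg _ (h4 m hmi hmj)

omit h in
/-- `a` and `b` agree modulo `⟨r⟩` -/
def Eqv (r a b : G) : Prop := a = b ∨ a = b * r

/-- an element of `N_ij` acting on `U_ij` trivially modulo `⟨r_ij⟩` centralises `U_ij` (#16487 (1)), if this holds
for its action on `V_ij` (149's (1) of #16652, or the counting argument) -/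
theorem cen_of
    (hV : ∀ g ∈ NN ε i j, (∀ u ∈ U i j, cm g u = 1 ∨ cm g u = rr ε i j) →
      ∀ m, m ≠ i → m ≠ j → g * zz ε m = zz ε m * g)
    {g : G} (hg : g ∈ NN ε i j) (hu : ∀ u ∈ U i j, cm g u = 1 ∨ cm g u = rr ε i j) :
    ∀ u ∈ U i j, g * u = u * g := by
  have F := h.fr
  have key : ∀ u ∈ UU ε i j, g * u = u * g := by
    intro u hu'
    unfold UU at hu'
    induction hu' using closure_induction with
    | mem x hx =>
      obtain ⟨c, hc, m, hmi, hmj, rfl⟩ := hx
      have h1 : c⁻¹ * g * c ∈ NN ε i j := mul_mem (mul_mem (inv_mem hc) hg) hc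
      have h2 : (c⁻¹ * g * c) * zz ε m = zz ε m * (c⁻¹ * g * c) := by
        refine hV _ h1 ?_ m hmi hmj
        intro v hv
        have h3 := hu _ (h.nrm c hc v hv)
        have e : cm (c⁻¹ * g * c) v = c⁻¹ * cm g (c * v * c⁻¹) * c := by unfold cm; group
        rw [e]
        rcases h3 with h3 | h3
        · left; rw [h3]; group
        · right
          rw [h3]
          have h4 := Basic.mem_NN.1 (inv_mem hc)
          rw [h4, inv_mul_cancel_right]
      calc g * (c * zz ε m * c⁻¹) = c * ((c⁻¹ * g * c) * zz ε m) * c⁻¹ := by group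
        _ = _ := by rw [h2]; group
    | one => rw [one_mul, mul_one]
    | mul x y _ _ hx hy => rw [← mul_assoc, hx, mul_assoc, hy, mul_assoc]
    | inv x _ hx =>
      rw [← mul_inv_eq_iff_eq_mul] at hx ⊢
      have : g * x⁻¹ * g⁻¹ = (g * x * g⁻¹)⁻¹ := by group
      rw [this, hx]
  exact fun u hu' => key u (h.gen hu')

theorem eqv_e {x : Fin n → ZMod 2} (hx : ε x ∈ U i j) {m : Fin n} (hmi : m ≠ i) (hmj : m ≠ j)
    (hc : ∀ k l, D4 i j k l → m ≠ k → m ≠ l → x k = x l) :
    Eqv (rr ε i j) (ε x) 1 ∨ Eqv (rr ε i j) (ε x) (zz ε m) := by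
  have F := h.fr
  have h3 := (F.eU h.ij x).1 hx
  have hz : ∀ a : ZMod 2, a = 0 ∨ a = 1 := by decide
  -- a letter different from `i`, `j`, `m`
  obtain ⟨a, ha⟩ : ∃ a, D4 i j a m := by
    obtain ⟨k, l, hd⟩ := h.three
    rcases eq_or_ne k m with rfl | hkm
    · exact ⟨l, hd.c⟩
    · exact ⟨k, h.ij, hd.ik, hmi.symm, hd.jk, hmj.symm, hkm⟩
  have h4 : ∀ b, b ≠ i → b ≠ j → b ≠ m → x b = x a := by
    intro b hbi hbj hbm
    rcases eq_or_ne b a with rfl | hba
    · rfl
    · exact hc b a ⟨h.ij, hbi.symm, ha.ik, hbj.symm, ha.jk, hba⟩ hbm.symm ha.kl.symm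
  have e0 : ∀ a : ZMod 2, ε (fun _ => a) = 1 := by
    intro a
    rcases hz a with rfl | rfl
    · exact F.zero
    · exact F.eone
  have e1 : x = (fun _ => x a) + ((fun _ => x a + x m) * Pi.single m 1 +
      (fun _ => x a + x i) * (Pi.single i 1 + Pi.single j 1)) := by
    funext b
    rw [Pi.add_apply, Pi.add_apply, Pi.mul_apply, Pi.mul_apply, Pi.add_apply]
    by_cases hbi : b = i
    · subst hbi
      rw [Pi.single_eq_same, Pi.single_eq_of_ne h.ij, Pi.single_eq_of_ne hmi.symm, mul_zero, zero_add,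
        add_zero, mul_one, ← add_assoc, CharTwo.add_self_eq_zero, zero_add]
    by_cases hbj : b = j
    · subst hbj
      rw [Pi.single_eq_same, Pi.single_eq_of_ne hbi, Pi.single_eq_of_ne hmj.symm, mul_zero, zero_add,
        zero_add, mul_one, ← add_assoc, CharTwo.add_self_eq_zero, zero_add, h3]
    by_cases hbm : b = m
    · subst hbm
      rw [Pi.single_eq_same, Pi.single_eq_of_ne hbi, Pi.single_eq_of_ne hbj, mul_one, add_zero,
        mul_zero, add_zero, ← add_assoc, CharTwo.add_self_eq_zero, zero_add]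
    · rw [Pi.single_eq_of_ne hbi, Pi.single_eq_of_ne hbj, Pi.single_eq_of_ne hbm, mul_zero, add_zero,
        mul_zero, add_zero, add_zero]
      exact h4 b hbi hbj hbm
  have e2 : ∀ (c : ZMod 2) (y : Fin n → ZMod 2), ε ((fun _ => c) * y) = if c = 0 then 1 else ε y := by
    intro c y
    rcases hz c with rfl | rfl
    · rw [if_pos rfl]
      have : (fun _ => (0 : ZMod 2)) * y = 0 := zero_mul y
      rw [this, F.zero]
    · rw [if_neg one_ne_zero]
      exact congrArg ε (one_mul y)
  rw [e1, F.add, F.add, e0, one_mul, e2, e2, ← F.rr_eq]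
  unfold Eqv
  split_ifs
  · left; left; rw [one_mul]
  · left; right; rfl
  · right; left; rw [mul_one]; rfl
  · right; right; rfl

theorem five {k l : Fin n} (hd : D4 i j k l) : ∃ a, a ≠ i ∧ a ≠ j ∧ a ≠ k ∧ a ≠ l := by
  by_contra hc
  push Not at hc
  have h1 : (Finset.univ : Finset (Fin n)) = {i, j, k, l} := by
    ext a
    simp only [Finset.mem_univ, Finset.mem_insert, Finset.mem_singleton, true_iff]
    by_contra h0
    simp only [not_or] at h0
    exact h0.2.2.2 (hc a h0.1 h0.2.1 h0.2.2.1)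
  have h2 : ({i, j, k, l} : Finset (Fin n)).card = 4 := by
    rw [Finset.card_insert_of_notMem (by simp [hd.ij, hd.ik, hd.il]),
      Finset.card_insert_of_notMem (by simp [hd.jk, hd.jl]), Finset.card_pair hd.kl]
  rw [← h1, Finset.card_univ, Fintype.card_fin] at h2
  have h3 := h.odd
  rw [h2] at h3
  revert h3
  decide

/-- absolute irreducibility: every endomorphism of the `N_ij`-module `U_ij / ⟨r_ij⟩` is `0` or `1` -/
theorem endo {f : G → G} (fU : ∀ u ∈ U i j, f u ∈ U i j)
    (fm : ∀ u ∈ U i j, ∀ v ∈ U i j, Eqv (rr ε i j) (f (u * v)) (f u * f v))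
    (fN : ∀ g ∈ NN ε i j, ∀ u ∈ U i j, Eqv (rr ε i j) (f (g * u * g⁻¹)) (g * f u * g⁻¹)) :
    (∀ u ∈ U i j, Eqv (rr ε i j) (f u) 1) ∨ ∀ u ∈ U i j, Eqv (rr ε i j) (f u) u := by
  have F := h.fr
  have rc : ∀ u ∈ U i j, rr ε i j * u = u * rr ε i j := fun u hu => (Fr.Kr (F.UK h.ij hu) i j).symm
  have rs : rr ε i j * rr ε i j = 1 := F.r_sq i j
  -- value at a point
  have val : ∀ m, m ≠ i → m ≠ j →
      Eqv (rr ε i j) (f (zz ε m)) 1 ∨ Eqv (rr ε i j) (f (zz ε m)) (zz ε m) := by
    intro m hmi hmj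
    have hzU : zz ε m ∈ U i j := F.zU h.ij hmi hmj
    obtain ⟨x, hx⟩ : ∃ x, f (zz ε m) = ε x := by
      refine fix h (fU _ hzU) ?_
      intro k hki hkj y hy
      have h1 := fN y (kn (F.UK hki.symm hy)) _ hzU
      have h2 : y * zz ε m * y⁻¹ = zz ε m := by
        rw [Fr.Kz (F.UK hki.symm hy), mul_inv_cancel_right]
      rw [h2] at h1
      rcases h1 with h1 | h1
      · left
        rw [cm_one_iff]
        rw [eq_mul_inv_iff_mul_eq] at h1
        exact h1
      · right
        have h3 : f (zz ε m) * y = y * f (zz ε m) * rr ε i j := by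
          have h5 : f (zz ε m) * y = y * f (zz ε m) * y⁻¹ * rr ε i j * y := congrArg (· * y) h1
          rw [h5, mul_assoc _ (rr ε i j) y, ← Fr.Kr (F.UK hki.symm hy), ← mul_assoc,
            inv_mul_cancel_right]
        unfold cm
        rw [h3]
        have h4 : y * f (zz ε m) * rr ε i j = rr ε i j * (y * f (zz ε m)) := by
          rw [mul_assoc, ← rc _ (fU _ hzU), ← mul_assoc, Fr.Kr (F.UK hki.symm hy), mul_assoc]
        rw [h4]
        group
    rw [hx]
    have hxU : ε x ∈ U i j := hx ▸ fU _ hzU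
    refine eqv_e h hxU hmi hmj ?_
    intro k l hd hmk hml
    by_contra hne
    have h1 := fN _ (w_mem h hd) _ hzU
    rw [Basic.zz_conj (F.wA hd.kl), Equiv.swap_apply_of_ne_of_ne hmk hml, hx, F.wA hd.kl x] at h1
    have hone : ∀ a b : ZMod 2, a ≠ b → 1 = b + a := by decide
    have e1 : x ∘ (Equiv.swap k l).symm = x + (Pi.single k 1 + Pi.single l 1) := by
      funext a
      have hs : (x ∘ (Equiv.swap k l).symm) a = x (Equiv.swap k l a) := rfl
      rw [hs, Pi.add_apply, Pi.add_apply]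
      by_cases hk : a = k
      · subst hk
        rw [Equiv.swap_apply_left, Pi.single_eq_same, Pi.single_eq_of_ne hd.kl, add_zero,
          hone _ _ hne, add_comm (x l), ← add_assoc, CharTwo.add_self_eq_zero, zero_add]
      · by_cases hl : a = l
        · subst hl
          rw [Equiv.swap_apply_right, Pi.single_eq_same, Pi.single_eq_of_ne hd.kl.symm, zero_add,
            hone _ _ hne, ← add_assoc, CharTwo.add_self_eq_zero, zero_add]
        · rw [Equiv.swap_apply_of_ne_of_ne hk hl, Pi.single_eq_of_ne hk, Pi.single_eq_of_ne hl,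
            add_zero, add_zero]
    rw [e1, F.add, ← F.rr_eq] at h1
    have h2 : rr ε k l = 1 ∨ rr ε k l = rr ε i j := by
      rcases h1 with h1 | h1
      · left; exact (left_eq_mul.1 h1)
      · right
        rw [mul_assoc] at h1
        have h5 := left_eq_mul.1 h1
        calc rr ε k l = rr ε k l * (rr ε i j * rr ε i j) := by rw [rs, mul_one]
          _ = rr ε k l * rr ε i j * rr ε i j := (mul_assoc _ _ _).symm
          _ = rr ε i j := by rw [h5, one_mul]
    have h3 : rr ε k l ∈ U i k := by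
      rcases h2 with h2 | h2
      · rw [h2]; exact one_mem _
      · exfalso
        obtain ⟨a, hai, haj, hak, hal⟩ := five h hd
        have h6 : ε ((Pi.single k 1 + Pi.single l 1) + (Pi.single i 1 + Pi.single j 1)) = 1 := by
          rw [F.add, ← F.rr_eq, ← F.rr_eq, h2, rs]
        have h7 := (F.eU hai.symm _).1 (h6 ▸ one_mem (U i a))
        simp only [Pi.add_apply, Pi.single_eq_same, Pi.single_eq_of_ne hd.ik, Pi.single_eq_of_ne hd.il,
          Pi.single_eq_of_ne h.ij, Pi.single_eq_of_ne hai, Pi.single_eq_of_ne haj,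
          Pi.single_eq_of_ne hak, Pi.single_eq_of_ne hal] at h7
        revert h7
        decide
    rw [F.r_symm, F.Usym] at h3
    exact F.r_nmem hd.ik.symm hd.kl.symm hd.il.symm (F.r_symm l k ▸ h3)
  -- calculus of `Eqv`
  have tr : ∀ {a b c : G}, b ∈ U i j → Eqv (rr ε i j) a b → Eqv (rr ε i j) b c → Eqv (rr ε i j) a c := by
    intro a b c _ h1 h2
    rcases h1 with rfl | rfl
    · exact h2
    · rcases h2 with rfl | rfl
      · exact Or.inr rfl
      · left
        rw [mul_assoc, rs, mul_one]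
  have mu : ∀ {a b c d : G}, c ∈ U i j → d ∈ U i j → Eqv (rr ε i j) a b → Eqv (rr ε i j) c d →
      Eqv (rr ε i j) (a * c) (b * d) := by
    intro a b c d _ hd h1 h2
    rcases h1 with rfl | rfl
    · rcases h2 with rfl | rfl
      · exact Or.inl rfl
      · exact Or.inr (mul_assoc _ _ _).symm
    · rcases h2 with rfl | rfl
      · right
        rw [mul_assoc, rc _ hd, mul_assoc]
      · left
        rw [mul_assoc, ← mul_assoc (rr ε i j), rc _ hd, mul_assoc d, rs, mul_one]
  have UUU : UU ε i j ≤ U i j := by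
    unfold UU
    rw [closure_le]
    rintro x ⟨c, hc, m, hmi, hmj, rfl⟩
    exact h.nrm c hc _ (F.zU h.ij hmi hmj)
  have cjE : ∀ {g a b : G}, g ∈ NN ε i j → Eqv (rr ε i j) a b →
      Eqv (rr ε i j) (g * a * g⁻¹) (g * b * g⁻¹) := by
    intro g a b hg h1
    rcases h1 with rfl | rfl
    · exact Or.inl rfl
    · right
      have h2 : rr ε i j * g⁻¹ = g⁻¹ * rr ε i j := (Basic.mem_NN.1 (inv_mem hg)).symm
      rw [← mul_assoc, mul_assoc _ (rr ε i j), h2, ← mul_assoc]
  -- the same case for all points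
  obtain ⟨k, l, hd⟩ := h.three
  have spread : ∀ m, m ≠ i → m ≠ j →
      (Eqv (rr ε i j) (f (zz ε k)) 1 → Eqv (rr ε i j) (f (zz ε m)) 1) ∧
      (Eqv (rr ε i j) (f (zz ε k)) (zz ε k) → Eqv (rr ε i j) (f (zz ε m)) (zz ε m)) := by
    intro m hmi hmj
    rcases eq_or_ne k m with rfl | hkm
    · exact ⟨id, id⟩
    have hd' : D4 i j k m := ⟨h.ij, hd.ik, hmi.symm, hd.jk, hmj.symm, hkm⟩
    have hg := w_mem h hd'
    have h1 := fN _ hg _ (F.zU h.ij hd.ik.symm hd.jk.symm)
    have h2 : w k m * zz ε k * (w k m)⁻¹ = zz ε m := by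
      rw [Basic.zz_conj (F.wA hkm), Equiv.swap_apply_left]
    rw [h2] at h1
    have h3 : w k m * f (zz ε k) * (w k m)⁻¹ ∈ U i j :=
      h.nrm _ hg _ (fU _ (F.zU h.ij hd.ik.symm hd.jk.symm))
    constructor
    · intro h4
      have h5 := cjE hg h4
      rw [mul_one, mul_inv_cancel] at h5
      exact tr h3 h1 h5
    · intro h4
      have h5 := cjE hg h4
      rw [h2] at h5
      exact tr h3 h1 h5
  have f1 : Eqv (rr ε i j) (f 1) 1 := by
    have h1 := fm 1 (one_mem _) 1 (one_mem _)
    rw [mul_one] at h1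
    rcases h1 with h1 | h1
    · left; exact (left_eq_mul.1 h1)
    · right
      rw [mul_assoc] at h1
      have h5 := left_eq_mul.1 h1
      rw [one_mul]
      calc f 1 = f 1 * (rr ε i j * rr ε i j) := by rw [rs, mul_one]
        _ = f 1 * rr ε i j * rr ε i j := (mul_assoc _ _ _).symm
        _ = rr ε i j := by rw [h5, one_mul]
  -- induction
  have ind : ∀ p : G → G, (∀ x ∈ U i j, p x ∈ U i j) → (∀ x y, p (x * y) = p x * p y) → p 1 = 1 →
      (∀ g ∈ NN ε i j, ∀ x, p (g * x * g⁻¹) = g * p x * g⁻¹) →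
      (∀ m, m ≠ i → m ≠ j → Eqv (rr ε i j) (f (zz ε m)) (p (zz ε m))) →
      ∀ u ∈ U i j, Eqv (rr ε i j) (f u) (p u) := by
    intro p pU pm p1 pN pz u hu
    have key : ∀ u ∈ UU ε i j, Eqv (rr ε i j) (f u) (p u) := by
      intro u hu
      unfold UU at hu
      induction hu using closure_induction with
      | mem x hx =>
        obtain ⟨c, hc, m, hmi, hmj, rfl⟩ := hx
        have hz := F.zU h.ij hmi hmj
        rw [pN c hc]
        exact tr (h.nrm c hc _ (fU _ hz)) (fN c hc _ hz) (cjE hc (pz m hmi hmj))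
      | one => rw [p1]; exact f1
      | mul x y hx hy ihx ihy =>
        have hx' := UUU hx
        have hy' := UUU hy
        rw [pm]
        exact tr (mul_mem (fU _ hx') (fU _ hy')) (fm _ hx' _ hy') (mu (fU _ hy') (pU _ hy') ihx ihy)
      | inv x hx ih =>
        rw [F.inv_self h.ij (UUU hx)]
        exact ih
    exact key u (h.gen hu)
  rcases val k hd.ik.symm hd.jk.symm with h1 | h1
  · left
    exact ind (fun _ => 1) (fun _ _ => one_mem _) (fun _ _ => (mul_one 1).symm) rfl
      (fun g _ _ => by group) (fun m hmi hmj => (spread m hmi hmj).1 h1)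
  · right
    exact ind (fun x => x) (fun _ hx => hx) (fun _ _ => rfl) rfl
      (fun g _ _ => rfl) (fun m hmi hmj => (spread m hmi hmj).2 h1)

end

end Cfsg.Agent.Omega.NSix.Irr
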