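import Mathlib

/-!
# The matching lemma (bb OMEGA #14103, helper945): pure module theory

`Ω` has `2 ^ m + 1 ≥ 9` points, `Y` is an elementary abelian 2-group with an action of `Sym(Ω)` and an equivariant
copy `ι` of the module of the subsets of `Ω` modulo complements, and a Sylow 2-subgroup of `Sym(Ω)` has only two fixed
points on `Y`.  If `a` is a subset with `2 ^ (m - 1)` points and `e` is a pair disjoint from `a`, then every `x ∈ Y`
which is fixed by all permutations fixing the sets `a` and `e` is `0`, `a`, `e` or `a + e`.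
-/

set_option autoImplicit false

namespace Cfsg.Agent.Omega.NSix.Match

open Equiv Equiv.Perm MulAction Pointwise

section blocks

variable {Ω : Type*} [Fintype Ω] [DecidableEq Ω]

/-- The block systems of a Sylow 2-subgroup `S` of `Sym(2 ^ m + 1)`: the fixed point `o`, the two blocks `a`, `b` of
size `2 ^ (m - 1)`, their stabiliser `M`, and the blocks of size 2 in `b`. -/
structure Blocks (m : ℕ) (S : Subgroup (Perm Ω)) (o : Ω) (a b : Finset Ω) (M : Subgroup (Perm Ω)) (τ : Perm Ω)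
    (μ : Finset (Finset Ω)) : Prop where
  fix : ∀ s ∈ S, s o = o
  le : M ≤ S
  tau : τ ∈ S
  cov : ∀ s ∈ S, s ∈ M ∨ τ⁻¹ * s ∈ M
  norm : ∀ s ∈ M, τ⁻¹ * s * τ ∈ M
  sq : τ * τ ∈ M
  oa : o ∉ a
  ob : o ∉ b
  dis : ∀ x ∈ a, x ∉ b
  uni : ∀ x, x = o ∨ x ∈ a ∨ x ∈ b
  ca : a.card = 2 ^ (m - 1)
  cb : b.card = 2 ^ (m - 1)
  Ma : ∀ s ∈ M, s • a = a
  Mb : ∀ s ∈ M, s • b = b
  ta : τ • a = b
  tb : τ • b = a
  sub : ∀ s ∈ μ, s ⊆ b
  two : ∀ s ∈ μ, s.card = 2
  ex : ∀ x ∈ b, ∃ s ∈ μ, x ∈ s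
  unq : ∀ s ∈ μ, ∀ t ∈ μ, ∀ x, x ∈ s → x ∈ t → s = t
  inv : ∀ g ∈ M, ∀ s ∈ μ, g • s ∈ μ

/-- A Sylow 2-subgroup of `Sym(2 ^ m + 1)` fixes exactly one point and is transitive on the other points. -/
theorem transitive {m : ℕ} (hm : 1 ≤ m) (hc : Fintype.card Ω = 2 ^ m + 1) (S : Sylow 2 (Perm Ω)) :
    ∃ o : Ω, (∀ s ∈ (S : Subgroup (Perm Ω)), s o = o) ∧
      ∀ x y : Ω, x ≠ o → y ≠ o → ∃ s ∈ (S : Subgroup (Perm Ω)), s x = y := by
  have h2m : 2 ≤ 2 ^ m := by
    calc 2 = 2 ^ 1 := by norm_num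
      _ ≤ 2 ^ m := Nat.pow_le_pow_right (by norm_num) hm
  obtain ⟨c, hcyc⟩ := (Equiv.Perm.exists_with_cycleType_iff (α := Ω) (m := {2 ^ m})).mpr
    ⟨by rw [Multiset.sum_singleton, hc]; omega, fun x hx => by
      rw [Multiset.mem_singleton] at hx
      omega⟩
  have hord : orderOf c = 2 ^ m := by
    rw [← Equiv.Perm.lcm_cycleType, hcyc, Multiset.lcm_singleton]
    simp
  have hp : IsPGroup 2 (Subgroup.zpowers c) := by
    rw [IsPGroup.iff_card]
    exact ⟨m, by rw [Nat.card_zpowers, hord]⟩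
  obtain ⟨S', hS'⟩ := hp.exists_le_sylow
  obtain ⟨g, hg⟩ := MulAction.exists_smul_eq (Perm Ω) S' S
  have hc' : g * c * g⁻¹ ∈ (S : Subgroup (Perm Ω)) := by
    rw [← hg]
    rw [Sylow.coe_subgroup_smul]
    exact Subgroup.smul_mem_pointwise_smul _ (MulAut.conj g) _ (hS' (Subgroup.mem_zpowers c))
  set d := g * c * g⁻¹ with hd
  have hdct : d.cycleType = {2 ^ m} := by
    rw [hd, Equiv.Perm.cycleType_conj, hcyc]
  have hdc : d.IsCycle := by
    rw [← Equiv.Perm.card_cycleType_eq_one, hdct, Multiset.card_singleton]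
  have hsupp : d.support.card = 2 ^ m := by
    rw [← Equiv.Perm.sum_cycleType, hdct, Multiset.sum_singleton]
  -- a fixed point of `S`
  obtain ⟨o, ho⟩ : ∃ o : Ω, ∀ s ∈ (S : Subgroup (Perm Ω)), s o = o := by
    have h1 := S.isPGroup'.card_modEq_card_fixedPoints Ω
    have h2 : Nat.card Ω = 2 ^ m + 1 := by rw [Nat.card_eq_fintype_card, hc]
    have h3 : Nat.card (fixedPoints (S : Subgroup (Perm Ω)) Ω) ≠ 0 := by
      intro h0
      rw [h0, h2] at h1
      have h4 : (2 ^ m + 1) % 2 = 0 := h1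
      obtain ⟨k, rfl⟩ : ∃ k, m = k + 1 := ⟨m - 1, by omega⟩
      rw [pow_succ] at h4
      omega
    have h4 : Nonempty (fixedPoints (S : Subgroup (Perm Ω)) Ω) := by
      rw [← Finite.card_pos_iff]
      omega
    obtain ⟨o, ho⟩ := h4
    exact ⟨o, fun s hs => ho ⟨s, hs⟩⟩
  have hos : d.support = Finset.univ.erase o := by
    refine Finset.eq_of_subset_of_card_le ?_ ?_
    · intro x hx
      rw [Finset.mem_erase]
      refine ⟨?_, Finset.mem_univ _⟩
      rintro rfl
      exact (Equiv.Perm.mem_support.mp hx) (ho d hc')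
    · rw [Finset.card_erase_of_mem (Finset.mem_univ _), Finset.card_univ, hc, hsupp]
      simp
  refine ⟨o, ho, fun x y hx hy => ?_⟩
  have hxs : d x ≠ x := by
    rw [← Equiv.Perm.mem_support, hos]
    exact Finset.mem_erase.mpr ⟨hx, Finset.mem_univ _⟩
  have hys : d y ≠ y := by
    rw [← Equiv.Perm.mem_support, hos]
    exact Finset.mem_erase.mpr ⟨hy, Finset.mem_univ _⟩
  obtain ⟨i, hi⟩ := hdc.sameCycle hxs hys
  exact ⟨d ^ i, Subgroup.zpow_mem _ hc' i, hi⟩

/-- the orbit of `x` as a finset -/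
noncomputable def orb (K : Subgroup (Perm Ω)) (x : Ω) : Finset Ω := by
  classical
  exact Finset.univ.filter fun y => ∃ k ∈ K, k x = y

theorem mem_orb {K : Subgroup (Perm Ω)} {x y : Ω} : y ∈ orb K x ↔ ∃ k ∈ K, k x = y := by
  simp [orb]

theorem self_mem_orb (K : Subgroup (Perm Ω)) (x : Ω) : x ∈ orb K x := mem_orb.mpr ⟨1, K.one_mem, rfl⟩

theorem smul_orb {K : Subgroup (Perm Ω)} {x : Ω} {g : Perm Ω} (hg : g ∈ K) : g • orb K x = orb K x := by
  ext y
  rw [← Finset.inv_smul_mem_iff, mem_orb, mem_orb]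
  constructor
  · rintro ⟨k, hk, h⟩
    refine ⟨g * k, K.mul_mem hg hk, ?_⟩
    rw [Perm.mul_apply, h]
    exact g.apply_symm_apply y
  · rintro ⟨k, hk, h⟩
    refine ⟨g⁻¹ * k, K.mul_mem (K.inv_mem hg) hk, ?_⟩
    rw [Perm.mul_apply, h]
    rfl

theorem card_orb (K : Subgroup (Perm Ω)) (x : Ω) :
    (orb K x).card * Nat.card ↥(K ⊓ stabilizer (Perm Ω) x) = Nat.card K := by
  have h1 := (stabilizer K x).index_mul_card
  rw [MulAction.index_stabilizer] at h1
  have h2 : (orbit K x).ncard = (orb K x).card := by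
    rw [← Set.ncard_coe_finset]
    congr 1
    ext y
    rw [Finset.mem_coe, mem_orb]
    constructor
    · rintro ⟨k, h⟩
      exact ⟨k, k.2, h⟩
    · rintro ⟨k, hk, h⟩
      exact ⟨⟨k, hk⟩, h⟩
  have h3 : Nat.card (stabilizer K x) = Nat.card ↥(K ⊓ stabilizer (Perm Ω) x) := by
    refine Nat.card_congr ⟨fun k => ⟨k.1.1, k.1.2, k.2⟩, fun k => ⟨⟨k.1, k.2.1⟩, k.2.2⟩, fun _ => rfl, fun _ => rfl⟩
  rw [h2, h3] at h1
  exact h1

theorem exists_blocks {m : ℕ} (hm : 2 ≤ m) (hc : Fintype.card Ω = 2 ^ m + 1) (S : Sylow 2 (Perm Ω)) :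
    ∃ (o : Ω) (a b : Finset Ω) (M : Subgroup (Perm Ω)) (τ : Perm Ω) (μ : Finset (Finset Ω)),
      Blocks m (S : Subgroup (Perm Ω)) o a b M τ μ := by
  classical
  obtain ⟨o, ho, htr⟩ := transitive (by omega) hc S
  have h2m : 2 ≤ 2 ^ m := by
    calc 2 = 2 ^ 1 := by norm_num
      _ ≤ 2 ^ m := Nat.pow_le_pow_right (by norm_num) (by omega)
  have : Nontrivial Ω := Fintype.one_lt_card_iff_nontrivial.mp (by omega)
  obtain ⟨x, hx⟩ := exists_ne o
  set T : Subgroup (Perm Ω) := (S : Subgroup (Perm Ω)) with hT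
  obtain ⟨N, hN⟩ := (IsPGroup.iff_card.mp S.isPGroup' : ∃ n, Nat.card T = 2 ^ n)
  have horbT : orb T x = Finset.univ.erase o := by
    ext y
    rw [mem_orb, Finset.mem_erase]
    constructor
    · rintro ⟨k, hk, rfl⟩
      refine ⟨fun h0 => hx ?_, Finset.mem_univ _⟩
      have h1 := ho k hk
      exact k.injective (h0.trans h1.symm)
    · rintro ⟨hy, -⟩
      exact htr x y hx hy
  have hcT := card_orb T x
  rw [horbT, Finset.card_erase_of_mem (Finset.mem_univ _), Finset.card_univ, hc, Nat.add_sub_cancel, hN] at hcT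
  set H : Subgroup (Perm Ω) := T ⊓ stabilizer (Perm Ω) x with hH
  have hmN : m ≤ N := by
    have h1 : 2 ^ m ∣ 2 ^ N := ⟨_, hcT.symm⟩
    exact (Nat.pow_dvd_pow_iff_le_right (by norm_num)).mp h1
  have hHcard : Nat.card H = 2 ^ (N - m) := by
    have h1 : 2 ^ N = 2 ^ m * 2 ^ (N - m) := by rw [← pow_add]; congr 1; omega
    rw [h1] at hcT
    exact Nat.eq_of_mul_eq_mul_left (by positivity) hcT
  have hHT : H ≤ T := inf_le_left
  have hH'card : Nat.card (H.subgroupOf T) = 2 ^ (N - m) := by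
    rw [← hHcard]
    exact Nat.card_congr (Subgroup.subgroupOfEquivOfLe hHT).toEquiv
  obtain ⟨K', hK'card, hHK'⟩ := Sylow.exists_subgroup_card_pow_succ (p := 2) (n := N - m)
    (G := T) (by rw [hN]; exact pow_dvd_pow 2 (by omega)) hH'card
  obtain ⟨M', hM'card, hKM'⟩ := Sylow.exists_subgroup_card_pow_prime_le (G := T) 2 (n := N - m + 1) (m := N - 1)
    (by rw [hN]; exact pow_dvd_pow 2 (by omega)) K' hK'card (by omega)
  have hidx : M'.index = 2 := by
    have h1 := M'.index_mul_card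
    rw [hM'card, hN] at h1
    have h2 : 2 ^ N = 2 * 2 ^ (N - 1) := by
      rw [← pow_succ']; congr 1; omega
    rw [h2] at h1
    exact Nat.eq_of_mul_eq_mul_right (by positivity) h1
  set K : Subgroup (Perm Ω) := K'.map T.subtype with hK
  set M : Subgroup (Perm Ω) := M'.map T.subtype with hM
  have hKcard : Nat.card K = 2 ^ (N - m + 1) := by
    rw [← hK'card]
    exact Nat.card_congr (Subgroup.equivMapOfInjective K' _ T.subtype_injective).toEquiv.symm
  have hMcard : Nat.card M = 2 ^ (N - 1) := by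
    rw [← hM'card]
    exact Nat.card_congr (Subgroup.equivMapOfInjective M' _ T.subtype_injective).toEquiv.symm
  have hMT : M ≤ T := by
    rw [hM]
    exact Subgroup.map_subtype_le _
  have hKM : K ≤ M := Subgroup.map_mono hKM'
  have hHK : H ≤ K := by
    intro h hh
    exact ⟨⟨h, hHT hh⟩, hHK' hh, rfl⟩
  have memM : ∀ {s : Perm Ω} (hs : s ∈ T), s ∈ M ↔ (⟨s, hs⟩ : T) ∈ M' := by
    intro s hs
    constructor
    · rintro ⟨t, ht, rfl⟩
      exact ht
    · intro h
      exact ⟨_, h, rfl⟩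
  obtain ⟨τ', hτ'⟩ : ∃ τ' : T, τ' ∉ M' := by
    by_contra h0
    push Not at h0
    have h1 : M' = ⊤ := by
      rw [Subgroup.eq_top_iff']
      exact h0
    rw [h1, Subgroup.index_top] at hidx
    omega
  have hstab : ∀ L : Subgroup (Perm Ω), H ≤ L → L ≤ T → L ⊓ stabilizer (Perm Ω) x = H := by
    intro L h1 h2
    apply le_antisymm
    · exact le_inf (inf_le_left.trans h2) inf_le_right
    · exact le_inf h1 inf_le_right
  have hoK : (orb K x).card = 2 := by
    have h1 := card_orb K x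
    rw [hstab K hHK (hKM.trans hMT), hHcard, hKcard, pow_succ'] at h1
    exact Nat.eq_of_mul_eq_mul_right (by positivity) h1
  have hoM : (orb M x).card = 2 ^ (m - 1) := by
    have h1 := card_orb M x
    have h2 : 2 ^ (N - 1) = 2 ^ (m - 1) * 2 ^ (N - m) := by
      rw [← pow_add]; congr 1; omega
    rw [hstab M (hHK.trans hKM) hMT, hHcard, hMcard, h2] at h1
    exact Nat.eq_of_mul_eq_mul_right (by positivity) h1
  have hcov : ∀ s ∈ T, s ∈ M ∨ (τ' : Perm Ω)⁻¹ * s ∈ M := by
    intro s hs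
    by_cases h0 : s ∈ M
    · exact Or.inl h0
    · right
      have h1 : (τ' : Perm Ω)⁻¹ * s ∈ T := T.mul_mem (T.inv_mem τ'.2) hs
      rw [memM h1]
      have h2 : (⟨(τ' : Perm Ω)⁻¹ * s, h1⟩ : T) = τ'⁻¹ * ⟨s, hs⟩ := rfl
      rw [h2, Subgroup.mul_mem_iff_of_index_two hidx, inv_mem_iff, ← memM hs]
      exact ⟨fun h => absurd h hτ', fun h => absurd h h0⟩
  have hnorm : ∀ s ∈ M, (τ' : Perm Ω)⁻¹ * s * τ' ∈ M := by
    intro s hs
    have h1 : (τ' : Perm Ω)⁻¹ * s * τ' ∈ T := T.mul_mem (T.mul_mem (T.inv_mem τ'.2) (hMT hs)) τ'.2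
    rw [memM h1]
    have : M'.Normal := Subgroup.normal_of_index_eq_two hidx
    have h2 := this.conj_mem ⟨s, hMT hs⟩ ((memM (hMT hs)).mp hs) τ'⁻¹
    rw [inv_inv] at h2
    exact h2
  have hsq : (τ' : Perm Ω) * τ' ∈ M := by
    rw [memM (T.mul_mem τ'.2 τ'.2)]
    have h2 : (⟨(τ' : Perm Ω) * τ', T.mul_mem τ'.2 τ'.2⟩ : T) = τ' * τ' := rfl
    rw [h2, Subgroup.mul_mem_iff_of_index_two hidx]
  have hfixT : ∀ (K : Subgroup (Perm Ω)), K ≤ T → ∀ y ∈ orb K x, y ≠ o := by
    intro L hL y hy h0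
    obtain ⟨k, hk, rfl⟩ := mem_orb.mp hy
    exact hx (k.injective (h0.trans (ho k (hL hk)).symm))
  refine ⟨o, (τ' : Perm Ω) • orb M x, orb M x, M, τ', Finset.univ.filter fun s => ∃ g ∈ M, s = g • orb K x, ?_⟩
  exact {
    fix := ho
    le := hMT
    tau := τ'.2
    cov := hcov
    norm := hnorm
    sq := hsq
    oa := by
      intro h0
      obtain ⟨y, hy, h1⟩ := Finset.mem_smul_finset.mp h0
      have h2 := ho τ' τ'.2
      exact hfixT M hMT y hy ((τ' : Perm Ω).injective (h1.trans h2.symm))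
    ob := fun h0 => hfixT M hMT o h0 rfl
    dis := by
      intro y hy hy'
      obtain ⟨z, hz, h1⟩ := Finset.mem_smul_finset.mp hy
      obtain ⟨k, hk, rfl⟩ := mem_orb.mp hz
      obtain ⟨l, hl, h2⟩ := mem_orb.mp hy'
      have h3 : l⁻¹ * τ' * k ∈ H := by
        refine ⟨T.mul_mem (T.mul_mem (T.inv_mem (hMT hl)) τ'.2) (hMT hk), ?_⟩
        change (l⁻¹ * τ' * k) x = x
        rw [Perm.mul_apply, Perm.mul_apply]
        have h4 : (τ' : Perm Ω) (k x) = y := h1
        rw [h4, ← h2]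
        exact l.symm_apply_apply x
      have h4 : l * (l⁻¹ * τ' * k) * k⁻¹ ∈ M := M.mul_mem (M.mul_mem hl (hKM (hHK h3))) (M.inv_mem hk)
      have h5 : l * (l⁻¹ * τ' * k) * k⁻¹ = (τ' : Perm Ω) := by group
      rw [h5] at h4
      exact hτ' ((memM τ'.2).mp h4)
    uni := by
      intro y
      by_cases hy : y = o
      · exact Or.inl hy
      right
      obtain ⟨s, hs, rfl⟩ := htr x y hx hy
      rcases hcov s hs with h1 | h1
      · right
        exact mem_orb.mpr ⟨s, h1, rfl⟩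
      · left
        refine Finset.mem_smul_finset.mpr ⟨((τ' : Perm Ω)⁻¹ * s) x, mem_orb.mpr ⟨_, h1, rfl⟩, ?_⟩
        change (τ' : Perm Ω) (((τ' : Perm Ω)⁻¹ * s) x) = s x
        rw [Perm.mul_apply]
        exact (τ' : Perm Ω).apply_symm_apply _
    ca := by rw [Finset.card_smul_finset, hoM]
    cb := hoM
    Ma := by
      intro s hs
      have h1 := smul_orb (x := x) (hnorm s hs)
      calc s • (τ' : Perm Ω) • orb M x = (τ' : Perm Ω) • ((τ' : Perm Ω)⁻¹ * s * τ') • orb M x := by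
            rw [← mul_smul, ← mul_smul]
            congr 1
            group
        _ = _ := by rw [h1]
    Mb := fun s hs => smul_orb hs
    ta := by
      rw [← mul_smul]
      exact smul_orb hsq
    tb := rfl
    sub := by
      intro s hs
      obtain ⟨g, hg, rfl⟩ := (Finset.mem_filter.mp hs).2
      intro y hy
      obtain ⟨z, hz, rfl⟩ := Finset.mem_smul_finset.mp hy
      obtain ⟨k, hk, rfl⟩ := mem_orb.mp hz
      exact mem_orb.mpr ⟨g * k, M.mul_mem hg (hKM hk), rfl⟩
    two := by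
      intro s hs
      obtain ⟨g, hg, rfl⟩ := (Finset.mem_filter.mp hs).2
      rw [Finset.card_smul_finset, hoK]
    ex := by
      intro y hy
      obtain ⟨k, hk, rfl⟩ := mem_orb.mp hy
      refine ⟨k • orb K x, Finset.mem_filter.mpr ⟨Finset.mem_univ _, k, hk, rfl⟩, ?_⟩
      exact Finset.mem_smul_finset.mpr ⟨x, self_mem_orb K x, rfl⟩
    unq := by
      intro s hs t ht y hys hyt
      obtain ⟨g, hg, rfl⟩ := (Finset.mem_filter.mp hs).2
      obtain ⟨g', hg', rfl⟩ := (Finset.mem_filter.mp ht).2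
      obtain ⟨z, hz, h1⟩ := Finset.mem_smul_finset.mp hys
      obtain ⟨k, hk, rfl⟩ := mem_orb.mp hz
      obtain ⟨z', hz', h1'⟩ := Finset.mem_smul_finset.mp hyt
      obtain ⟨k', hk', rfl⟩ := mem_orb.mp hz'
      have h3 : k'⁻¹ * g'⁻¹ * g * k ∈ H := by
        refine ⟨T.mul_mem (T.mul_mem (T.mul_mem (T.inv_mem (hMT (hKM hk'))) (T.inv_mem (hMT hg'))) (hMT hg))
          (hMT (hKM hk)), ?_⟩
        change (k'⁻¹ * g'⁻¹ * g * k) x = x
        rw [Perm.mul_apply, Perm.mul_apply, Perm.mul_apply]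
        have h4 : g (k x) = g' (k' x) := h1.trans h1'.symm
        rw [h4]
        have h5 : g'⁻¹ (g' (k' x)) = k' x := g'.symm_apply_apply _
        rw [h5]
        exact k'.symm_apply_apply x
      have h4 : k' * (k'⁻¹ * g'⁻¹ * g * k) * k⁻¹ ∈ K := K.mul_mem (K.mul_mem hk' (hHK h3)) (K.inv_mem hk)
      have h5 : k' * (k'⁻¹ * g'⁻¹ * g * k) * k⁻¹ = g'⁻¹ * g := by group
      rw [h5] at h4
      calc g • orb K x = g' • (g'⁻¹ * g) • orb K x := by
            rw [← mul_smul]
            congr 1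
            group
        _ = _ := by rw [smul_orb h4]
    inv := by
      intro g hg s hs
      obtain ⟨g', hg', rfl⟩ := (Finset.mem_filter.mp hs).2
      refine Finset.mem_filter.mpr ⟨Finset.mem_univ _, g * g', M.mul_mem hg hg', ?_⟩
      rw [mul_smul] }

end blocks

section module

variable {Ω : Type*} [Fintype Ω] [DecidableEq Ω] {Y : Type*} [AddCommGroup Y] [DistribMulAction (Perm Ω) Y]

/-- indicator function -/
def ind (s : Finset Ω) : Ω → ZMod 2 := fun x => if x ∈ s then 1 else 0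

/-- `Y` is elementary abelian and `ι` is an equivariant copy of the module of the subsets modulo complements. -/
structure Mod (ι : (Ω → ZMod 2) → Y) : Prop where
  two : ∀ y : Y, y + y = 0
  add : ∀ f g, ι (f + g) = ι f + ι g
  act : ∀ (σ : Perm Ω) f, σ • ι f = ι (f ∘ σ.symm)
  ker : ∀ f, ι f = 0 ↔ f = 0 ∨ f = 1

theorem exists_ext {n : ℕ} (a : Finset Ω) (f f' : Fin n → Ω) (hf : Function.Injective f)
    (hf' : Function.Injective f') (h : ∀ i, f i ∉ a) (h' : ∀ i, f' i ∉ a) :
    ∃ g : Perm Ω, g • a = a ∧ ∀ i, g (f i) = f' i := by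
  have key : ∀ f : Fin n → Ω, Function.Injective f → (∀ i, f i ∉ a) →
      Function.Injective (Sum.elim (fun x : a => (x : Ω)) f) := by
    intro f hf h
    rintro (x | i) (y | j) hxy
    · exact congrArg Sum.inl (Subtype.ext hxy)
    · have h1 : (x : Ω) = f j := hxy
      exact absurd (h1 ▸ x.2) (h j)
    · have h1 : f i = (y : Ω) := hxy
      exact absurd (h1.symm ▸ y.2) (h i)
    · exact congrArg Sum.inr (hf hxy)
  obtain ⟨g, hg⟩ := Perm.exists_extending_pair (Sum.elim (fun x : a => (x : Ω)) f)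
    (Sum.elim (fun x : a => (x : Ω)) f') (key f hf h) (key f' hf' h')
  refine ⟨g, ?_, fun i => hg (Sum.inr i)⟩
  refine Finset.eq_of_subset_of_card_le ?_ (by rw [Finset.card_smul_finset])
  intro y hy
  obtain ⟨x, hx, rfl⟩ := Finset.mem_smul_finset.mp hy
  have h1 : g x = x := hg (Sum.inl ⟨x, hx⟩)
  rw [Perm.smul_def, h1]
  exact hx

theorem pair_smul (g : Perm Ω) (i j : Ω) : g • ({i, j} : Finset Ω) = {g i, g j} := by
  rw [Finset.smul_finset_insert, Finset.smul_finset_singleton, Perm.smul_def, Perm.smul_def]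

theorem smul_eq_self_of {g : Perm Ω} {s : Finset Ω} (h : ∀ x ∈ s, g x = x) : g • s = s := by
  refine Finset.eq_of_subset_of_card_le ?_ (by rw [Finset.card_smul_finset])
  intro y hy
  obtain ⟨x, hx, rfl⟩ := Finset.mem_smul_finset.mp hy
  rw [Perm.smul_def, h x hx]
  exact hx

theorem swap_smul_eq_self {u v : Ω} {s : Finset Ω} (hu : u ∉ s) (hv : v ∉ s) : swap u v • s = s := by
  refine smul_eq_self_of fun x hx => swap_apply_of_ne_of_ne ?_ ?_
  · rintro rfl
    exact hu hx
  · rintro rfl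
    exact hv hx

namespace Mod

variable {ι : (Ω → ZMod 2) → Y} (hM : Mod ι)
include hM

theorem eq_iff_add {x y : Y} : x = y ↔ x + y = 0 := by
  constructor
  · rintro rfl
    exact hM.two x
  · intro h
    calc x = x + (y + y) := by rw [hM.two, add_zero]
      _ = x + y + y := (add_assoc _ _ _).symm
      _ = y := by rw [h, zero_add]

theorem exch {a b c d : Y} (h : a + b = c + d) : a + c = b + d := by
  rw [hM.eq_iff_add]
  rw [hM.eq_iff_add] at h
  rw [← h]
  abel

theorem add_cancel (x y : Y) : x + (x + y) = y := by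
  rw [← add_assoc, hM.two, zero_add]

theorem act_ind (σ : Perm Ω) (s : Finset Ω) : σ • ι (ind s) = ι (ind (σ • s)) := by
  rw [hM.act]
  congr 1
  funext x
  have h1 : σ.symm x ∈ s ↔ x ∈ σ • s := by
    rw [← Finset.inv_smul_mem_iff]
    rfl
  simp only [ind, Function.comp, h1]

theorem fixed {m : ℕ} {S : Subgroup (Perm Ω)} {o : Ω} {a b : Finset Ω} {M : Subgroup (Perm Ω)} {τ : Perm Ω}
    {μ : Finset (Finset Ω)} (B : Blocks m S o a b M τ μ)
    (hS : ∀ y : Y, (∀ s ∈ S, s • y = y) → y = 0 ∨ y = ι (ind {o})) {y : Y} (hy : ∀ s ∈ M, s • y = y) :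
    y = 0 ∨ y = ι (ind a) ∨ y = ι (ind b) ∨ y = ι (ind a) + ι (ind b) := by
  have hz : ι (ind {o}) = ι (ind a) + ι (ind b) := by
    rw [hM.eq_iff_add, ← hM.add, ← hM.add, hM.ker]
    right
    funext x
    have ho1 := B.oa
    have ho2 := B.ob
    have hd := B.dis x
    rcases B.uni x with rfl | h | h
    · simp [ind, ho1, ho2]
    · have h1 : x ≠ o := by
        rintro rfl
        exact ho1 h
      simp [ind, h, hd h, h1]
    · have h1 : x ≠ o := by
        rintro rfl
        exact ho2 h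
      have h2 : x ∉ a := fun h3 => hd h3 h
      simp [ind, h, h1, h2]
  have hfix : ∀ w : Y, (∀ s ∈ M, s • w = w) → τ • w = w → ∀ s ∈ S, s • w = w := by
    intro w hw hτ s hs
    rcases B.cov s hs with h1 | h1
    · exact hw s h1
    · calc s • w = τ • (τ⁻¹ * s) • w := by rw [← mul_smul, mul_inv_cancel_left]
        _ = w := by rw [hw _ h1, hτ]
  have hτM : ∀ w : Y, (∀ s ∈ M, s • w = w) → ∀ s ∈ M, s • τ • w = τ • w := by
    intro w hw s hs
    calc s • τ • w = τ • (τ⁻¹ * s * τ) • w := by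
          rw [← mul_smul, ← mul_smul]
          congr 1
          group
      _ = _ := by rw [hw _ (B.norm s hs)]
  have hττ : ∀ w : Y, (∀ s ∈ M, s • w = w) → τ • τ • w = w := by
    intro w hw
    rw [← mul_smul, hw _ B.sq]
  have hw1 : y + τ • y = 0 ∨ y + τ • y = ι (ind {o}) := by
    refine hS _ (hfix _ ?_ ?_)
    · intro s hs
      rw [smul_add, hy s hs, hτM y hy s hs]
    · rw [smul_add, hττ y hy, add_comm]
  rcases hw1 with h1 | h1
  · have h2 : τ • y = y := (hM.eq_iff_add.mpr h1).symm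
    rcases hS y (hfix y hy h2) with h3 | h3
    · exact Or.inl h3
    · right; right; right
      rw [h3, hz]
  · have ha : ∀ s ∈ M, s • ι (ind a) = ι (ind a) := by
      intro s hs
      rw [hM.act_ind, B.Ma s hs]
    have hτa : τ • ι (ind a) = ι (ind b) := by
      rw [hM.act_ind, B.ta]
    have h2 : τ • (y + ι (ind a)) = y + ι (ind a) := by
      rw [smul_add, hτa]
      have h3 : y + τ • y = ι (ind a) + ι (ind b) := by rw [h1, hz]
      have h4 := hM.exch h3
      rw [h4]
    have h3 : ∀ s ∈ M, s • (y + ι (ind a)) = y + ι (ind a) := by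
      intro s hs
      rw [smul_add, hy s hs, ha s hs]
    rcases hS _ (hfix _ h3 h2) with h4 | h4
    · right; left
      exact hM.eq_iff_add.mpr h4
    · right; right; left
      rw [hz] at h4
      exact add_right_cancel (h4.trans (add_comm _ _))

/-! ### The vectors `X s` -/

section core

omit hM

variable (a e : Finset Ω) (x : Y)

open Classical in
/-- the image of `x` under any permutation which fixes the set `a` and maps the set `e` to `s` -/
noncomputable def X (s : Finset Ω) : Y := if h : ∃ g : Perm Ω, g • a = a ∧ g • e = s then h.choose • x else 0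

variable {a e x} (hx : ∀ σ : Perm Ω, σ • a = a → σ • e = e → σ • x = x)
include hx

theorem X_eq {g : Perm Ω} {s : Finset Ω} (h1 : g • a = a) (h2 : g • e = s) : X a e x s = g • x := by
  have h : ∃ g : Perm Ω, g • a = a ∧ g • e = s := ⟨g, h1, h2⟩
  rw [X, dif_pos h]
  obtain ⟨h3, h4⟩ := h.choose_spec
  have h5 : (g⁻¹ * h.choose) • x = x := by
    refine hx _ ?_ ?_
    · rw [mul_smul, h3, inv_smul_eq_iff, h1]
    · rw [mul_smul, h4, inv_smul_eq_iff, h2]
  rw [mul_smul, inv_smul_eq_iff] at h5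
  exact h5

theorem X_smul {σ : Perm Ω} {s : Finset Ω} (hσ : σ • a = a) (hs : ∃ g : Perm Ω, g • a = a ∧ g • e = s) :
    σ • X a e x s = X a e x (σ • s) := by
  obtain ⟨g, h1, h2⟩ := hs
  rw [X_eq hx h1 h2, X_eq hx (g := σ * g) (by rw [mul_smul, h1, hσ]) (by rw [mul_smul, h2]), mul_smul]

end core

end Mod

theorem inj_two {i j : Ω} (h : i ≠ j) : Function.Injective ![i, j] := by
  intro u v huv
  fin_cases u <;> fin_cases v <;> simp_all

theorem inj_four {i j k l : Ω} (h1 : i ≠ j) (h2 : i ≠ k) (h3 : i ≠ l) (h4 : j ≠ k) (h5 : j ≠ l) (h6 : k ≠ l) :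
    Function.Injective ![i, j, k, l] := by
  intro u v huv
  fin_cases u <;> fin_cases v <;> simp_all

theorem mem_of_smul_eq {a : Finset Ω} {g : Perm Ω} (h : g • a = a) {i : Ω} (hi : i ∉ a) : g i ∉ a := by
  intro h0
  apply hi
  rw [← h] at h0
  exact (Finset.smul_mem_smul_finset_iff g).mp h0

theorem swap_smul_eq_self_of_mem {u v : Ω} {s : Finset Ω} (hu : u ∈ s) (hv : v ∈ s) : swap u v • s = s := by
  refine Finset.eq_of_subset_of_card_le ?_ (by rw [Finset.card_smul_finset])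
  intro y hy
  obtain ⟨x, hx, rfl⟩ := Finset.mem_smul_finset.mp hy
  rw [Perm.smul_def]
  by_cases h1 : x = u
  · rw [h1, swap_apply_left]
    exact hv
  by_cases h2 : x = v
  · rw [h2, swap_apply_right]
    exact hu
  rw [swap_apply_of_ne_of_ne h1 h2]
  exact hx

/-- The matching lemma for the block `a` of a Sylow subgroup. -/
theorem core {ι : (Ω → ZMod 2) → Y} (hM : Mod ι) {m : ℕ} (hm : 3 ≤ m) {S : Subgroup (Perm Ω)} {o : Ω}
    {a b : Finset Ω} {M : Subgroup (Perm Ω)} {τ : Perm Ω} {μ : Finset (Finset Ω)} (B : Blocks m S o a b M τ μ)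
    (hS : ∀ y : Y, (∀ s ∈ S, s • y = y) → y = 0 ∨ y = ι (ind {o})) {e : Finset Ω} {x : Y}
    (he : e.card = 2) (hea : Disjoint e a) (hx : ∀ σ : Perm Ω, σ • a = a → σ • e = e → σ • x = x) :
    x = 0 ∨ x = ι (ind a) ∨ x = ι (ind e) ∨ x = ι (ind a) + ι (ind e) := by
  obtain ⟨e1, e2, hne, rfl⟩ := Finset.card_eq_two.mp he
  have he1 : e1 ∉ a := Finset.disjoint_left.mp hea (by simp)
  have he2 : e2 ∉ a := Finset.disjoint_left.mp hea (by simp)
  have hex : ∀ i j, i ≠ j → i ∉ a → j ∉ a → ∃ g : Perm Ω, g • a = a ∧ g • ({e1, e2} : Finset Ω) = {i, j} := by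
    intro i j hij hi hj
    obtain ⟨g, hg, h1⟩ := exists_ext a ![e1, e2] ![i, j] (inj_two hne) (inj_two hij)
      (by intro u; fin_cases u <;> assumption) (by intro u; fin_cases u <;> assumption)
    refine ⟨g, hg, ?_⟩
    have h2 : g e1 = i := h1 0
    have h3 : g e2 = j := h1 1
    rw [pair_smul, h2, h3]
  set P : Ω → Ω → Y := fun i j => Mod.X a {e1, e2} x {i, j} with hPdef
  have hP : ∀ g : Perm Ω, g • a = a → ∀ i j, i ≠ j → i ∉ a → j ∉ a → g • P i j = P (g i) (g j) := by
    intro g hg i j hij hi hj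
    change g • Mod.X a {e1, e2} x {i, j} = Mod.X a {e1, e2} x {g i, g j}
    rw [Mod.X_smul hx hg (hex i j hij hi hj), pair_smul]
  have hPc : ∀ i j, P i j = P j i := by
    intro i j
    change Mod.X a {e1, e2} x {i, j} = Mod.X a {e1, e2} x {j, i}
    rw [Finset.pair_comm i j]
  have hba : ∀ {i}, i ∈ b → i ∉ a := fun {i} hi h0 => B.dis i h0 hi
  have hμ : ∀ s ∈ μ, ∀ i ∈ s, ∃ j, j ≠ i ∧ j ∈ b ∧ s = {j, i} := by
    intro s hs i hi
    obtain ⟨u, v, huv, rfl⟩ := Finset.card_eq_two.mp (B.two s hs)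
    have hu := B.sub _ hs (by simp : u ∈ ({u, v} : Finset Ω))
    have hv := B.sub _ hs (by simp : v ∈ ({u, v} : Finset Ω))
    rcases (by simpa using hi : i = u ∨ i = v) with rfl | rfl
    · exact ⟨v, huv.symm, hv, Finset.pair_comm _ _⟩
    · exact ⟨u, huv, hu, rfl⟩
  have hμex : ∀ s ∈ μ, ∃ g : Perm Ω, g • a = a ∧ g • ({e1, e2} : Finset Ω) = s := by
    intro s hs
    obtain ⟨u, v, huv, rfl⟩ := Finset.card_eq_two.mp (B.two s hs)
    have hu := B.sub _ hs (by simp : u ∈ ({u, v} : Finset Ω))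
    have hv := B.sub _ hs (by simp : v ∈ ({u, v} : Finset Ω))
    exact hex u v huv (hba hu) (hba hv)
  have hsum : ∀ ν : Finset (Finset Ω), ν ⊆ μ → ∀ g : Perm Ω, g • a = a → (∀ s ∈ ν, g • s = s) →
      g • ∑ s ∈ ν, Mod.X a {e1, e2} x s = ∑ s ∈ ν, Mod.X a {e1, e2} x s := by
    intro ν hν g hg h1
    rw [Finset.smul_sum]
    refine Finset.sum_congr rfl fun s hs => ?_
    rw [Mod.X_smul hx hg (hμex s (hν hs)), h1 s hs]
  set y : Y := ∑ s ∈ μ, Mod.X a {e1, e2} x s with hy
  have hyM : ∀ g ∈ M, g • y = y := by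
    intro g hg
    rw [hy, Finset.smul_sum]
    refine Finset.sum_nbij' (fun s => g • s) (fun s => g⁻¹ • s) (fun s hs => B.inv g hg s hs)
      (fun s hs => B.inv _ (M.inv_mem hg) s hs) (fun s _ => inv_smul_smul g s) (fun s _ => smul_inv_smul g s) ?_
    intro s hs
    exact Mod.X_smul hx (B.Ma g hg) (hμex s hs)
  have hy4 := hM.fixed B hS hyM
  have hab : ∀ g : Perm Ω, g • a = a → g • b = b → ∀ w : Y,
      (w = 0 ∨ w = ι (ind a) ∨ w = ι (ind b) ∨ w = ι (ind a) + ι (ind b)) → g • w = w := by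
    rintro g h1 h2 w (rfl | rfl | rfl | rfl)
    · exact smul_zero g
    · rw [hM.act_ind, h1]
    · rw [hM.act_ind, h2]
    · rw [smul_add, hM.act_ind, hM.act_ind, h1, h2]
  -- two members of the matching
  have hcb4 : 4 ≤ b.card := by
    rw [B.cb]
    calc 4 = 2 ^ 2 := by norm_num
      _ ≤ 2 ^ (m - 1) := Nat.pow_le_pow_right (by norm_num) (by omega)
  obtain ⟨p', hp'⟩ : ∃ p', p' ∈ b := Finset.card_pos.mp (by omega)
  obtain ⟨s1, hs1, hps1⟩ := B.ex p' hp'
  obtain ⟨p, hpp, hp, rfl⟩ := hμ s1 hs1 p' hps1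
  obtain ⟨q, hq, hqs⟩ : ∃ q ∈ b, q ∉ ({p, p'} : Finset Ω) := by
    apply Finset.exists_mem_notMem_of_card_lt_card
    have := B.two _ hs1
    omega
  obtain ⟨s2, hs2, hqs2⟩ := B.ex q hq
  obtain ⟨q', hqq, hq', hs2e⟩ := hμ s2 hs2 q hqs2
  rw [Finset.pair_comm] at hs2e
  subst hs2e
  have hs12 : ({p, p'} : Finset Ω) ≠ {q, q'} := by
    intro h0
    exact hqs (by rw [h0]; simp)
  have hqp : q ≠ p := fun h0 => hqs (by rw [h0]; simp)
  have hqp' : q ≠ p' := fun h0 => hqs (by rw [h0]; simp)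
  have hq'p : q' ≠ p := fun h0 => hs12 (B.unq _ hs1 _ hs2 p (by simp) (by rw [← h0]; simp))
  have hq'p' : q' ≠ p' := fun h0 => hs12 (B.unq _ hs1 _ hs2 p' (by simp) (by rw [← h0]; simp))
  have hbase : P p p' + P q q' = P p q + P p' q' := by
    set g : Perm Ω := swap p' q with hg
    have hga : g • a = a := swap_smul_eq_self (hba hp') (hba hq)
    have hgb : g • b = b := swap_smul_eq_self_of_mem hp' hq
    have h1 : y = P p p' + (P q q' + ∑ s ∈ (μ.erase {p, p'}).erase {q, q'}, Mod.X a {e1, e2} x s) := by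
      rw [hy, ← Finset.add_sum_erase μ _ hs1,
        ← Finset.add_sum_erase (μ.erase {p, p'}) _ (Finset.mem_erase.mpr ⟨hs12.symm, hs2⟩)]
    have h2 : g • y = y := hab g hga hgb y hy4
    have h3 : g • ∑ s ∈ (μ.erase {p, p'}).erase {q, q'}, Mod.X a {e1, e2} x s =
        ∑ s ∈ (μ.erase {p, p'}).erase {q, q'}, Mod.X a {e1, e2} x s := by
      refine hsum _ ((Finset.erase_subset _ _).trans (Finset.erase_subset _ _)) g hga ?_
      intro s hs
      rw [Finset.mem_erase, Finset.mem_erase] at hs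
      refine swap_smul_eq_self ?_ ?_
      · intro h0
        exact hs.2.1 (B.unq s hs.2.2 _ hs1 p' h0 (by simp))
      · intro h0
        exact hs.1 (B.unq s hs.2.2 _ hs2 q h0 (by simp))
    have h4 : g p = p := swap_apply_of_ne_of_ne hpp hqp.symm
    have h5 : g p' = q := swap_apply_left _ _
    have h6 : g q = p' := swap_apply_right _ _
    have h7 : g q' = q' := swap_apply_of_ne_of_ne hq'p' hqq
    rw [h1, smul_add, smul_add, h3, hP g hga p p' hpp (hba hp) (hba hp'), hP g hga q q' hqq.symm (hba hq) (hba hq'),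
      h4, h5, h6, h7, ← add_assoc, ← add_assoc] at h2
    exact (add_right_cancel h2).symm
  have hex4 : ∀ i j k l, i ≠ j → i ≠ k → i ≠ l → j ≠ k → j ≠ l → k ≠ l → i ∉ a → j ∉ a → k ∉ a → l ∉ a →
      P i j + P k l = P i k + P j l := by
    intro i j k l h1 h2 h3 h4 h5 h6 hi hj hk hl
    obtain ⟨g, hga, hg⟩ := exists_ext a ![p, p', q, q'] ![i, j, k, l]
      (inj_four hpp hqp.symm hq'p.symm hqp'.symm hq'p'.symm hqq.symm) (inj_four h1 h2 h3 h4 h5 h6)
      (by intro u; fin_cases u <;> exact hba (by assumption)) (by intro u; fin_cases u <;> assumption)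
    have g1 : g p = i := hg 0
    have g2 : g p' = j := hg 1
    have g3 : g q = k := hg 2
    have g4 : g q' = l := hg 3
    have h7 := congrArg (fun w => g • w) hbase
    simp only [smul_add] at h7
    rw [hP g hga p p' hpp (hba hp) (hba hp'), hP g hga q q' hqq.symm (hba hq) (hba hq'),
      hP g hga p q hqp.symm (hba hp) (hba hq), hP g hga p' q' hq'p'.symm (hba hp') (hba hq'), g1, g2, g3, g4] at h7
    exact h7
  have hT : ∀ i j k l, i ≠ j → i ≠ k → i ≠ l → j ≠ k → j ≠ l → k ≠ l → i ∉ a → j ∉ a → k ∉ a → l ∉ a →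
      P i j + P i k + P j k = P i j + P i l + P j l := by
    intro i j k l h1 h2 h3 h4 h5 h6 hi hj hk hl
    have h7 := hex4 i k j l h2 h1 h3 h4.symm h6 h5 hi hk hj hl
    have h8 := hex4 i l j k h3 h1 h2 h5.symm h6.symm h4 hi hl hj hk
    rw [hPc l k, ← h7, add_comm (P i l)] at h8
    have h9 := hM.exch h8.symm
    rw [add_assoc, add_assoc, h9, add_comm (P j l)]
  have hoa := B.oa
  have hob := B.ob
  have hpo : p ≠ o := fun h0 => hob (h0 ▸ hp)
  have hp'o : p' ≠ o := fun h0 => hob (h0 ▸ hp')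
  set T : Ω → Ω → Ω → Y := fun i j k => P i j + P i k + P j k with hTdef
  have hT' : ∀ i j k l, i ≠ j → i ≠ k → i ≠ l → j ≠ k → j ≠ l → k ≠ l → i ∉ a → j ∉ a → k ∉ a → l ∉ a →
      T i j k = T i j l := hT
  have hTs : ∀ i j k, T i j k = T i k j := by
    intro i j k
    change P i j + P i k + P j k = P i k + P i j + P k j
    rw [add_comm (P i j), hPc j k]
  have hTs' : ∀ i j k, T i j k = T j i k := by
    intro i j k
    change P i j + P i k + P j k = P j i + P j k + P i k
    rw [hPc i j]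
    abel
  set k0 : Y := T o p p' with hk0
  have hTo : ∀ i j, i ≠ j → o ≠ i → o ≠ j → i ∉ a → j ∉ a → T o i j = k0 := by
    intro i j hij hi hj hia hja
    have c1 : ∀ i, o ≠ i → i ∉ a → i ≠ p → T o p i = k0 := by
      intro i hi hia hip
      by_cases h : i = p'
      · rw [h]
      · exact hT' o p i p' hpo.symm hi hp'o.symm (Ne.symm hip) hpp h hoa (hba hp) hia (hba hp')
    by_cases h1 : j = p
    · subst h1
      rw [hTs]
      exact c1 i hi hia hij
    by_cases h2 : i = p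
    · subst h2
      exact c1 j hj hja (Ne.symm hij)
    rw [hTs, hT' o j i p hj hi hpo.symm (Ne.symm hij) h1 h2 hoa hja hia (hba hp), hTs]
    exact c1 j hj hja h1
  have hPo : ∀ i j, i ≠ j → o ≠ i → o ≠ j → i ∉ a → j ∉ a → P i j = k0 + (P o i + P o j) := by
    intro i j hij hi hj hia hja
    have h1 := hTo i j hij hi hj hia hja
    change P o i + P o j + P i j = k0 at h1
    rw [← h1, add_comm, ← add_assoc, hM.two, zero_add]
  have hTc : ∀ i j k, i ≠ j → i ≠ k → j ≠ k → i ∉ a → j ∉ a → k ∉ a → T i j k = k0 := by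
    intro i j k hij hik hjk hi hj hk
    by_cases h1 : o = i
    · subst h1
      exact hTo j k hjk hij hik hj hk
    by_cases h2 : o = j
    · subst h2
      rw [hTs']
      exact hTo i k hik (Ne.symm hij) hjk hi hk
    by_cases h3 : o = k
    · subst h3
      rw [hTs, hTs']
      exact hTo i j hij (Ne.symm hik) (Ne.symm hjk) hi hj
    change P i j + P i k + P j k = k0
    rw [hPo i j hij h1 h2 hi hj, hPo i k hik h1 h3 hi hk, hPo j k hjk h2 h3 hj hk]
    have h4 := hM.two k0
    have h5 := hM.two (P o i)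
    have h6 := hM.two (P o j)
    have h7 := hM.two (P o k)
    calc k0 + (P o i + P o j) + (k0 + (P o i + P o k)) + (k0 + (P o j + P o k))
        = k0 + (k0 + k0) + (P o i + P o i) + (P o j + P o j) + (P o k + P o k) := by abel
      _ = k0 := by rw [h4, h5, h6, h7, add_zero, add_zero, add_zero, add_zero]
  have hk0g : ∀ g : Perm Ω, g • a = a → g • k0 = k0 := by
    intro g hg
    have h1 : g • k0 = T (g o) (g p) (g p') := by
      change g • (P o p + P o p' + P p p') = P (g o) (g p) + P (g o) (g p') + P (g p) (g p')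
      rw [smul_add, smul_add, hP g hg o p hpo.symm hoa (hba hp), hP g hg o p' hp'o.symm hoa (hba hp'),
        hP g hg p p' hpp (hba hp) (hba hp')]
    rw [h1]
    exact hTc _ _ _ (g.injective.ne hpo.symm) (g.injective.ne hp'o.symm) (g.injective.ne hpp)
      (mem_of_smul_eq hg hoa) (mem_of_smul_eq hg (hba hp)) (mem_of_smul_eq hg (hba hp'))
  have hk04 := hM.fixed B hS (y := k0) (fun g hg => hk0g g (B.Ma g hg))
  -- the transposition `(o p')`
  set g : Perm Ω := swap o p' with hgdef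
  have hga : g • a = a := swap_smul_eq_self hoa (hba hp')
  have hbb : ι (ind b) + g • ι (ind b) = ι (ind {o, p'}) := by
    rw [hM.act_ind, ← hM.add]
    congr 1
    funext u
    have h1 : u ∈ g • b ↔ g⁻¹ u ∈ b := by
      rw [← Finset.inv_smul_mem_iff]
      rfl
    have hgi : g⁻¹ = swap o p' := swap_inv o p'
    by_cases hu1 : u = o
    · have h2 : g⁻¹ u = p' := by rw [hgi, hu1, swap_apply_left]
      rw [h2] at h1
      have h3 : u ∈ g • b := h1.mpr hp'
      have h4 : u ∉ b := hu1 ▸ hob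
      have h5 : u ∈ ({o, p'} : Finset Ω) := by rw [hu1]; simp
      simp only [Pi.add_apply, ind, h3, h4, h5, if_true, if_false, zero_add]
    by_cases hu2 : u = p'
    · have h2 : g⁻¹ u = o := by rw [hgi, hu2, swap_apply_right]
      rw [h2] at h1
      have h3 : u ∉ g • b := fun h => hob (h1.mp h)
      have h4 : u ∈ b := hu2 ▸ hp'
      have h5 : u ∈ ({o, p'} : Finset Ω) := by rw [hu2]; simp
      simp only [Pi.add_apply, ind, h3, h4, h5, if_true, if_false, add_zero]
    have h2 : g⁻¹ u = u := by rw [hgi, swap_apply_of_ne_of_ne hu1 hu2]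
    rw [h2] at h1
    by_cases hu : u ∈ b
    · simp only [Pi.add_apply, ind, h1, hu, if_true, Finset.mem_insert, Finset.mem_singleton, hu1, hu2, or_self,
        if_false]
      exact CharTwo.add_self_eq_zero _
    · simp [ind, h1, hu, hu1, hu2]
  have hne0 : ι (ind {o, p'}) ≠ 0 := by
    intro h0
    rcases (hM.ker _).mp h0 with h1 | h1
    · have h2 := congrFun h1 o
      simp [ind] at h2
    · obtain ⟨u, hu⟩ : ∃ u, u ∈ a := Finset.card_pos.mp (by rw [B.ca]; positivity)
      have h2 := congrFun h1 u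
      have h3 : u ≠ o := by
        rintro rfl
        exact hoa hu
      have h4 : u ≠ p' := by
        rintro rfl
        exact hba hp' hu
      simp [ind, h3, h4] at h2
  have hk02 : k0 = 0 ∨ k0 = ι (ind a) := by
    have h1 := hk0g g hga
    rcases hk04 with h | h | h | h
    · exact Or.inl h
    · exact Or.inr h
    · exfalso
      rw [h] at h1
      rw [h1, hM.two] at hbb
      exact hne0 hbb.symm
    · exfalso
      rw [h, smul_add, hM.act_ind, hga] at h1
      have h2 := add_left_cancel h1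
      rw [h2, hM.two] at hbb
      exact hne0 hbb.symm
  have hyg : y + g • y = P p p' + P p o := by
    have h1 : y = P p p' + ∑ s ∈ μ.erase {p, p'}, Mod.X a {e1, e2} x s := by
      rw [hy, ← Finset.add_sum_erase μ _ hs1]
    have h3 : g • ∑ s ∈ μ.erase {p, p'}, Mod.X a {e1, e2} x s =
        ∑ s ∈ μ.erase {p, p'}, Mod.X a {e1, e2} x s := by
      refine hsum _ (Finset.erase_subset _ _) g hga ?_
      intro s hs
      rw [Finset.mem_erase] at hs
      refine swap_smul_eq_self ?_ ?_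
      · intro h0
        exact hob (B.sub s hs.2 h0)
      · intro h0
        exact hs.1 (B.unq s hs.2 _ hs1 p' h0 (by simp))
    have h4 : g p = p := swap_apply_of_ne_of_ne hpo hpp
    have h5 : g p' = o := swap_apply_right _ _
    have h6 : g • y = P p o + ∑ s ∈ μ.erase {p, p'}, Mod.X a {e1, e2} x s := by
      rw [h1, smul_add, h3, hP g hga p p' hpp (hba hp) (hba hp'), h4, h5]
    rw [h6]
    nth_rw 1 [h1]
    set R := ∑ s ∈ μ.erase {p, p'}, Mod.X a {e1, e2} x s
    calc P p p' + R + (P p o + R) = P p p' + P p o + (R + R) := by abel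
      _ = _ := by rw [hM.two, add_zero]
  have hd : P p p' + P p o = 0 ∨ P p p' + P p o = ι (ind {o, p'}) := by
    rw [← hyg]
    rcases hy4 with h | h | h | h
    · left
      rw [h, smul_zero, add_zero]
    · left
      rw [h, hM.act_ind, hga, hM.two]
    · right
      rw [h, hbb]
    · right
      rw [h, smul_add, hM.act_ind g a, hga]
      calc ι (ind a) + ι (ind b) + (ι (ind a) + g • ι (ind b))
          = ι (ind a) + ι (ind a) + (ι (ind b) + g • ι (ind b)) := by abel
        _ = _ := by rw [hM.two, zero_add, hbb]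
  have hlast : P o p' = k0 + (P p p' + P p o) := by
    have h1 : P p o + P p p' + P o p' = k0 :=
      hTc p o p' hpo hpp hp'o.symm (hba hp) hoa (hba hp')
    rw [← h1, add_comm (P p p')]
    rw [add_comm (P p o + P p p') (P o p'), add_assoc, hM.two, add_zero]
  obtain ⟨h, hha, hh⟩ := hex o p' hp'o.symm hoa (hba hp')
  have hXh : P o p' = h • x := Mod.X_eq hx hha hh
  have hxh : x = h⁻¹ • P o p' := by rw [hXh, inv_smul_smul]
  have hia : h⁻¹ • ι (ind a) = ι (ind a) := by
    rw [hM.act_ind, inv_smul_eq_iff.mpr hha.symm]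
  have hie : h⁻¹ • ι (ind {o, p'}) = ι (ind {e1, e2}) := by
    rw [hM.act_ind, inv_smul_eq_iff.mpr hh.symm]
  rw [hxh, hlast]
  rcases hk02 with h1 | h1 <;> rcases hd with h2 | h2 <;> rw [h1, h2]
  · left
    rw [add_zero, smul_zero]
  · right; right; left
    rw [zero_add, hie]
  · right; left
    rw [add_zero, hia]
  · right; right; right
    rw [smul_add, hia, hie]

/-- **The matching lemma.** -/
theorem matching_lemma {ι : (Ω → ZMod 2) → Y} (hM : Mod ι) {m : ℕ} (hm : 3 ≤ m) (hc : Fintype.card Ω = 2 ^ m + 1)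
    (S : Sylow 2 (Perm Ω))
    (hS : ∀ o : Ω, (∀ s ∈ (S : Subgroup (Perm Ω)), s o = o) → ∀ y : Y, (∀ s ∈ (S : Subgroup (Perm Ω)), s • y = y) →
      y = 0 ∨ y = ι (ind {o}))
    {A e : Finset Ω} (hA : A.card = 2 ^ (m - 1)) (he : e.card = 2) (hd : Disjoint e A) {x : Y}
    (hx : ∀ σ : Perm Ω, σ • A = A → σ • e = e → σ • x = x) :
    x = 0 ∨ x = ι (ind A) ∨ x = ι (ind e) ∨ x = ι (ind A) + ι (ind e) := by
  obtain ⟨o, a, b, M, τ, μ, B⟩ := exists_blocks (by omega) hc S
  obtain ⟨g, hg⟩ := Perm.exists_map_finset_eq a A (B.ca.trans hA.symm)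
  have hga : g • a = A := by
    rw [← hg]
    ext y
    rw [Finset.mem_smul_finset, Finset.mem_map]
    rfl
  have h1 := core hM hm B (hS o B.fix) (e := g⁻¹ • e) (x := g⁻¹ • x) (by rw [Finset.card_smul_finset, he]) (by
      rw [← hga] at hd
      rw [Finset.disjoint_left] at hd ⊢
      intro y hy hya
      rw [Finset.mem_inv_smul_finset_iff] at hy
      exact hd hy (Finset.smul_mem_smul_finset hya)) (by
      intro σ h2 h3
      have h4 : (g * σ * g⁻¹) • x = x := by
        refine hx _ ?_ ?_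
        · rw [← hga, mul_smul, inv_smul_smul, mul_smul, h2]
        · rw [mul_smul, mul_smul, h3, smul_inv_smul]
      rw [mul_smul, mul_smul] at h4
      rw [eq_inv_smul_iff, h4])
  have h2 : g • ι (ind a) = ι (ind A) := by rw [hM.act_ind, hga]
  have h3 : g • ι (ind (g⁻¹ • e)) = ι (ind e) := by rw [hM.act_ind, smul_inv_smul]
  rcases h1 with h | h | h | h
  · left
    rw [inv_smul_eq_iff, smul_zero] at h
    exact h
  · right; left
    rw [inv_smul_eq_iff, h2] at h
    exact h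
  · right; right; left
    rw [inv_smul_eq_iff, h3] at h
    exact h
  · right; right; right
    rw [inv_smul_eq_iff, smul_add, h2, h3] at h
    exact h

end module

end Cfsg.Agent.Omega.NSix.Match
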