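import Cfsg.Agent.Omega.NSix.MatchP

/-!
# The matching lemma for `Sym(Ω)`, `|Ω| = 2^m + 1`, `m ≥ 3` (OMEGA, #14103 of helper945)

`Y` is an `𝔽₂`-space with an action of `Perm Ω`, in which the fixed points of a Sylow 2-subgroup have order 2, and
`z : Ω → Y` is injective and equivariant (`z i = Ω - {i}` in the even-subset module).

* `pair`: if `x` is fixed by the stabiliser of `A` and `{i, j}` (`|A| = 2^(m-1)`, `i, j ∉ A`), then `x` is in
  `{0, ∑_A z} + {0, z i + z j}`;
* `triple`: if `x` is fixed by the stabiliser of `{i, j, k}` then `x` is `0` or `z i + z j + z k`.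
-/

set_option autoImplicit false

namespace Cfsg.Agent.Omega.NSix.MatchP

open Equiv Finset

/-! ### Sylow 2-subgroups of symmetric groups -/

instance : Fact (Nat.Prime 2) := ⟨Nat.prime_two⟩

theorem val_fact_pow (k : ℕ) : padicValNat 2 (2 ^ k).factorial + 1 = 2 ^ k := by
  induction k with
  | zero => simp
  | succ k ih =>
    rw [pow_succ, mul_comm, padicValNat_factorial_mul]
    omega

theorem val_fact_succ (k : ℕ) : padicValNat 2 (2 ^ (k + 1) + 1).factorial = 2 * padicValNat 2 (2 ^ k).factorial + 1 := by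
  have h1 := val_fact_pow k
  have h2 := val_fact_pow (k + 1)
  rw [Nat.factorial_succ, padicValNat.mul (by positivity) (Nat.factorial_ne_zero _)]
  have h3 : padicValNat 2 (2 ^ (k + 1) + 1) = 0 := by
    apply padicValNat.eq_zero_of_not_dvd
    intro hd
    have h4 : 2 ∣ 2 ^ (k + 1) := dvd_pow_self 2 (by omega)
    have h5 := (Nat.dvd_add_right h4).mp hd
    omega
  rw [h3]
  have : 2 ^ (k + 1) = 2 * 2 ^ k := by rw [pow_succ, mul_comm]
  omega

theorem card_sylow_perm {α : Type*} [Fintype α] (P : Sylow 2 (Perm α)) :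
    Nat.card P = 2 ^ padicValNat 2 (Fintype.card α).factorial := by
  classical
  rw [Sylow.card_eq_multiplicity, Nat.card_perm, Nat.card_eq_fintype_card, Nat.factorization_def _ Nat.prime_two]

theorem sylow_transitive {α : Type*} [Fintype α] {n : ℕ} (hα : Fintype.card α = 2 ^ n) (P : Sylow 2 (Perm α))
    (i j : α) : ∃ s ∈ P, s i = j := by
  classical
  -- the orbit of `i`
  have h1 := MulAction.index_stabilizer P i
  have h2 : (MulAction.stabilizer (Perm α) i).index = Fintype.card α := by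
    rw [MulAction.index_stabilizer_of_transitive, Nat.card_eq_fintype_card]
  have h3 := (MulAction.stabilizer P i).card_mul_index
  have h4 := (MulAction.stabilizer (Perm α) i).card_mul_index
  -- the stabiliser in `P`
  have h5 : Nat.card (MulAction.stabilizer P i) ∣ Nat.card (MulAction.stabilizer (Perm α) i) := by
    have h6 : (MulAction.stabilizer P i).map (P : Subgroup (Perm α)).subtype ≤ MulAction.stabilizer (Perm α) i := by
      rintro _ ⟨x, hx, rfl⟩
      exact hx
    have h7 := Subgroup.card_dvd_of_le h6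
    rwa [Subgroup.card_map_of_injective (Subgroup.subtype_injective _)] at h7
  obtain ⟨k, hk⟩ := IsPGroup.iff_card.mp (P.isPGroup'.to_subgroup (MulAction.stabilizer P i))
  have h8 : 2 ^ (k + n) ∣ Nat.card P := by
    refine Sylow.pow_dvd_card_of_pow_dvd_card P ?_
    rw [← h4, h2, hα, pow_add, ← hk]
    exact Nat.mul_dvd_mul h5 dvd_rfl
  have h9 : Fintype.card α ≤ (MulAction.orbit P i).ncard := by
    rw [← h3, h1, hk, pow_add] at h8
    have h10 := Nat.dvd_of_mul_dvd_mul_left (by positivity) h8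
    rw [hα]
    refine Nat.le_of_dvd ?_ h10
    exact (Set.ncard_pos (Set.toFinite _)).mpr ⟨i, MulAction.mem_orbit_self i⟩
  have h11 : MulAction.orbit P i = Set.univ := by
    refine Set.eq_of_subset_of_ncard_le (Set.subset_univ _) ?_ (Set.toFinite _)
    rw [Set.ncard_univ, Nat.card_eq_fintype_card]
    exact h9
  have h12 : j ∈ MulAction.orbit P i := by rw [h11]; exact Set.mem_univ j
  obtain ⟨s, hs⟩ := h12
  exact ⟨s, s.2, hs⟩

/-- a Sylow 2-subgroup of `Sym(2^n)`, `n ≥ 1`, centralises a fixed-point-free involution -/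
theorem exists_matching {α : Type*} [Fintype α] {n : ℕ} (hα : Fintype.card α = 2 ^ n) (hn : n ≠ 0)
    (P : Sylow 2 (Perm α)) :
    ∃ t : Perm α, (∀ s ∈ P, ∀ i, s (t i) = t (s i)) ∧ (∀ i, t (t i) = i) ∧ ∀ i, t i ≠ i := by
  classical
  obtain ⟨i0⟩ : Nonempty α := Fintype.card_pos_iff.mp (by rw [hα]; positivity)
  obtain ⟨i1, hi1⟩ : ∃ i1, i1 ≠ i0 := by
    have : 1 < Fintype.card α := by
      rw [hα]
      exact Nat.one_lt_two_pow hn
    exact Fintype.exists_ne_of_one_lt_card this i0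
  obtain ⟨s0, hs0, h0⟩ := sylow_transitive hα P i0 i1
  have hnt : Nontrivial P := by
    refine ⟨⟨⟨s0, hs0⟩, 1, fun e => hi1 ?_⟩⟩
    have : s0 = 1 := congrArg Subtype.val e
    rw [← h0, this]
    rfl
  have hc := P.isPGroup'.center_nontrivial
  obtain ⟨k, hk⟩ := IsPGroup.iff_card.mp (P.isPGroup'.to_subgroup (Subgroup.center P))
  have hk0 : k ≠ 0 := by
    rintro rfl
    have := Finite.one_lt_card_iff_nontrivial.mpr hc
    rw [hk] at this
    simp at this
  obtain ⟨t, ht⟩ := exists_prime_orderOf_dvd_card' (G := Subgroup.center P) 2 (by rw [hk]; exact dvd_pow_self 2 hk0)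
  have ht2 : t * t = 1 := by
    have := pow_orderOf_eq_one t
    rwa [ht, pow_two] at this
  have hcomm : ∀ s ∈ P, ∀ i, s (((t : P) : Perm α) i) = ((t : P) : Perm α) (s i) := by
    intro s hs i
    have h1 := (Subgroup.mem_center_iff.mp t.2) ⟨s, hs⟩
    have h2 : s * ((t : P) : Perm α) = ((t : P) : Perm α) * s := congrArg Subtype.val h1
    exact DFunLike.congr_fun h2 i
  refine ⟨((t : P) : Perm α), hcomm, ?_, ?_⟩
  · intro i
    have h1 : ((t : P) : Perm α) * ((t : P) : Perm α) = 1 := by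
      have := congrArg (fun x : Subgroup.center P => ((x : P) : Perm α)) ht2
      exact this
    exact DFunLike.congr_fun h1 i
  · intro i hi
    have h1 : ((t : P) : Perm α) = 1 := by
      ext j
      obtain ⟨s, hs, rfl⟩ := sylow_transitive hα P i j
      rw [← hcomm s hs i, hi]
      rfl
    have h2 : t = 1 := by
      apply Subtype.ext
      apply Subtype.ext
      exact h1
    rw [h2, orderOf_one] at ht
    norm_num at ht

/-! ### Fixed points of a subgroup of index 2 -/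

section fixed

variable {P Y : Type*} [Group P] [AddCommGroup Y] [DistribMulAction P Y]

theorem fix_index_two (h2 : ∀ y : Y, y + y = 0) {S1 S0 : Subgroup P}
    (hidx : (S1.subgroupOf S0).index = 2) {z0 : Y} (hz : ∀ y : Y, (∀ s ∈ S0, s • y = y) → y = 0 ∨ y = z0)
    {a b : Y} (ha : ∀ s ∈ S1, s • a = a) (hb : ∀ s ∈ S1, s • b = b) (ha0 : a ≠ 0) (hb0 : b ≠ 0) (hab : a ≠ b)
    {y : Y} (hy : ∀ s ∈ S1, s • y = y) : y = 0 ∨ y = a ∨ y = b ∨ y = a + b := by
  -- an element of `S0` outside `S1`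
  obtain ⟨s, hs, hs1⟩ : ∃ s ∈ S0, s ∉ S1 := by
    by_contra hcon
    push Not at hcon
    have h1 : S1.subgroupOf S0 = ⊤ := Subgroup.subgroupOf_eq_top.mpr hcon
    rw [h1, Subgroup.index_top] at hidx
    norm_num at hidx
  have hmul : ∀ x ∈ S0, ∀ y ∈ S0, (x * y ∈ S1 ↔ (x ∈ S1 ↔ y ∈ S1)) := by
    intro x hx y hy
    have := Subgroup.mul_mem_iff_of_index_two hidx (a := ⟨x, hx⟩) (b := ⟨y, hy⟩)
    simpa [Subgroup.mem_subgroupOf] using this
  have hinv : ∀ x ∈ S0, (x⁻¹ ∈ S1 ↔ x ∈ S1) := fun x _ => S1.inv_mem_iff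
  -- the norm
  have hN : ∀ y : Y, (∀ s ∈ S1, s • y = y) → y + s • y = 0 ∨ y + s • y = z0 := by
    intro y hy
    refine hz _ fun q hq => ?_
    by_cases hq1 : q ∈ S1
    · have h3 : s⁻¹ * q * s ∈ S1 := by
        rw [hmul _ (S0.mul_mem (S0.inv_mem hs) hq) _ hs, hmul _ (S0.inv_mem hs) _ hq, hinv s hs]
        tauto
      have h4 : q • s • y = s • y := by
        rw [← mul_smul, show q * s = s * (s⁻¹ * q * s) by group, mul_smul, hy _ h3]
      rw [smul_add, hy q hq1, h4]
    · have h3 : q * s ∈ S1 := by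
        rw [hmul _ hq _ hs]
        tauto
      have h4 : s⁻¹ * q ∈ S1 := by
        rw [hmul _ (S0.inv_mem hs) _ hq, hinv s hs]
        tauto
      rw [smul_add, ← mul_smul, hy _ h3, show q = s * (s⁻¹ * q) by group, mul_smul, hy _ h4, add_comm]
  have hK : ∀ y : Y, (∀ s ∈ S1, s • y = y) → y + s • y = 0 → y = 0 ∨ y = z0 := by
    intro y hy h0
    have hsy : s • y = y := (eq_of_add h2 h0).symm
    refine hz _ fun q hq => ?_
    by_cases hq1 : q ∈ S1
    · exact hy q hq1
    · have h3 : q * s⁻¹ ∈ S1 := by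
        rw [hmul _ hq _ (S0.inv_mem hs), hinv s hs]
        tauto
      have hsy' : s⁻¹ • y = y := by rw [inv_smul_eq_iff, hsy]
      calc q • y = (q * s⁻¹) • s • y := by rw [← mul_smul]; simp
        _ = y := by rw [hsy, hy _ h3]
  have hadd : ∀ u v : Y, (∀ s ∈ S1, s • u = u) → (∀ s ∈ S1, s • v = v) → ∀ s ∈ S1, s • (u + v) = u + v :=
    fun u v hu hv s hs => by rw [smul_add, hu s hs, hv s hs]
  have hNadd : ∀ u v : Y, u + v + s • (u + v) = (u + s • u) + (v + s • v) := by
    intro u v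
    rw [smul_add]
    abel
  have key : ∀ u v : Y, (∀ s ∈ S1, s • u = u) → (∀ s ∈ S1, s • v = v) → u + s • u = z0 → v + s • v = z0 →
      u + v = 0 ∨ u + v = z0 := by
    intro u v hu hv h1 h3
    exact hK _ (hadd u v hu hv) (by rw [hNadd, h1, h3, h2])
  rcases hN a ha with h1 | h1 <;> rcases hN b hb with h3 | h3
  · exfalso
    rcases hK a ha h1 with h4 | h4
    · exact ha0 h4
    · rcases hK b hb h3 with h5 | h5
      · exact hb0 h5
      · exact hab (h4.trans h5.symm)
  · have haz : a = z0 := (hK a ha h1).resolve_left ha0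
    rcases hN y hy with h4 | h4
    · rcases hK y hy h4 with h5 | h5
      · exact Or.inl h5
      · exact Or.inr (Or.inl (h5.trans haz.symm))
    · rcases key y b hy hb h4 h3 with h5 | h5
      · exact Or.inr (Or.inr (Or.inl (eq_of_add h2 h5)))
      · refine Or.inr (Or.inr (Or.inr ?_))
        rw [haz, ← h5, add_assoc, h2, add_zero]
  · have hbz : b = z0 := (hK b hb h3).resolve_left hb0
    rcases hN y hy with h4 | h4
    · rcases hK y hy h4 with h5 | h5
      · exact Or.inl h5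
      · exact Or.inr (Or.inr (Or.inl (h5.trans hbz.symm)))
    · rcases key y a hy ha h4 h1 with h5 | h5
      · exact Or.inr (Or.inl (eq_of_add h2 h5))
      · refine Or.inr (Or.inr (Or.inr ?_))
        rw [hbz, ← h5, add_comm y a, ← add_assoc, h2, zero_add]
  · have habz : a + b = z0 := (key a b ha hb h1 h3).resolve_left fun e => hab (eq_of_add h2 e)
    rcases hN y hy with h4 | h4
    · rcases hK y hy h4 with h5 | h5
      · exact Or.inl h5
      · exact Or.inr (Or.inr (Or.inr (h5.trans habz.symm)))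
    · rcases key y a hy ha h4 h1 with h5 | h5
      · exact Or.inr (Or.inl (eq_of_add h2 h5))
      · refine Or.inr (Or.inr (Or.inl ?_))
        rw [← habz, add_comm y a] at h5
        exact add_left_cancel h5

end fixed

/-! ### The action of `Perm α × Perm (Option α)` -/

section sym

variable {α Ω : Type*}

/-- `Perm α × Perm (Option α) → Perm Ω` -/
def hom (φ : α ⊕ Option α ≃ Ω) : Perm α × Perm (Option α) →* Perm Ω :=
  φ.permCongrHom.toMonoidHom.comp (Perm.sumCongrHom α (Option α))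

theorem hom_inl (φ : α ⊕ Option α ≃ Ω) (g : Perm α × Perm (Option α)) (i : α) :
    hom φ g (φ (Sum.inl i)) = φ (Sum.inl (g.1 i)) := by
  simp [hom, Equiv.permCongr_apply]

theorem hom_inr (φ : α ⊕ Option α ≃ Ω) (g : Perm α × Perm (Option α)) (i : Option α) :
    hom φ g (φ (Sum.inr i)) = φ (Sum.inr (g.2 i)) := by
  simp [hom, Equiv.permCongr_apply]

theorem hom_injective (φ : α ⊕ Option α ≃ Ω) : Function.Injective (hom φ) :=
  φ.permCongrHom.injective.comp Perm.sumCongrHom_injective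

/-- `Perm α → Perm (Option α)` -/
def optHom (α : Type*) : Perm α →* Perm (Option α) where
  toFun := optionCongr
  map_one' := optionCongr_one
  map_mul' f g := by
    ext1 i
    cases i <;> rfl

theorem optHom_injective : Function.Injective (optHom α) := optionCongr_injective

/-- the subgroup `S × S` of `Perm Ω` -/
def S1 (φ : α ⊕ Option α ≃ Ω) (S : Subgroup (Perm α)) : Subgroup (Perm Ω) :=
  (S.prod S).map ((hom φ).comp (MonoidHom.prodMap (MonoidHom.id _) (optHom α)))

theorem mem_S1 {φ : α ⊕ Option α ≃ Ω} {S : Subgroup (Perm α)} {g : Perm Ω} :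
    g ∈ S1 φ S ↔ ∃ s ∈ S, ∃ s' ∈ S, hom φ (s, optionCongr s') = g := by
  constructor
  · rintro ⟨⟨s, s'⟩, ⟨h1, h2⟩, rfl⟩
    exact ⟨s, h1, s', h2, rfl⟩
  · rintro ⟨s, h1, s', h2, rfl⟩
    exact ⟨⟨s, s'⟩, ⟨h1, h2⟩, rfl⟩

theorem card_S1 (φ : α ⊕ Option α ≃ Ω) (S : Subgroup (Perm α)) :
    Nat.card (S1 φ S) = Nat.card S * Nat.card S := by
  rw [S1, Subgroup.card_map_of_injective, Nat.card_congr (Subgroup.prodEquiv S S).toEquiv, Nat.card_prod]
  refine (hom_injective φ).comp ?_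
  rintro ⟨a, b⟩ ⟨c, d⟩ h
  have h1 := congrArg Prod.fst h
  have h2 := congrArg Prod.snd h
  exact Prod.ext h1 (optHom_injective h2)

end sym

section frame

variable {α Ω : Type*} [Fintype α] [DecidableEq α] [Fintype Ω] [DecidableEq Ω] {Y : Type*} [AddCommGroup Y]
  [DistribMulAction (Perm Ω) Y]

/-- The hypotheses: an `𝔽₂ Sym(Ω)`-module in which a Sylow 2-subgroup has at most one fixed point `≠ 0`,
and a copy `z : Ω → Y` of the complements of the points. -/
structure Mod (Ω Y : Type*) [Fintype Ω] [DecidableEq Ω] [AddCommGroup Y] [DistribMulAction (Perm Ω) Y]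
    (m : ℕ) (z : Ω → Y) : Prop where
  two : ∀ y : Y, y + y = 0
  card : Fintype.card Ω = 2 ^ m + 1
  three : 3 ≤ m
  smul : ∀ (g : Perm Ω) (i : Ω), g • z i = z (g i)
  inj : Function.Injective z
  fix : ∃ (S : Sylow 2 (Perm Ω)) (z0 : Y), ∀ y : Y, (∀ s ∈ S, s • y = y) → y = 0 ∨ y = z0

theorem Mod.fix_all {m : ℕ} {z : Ω → Y} (h : Mod Ω Y m z) (Q : Sylow 2 (Perm Ω)) :
    ∃ z0 : Y, ∀ y : Y, (∀ s ∈ Q, s • y = y) → y = 0 ∨ y = z0 := by
  obtain ⟨S, z0, hS⟩ := h.fix
  obtain ⟨g, hg⟩ := MulAction.exists_smul_eq (Perm Ω) S Q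
  refine ⟨g • z0, fun y hy => ?_⟩
  have h1 : ∀ s ∈ S, s • g⁻¹ • y = g⁻¹ • y := by
    intro s hs
    have h2 : g * s * g⁻¹ ∈ Q := by
      rw [← hg]
      exact Subgroup.smul_mem_pointwise_smul s (MulAut.conj g) (S : Subgroup (Perm Ω)) hs
    have h3 := hy _ h2
    rw [eq_inv_smul_iff, ← mul_smul, ← mul_smul]
    exact h3
  rcases hS _ h1 with h2 | h2
  · left
    rw [← smul_inv_smul g y, h2, smul_zero]
  · right
    rw [← h2, smul_inv_smul]

theorem Mod.exists_ne {m : ℕ} {z : Ω → Y} (h : Mod Ω Y m z) : 9 ≤ Fintype.card Ω := by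
  have h1 : 2 ^ 3 ≤ 2 ^ m := Nat.pow_le_pow_right (by norm_num) h.three
  rw [h.card]
  omega

/-- the vectors `∑_A z` -/
def va (φ : α ⊕ Option α ≃ Ω) (z : Ω → Y) : Y := ∑ i : α, z (φ (Sum.inl i))

/-- the vectors `∑_{B ∪ o} z + z i` -/
def vc (φ : α ⊕ Option α ≃ Ω) (z : Ω → Y) (i : Option α) : Y :=
  (∑ j : Option α, z (φ (Sum.inr j))) + z (φ (Sum.inr i))

/-- the action of `Perm α × Perm (Option α)` -/
abbrev act (Y : Type*) [AddCommGroup Y] [DistribMulAction (Perm Ω) Y] (φ : α ⊕ Option α ≃ Ω) :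
    DistribMulAction (Perm α × Perm (Option α)) Y := DistribMulAction.compHom Y (hom φ)

theorem Mod.hom_va {m : ℕ} {z : Ω → Y} (h : Mod Ω Y m z) (φ : α ⊕ Option α ≃ Ω)
    (g : Perm α × Perm (Option α)) : hom φ g • va φ z = va φ z := by
  rw [va, Finset.smul_sum]
  calc ∑ i : α, hom φ g • z (φ (Sum.inl i)) = ∑ i : α, z (φ (Sum.inl (g.1 i))) :=
        Finset.sum_congr rfl fun i _ => by rw [h.smul, hom_inl]
    _ = _ := Equiv.sum_comp g.1 fun i => z (φ (Sum.inl i))

theorem Mod.hom_vc {m : ℕ} {z : Ω → Y} (h : Mod Ω Y m z) (φ : α ⊕ Option α ≃ Ω)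
    (g : Perm α × Perm (Option α)) (i : Option α) : hom φ g • vc φ z i = vc φ z (g.2 i) := by
  rw [vc, smul_add, Finset.smul_sum, h.smul, hom_inr, vc]
  congr 1
  calc ∑ i : Option α, hom φ g • z (φ (Sum.inr i)) = ∑ i : Option α, z (φ (Sum.inr (g.2 i))) :=
        Finset.sum_congr rfl fun i _ => by rw [h.smul, hom_inr]
    _ = _ := Equiv.sum_comp g.2 fun i => z (φ (Sum.inr i))

/-- the effect of a swap of a point of `A` and a point outside -/
theorem Mod.swap_va {m : ℕ} {z : Ω → Y} (h : Mod Ω Y m z) (φ : α ⊕ Option α ≃ Ω) (i : α) (j : Option α) :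
    va φ z + swap (φ (Sum.inl i)) (φ (Sum.inr j)) • va φ z = z (φ (Sum.inl i)) + z (φ (Sum.inr j)) := by
  rw [va, Finset.smul_sum, ← Finset.sum_add_distrib]
  have h1 : ∀ k : α, z (φ (Sum.inl k)) + swap (φ (Sum.inl i)) (φ (Sum.inr j)) • z (φ (Sum.inl k)) =
      if k = i then z (φ (Sum.inl i)) + z (φ (Sum.inr j)) else 0 := by
    intro k
    rw [h.smul]
    split_ifs with hk
    · rw [hk, swap_apply_left]
    · rw [swap_apply_of_ne_of_ne, h.two]
      · exact fun e => hk (Sum.inl.inj (φ.injective e))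
      · exact fun e => Sum.inl_ne_inr (φ.injective e)
  rw [Finset.sum_congr rfl fun k _ => h1 k, Finset.sum_ite_eq' Finset.univ i]
  simp

theorem Mod.swap_vb {m : ℕ} {z : Ω → Y} (h : Mod Ω Y m z) (φ : α ⊕ Option α ≃ Ω) (i : α) (j : Option α) :
    (∑ k : Option α, z (φ (Sum.inr k))) + swap (φ (Sum.inl i)) (φ (Sum.inr j)) •
      (∑ k : Option α, z (φ (Sum.inr k))) = z (φ (Sum.inl i)) + z (φ (Sum.inr j)) := by
  rw [Finset.smul_sum, ← Finset.sum_add_distrib]
  have h1 : ∀ k : Option α, z (φ (Sum.inr k)) + swap (φ (Sum.inl i)) (φ (Sum.inr j)) • z (φ (Sum.inr k)) =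
      if k = j then z (φ (Sum.inl i)) + z (φ (Sum.inr j)) else 0 := by
    intro k
    rw [h.smul]
    split_ifs with hk
    · rw [hk, swap_apply_right, add_comm]
    · rw [swap_apply_of_ne_of_ne, h.two]
      · exact fun e => Sum.inr_ne_inl (φ.injective e)
      · exact fun e => hk (Sum.inr.inj (φ.injective e))
  rw [Finset.sum_congr rfl fun k _ => h1 k, Finset.sum_ite_eq' Finset.univ j]
  simp

theorem Mod.add_ne {m : ℕ} {z : Ω → Y} (h : Mod Ω Y m z) {i j : Ω} (hij : i ≠ j) : z i + z j ≠ 0 :=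
  fun h0 => hij (h.inj (eq_of_add h.two h0))

/-- **The frame.** -/
theorem Mod.frame {m : ℕ} {z : Ω → Y} (h : Mod Ω Y m z) (φ : α ⊕ Option α ≃ Ω)
    (hα : Fintype.card α = 2 ^ (m - 1)) :
    ∃ (S : Subgroup (Perm α)) (t : Perm α),
      @Frame α _ Y _ (act Y φ) S t (va φ z) (vc φ z) := by
  obtain ⟨k, rfl⟩ : ∃ k, m = k + 1 := ⟨m - 1, by have := h.three; omega⟩
  rw [Nat.add_sub_cancel] at hα
  have hk : 2 ≤ k := by have := h.three; omega
  obtain ⟨P⟩ : Nonempty (Sylow 2 (Perm α)) := inferInstance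
  obtain ⟨t, ht1, ht2, ht3⟩ := exists_matching hα (by omega) P
  have h4 : 4 ≤ Fintype.card α := by
    rw [hα]
    calc 4 = 2 ^ 2 := by norm_num
      _ ≤ 2 ^ k := Nat.pow_le_pow_right (by norm_num) hk
  obtain ⟨u0⟩ := Fintype.card_pos_iff.mp (lt_of_lt_of_le (by norm_num : 0 < 4) h4)
  -- the subgroup of index 2
  have hc1 : Nat.card (S1 φ (P : Subgroup (Perm α))) = 2 ^ (2 * padicValNat 2 (2 ^ k).factorial) := by
    have h5 : Nat.card (P : Subgroup (Perm α)) = _ := card_sylow_perm P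
    rw [card_S1, h5, hα, ← pow_add, two_mul]
  have hp1 : IsPGroup 2 (S1 φ (P : Subgroup (Perm α))) := IsPGroup.of_card hc1
  obtain ⟨Q, hQ⟩ := hp1.exists_le_sylow
  have hcQ : Nat.card (Q : Subgroup (Perm Ω)) = 2 ^ (2 * padicValNat 2 (2 ^ k).factorial + 1) := by
    have h5 : Nat.card (Q : Subgroup (Perm Ω)) = _ := card_sylow_perm Q
    rw [h5, h.card, val_fact_succ]
  have hidx : ((S1 φ (P : Subgroup (Perm α))).subgroupOf Q).index = 2 := by
    have h5 := ((S1 φ (P : Subgroup (Perm α))).subgroupOf Q).card_mul_index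
    rw [Nat.card_congr (Subgroup.subgroupOfEquivOfLe hQ).toEquiv, hc1, hcQ, pow_succ] at h5
    exact Nat.eq_of_mul_eq_mul_left (by positivity) h5
  obtain ⟨z0, hz0⟩ := h.fix_all Q
  -- the vectors
  have hb : vc φ z none = ∑ i : α, z (φ (Sum.inr (some i))) := by
    rw [vc, Fintype.sum_option, add_comm, ← add_assoc, h.two, zero_add]
  have hinj : Function.Injective (vc φ z) := by
    intro i j hij
    exact Sum.inr.inj (φ.injective (h.inj (add_left_cancel hij)))
  have hsa : ∀ s ∈ S1 φ (P : Subgroup (Perm α)), s • va φ z = va φ z := by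
    intro s hs
    obtain ⟨x, -, y, -, rfl⟩ := mem_S1.mp hs
    exact h.hom_va φ _
  have hsb : ∀ s ∈ S1 φ (P : Subgroup (Perm α)), s • vc φ z none = vc φ z none := by
    intro s hs
    obtain ⟨x, -, y, -, rfl⟩ := mem_S1.mp hs
    rw [h.hom_vc]
    rfl
  have hne : z (φ (Sum.inl u0)) + z (φ (Sum.inr none)) ≠ 0 := h.add_ne fun e => Sum.inl_ne_inr (φ.injective e)
  have ha0 : va φ z ≠ 0 := by
    intro h0
    have h5 := h.swap_va φ u0 none
    rw [h0, smul_zero, add_zero] at h5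
    exact hne h5.symm
  have hb0 : vc φ z none ≠ 0 := by
    intro h0
    have h5 := h.hom_vc φ (1, swap none (some u0)) none
    rw [h0, smul_zero] at h5
    have h6 : vc φ z none = vc φ z (some u0) := by
      rw [h0, h5]
      exact congrArg (vc φ z) (swap_apply_left _ _)
    exact Option.some_ne_none u0 (hinj h6).symm
  have hab : va φ z ≠ vc φ z none := by
    intro h0
    have h5 := h.hom_vc φ (1, swap none (some u0)) none
    rw [← h0, h.hom_va] at h5
    have h6 : vc φ z none = vc φ z (some u0) := by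
      rw [← h0, h5]
      exact congrArg (vc φ z) (swap_apply_left _ _)
    exact Option.some_ne_none u0 (hinj h6).symm
  let _ := act Y φ
  refine ⟨(P : Subgroup (Perm α)), t, h.two, ?_, h4, ht1, ht2, ht3, h.hom_va φ, h.hom_vc φ, hinj, ?_⟩
  · rw [hα]
    exact even_two.pow_of_ne_zero (by omega)
  · intro y hy
    refine fix_index_two h.two hidx hz0 hsa hsb ha0 hb0 hab ?_
    intro s hs
    obtain ⟨x, hx, x', hx', rfl⟩ := mem_S1.mp hs
    exact hy x hx x' hx'

/-- the base family: `x` transported along `Perm (Option α)` -/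
theorem exists_family {m : ℕ} {z : Ω → Y} (_h : Mod Ω Y m z) (φ : α ⊕ Option α ≃ Ω) {n : ℕ}
    {u : Fin n → Option α} (hu : Function.Injective u) {x : Y}
    (hx : ∀ g : Perm α × Perm (Option α), (∃ σ : Perm (Fin n), ∀ i, g.2 (u i) = u (σ i)) → hom φ g • x = x) :
    ∃ X : (Fin n → Option α) → Y, X u = x ∧
      (∀ (g : Perm α × Perm (Option α)) v, Function.Injective v → hom φ g • X v = X (g.2 ∘ v)) ∧
      ∀ (v : Fin n → Option α) (σ : Perm (Fin n)), X (v ∘ σ) = X v := by
  classical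
  set X : (Fin n → Option α) → Y := fun v =>
    if hv : ∃ (g : Perm (Option α)) (σ : Perm (Fin n)), ∀ i, g (u i) = v (σ i) then hom φ (1, hv.choose) • x else 0
    with hX
  have hdef : ∀ (v : Fin n → Option α) (g : Perm α × Perm (Option α)) (σ : Perm (Fin n)),
      (∀ i, g.2 (u i) = v (σ i)) → X v = hom φ g • x := by
    intro v g σ hg
    have hv : ∃ (g : Perm (Option α)) (σ : Perm (Fin n)), ∀ i, g (u i) = v (σ i) := ⟨g.2, σ, hg⟩
    simp only [hX]
    rw [dif_pos hv]
    obtain ⟨τ, hτ⟩ := hv.choose_spec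
    have h1 : hom φ (g⁻¹ * (1, hv.choose)) • x = x := by
      refine hx _ ⟨σ⁻¹ * τ, fun i => ?_⟩
      change g.2⁻¹ (hv.choose (u i)) = _
      rw [hτ, Perm.inv_eq_iff_eq, hg]
      simp
    rw [map_mul, mul_smul, map_inv, inv_smul_eq_iff] at h1
    exact h1
  refine ⟨X, ?_, ?_, ?_⟩
  · rw [hdef u 1 1 fun i => rfl, map_one, one_smul]
  · intro g v hv
    obtain ⟨k, hk⟩ := exists_perm hu hv
    rw [hdef v (1, k) 1 hk, ← mul_smul, ← map_mul]
    exact (hdef (g.2 ∘ v) (g * (1, k)) 1 fun i => congrArg g.2 (hk i)).symm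
  · intro v σ
    by_cases hv : ∃ (g : Perm (Option α)) (σ : Perm (Fin n)), ∀ i, g (u i) = v (σ i)
    · obtain ⟨g, τ, hg⟩ := hv
      rw [hdef v (1, g) τ hg, hdef (v ∘ σ) (1, g) (σ⁻¹ * τ) fun i => ?_]
      change g (u i) = v (σ ((σ⁻¹ * τ) i))
      rw [hg i]
      simp
    · have hv' : ¬ ∃ (g : Perm (Option α)) (τ : Perm (Fin n)), ∀ i, g (u i) = (v ∘ σ) (τ i) := by
        rintro ⟨g, τ, hg⟩
        exact hv ⟨g, σ * τ, hg⟩
      simp only [hX]
      rw [dif_neg hv, dif_neg hv']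

theorem exists_phi {k : ℕ} (hΩ : Fintype.card Ω = k + (k + 1)) {A : Finset Ω} (hA : A.card = k) :
    ∃ φ : Fin k ⊕ Option (Fin k) ≃ Ω, ∀ a, a ∈ A ↔ ∃ i, φ (Sum.inl i) = a := by
  have h1 : Fintype.card {a // a ∈ A} = k := by rw [Fintype.card_coe, hA]
  have h2 : Fintype.card {a // a ∉ A} = k + 1 := by
    rw [Fintype.card_subtype_compl, h1, hΩ]
    omega
  have e1 : Fin k ≃ {a // a ∈ A} := (Fintype.equivFinOfCardEq h1).symm
  have e2 : Option (Fin k) ≃ {a // a ∉ A} :=
    Fintype.equivOfCardEq (by rw [h2, Fintype.card_option, Fintype.card_fin])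
  refine ⟨(Equiv.sumCongr e1 e2).trans (Equiv.sumCompl (· ∈ A)), ?_⟩
  intro a
  constructor
  · intro ha
    refine ⟨e1.symm ⟨a, ha⟩, ?_⟩
    simp
  · rintro ⟨i, rfl⟩
    simp

theorem sum_phi {k : ℕ} {A : Finset Ω} {φ : Fin k ⊕ Option (Fin k) ≃ Ω} (hφ : ∀ a, a ∈ A ↔ ∃ i, φ (Sum.inl i) = a)
    (z : Ω → Y) : ∑ i : Fin k, z (φ (Sum.inl i)) = ∑ a ∈ A, z a := by
  have h1 : A = Finset.univ.image fun i => φ (Sum.inl i) := by
    ext a
    simp [hφ a]
  rw [h1, Finset.sum_image]
  intro a _ b _ hab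
  exact Sum.inl.inj (φ.injective hab)

theorem vec2_swap {β : Type*} (i j : β) : ![i, j] ∘ swap (0 : Fin 2) 1 = ![j, i] := by
  funext b
  fin_cases b <;> rfl

theorem vec2_comp {β : Type*} (g : β → β) (i j : β) : g ∘ ![i, j] = ![g i, g j] := by
  funext b
  fin_cases b <;> rfl

theorem vec3_swap {β : Type*} (i j k : β) : ![i, j, k] ∘ swap (0 : Fin 3) 1 = ![j, i, k] := by
  funext b
  fin_cases b <;> rfl

theorem vec3_swap' {β : Type*} (i j k : β) : ![i, j, k] ∘ swap (1 : Fin 3) 2 = ![i, k, j] := by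
  funext b
  fin_cases b <;> rfl

theorem vec3_comp {β : Type*} (g : β → β) (i j k : β) : g ∘ ![i, j, k] = ![g i, g j, g k] := by
  funext b
  fin_cases b <;> rfl

theorem inj2 {β : Type*} {i j : β} (h : i ≠ j) : Function.Injective ![i, j] := by
  intro a b hab
  fin_cases a <;> fin_cases b <;> simp_all [eq_comm]

theorem inj3 {β : Type*} {i j k : β} (h1 : i ≠ j) (h2 : i ≠ k) (h3 : j ≠ k) : Function.Injective ![i, j, k] := by
  intro a b hab
  fin_cases a <;> fin_cases b <;> simp_all [eq_comm]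

theorem hom_mem {k : ℕ} {A : Finset Ω} {φ : Fin k ⊕ Option (Fin k) ≃ Ω} (hφ : ∀ a, a ∈ A ↔ ∃ i, φ (Sum.inl i) = a)
    (g : Perm (Fin k) × Perm (Option (Fin k))) : ∀ a ∈ A, hom φ g a ∈ A := by
  intro a ha
  obtain ⟨i, rfl⟩ := (hφ a).mp ha
  rw [hom_inl]
  exact (hφ _).mpr ⟨_, rfl⟩

theorem exists_inr {k : ℕ} {A : Finset Ω} {φ : Fin k ⊕ Option (Fin k) ≃ Ω} (hφ : ∀ a, a ∈ A ↔ ∃ i, φ (Sum.inl i) = a)
    {a : Ω} (ha : a ∉ A) : ∃ i, φ (Sum.inr i) = a := by
  obtain ⟨i | i, hi⟩ := φ.surjective a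
  · exact absurd ((hφ a).mpr ⟨i, hi⟩) ha
  · exact ⟨i, hi⟩

/-- **The matching lemma for pairs.** -/
theorem Mod.pair {m : ℕ} {z : Ω → Y} (h : Mod Ω Y m z) {A : Finset Ω} (hA : A.card = 2 ^ (m - 1)) {i j : Ω}
    (hi : i ∉ A) (hj : j ∉ A) (hij : i ≠ j) {x : Y}
    (hx : ∀ g : Perm Ω, (∀ a ∈ A, g a ∈ A) → (∀ a ∈ ({i, j} : Finset Ω), g a ∈ ({i, j} : Finset Ω)) → g • x = x) :
    ∃ k : Y, (k = 0 ∨ k = ∑ a ∈ A, z a) ∧ (x = k ∨ x = k + (z i + z j)) := by
  have hm : 2 ^ m = 2 ^ (m - 1) + 2 ^ (m - 1) := by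
    rw [← two_mul, ← pow_succ', Nat.sub_add_cancel (le_trans (by norm_num) h.three)]
  obtain ⟨φ, hφ⟩ := exists_phi (by rw [h.card, hm]; ring) hA
  obtain ⟨S, t, hF⟩ := h.frame φ (Fintype.card_fin _)
  obtain ⟨u, rfl⟩ := exists_inr hφ hi
  obtain ⟨v, rfl⟩ := exists_inr hφ hj
  have huv : u ≠ v := fun e => hij (by rw [e])
  obtain ⟨X, hXu, hXg, hXs⟩ := exists_family h φ (inj2 huv) (x := x) (by
    rintro g ⟨σ, hσ⟩
    refine hx _ (hom_mem hφ g) ?_
    intro a ha
    have h0 := hσ 0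
    have h1 := hσ 1
    have hval : ∀ b : Fin 2, ![u, v] b = u ∨ ![u, v] b = v := by
      intro b
      fin_cases b <;> simp
    rcases Finset.mem_insert.mp ha with rfl | ha
    · rw [hom_inr]
      have : g.2 u = ![u, v] (σ 0) := h0
      rw [this]
      rcases hval (σ 0) with e | e <;> rw [e] <;> simp
    · rw [Finset.mem_singleton.mp ha, hom_inr]
      have : g.2 v = ![u, v] (σ 1) := h1
      rw [this]
      rcases hval (σ 1) with e | e <;> rw [e] <;> simp)
  let _ := act Y φ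
  obtain ⟨k, hk, hk'⟩ := hF.pair (X := fun i j => X ![i, j])
    (by
      intro i j
      change X ![i, j] = X ![j, i]
      rw [← hXs ![i, j] (swap 0 1), vec2_swap])
    (by
      intro g i j hij
      refine (hXg g _ (inj2 hij)).trans ?_
      rw [vec2_comp])
  refine ⟨k, ?_, ?_⟩
  · rw [← sum_phi hφ z]
    exact hk
  · rcases hk' with hk' | hk'
    · left
      rw [← hXu]
      exact hk' u v huv
    · right
      rw [← hXu]
      refine (hk' u v huv).trans ?_
      rw [vc, vc]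
      congr 1
      calc _ = ((∑ j : Option (Fin (2 ^ (m - 1))), z (φ (Sum.inr j))) +
            ∑ j : Option (Fin (2 ^ (m - 1))), z (φ (Sum.inr j))) + (z (φ (Sum.inr u)) + z (φ (Sum.inr v))) := by abel
        _ = _ := by rw [h.two, zero_add]

/-- **The matching lemma for triples.** -/
theorem Mod.triple {m : ℕ} {z : Ω → Y} (h : Mod Ω Y m z) {i j k : Ω} (hij : i ≠ j) (hik : i ≠ k) (hjk : j ≠ k)
    {x : Y}
    (hx : ∀ g : Perm Ω, (∀ a ∈ ({i, j, k} : Finset Ω), g a ∈ ({i, j, k} : Finset Ω)) → g • x = x) :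
    x = 0 ∨ x = z i + z j + z k := by
  have hm : 2 ^ m = 2 ^ (m - 1) + 2 ^ (m - 1) := by
    rw [← two_mul, ← pow_succ', Nat.sub_add_cancel (le_trans (by norm_num) h.three)]
  have hm4 : 4 ≤ 2 ^ (m - 1) := by
    calc 4 = 2 ^ 2 := by norm_num
      _ ≤ 2 ^ (m - 1) := Nat.pow_le_pow_right (by norm_num) (by have := h.three; omega)
  obtain ⟨A, hAs, hA⟩ : ∃ A ⊆ (Finset.univ \ ({i, j, k} : Finset Ω)), A.card = 2 ^ (m - 1) := by
    refine Finset.exists_subset_card_eq ?_
    rw [Finset.card_sdiff_of_subset (Finset.subset_univ _), Finset.card_univ, h.card]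
    have := Finset.card_le_three (a := i) (b := j) (c := k)
    omega
  have hnot : ∀ a ∈ ({i, j, k} : Finset Ω), a ∉ A := fun a ha haA => (Finset.mem_sdiff.mp (hAs haA)).2 ha
  obtain ⟨φ, hφ⟩ := exists_phi (by rw [h.card, hm]; ring) hA
  obtain ⟨S, t, hF⟩ := h.frame φ (Fintype.card_fin _)
  obtain ⟨u, rfl⟩ := exists_inr hφ (hnot i (by simp))
  obtain ⟨v, rfl⟩ := exists_inr hφ (hnot j (by simp))
  obtain ⟨w, rfl⟩ := exists_inr hφ (hnot k (by simp))
  have huv : u ≠ v := fun e => hij (by rw [e])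
  have huw : u ≠ w := fun e => hik (by rw [e])
  have hvw : v ≠ w := fun e => hjk (by rw [e])
  obtain ⟨X, hXu, hXg, hXs⟩ := exists_family h φ (inj3 huv huw hvw) (x := x) (by
    rintro g ⟨σ, hσ⟩
    refine hx _ ?_
    intro a ha
    have hval : ∀ b : Fin 3, φ (Sum.inr (![u, v, w] b)) ∈
        ({φ (Sum.inr u), φ (Sum.inr v), φ (Sum.inr w)} : Finset Ω) := by
      intro b
      fin_cases b <;> simp
    rcases Finset.mem_insert.mp ha with rfl | ha
    · rw [hom_inr]
      have : g.2 u = ![u, v, w] (σ 0) := hσ 0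
      rw [this]
      exact hval _
    · rcases Finset.mem_insert.mp ha with rfl | ha
      · rw [hom_inr]
        have : g.2 v = ![u, v, w] (σ 1) := hσ 1
        rw [this]
        exact hval _
      · rw [Finset.mem_singleton.mp ha, hom_inr]
        have : g.2 w = ![u, v, w] (σ 2) := hσ 2
        rw [this]
        exact hval _)
  let _ := act Y φ
  obtain ⟨c, hc, hc'⟩ := hF.triple (X := fun i j k => X ![i, j, k])
    (by
      intro i j k
      change X ![i, j, k] = X ![j, i, k]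
      rw [← hXs ![i, j, k] (swap 0 1), vec3_swap])
    (by
      intro i j k
      change X ![i, j, k] = X ![i, k, j]
      rw [← hXs ![i, j, k] (swap 1 2), vec3_swap'])
    (by
      intro g i j k hij hik hjk
      refine (hXg g _ (inj3 hij hik hjk)).trans ?_
      rw [vec3_comp])
  -- a point of `A` and a point outside
  obtain ⟨p⟩ : Nonempty (Fin (2 ^ (m - 1))) := ⟨⟨0, by positivity⟩⟩
  obtain ⟨q, hqu, hqv, hqw⟩ := hF.exists_ne3 u v w
  set τ : Perm Ω := swap (φ (Sum.inl p)) (φ (Sum.inr q)) with hτ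
  have hτr : ∀ y : Option (Fin (2 ^ (m - 1))), y ≠ q → τ (φ (Sum.inr y)) = φ (Sum.inr y) := by
    intro y hy
    exact swap_apply_of_ne_of_ne (fun e => Sum.inr_ne_inl (φ.injective e))
      (fun e => hy (Sum.inr.inj (φ.injective e)))
  have hτx : τ • x = x := by
    refine hx τ fun a ha => ?_
    rcases Finset.mem_insert.mp ha with rfl | ha
    · rw [hτr u hqu.symm]; simp
    · rcases Finset.mem_insert.mp ha with rfl | ha
      · rw [hτr v hqv.symm]; simp
      · rw [Finset.mem_singleton.mp ha, hτr w hqw.symm]; simp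
  have hne : z (φ (Sum.inl p)) + z (φ (Sum.inr q)) ≠ 0 := h.add_ne fun e => Sum.inl_ne_inr (φ.injective e)
  have hva := h.swap_va φ p q
  have hvb := h.swap_vb φ p q
  set ZB : Y := ∑ k : Option (Fin (2 ^ (m - 1))), z (φ (Sum.inr k)) with hZB
  rw [← hτ] at hva hvb
  set T : Y := z (φ (Sum.inr u)) + z (φ (Sum.inr v)) + z (φ (Sum.inr w)) with hT
  have hTτ : τ • T = T := by
    rw [hT, smul_add, smul_add, h.smul, h.smul, h.smul, hτr u hqu.symm, hτr v hqv.symm, hτr w hqw.symm]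
  have hvc : vc φ z u + vc φ z v + vc φ z w = ZB + T := by
    rw [vc, vc, vc, ← hZB, hT]
    calc _ = (ZB + ZB) + (ZB + (z (φ (Sum.inr u)) + z (φ (Sum.inr v)) + z (φ (Sum.inr w)))) := by abel
      _ = _ := by rw [h.two, zero_add]
  have hxX : X ![u, v, w] = x := hXu
  rcases hc' with hc' | hc'
  · have h1 := hc' u v w huv huw hvw
    simp only [hxX] at h1
    rcases hc with rfl | rfl
    · exact Or.inl h1
    · exfalso
      rw [h1] at hτx
      rw [hτx, h.two] at hva
      exact hne hva.symm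
  · have h1 := hc' u v w huv huw hvw
    simp only [hxX] at h1
    rw [hvc] at h1
    rcases hc with rfl | rfl
    · exfalso
      rw [zero_add] at h1
      rw [h1, smul_add, hTτ, add_left_inj] at hτx
      rw [hτx, h.two] at hvb
      exact hne hvb.symm
    · right
      have h2 : ∀ g : Perm (Fin (2 ^ (m - 1))) × Perm (Option (Fin (2 ^ (m - 1)))),
          hom φ g • (va φ z + ZB) = va φ z + ZB := by
        intro g
        rw [smul_add, h.hom_va, hZB, Finset.smul_sum]
        congr 1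
        calc ∑ i : Option (Fin (2 ^ (m - 1))), hom φ g • z (φ (Sum.inr i)) =
              ∑ i : Option (Fin (2 ^ (m - 1))), z (φ (Sum.inr (g.2 i))) :=
              Finset.sum_congr rfl fun i _ => by rw [h.smul, hom_inr]
          _ = _ := Equiv.sum_comp g.2 fun i => z (φ (Sum.inr i))
      rcases hF.fix_all h2 with h3 | h3
      · rw [h1, ← add_assoc, h3, zero_add]
      · exfalso
        have h4 : ZB = 0 := by
          have h5 : va φ z + ZB = va φ z + 0 := by rw [h3, add_zero]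
          exact add_left_cancel h5
        rw [h4, smul_zero, add_zero] at hvb
        exact hne hvb.symm

end frame

end Cfsg.Agent.Omega.NSix.MatchP
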