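/-
Copyright (c) 2026 CFSG team. Released under Apache 2.0 license.
Authors: helper450 (text bb OMEGA #13506 of helper827)
-/
import Cfsg.Agent.Omega.S5.Syl
import Cfsg.Agent.Omega.NSix.Basic
import Cfsg.Agent.MinSimple.Basic

/-!
# (F1) of `S5/NatBig.lean`: `V ≤ O₂(C_G(z_i))` for `m ≥ 3`

`Q₀ = O₂(C_G(z_0)) ≤ S ≤ P` induces on `V` a 2-subgroup of the stabiliser of `0`, normal in it, which is
trivial because `n - 1 = 2^m ≥ 8`.
-/

set_option autoImplicit false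

namespace Cfsg.Agent.Omega.NSix.PtFact

open Subgroup Pointwise Cfsg Cfsg.Agent.ZN
open Cfsg.Agent.Omega.S5.Def Cfsg.Agent.Omega.S5.Syl
open Cfsg.Agent.Omega.NSix.Base (zz rr)
open Cfsg.Agent.Omega.NSix.Basic (zz_mem zz_comm zz_sq zz_inv rr_mem zz_conj zz_ne_one)
open Cfsg.Agent.MinSimple.VModule (le_normalizer_o2 o2_isPGroup o2_le le_o2 o2_le_of_sylow)

universe u

/-! ### Permutations -/

section Perm

variable {ι : Type*} [DecidableEq ι]

/-- A 2-group of permutations contains no 3-cycle. -/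
theorem no_three {N : Subgroup (Equiv.Perm ι)} (h2 : IsPGroup 2 N) {a b c : ι} (hab : a ≠ b) (hac : a ≠ c)
    (hbc : b ≠ c) (h : Equiv.swap a b * Equiv.swap b c ∈ N) : False := by
  obtain ⟨k, hk⟩ := h2 ⟨_, h⟩
  have hk' : (Equiv.swap a b * Equiv.swap b c) ^ 2 ^ k = 1 := congrArg Subtype.val hk
  have h3 : (Equiv.swap a b * Equiv.swap b c) ^ 3 = 1 := by
    ext x
    rw [pow_succ, pow_succ, pow_one]
    simp only [Equiv.Perm.mul_apply, Equiv.Perm.one_apply]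
    by_cases hxa : x = a
    · subst hxa
      rw [Equiv.swap_apply_of_ne_of_ne hab hac, Equiv.swap_apply_left, Equiv.swap_apply_left,
        Equiv.swap_apply_of_ne_of_ne (Ne.symm hac) (Ne.symm hbc), Equiv.swap_apply_right,
        Equiv.swap_apply_right]
    by_cases hxb : x = b
    · subst hxb
      rw [Equiv.swap_apply_left, Equiv.swap_apply_of_ne_of_ne (Ne.symm hac) (Ne.symm hbc),
        Equiv.swap_apply_right, Equiv.swap_apply_right, Equiv.swap_apply_of_ne_of_ne hab hac,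
        Equiv.swap_apply_left]
    by_cases hxc : x = c
    · subst hxc
      rw [Equiv.swap_apply_right, Equiv.swap_apply_right, Equiv.swap_apply_of_ne_of_ne hab hac,
        Equiv.swap_apply_left, Equiv.swap_apply_left,
        Equiv.swap_apply_of_ne_of_ne (Ne.symm hac) (Ne.symm hbc)]
    · rw [Equiv.swap_apply_of_ne_of_ne hxb hxc, Equiv.swap_apply_of_ne_of_ne hxa hxb,
        Equiv.swap_apply_of_ne_of_ne hxb hxc, Equiv.swap_apply_of_ne_of_ne hxa hxb,
        Equiv.swap_apply_of_ne_of_ne hxb hxc, Equiv.swap_apply_of_ne_of_ne hxa hxb]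
  have h4 : Equiv.swap a b * Equiv.swap b c = 1 := by
    have h5 : orderOf (Equiv.swap a b * Equiv.swap b c) ∣ 3 := orderOf_dvd_of_pow_eq_one h3
    have h6 : orderOf (Equiv.swap a b * Equiv.swap b c) ∣ 2 ^ k := orderOf_dvd_of_pow_eq_one hk'
    have h7 : Nat.Coprime 3 (2 ^ k) := Nat.Coprime.pow_right _ (by norm_num)
    have h8 : orderOf (Equiv.swap a b * Equiv.swap b c) ∣ 1 := by
      have := Nat.dvd_gcd h5 h6
      rwa [h7] at this
    exact orderOf_eq_one_iff.mp (Nat.dvd_one.mp h8)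
  have h5 := DFunLike.congr_fun h4 a
  rw [Equiv.Perm.mul_apply, Equiv.swap_apply_of_ne_of_ne hab hac, Equiv.swap_apply_left] at h5
  exact hab h5.symm

/-- the commutator with a transposition. -/
theorem comm_mem {N : Subgroup (Equiv.Perm ι)} {o : ι}
    (hc : ∀ σ ∈ N, ∀ a b, a ≠ o → b ≠ o → Equiv.swap a b * σ * Equiv.swap a b ∈ N)
    {σ : Equiv.Perm ι} (hσ : σ ∈ N) {a b : ι} (ha : a ≠ o) (hb : b ≠ o) :
    Equiv.swap (σ a) (σ b) * Equiv.swap a b ∈ N := by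
  have h1 := N.mul_mem hσ (hc _ (N.inv_mem hσ) a b ha hb)
  have h2 : σ * (Equiv.swap a b * σ⁻¹ * Equiv.swap a b) = Equiv.swap (σ a) (σ b) * Equiv.swap a b := by
    rw [Equiv.swap_apply_apply]
    group
  rwa [h2] at h1

theorem trivial_of {N : Subgroup (Equiv.Perm ι)} (h2 : IsPGroup 2 N) {o : ι}
    (h0 : ∀ σ ∈ N, σ o = o)
    (hc : ∀ σ ∈ N, ∀ a b, a ≠ o → b ≠ o → Equiv.swap a b * σ * Equiv.swap a b ∈ N)
    (hbig : ∀ a b c d : ι, ∃ e, e ≠ o ∧ e ≠ a ∧ e ≠ b ∧ e ≠ c ∧ e ≠ d) {σ : Equiv.Perm ι} (hσ : σ ∈ N) :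
    σ = 1 := by
  -- every element is an involution
  have hne : ∀ σ ∈ N, ∀ a, a ≠ o → σ a ≠ o := fun σ hσ a ha h1 =>
    ha (σ.injective (h1.trans (h0 σ hσ).symm))
  have hinv : ∀ σ ∈ N, ∀ a, σ (σ a) = a := by
    intro σ hσ a
    by_cases hao : a = o
    · rw [hao, h0 σ hσ, h0 σ hσ]
    by_contra hne1
    by_cases h1 : σ a = a
    · exact hne1 (by rw [h1, h1])
    have h3 := comm_mem hc hσ hao (hne σ hσ a hao)
    -- `swap (σ a) (σ (σ a)) * swap a (σ a)`
    rw [Equiv.swap_comm (σ a) (σ (σ a)), Equiv.swap_comm a (σ a)] at h3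
    exact no_three h2 (fun h4 => h1 (σ.injective h4)) hne1 h1 h3
  -- no fixed point besides `o`
  have hfix : ∀ σ ∈ N, σ ≠ 1 → ∀ c, c ≠ o → σ c ≠ c := by
    intro σ hσ hσ1 c hco hcc
    obtain ⟨a, ha⟩ : ∃ a, σ a ≠ a := by
      by_contra hall
      push Not at hall
      exact hσ1 (Equiv.ext hall)
    have hao : a ≠ o := by
      rintro rfl
      exact ha (h0 σ hσ)
    have hca : c ≠ a := by
      rintro rfl
      exact ha hcc
    have h3 := comm_mem hc hσ hao hco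
    rw [hcc, Equiv.swap_comm a c] at h3
    exact no_three h2 (fun h4 => by
      have : σ a = σ c := by rw [h4, hcc]
      exact hca (σ.injective this).symm) ha hca h3
  by_contra hσ1
  obtain ⟨a, ha⟩ : ∃ a, σ a ≠ a := by
    by_contra hall
    push Not at hall
    exact hσ1 (Equiv.ext hall)
  have hao : a ≠ o := by
    rintro rfl
    exact ha (h0 σ hσ)
  obtain ⟨c, hco, hca, hcb, -, -⟩ := hbig a (σ a) a a
  have h3 := comm_mem hc hσ hao hco
  obtain ⟨e, heo, hea, heb, hec, hed⟩ := hbig a (σ a) c (σ c)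
  refine hfix _ h3 ?_ e heo ?_
  · intro h4
    have h5 := DFunLike.congr_fun h4 a
    rw [Equiv.Perm.mul_apply, Equiv.swap_apply_left, Equiv.Perm.one_apply,
      Equiv.swap_apply_of_ne_of_ne hcb] at h5
    · exact hca h5
    · intro h6
      apply hfix σ hσ hσ1 c hco
      exact h6.symm
  · rw [Equiv.Perm.mul_apply, Equiv.swap_apply_of_ne_of_ne hea hec,
      Equiv.swap_apply_of_ne_of_ne heb hed]

end Perm

/-! ### The fact -/

variable {G : Type u} [Group G]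

theorem conj_o2 (g : G) (x : G) :
    ∀ q ∈ o2 (centralizer ({x} : Set G)), g * q * g⁻¹ ∈ o2 (centralizer ({g * x * g⁻¹} : Set G)) := by
  have key : ∀ (g x : G), (o2 (centralizer ({x} : Set G))).map (MulAut.conj g).toMonoidHom ≤
      o2 (centralizer ({g * x * g⁻¹} : Set G)) := by
    intro g x
    refine le_o2 ?_ ((o2_isPGroup _).map _) ?_
    · rintro _ ⟨q, hq, rfl⟩
      have h1 := mem_centralizer_singleton_iff.mp (o2_le _ hq)
      change g * q * g⁻¹ ∈ _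
      rw [mem_centralizer_singleton_iff]
      calc g * q * g⁻¹ * (g * x * g⁻¹) = g * (q * x) * g⁻¹ := by group
        _ = g * (x * q) * g⁻¹ := by rw [h1]
        _ = _ := by group
    · intro c hc
      have h1 := mem_centralizer_singleton_iff.mp hc
      have key2 : ∀ c : G, c * (g * x * g⁻¹) = g * x * g⁻¹ * c →
          ∀ y ∈ (o2 (centralizer ({x} : Set G))).map (MulAut.conj g).toMonoidHom,
          c * y * c⁻¹ ∈ (o2 (centralizer ({x} : Set G))).map (MulAut.conj g).toMonoidHom := by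
        rintro c h1 _ ⟨q, hq, rfl⟩
        have h2 : g⁻¹ * c * g ∈ centralizer ({x} : Set G) := by
          rw [mem_centralizer_singleton_iff]
          calc g⁻¹ * c * g * x = g⁻¹ * (c * (g * x * g⁻¹)) * g := by group
            _ = g⁻¹ * (g * x * g⁻¹ * c) * g := by rw [h1]
            _ = _ := by group
        refine ⟨g⁻¹ * c * g * q * (g⁻¹ * c * g)⁻¹,
          (mem_normalizer_iff.1 (le_normalizer_o2 _ h2) q).1 hq, ?_⟩
        change g * (g⁻¹ * c * g * q * (g⁻¹ * c * g)⁻¹) * g⁻¹ = c * (g * q * g⁻¹) * c⁻¹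
        group
      rw [mem_normalizer_iff]
      refine fun y => ⟨key2 c h1 y, fun hy => ?_⟩
      have h3 : c⁻¹ * (g * x * g⁻¹) = g * x * g⁻¹ * c⁻¹ := by
        rw [eq_mul_inv_iff_mul_eq, mul_assoc, ← h1, inv_mul_cancel_left]
      have h4 := key2 c⁻¹ h3 _ hy
      have h5 : c⁻¹ * (c * y * c⁻¹) * c⁻¹⁻¹ = y := by group
      rwa [h5] at h4
  exact fun q hq => key g x ⟨q, hq, rfl⟩

/-- The elements of `O₂(C_G(z_0))` centralise `V`. -/
theorem act_triv [Finite G] (S : Sylow 2 G) {V P : Subgroup G} {m : ℕ}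
    {ε : (Fin (2 ^ m + 1) → ZMod 2) → G} (hm : 3 ≤ m) (hSP : (S : Subgroup G) ≤ P)
    (h : EvenSet (2 ^ m + 1) V P ε) (h0 : Fix0 ε (S : Subgroup G)) :
    o2 (centralizer ({zz ε 0} : Set G)) ≤ centralizer (V : Set G) := by
  have hn : 9 ≤ 2 ^ m + 1 := by
    have : 2 ^ 3 ≤ 2 ^ m := Nat.pow_le_pow_right (by norm_num) hm
    omega
  have hn3 : 3 ≤ 2 ^ m + 1 := by omega
  have hSC : (S : Subgroup G) ≤ centralizer ({zz ε 0} : Set G) := by
    intro s hs
    obtain ⟨σ, hσ⟩ := h.perm s (hSP hs)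
    exact mem_centralizer_singleton_iff.mpr ((h.fixes_iff hn3 hσ 0).2 (h0 s hs σ hσ))
  have hQS : o2 (centralizer ({zz ε 0} : Set G)) ≤ (S : Subgroup G) :=
    o2_le_of_sylow S.isPGroup' (MinSimple.Basic.not_dvd_relIndex S hSC)
  set Q := o2 (centralizer ({zz ε 0} : Set G)) with hQ
  let N : Subgroup (Equiv.Perm (Fin (2 ^ m + 1))) := (Q.subgroupOf P).map (h.hom hn3)
  have hN2 : IsPGroup 2 N :=
    (((o2_isPGroup (centralizer ({zz ε 0} : Set G))).comap_of_injective P.subtype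
      P.subtype_injective)).map _
  have hN0 : ∀ σ ∈ N, σ 0 = 0 := by
    rintro _ ⟨q, hq, rfl⟩
    exact h0 q (hQS hq) _ (h.acts_hom hn3 q)
  have hNc : ∀ σ ∈ N, ∀ a b, a ≠ 0 → b ≠ 0 → Equiv.swap a b * σ * Equiv.swap a b ∈ N := by
    rintro _ ⟨q, hq, rfl⟩ a b ha hb
    obtain ⟨g, hg, hgs⟩ := h.full (Equiv.swap a b)
    have hgC : g ∈ centralizer ({zz ε 0} : Set G) := by
      refine mem_centralizer_singleton_iff.mpr ((h.fixes_iff hn3 hgs 0).2 ?_)
      exact Equiv.swap_apply_of_ne_of_ne (Ne.symm ha) (Ne.symm hb)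
    have hq' : g * (q : G) * g⁻¹ ∈ Q := (mem_normalizer_iff.1 (le_normalizer_o2 _ hgC) _).1 hq
    refine ⟨⟨g * q * g⁻¹, P.mul_mem (P.mul_mem hg q.2) (P.inv_mem hg)⟩, hq', ?_⟩
    refine h.hom_eq hn3 ?_
    have h1 := hgs.conj (h.acts_hom hn3 q)
    have h2 : (Equiv.swap a b)⁻¹ = Equiv.swap a b := Equiv.swap_inv _ _
    rw [h2] at h1
    exact h1
  have hbig : ∀ a b c d : Fin (2 ^ m + 1), ∃ e, e ≠ 0 ∧ e ≠ a ∧ e ≠ b ∧ e ≠ c ∧ e ≠ d := by
    intro a b c d
    have hc : ({0, a, b, c, d} : Finset (Fin (2 ^ m + 1))).card <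
        (Finset.univ : Finset (Fin (2 ^ m + 1))).card := by
      rw [Finset.card_univ, Fintype.card_fin]
      exact lt_of_le_of_lt Finset.card_le_five (by omega)
    obtain ⟨k, -, hk⟩ := Finset.exists_mem_notMem_of_card_lt_card hc
    simp only [Finset.mem_insert, Finset.mem_singleton, not_or] at hk
    exact ⟨k, hk⟩
  intro q hq
  have hqP : q ∈ P := hSP (hQS hq)
  have h1 : h.hom hn3 ⟨q, hqP⟩ = 1 := trivial_of hN2 hN0 hNc hbig ⟨⟨q, hqP⟩, hq, rfl⟩
  have h2 := h.acts_hom hn3 ⟨q, hqP⟩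
  rw [h1] at h2
  exact h.acts_one_iff.mp h2

/-- **(F1)** `V ≤ O₂(C_G(z_i))`. -/
theorem V_le [Finite G] (hG : IsCharacteristicTwoType G) (S : Sylow 2 G) {V P : Subgroup G} {m : ℕ}
    {ε : (Fin (2 ^ m + 1) → ZMod 2) → G} (hm : 3 ≤ m) (hSP : (S : Subgroup G) ≤ P)
    (h : EvenSet (2 ^ m + 1) V P ε) (h0 : Fix0 ε (S : Subgroup G)) (i : Fin (2 ^ m + 1)) :
    V ≤ o2 (centralizer ({zz ε i} : Set G)) := by
  have hn3 : 3 ≤ 2 ^ m + 1 := by
    have : 2 ^ 3 ≤ 2 ^ m := Nat.pow_le_pow_right (by norm_num) hm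
    omega
  have hV0 : V ≤ o2 (centralizer ({zz ε 0} : Set G)) := by
    intro v hv
    refine MinSimple.Basic.char2_centralizer hG (z := zz ε 0) (by rw [pow_two]; exact zz_sq h 0)
      (zz_ne_one h hn3 0) ⟨mem_centralizer_singleton_iff.mpr (h.comm_mem hv (zz_mem h 0)), ?_⟩
    refine mem_centralizer_iff.mpr fun q hq => ?_
    exact (mem_centralizer_iff.mp (act_triv S hm hSP h h0 hq) v hv).symm
  intro v hv
  obtain ⟨g, hg, hgs⟩ := h.full (Equiv.swap 0 i)
  have h1 : g * zz ε 0 * g⁻¹ = zz ε i := by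
    rw [zz_conj hgs, Equiv.swap_apply_left]
  have h2 : g⁻¹ * v * g ∈ V := by
    have := (mem_normalizer_iff.1 (h.le_normalizer (P.inv_mem hg)) v).1 hv
    rwa [inv_inv] at this
  have h3 := conj_o2 g (zz ε 0) _ (hV0 h2)
  rw [h1] at h3
  have h4 : g * (g⁻¹ * v * g) * g⁻¹ = v := by group
  rwa [h4] at h3

/-- **(F1)** in the form of `S5.NatBig.Facts.pt`. -/
theorem pt [Finite G] (hG : IsCharacteristicTwoType G) (S : Sylow 2 G) {V P : Subgroup G} {m : ℕ}
    {ε : (Fin (2 ^ m + 1) → ZMod 2) → G} (hm : 3 ≤ m) (hSP : (S : Subgroup G) ≤ P)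
    (h : EvenSet (2 ^ m + 1) V P ε) (h0 : Fix0 ε (S : Subgroup G)) (i j : Fin (2 ^ m + 1)) :
    zz ε j ∈ o2 (centralizer ({zz ε i} : Set G)) :=
  V_le hG S hm hSP h h0 i (zz_mem h j)

end Cfsg.Agent.Omega.NSix.PtFact
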