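import Cfsg.Agent.Omega.NSix.RThree
import Cfsg.Agent.ZN.ChoiceBase

/-!
# OMEGA N6, the end (#15496 (r3)), CASE 1

`TT.fix_of_mem` : `K = C_G(V)` fixes the points `z'_a`, `a ≠ i', j'`, of `V'`.
-/

set_option autoImplicit false

namespace Cfsg.Agent.Omega.NSix.RThree

open Subgroup Cfsg Cfsg.Agent.ZN Cfsg.Agent.ZN.ChoiceBase Cfsg.Agent.MinSimple.VModule
open Cfsg.Agent.Omega.S5.Def Cfsg.Agent.Omega.S5.Syl Cfsg.Agent.Omega.NSix.Base Cfsg.Agent.Omega.NSix.Basic
open Cfsg.Agent.Omega.NSix.CosetAct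

universe u

variable {G : Type u} [Group G]

/-- `E = {ε x : x even, x_i = x_j = 0}` -/
def EE {n : ℕ} {V L : Subgroup G} {ε : (Fin n → ZMod 2) → G} (h : EvenSet n V L ε) (i j : Fin n) : Subgroup G where
  carrier := {g | ∃ x : Fin n → ZMod 2, Norm.tot x = 0 ∧ x i = 0 ∧ x j = 0 ∧ ε x = g}
  one_mem' := ⟨0, by simp [Norm.tot], rfl, rfl, h.zero⟩
  mul_mem' := by
    rintro _ _ ⟨x, hx, hi, hj, rfl⟩ ⟨y, hy, hi', hj', rfl⟩
    refine ⟨x + y, ?_, ?_, ?_, h.add x y⟩
    · rw [Norm.tot_add, hx, hy, add_zero]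
    · rw [Pi.add_apply, hi, hi', add_zero]
    · rw [Pi.add_apply, hj, hj', add_zero]
  inv_mem' := by
    rintro _ ⟨x, hx, hi, hj, rfl⟩
    exact ⟨x, hx, hi, hj, (h.inv x).symm⟩

theorem mem_EE {n : ℕ} {V L : Subgroup G} {ε : (Fin n → ZMod 2) → G} {h : EvenSet n V L ε} {i j : Fin n} {g : G} :
    g ∈ EE h i j ↔ ∃ x : Fin n → ZMod 2, Norm.tot x = 0 ∧ x i = 0 ∧ x j = 0 ∧ ε x = g := Iff.rfl

section

variable {n : ℕ} {V L : Subgroup G} {ε : (Fin n → ZMod 2) → G} (h : EvenSet n V L ε) {i j : Fin n}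
include h

theorem EE_le : EE h i j ≤ V := by
  rintro _ ⟨x, -, -, -, rfl⟩
  exact h.mem x

theorem rr_eq_eps (k l : Fin n) : rr ε k l = ε (Pi.single k 1 + Pi.single l 1) := (h.add _ _).symm

theorem rr_mem_EE {k l : Fin n} (ki : k ≠ i) (kj : k ≠ j) (li : l ≠ i) (lj : l ≠ j) : rr ε k l ∈ EE h i j := by
  refine ⟨Pi.single k 1 + Pi.single l 1, Norm.Md.tot_pr _ _, ?_, ?_, (rr_eq_eps h k l).symm⟩
  · rw [Pi.add_apply, Pi.single_eq_of_ne (Ne.symm ki), Pi.single_eq_of_ne (Ne.symm li), add_zero]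
  · rw [Pi.add_apply, Pi.single_eq_of_ne (Ne.symm kj), Pi.single_eq_of_ne (Ne.symm lj), add_zero]

/-- the pairs off `i, j` generate `E` -/
theorem EE_gen {B : Subgroup G} (hB : ∀ k l, k ≠ i → k ≠ j → l ≠ i → l ≠ j → k ≠ l → rr ε k l ∈ B) :
    EE h i j ≤ B := by
  rintro _ ⟨x, hx, hi, hj, rfl⟩
  by_cases hx0 : x = 0
  · rw [hx0, h.zero]; exact one_mem _
  obtain ⟨l, hl⟩ : ∃ l, x l ≠ 0 := by
    by_contra h1
    push Not at h1
    exact hx0 (funext h1)
  have hli : l ≠ i := fun h0 => hl (by rw [h0, hi])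
  have hlj : l ≠ j := fun h0 => hl (by rw [h0, hj])
  have key : ∀ s : Finset (Fin n), ε (∑ k ∈ s, x k • (Pi.single k 1 + Pi.single l 1 : Fin n → ZMod 2)) ∈ B := by
    intro s
    induction s using Finset.induction_on with
    | empty => rw [Finset.sum_empty, h.zero]; exact one_mem _
    | insert k s hk ih =>
      rw [Finset.sum_insert hk, h.add]
      refine mul_mem ?_ ih
      rcases Norm.z2 (x k) with h5 | h5
      · rw [h5, zero_smul, h.zero]; exact one_mem _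
      · rw [h5, one_smul, ← rr_eq_eps h]
        by_cases hkl : k = l
        · subst hkl
          unfold rr
          rw [zz_sq h]
          exact one_mem _
        · exact hB k l (fun h0 => by rw [h0, hi] at h5; exact zero_ne_one h5)
            (fun h0 => by rw [h0, hj] at h5; exact zero_ne_one h5) hli hlj hkl
  have h3 : x = ∑ k, x k • (Pi.single k 1 + Pi.single l 1 : Fin n → ZMod 2) := by
    have e1 : ∑ k, x k • (Pi.single k 1 + Pi.single l 1 : Fin n → ZMod 2) =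
        ∑ k, x k • (Pi.single k 1 : Fin n → ZMod 2) + (∑ k, x k) • (Pi.single l 1 : Fin n → ZMod 2) := by
      rw [Finset.sum_smul, ← Finset.sum_add_distrib]
      exact Finset.sum_congr rfl fun k _ => smul_add _ _ _
    have e2 : ∑ k, x k = 0 := hx
    rw [e1, e2, zero_smul, add_zero]
    funext a
    rw [Finset.sum_apply, Finset.sum_eq_single a]
    · simp
    · intro b _ hb
      simp [Pi.single_apply, Ne.symm hb]
    · intro h4
      exact absurd (Finset.mem_univ a) h4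
  rw [h3]
  exact key _

/-- `K` induces the 3-cycles off `i, j` -/
def Cyc (K : Subgroup G) (ε : (Fin n → ZMod 2) → G) (i j : Fin n) : Prop :=
  ∀ a b c : Fin n, a ≠ i → a ≠ j → b ≠ i → b ≠ j → c ≠ i → c ≠ j → a ≠ b → a ≠ c → b ≠ c →
    ∃ g ∈ K, ∃ σ : Equiv.Perm (Fin n), Acts ε g σ ∧ σ a = b ∧ σ b = c ∧ σ c = a ∧
      (∀ d, d ≠ i → d ≠ j → d ≠ a → d ≠ b → d ≠ c → σ d = d) ∧ ((σ i = i ∧ σ j = j) ∨ (σ i = j ∧ σ j = i))

/-- `E` is irreducible under `K` -/
theorem EE_irr (hodd : Odd n) (hn : 7 ≤ n) (hij : i ≠ j) {K : Subgroup G} (hK : Cyc K ε i j) {B : Subgroup G}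
    (hBK : ∀ g ∈ K, ∀ x ∈ B, g * x * g⁻¹ ∈ B) {x : G} (hx : x ∈ EE h i j) (hx1 : x ≠ 1) (hxB : x ∈ B) :
    EE h i j ≤ B := by
  obtain ⟨X, hX, hXi, hXj, rfl⟩ := hx
  obtain ⟨a, ha⟩ : ∃ a, X a = 1 := by
    by_contra h1
    push Not at h1
    apply hx1
    have : X = 0 := funext fun k => (Norm.z2 (X k)).resolve_right (h1 k)
    rw [this, h.zero]
  have hai : a ≠ i := fun h0 => by rw [h0, hXi] at ha; exact zero_ne_one ha
  have haj : a ≠ j := fun h0 => by rw [h0, hXj] at ha; exact zero_ne_one ha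
  obtain ⟨b, hb, hbi, hbj⟩ : ∃ b, X b = 0 ∧ b ≠ i ∧ b ≠ j := by
    by_contra h1
    push Not at h1
    have h2 : X = 1 + (Pi.single i 1 + Pi.single j 1) := by
      funext k
      rw [Pi.add_apply, Pi.add_apply, Pi.one_apply]
      by_cases hki : k = i
      · subst hki
        rw [Pi.single_eq_same, Pi.single_eq_of_ne hij, hXi]
        decide
      by_cases hkj : k = j
      · subst hkj
        rw [Pi.single_eq_same, Pi.single_eq_of_ne hki, hXj]
        decide
      rw [Pi.single_eq_of_ne hki, Pi.single_eq_of_ne hkj, add_zero, add_zero]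
      rcases Norm.z2 (X k) with h3 | h3
      · exact absurd (h1 k h3 hki) hkj
      · exact h3
    rw [h2, Norm.tot_add, Norm.tot_one hodd, Norm.Md.tot_pr] at hX
    revert hX
    decide
  have hab : a ≠ b := fun h0 => by rw [h0, hb] at ha; exact zero_ne_one ha
  -- a third letter
  have third : ∀ p q : Fin n, ∃ c, c ≠ i ∧ c ≠ j ∧ c ≠ p ∧ c ≠ q := by
    intro p q
    have hcard : ({i, j, p, q} : Finset (Fin n)).card < (Finset.univ : Finset (Fin n)).card := by
      rw [Finset.card_univ, Fintype.card_fin]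
      exact lt_of_le_of_lt Finset.card_le_four (by omega)
    obtain ⟨k, -, hk⟩ := Finset.exists_mem_notMem_of_card_lt_card hcard
    simp only [Finset.mem_insert, Finset.mem_singleton, not_or] at hk
    exact ⟨k, hk.1, hk.2.1, hk.2.2.1, hk.2.2.2⟩
  obtain ⟨c, hci, hcj, hca, hcb⟩ := third a b
  -- some pair is in `B`
  have hpair : ∃ k l, k ≠ i ∧ k ≠ j ∧ l ≠ i ∧ l ≠ j ∧ k ≠ l ∧ rr ε k l ∈ B := by
    obtain ⟨g, hg, σ, hσ, s1, s2, s3, s4, s5⟩ := hK a b c hai haj hbi hbj hci hcj hab (Ne.symm hca) (Ne.symm hcb)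
    have hy := mul_mem hxB (hBK g hg _ hxB)
    rw [hσ X, ← h.add] at hy
    have t1 : σ.symm b = a := by rw [Equiv.symm_apply_eq, s1]
    have t2 : σ.symm c = b := by rw [Equiv.symm_apply_eq, s2]
    have t3 : σ.symm a = c := by rw [Equiv.symm_apply_eq, s3]
    have t4 : ∀ d, d ≠ i → d ≠ j → d ≠ a → d ≠ b → d ≠ c → σ.symm d = d := by
      intro d d1 d2 d3 d4 d5
      rw [Equiv.symm_apply_eq, s4 d d1 d2 d3 d4 d5]
    have t5 : X (σ.symm i) = 0 ∧ X (σ.symm j) = 0 := by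
      rcases s5 with ⟨e1, e2⟩ | ⟨e1, e2⟩
      · have e3 : σ.symm i = i := by rw [Equiv.symm_apply_eq, e1]
        have e4 : σ.symm j = j := by rw [Equiv.symm_apply_eq, e2]
        rw [e3, e4]
        exact ⟨hXi, hXj⟩
      · have e3 : σ.symm i = j := by rw [Equiv.symm_apply_eq, e2]
        have e4 : σ.symm j = i := by rw [Equiv.symm_apply_eq, e1]
        rw [e3, e4]
        exact ⟨hXj, hXi⟩
    rcases Norm.z2 (X c) with hc | hc
    · -- `{a, b}`
      refine ⟨a, b, hai, haj, hbi, hbj, hab, ?_⟩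
      have e : X + X ∘ σ.symm = Pi.single a 1 + Pi.single b 1 := by
        funext d
        rw [Pi.add_apply, Pi.add_apply, Function.comp_apply]
        by_cases d1 : d = i
        · rw [d1, hXi, t5.1, Pi.single_eq_of_ne (Ne.symm hai), Pi.single_eq_of_ne (Ne.symm hbi)]
        by_cases d2 : d = j
        · rw [d2, hXj, t5.2, Pi.single_eq_of_ne (Ne.symm haj), Pi.single_eq_of_ne (Ne.symm hbj)]
        by_cases d3 : d = a
        · rw [d3, t3, ha, hc, Pi.single_eq_same, Pi.single_eq_of_ne hab]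
        by_cases d4 : d = b
        · rw [d4, t1, hb, ha, Pi.single_eq_same, Pi.single_eq_of_ne (Ne.symm hab)]
        by_cases d5 : d = c
        · rw [d5, t2, hc, hb, Pi.single_eq_of_ne hca, Pi.single_eq_of_ne hcb]
        rw [t4 d d1 d2 d3 d4 d5, Norm.z2_self, Pi.single_eq_of_ne d3, Pi.single_eq_of_ne d4, add_zero]
      rw [rr_eq_eps h, ← e]
      exact hy
    · -- `{b, c}`
      refine ⟨b, c, hbi, hbj, hci, hcj, Ne.symm hcb, ?_⟩
      have e : X + X ∘ σ.symm = Pi.single b 1 + Pi.single c 1 := by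
        funext d
        rw [Pi.add_apply, Pi.add_apply, Function.comp_apply]
        by_cases d1 : d = i
        · rw [d1, hXi, t5.1, Pi.single_eq_of_ne (Ne.symm hbi), Pi.single_eq_of_ne (Ne.symm hci)]
        by_cases d2 : d = j
        · rw [d2, hXj, t5.2, Pi.single_eq_of_ne (Ne.symm hbj), Pi.single_eq_of_ne (Ne.symm hcj)]
        by_cases d3 : d = a
        · rw [d3, t3, ha, hc, Pi.single_eq_of_ne hab, Pi.single_eq_of_ne (Ne.symm hca)]
          decide
        by_cases d4 : d = b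
        · rw [d4, t1, hb, ha, Pi.single_eq_same, Pi.single_eq_of_ne (Ne.symm hcb)]
          decide
        by_cases d5 : d = c
        · rw [d5, t2, hc, hb, Pi.single_eq_same, Pi.single_eq_of_ne hcb]
          decide
        rw [t4 d d1 d2 d3 d4 d5, Norm.z2_self, Pi.single_eq_of_ne d4, Pi.single_eq_of_ne d5, add_zero]
      rw [rr_eq_eps h, ← e]
      exact hy
  obtain ⟨k, l, ki, kj, li, lj, hkl, hklB⟩ := hpair
  have step : ∀ c, c ≠ i → c ≠ j → c ≠ k → c ≠ l → rr ε l c ∈ B := by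
    intro c ci cj' ck cl
    obtain ⟨g, hg, σ, hσ, s1, s2, -⟩ := hK k l c ki kj li lj ci cj' hkl (Ne.symm ck) (Ne.symm cl)
    have h1 := hBK g hg _ hklB
    rwa [rr_conj hσ, s1, s2] at h1
  have step' : ∀ c, c ≠ i → c ≠ j → c ≠ l → rr ε l c ∈ B := by
    intro c ci cj' cl
    by_cases ck : c = k
    · rw [ck, rr_symm h]; exact hklB
    · exact step c ci cj' ck cl
  refine EE_gen h fun p q pi' pj qi qj hpq => ?_
  by_cases hp : p = l
  · rw [hp]; exact step' q qi qj (fun h0 => hpq (hp.trans h0.symm))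
  by_cases hq : q = l
  · rw [hq, rr_symm h]; exact step' p pi' pj hp
  have h1 := mul_mem (step' p pi' pj hp) (step' q qi qj hq)
  rw [rr_symm h l p, rr_add h] at h1
  exact h1

end


/-- A nontrivial subgroup of exponent 2 normalised by `S` contains `z_0`. -/
theorem Mem.zz_mem [Finite G] {S : Sylow 2 G} {V : Subgroup G} {m : ℕ} {ε : (Fin (2 ^ m + 1) → ZMod 2) → G}
    (h : Mem S V ε) {A : Subgroup G} (hA : ∀ s ∈ (S : Subgroup G), ∀ a ∈ A, s * a * s⁻¹ ∈ A)
    (hsq : ∀ a ∈ A, a * a = 1) {a : G} (ha : a ∈ A) (ha1 : a ≠ 1) : zz ε 0 ∈ A := by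
  have : Fact (Nat.Prime 2) := ⟨Nat.prime_two⟩
  let act : MulAction S A :=
    { smul := fun s y => ⟨s * y * (s : G)⁻¹, hA s s.2 y y.2⟩
      one_smul := fun y => Subtype.ext (by change (1 : G) * y * (1 : G)⁻¹ = y; group)
      mul_smul := fun s t y => Subtype.ext (by
        change ((s : G) * t) * y * ((s : G) * t)⁻¹ = s * (t * y * (t : G)⁻¹) * (s : G)⁻¹
        group) }
  have hdvd : 2 ∣ Nat.card A := by
    have h1 : orderOf (⟨a, ha⟩ : A) ∣ Nat.card A := orderOf_dvd_natCard _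
    have h2 : orderOf (⟨a, ha⟩ : A) = 2 := by
      apply orderOf_eq_prime
      · rw [pow_two]
        exact Subtype.ext (hsq a ha)
      · intro h3
        exact ha1 (congrArg Subtype.val h3)
    rwa [h2] at h1
  have h1 : (1 : A) ∈ MulAction.fixedPoints S A := by
    intro s
    exact Subtype.ext (by change (s : G) * 1 * (s : G)⁻¹ = 1; group)
  obtain ⟨b, hb, hb1⟩ := S.isPGroup'.exists_fixed_point_of_prime_dvd_card_of_fixed_point A hdvd h1
  have h2 : ∀ s ∈ (S : Subgroup G), s * (b : G) = b * s := by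
    intro s hs
    have h3 : s * (b : G) * s⁻¹ = b := congrArg Subtype.val (hb ⟨s, hs⟩)
    exact mul_inv_eq_iff_eq_mul.mp h3
  rcases h.zc b (hsq b b.2) h2 with h3 | h3
  · exact absurd (Subtype.ext h3.symm) hb1
  · rw [← h3]
    exact b.2

namespace TT

variable {S S' : Sylow 2 G} {V V' : Subgroup G} {m m' : ℕ} {ε : (Fin (2 ^ m + 1) → ZMod 2) → G}
  {ε' : (Fin (2 ^ m' + 1) → ZMod 2) → G} {i j : Fin (2 ^ m + 1)} {i' j' : Fin (2 ^ m' + 1)}
  (h : TT S S' V V' ε ε' i j i' j')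
include h

/-- the pair `r` is preserved by `C_G(r)` -/
theorem pair_fix' {g : G} (hg : g ∈ NN ε' i' j') {σ : Equiv.Perm (Fin (2 ^ m' + 1))} (hσ : Acts ε' g σ) :
    (σ i' = i' ∧ σ j' = j') ∨ (σ i' = j' ∧ σ j' = i') := by
  have hm1 : 1 ≤ m' := by have := h.mem'.two_le; omega
  have h1 := mem_NN'.mp hg
  rw [rr_conj hσ, rr_eq_eps h.mem'.ev, rr_eq_eps h.mem'.ev] at h1
  have hne : σ i' ≠ σ j' := fun h5 => h.ne' (σ.injective h5)
  have h5 : (Pi.single (σ i') 1 + Pi.single (σ j') 1 : Fin (2 ^ m' + 1) → ZMod 2) =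
      Pi.single i' 1 + Pi.single j' 1 := by
    rcases h.mem'.ev.eq_iff.mp h1 with h5 | h5
    · exact h5
    · exfalso
      have h6 := congrArg Norm.tot h5
      rw [Norm.Md.tot_pr, Norm.tot_add, Norm.Md.tot_pr, Norm.tot_one (odd_n hm1)] at h6
      revert h6
      decide
  have key : ∀ a : Fin (2 ^ m' + 1), (Pi.single (σ i') 1 + Pi.single (σ j') 1 : Fin (2 ^ m' + 1) → ZMod 2) a = 1 →
      a = i' ∨ a = j' := by
    intro a ha
    rw [h5] at ha
    by_contra h7
    push Not at h7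
    rw [Pi.add_apply, Pi.single_eq_of_ne h7.1, Pi.single_eq_of_ne h7.2] at ha
    revert ha
    decide
  have k1 := key (σ i') (by rw [Pi.add_apply, Pi.single_eq_same, Pi.single_eq_of_ne hne, add_zero])
  have k2 := key (σ j') (by rw [Pi.add_apply, Pi.single_eq_same, Pi.single_eq_of_ne hne.symm, zero_add])
  rcases k1 with k1 | k1
  · rcases k2 with k2 | k2
    · exact absurd (k1.trans k2.symm) hne
    · exact Or.inl ⟨k1, k2⟩
  · rcases k2 with k2 | k2
    · exact Or.inr ⟨k1, k2⟩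
    · exact absurd (k1.trans k2.symm) hne

theorem EE_norm' (hnn' : NN ε' i' j' ≤ normalizer (V' : Set G)) {g : G} (hg : g ∈ NN ε' i' j') {x : G}
    (hx : x ∈ EE h.mem'.ev i' j') : g * x * g⁻¹ ∈ EE h.mem'.ev i' j' := by
  obtain ⟨X, hX, hXi, hXj, rfl⟩ := hx
  obtain ⟨σ, hσ⟩ := h.mem'.ev.perm g (hnn' hg)
  refine ⟨X ∘ σ.symm, ?_, ?_, ?_, (hσ X).symm⟩
  · rw [← hX]
    unfold Norm.tot
    exact Equiv.sum_comp σ.symm X
  all_goals
    rw [Function.comp_apply]
    rcases h.pair_fix' hg hσ with ⟨e1, e2⟩ | ⟨e1, e2⟩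
  · rw [(Equiv.symm_apply_eq σ).mpr e1.symm]; exact hXi
  · rw [(Equiv.symm_apply_eq σ).mpr e2.symm]; exact hXj
  · rw [(Equiv.symm_apply_eq σ).mpr e2.symm]; exact hXj
  · rw [(Equiv.symm_apply_eq σ).mpr e1.symm]; exact hXi

theorem cen_le : centralizer (V : Set G) ≤ NN ε i j := by
  intro g hg
  rw [mem_NN]
  exact (mem_centralizer_iff.mp hg _ (rr_mem h.mem.ev i j)).symm

/-- `E' ≤ C_G(V)` -/
theorem EE_cen : EE h.mem'.ev i' j' ≤ centralizer (V : Set G) := by
  rintro _ ⟨X, hX, hXi, hXj, rfl⟩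
  rw [mem_centralizer_iff]
  intro v hv
  rw [← mul_inv_eq_iff_eq_mul]
  rcases h.act' v hv with h1 | h1
  · exact h1 X
  · exact (acts_swap' h.mem'.ev h1 X).1 (by rw [hXi, hXj])

/-- **CASE 1** is impossible. -/
theorem not_cyc [Finite G] (hm' : 3 ≤ m') (hnn' : NN ε' i' j' ≤ normalizer (V' : Set G))
    (hK : Cyc (centralizer (V : Set G)) ε' i' j') : False := by
  set K : Subgroup G := centralizer (V : Set G) with hKdef
  set E : Subgroup G := EE h.mem'.ev i' j' with hE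
  set L : Subgroup G := normalizer (V : Set G) with hL
  have h8 : 2 ^ 3 ≤ 2 ^ m' := Nat.pow_le_pow_right (by norm_num) hm'
  have hodd : Odd (2 ^ m' + 1) := odd_n (by omega)
  have hKN : K ≤ NN ε' i' j' := by
    have h1 := h.cen_le
    unfold NN at h1 ⊢
    rwa [h.rr_eq] at h1
  have hKnorm : ∀ l ∈ L, ∀ k ∈ K, l * k * l⁻¹ ∈ K := fun l hl k hk => conj_cent hl hk
  have hEK : E ≤ K := h.EE_cen
  have hirr : ∀ B : Subgroup G, (∀ g ∈ K, ∀ x ∈ B, g * x * g⁻¹ ∈ B) → ∀ x ∈ E, x ≠ 1 → x ∈ B → E ≤ B :=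
    fun B hB x hx hx1 hxB => EE_irr h.mem'.ev hodd (by omega) h.ne' hK hB hx hx1 hxB
  have hEsq : ∀ x ∈ E, x * x = 1 := fun x hx => h.mem'.ev.sq_mem (EE_le h.mem'.ev hx)
  have hEcomm : ∀ x ∈ E, ∀ y ∈ E, x * y = y * x := fun x hx y hy =>
    h.mem'.ev.comm_mem (EE_le h.mem'.ev hx) (EE_le h.mem'.ev hy)
  have hKE : ∀ k ∈ K, ∀ x ∈ E, k * x * k⁻¹ ∈ E := fun k hk x hx => h.EE_norm' hnn' (hKN hk) hx
  -- three letters
  have letters : ∃ a b c : Fin (2 ^ m' + 1), a ≠ i' ∧ a ≠ j' ∧ b ≠ i' ∧ b ≠ j' ∧ c ≠ i' ∧ c ≠ j' ∧ a ≠ b ∧ a ≠ c ∧ b ≠ c := by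
    have third : ∀ p q : Fin (2 ^ m' + 1), ∃ c, c ≠ i' ∧ c ≠ j' ∧ c ≠ p ∧ c ≠ q := by
      intro p q
      have hcard : ({i', j', p, q} : Finset (Fin (2 ^ m' + 1))).card < (Finset.univ : Finset (Fin (2 ^ m' + 1))).card := by
        rw [Finset.card_univ, Fintype.card_fin]
        exact lt_of_le_of_lt Finset.card_le_four (by omega)
      obtain ⟨k, -, hk⟩ := Finset.exists_mem_notMem_of_card_lt_card hcard
      simp only [Finset.mem_insert, Finset.mem_singleton, not_or] at hk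
      exact ⟨k, hk.1, hk.2.1, hk.2.2.1, hk.2.2.2⟩
    obtain ⟨a, a1, a2, -, -⟩ := third i' i'
    obtain ⟨b, b1, b2, b3, -⟩ := third a a
    obtain ⟨c, c1, c2, c3, c4⟩ := third a b
    exact ⟨a, b, c, a1, a2, b1, b2, c1, c2, Ne.symm b3, Ne.symm c3, Ne.symm c4⟩
  obtain ⟨a, b, c, a1, a2, b1, b2, c1, c2, ab, ac, bc⟩ := letters
  have hrE : rr ε' a b ∈ E := rr_mem_EE h.mem'.ev a1 a2 b1 b2
  have hr1 : rr ε' a b ≠ 1 := rr_ne_one h.mem'.ev h.mem'.three ab
  -- `K` is not trivial on `E`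
  have hKne : ¬ E ≤ centralizer (K : Set G) := by
    intro h1
    obtain ⟨g, hg, σ, hσ, s1, s2, -⟩ := hK a b c a1 a2 b1 b2 c1 c2 ab ac bc
    have h2 := mem_centralizer_iff.mp (h1 hrE) g hg
    have h3 : g * rr ε' a b * g⁻¹ = rr ε' a b := by rw [h2, mul_inv_cancel_right]
    rw [rr_conj hσ, s1, s2] at h3
    have h4 : rr ε' b c * rr ε' a b = 1 := by rw [h3]; exact rr_sq h.mem'.ev _ _
    have h5 : rr ε' b c * rr ε' a b = rr ε' a c := by
      rw [rr_symm h.mem'.ev b c, rr_symm h.mem'.ev a b, rr_add h.mem'.ev, rr_symm h.mem'.ev]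
    exact rr_ne_one h.mem'.ev h.mem'.three ac (h5.symm.trans h4)
  -- the conjugates
  have irrC : ∀ l ∈ L, ∀ B : Subgroup G, (∀ g ∈ K, ∀ x ∈ B, g * x * g⁻¹ ∈ B) → ∀ x ∈ cj l E, x ≠ 1 → x ∈ B →
      cj l E ≤ B := by
    intro l hl B hB x hx hx1 hxB
    rw [mem_cj] at hx
    have h1 := hirr (cj l⁻¹ B) (by
      intro g hg y hy
      rw [mem_cj, inv_inv] at hy ⊢
      have h2 := hB _ (hKnorm l hl g hg) _ hy
      have h3 : l * g * l⁻¹ * (l * y * l⁻¹) * (l * g * l⁻¹)⁻¹ = l * (g * y * g⁻¹) * l⁻¹ := by group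
      rwa [h3] at h2) _ hx (by
      intro h2
      apply hx1
      have h3 : x = l * (l⁻¹ * x * l) * l⁻¹ := by group
      rw [h3, h2]
      group) (by
      rw [mem_cj, inv_inv]
      have h3 : l * (l⁻¹ * x * l) * l⁻¹ = x := by group
      rwa [h3])
    rw [cj_le_iff]
    exact h1
  have cK : ∀ l ∈ L, cj l E ≤ K := by
    intro l hl x hx
    rw [mem_cj] at hx
    have h1 := hKnorm l hl _ (hEK hx)
    have h3 : l * (l⁻¹ * x * l) * l⁻¹ = x := by group
    rwa [h3] at h1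
  have Kc : ∀ l ∈ L, ∀ k ∈ K, ∀ x ∈ cj l E, k * x * k⁻¹ ∈ cj l E := by
    intro l hl k hk x hx
    rw [mem_cj] at hx ⊢
    have h1 := hKnorm l⁻¹ (inv_mem hl) k hk
    rw [inv_inv] at h1
    have h2 := hKE _ h1 _ hx
    have h3 : l⁻¹ * k * l * (l⁻¹ * x * l) * (l⁻¹ * k * l)⁻¹ = l⁻¹ * (k * x * k⁻¹) * l := by group
    rwa [h3] at h2
  have cSq : ∀ l : G, ∀ x ∈ cj l E, x * x = 1 := by
    intro l x hx
    rw [mem_cj] at hx
    have h1 := hEsq _ hx
    have h2 : x * x = l * ((l⁻¹ * x * l) * (l⁻¹ * x * l)) * l⁻¹ := by group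
    rw [h2, h1]
    group
  have cComm0 : ∀ l : G, ∀ x ∈ cj l E, ∀ y ∈ cj l E, x * y = y * x := by
    intro l x hx y hy
    rw [mem_cj] at hx hy
    have h1 := hEcomm _ hx _ hy
    have h2 : x * y = l * ((l⁻¹ * x * l) * (l⁻¹ * y * l)) * l⁻¹ := by group
    rw [h2, h1]
    group
  have cComm : ∀ l ∈ L, ∀ l' ∈ L, ∀ x ∈ cj l E, ∀ y ∈ cj l' E, x * y = y * x := by
    intro l hl l' hl' x hx y hy
    by_contra hne
    have h1 : x * y * x⁻¹ * y⁻¹ ∈ cj l E := by
      have h2 : x * y * x⁻¹ * y⁻¹ = x * (y * x⁻¹ * y⁻¹) := by group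
      rw [h2]
      exact mul_mem hx (Kc l hl y (cK l' hl' hy) _ (inv_mem hx))
    have h2 : x * y * x⁻¹ * y⁻¹ ∈ cj l' E := mul_mem (Kc l' hl' x (cK l hl hx) _ hy) (inv_mem hy)
    have h3 : x * y * x⁻¹ * y⁻¹ ≠ 1 := by
      intro h4
      apply hne
      have h5 : x * y = x * y * x⁻¹ * y⁻¹ * (y * x) := by group
      rw [h5, h4, one_mul]
    have h4 := irrC l hl (cj l' E) (fun g hg x hx => Kc l' hl' g hg x hx) _ h1 h3 h2
    exact hne (cComm0 l' _ (h4 hx) _ hy)
  -- `Y`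
  set B0 : Set G := {x | ∃ l ∈ L, x ∈ cj l E} with hB0
  set Y : Subgroup G := closure B0 with hY
  have hYsq : ∀ x ∈ Y, x * x = 1 := Norm.closure_sq
    (by rintro x ⟨l, hl, hx⟩ y ⟨l', hl', hy⟩; exact cComm l hl l' hl' x hx y hy)
    (by rintro x ⟨l, hl, hx⟩; exact cSq l x hx)
  have hYcomm : ∀ x ∈ Y, ∀ y ∈ Y, x * y = y * x := by
    intro x hx y hy
    have h1 := hYsq _ (mul_mem hx hy)
    have e1 : x⁻¹ = x := inv_eq_of_mul_eq_one_left (hYsq x hx)
    have e2 : y⁻¹ = y := inv_eq_of_mul_eq_one_left (hYsq y hy)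
    have e3 : (x * y)⁻¹ = x * y := inv_eq_of_mul_eq_one_left h1
    rw [← e3, mul_inv_rev, e1, e2]
  have hYL : ∀ l ∈ L, ∀ x ∈ Y, l * x * l⁻¹ ∈ Y := by
    intro l hl x hx
    rw [hY] at hx ⊢
    induction hx using closure_induction with
    | mem x hx =>
      obtain ⟨l', hl', hx⟩ := hx
      refine subset_closure ⟨l * l', mul_mem hl hl', ?_⟩
      rw [mem_cj] at hx ⊢
      have h1 : (l * l')⁻¹ * (l * x * l⁻¹) * (l * l') = l'⁻¹ * x * l' := by group
      rwa [h1]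
    | one => rw [mul_one, mul_inv_cancel]; exact one_mem _
    | mul x y _ _ hx hy =>
      have : l * (x * y) * l⁻¹ = (l * x * l⁻¹) * (l * y * l⁻¹) := by group
      rw [this]; exact mul_mem hx hy
    | inv x _ hx =>
      have : l * x⁻¹ * l⁻¹ = (l * x * l⁻¹)⁻¹ := by group
      rw [this]; exact inv_mem hx
  have hEY : E ≤ Y := fun x hx => subset_closure ⟨1, one_mem _, by rw [cj_one]; exact hx⟩
  have hz : zz ε 0 ∈ Y := h.mem.zz_mem (fun s hs a ha => hYL s (h.mem.le hs) a ha) hYsq (hEY hrE) hr1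
  -- the fixed points of `K` on `Y`
  let PP : Set (Subgroup G) := {A | A ≤ Y ∧ (∀ k ∈ K, ∀ x ∈ A, k * x * k⁻¹ ∈ A) ∧
    ∀ x ∈ A, (∀ k ∈ K, k * x * k⁻¹ = x) → x = 1}
  have hPP : (⊥ : Subgroup G) ∈ PP := by
    refine ⟨bot_le, ?_, ?_⟩
    · intro k _ x hx
      rw [mem_bot] at hx ⊢
      rw [hx]; group
    · intro x hx _
      exact mem_bot.mp hx
  obtain ⟨A, hA⟩ := (Set.toFinite PP).exists_maximal ⟨⊥, hPP⟩
  obtain ⟨hAY, hAK, hAfix⟩ := hA.prop
  have hall : ∀ l ∈ L, cj l E ≤ A := by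
    intro l hl
    by_contra hnot
    have hcY : cj l E ≤ Y := fun x hx => subset_closure ⟨l, hl, hx⟩
    have hdis : ∀ x ∈ A, x ∈ cj l E → x = 1 := by
      intro x hxA hx
      by_contra hx1
      exact hnot (irrC l hl A hAK x hx hx1 hxA)
    have hmem : A ⊔ cj l E ∈ PP := by
      have hsup : ∀ x, x ∈ A ⊔ cj l E ↔ ∃ p ∈ A, ∃ q ∈ cj l E, p * q = x := by
        intro x
        constructor
        · intro hx
          have h1 : ∀ y ∈ A ⊔ cj l E, ∃ p ∈ A, ∃ q ∈ cj l E, p * q = y := by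
            intro y hy
            rw [sup_eq_closure] at hy
            induction hy using closure_induction with
            | mem y hy =>
              rcases hy with hy | hy
              · exact ⟨y, hy, 1, one_mem _, mul_one _⟩
              · exact ⟨1, one_mem _, y, hy, one_mul _⟩
            | one => exact ⟨1, one_mem _, 1, one_mem _, mul_one _⟩
            | mul y y' _ _ h1 h2 =>
              obtain ⟨p, hp, q, hq, rfl⟩ := h1
              obtain ⟨p', hp', q', hq', rfl⟩ := h2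
              refine ⟨p * p', mul_mem hp hp', q * q', mul_mem hq hq', ?_⟩
              have h3 := hYcomm q (hcY hq) p' (hAY hp')
              calc p * p' * (q * q') = p * (p' * q) * q' := by group
                _ = p * (q * p') * q' := by rw [h3]
                _ = _ := by group
            | inv y _ h1 =>
              obtain ⟨p, hp, q, hq, rfl⟩ := h1
              refine ⟨p⁻¹, inv_mem hp, q⁻¹, inv_mem hq, ?_⟩
              rw [mul_inv_rev]
              exact hYcomm _ (inv_mem (hAY hp)) _ (inv_mem (hcY hq))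
          exact h1 x hx
        · rintro ⟨p, hp, q, hq, rfl⟩
          exact mul_mem (mem_sup_left hp) (mem_sup_right hq)
      refine ⟨sup_le hAY hcY, ?_, ?_⟩
      · intro k hk x hx
        obtain ⟨p, hp, q, hq, rfl⟩ := (hsup x).mp hx
        refine (hsup _).mpr ⟨_, hAK k hk p hp, _, Kc l hl k hk q hq, ?_⟩
        group
      · intro x hx hfix
        obtain ⟨p, hp, q, hq, rfl⟩ := (hsup x).mp hx
        have key : ∀ k ∈ K, k * p * k⁻¹ = p ∧ k * q * k⁻¹ = q := by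
          intro k hk
          have h1 := hfix k hk
          have h2 : k * (p * q) * k⁻¹ = (k * p * k⁻¹) * (k * q * k⁻¹) := by group
          rw [h2] at h1
          have h3 : p⁻¹ * (k * p * k⁻¹) = q * (k * q * k⁻¹)⁻¹ := by
            rw [eq_mul_inv_iff_mul_eq, mul_assoc, h1]
            group
          have h4 : p⁻¹ * (k * p * k⁻¹) = 1 := hdis _ (mul_mem (inv_mem hp) (hAK k hk p hp)) (by
            rw [h3]
            exact mul_mem hq (inv_mem (Kc l hl k hk q hq)))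
          have h5 : k * p * k⁻¹ = p := by
            rw [inv_mul_eq_one] at h4
            exact h4.symm
          refine ⟨h5, ?_⟩
          rw [h5] at h1
          exact mul_left_cancel h1
        have hp1 : p = 1 := hAfix p hp fun k hk => (key k hk).1
        have hq1 : q = 1 := by
          by_contra hq1
          have h1 := irrC l hl (centralizer (K : Set G)) (by
            intro g hg x hx
            rw [mem_centralizer_iff] at hx ⊢
            intro k hk
            have h2 : x * g = g * x := (hx g hg).symm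
            rw [← h2, mul_inv_cancel_right]
            exact hx k hk) q hq hq1 (by
            rw [mem_centralizer_iff]
            intro k hk
            rw [← mul_inv_eq_iff_eq_mul]
            exact (key k hk).2)
          apply hKne
          intro x hx
          have h2 : l * x * l⁻¹ ∈ cj l E := by
            rw [mem_cj]
            have h3 : l⁻¹ * (l * x * l⁻¹) * l = x := by group
            rwa [h3]
          have h3 := h1 h2
          rw [mem_centralizer_iff] at h3 ⊢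
          intro k hk
          have h4 := h3 _ (hKnorm l hl k hk)
          have h5 : k * x = l⁻¹ * ((l * k * l⁻¹) * (l * x * l⁻¹)) * l := by group
          rw [h5, h4]
          group
        rw [hp1, hq1, one_mul]
    have h1 := hA.le_of_ge hmem le_sup_left
    exact hnot (le_sup_right.trans h1)
  have hYA : Y ≤ A := by
    rw [hY, closure_le]
    rintro x ⟨l, hl, hx⟩
    exact hall l hl hx
  have hfin := hAfix _ (hYA hz) (by
    intro k hk
    rw [← mem_centralizer_iff.mp hk _ (zz_mem h.mem.ev 0), mul_inv_cancel_right])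
  exact zz_ne_one h.mem.ev h.mem.three 0 hfin

/-- `C_G(V)` fixes the points off `i'`, `j'`. -/
theorem fix_of_mem [Finite G] (hm' : 3 ≤ m') (hnn : NN ε i j ≤ normalizer (V : Set G))
    (hnn' : NN ε' i' j' ≤ normalizer (V' : Set G)) {k : G} (hk : k ∈ centralizer (V : Set G))
    {a : Fin (2 ^ m' + 1)} (ha : a ≠ i' ∧ a ≠ j') : k * zz ε' a * k⁻¹ = zz ε' a := by
  classical
  by_contra hne
  have hy := h.symm.hyp
  have h8 : 2 ^ 3 ≤ 2 ^ m' := Nat.pow_le_pow_right (by norm_num) hm'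
  have hNN : NN ε i j = NN ε' i' j' := by unfold NN; rw [h.rr_eq]
  have hKN : centralizer (V : Set G) ≤ NN ε' i' j' := by rw [← hNN]; exact h.cen_le
  have hKA : centralizer (V : Set G) ≤ A (normalizer (V' : Set G)) ε' i' j' := fun x hx => ⟨hnn' (hKN hx), hKN hx⟩
  set K1 : Subgroup (A (normalizer (V' : Set G)) ε' i' j') := (centralizer (V : Set G)).subgroupOf _ with hK1
  have hK1n : K1.Normal := by
    constructor
    intro x hx g
    rw [hK1, mem_subgroupOf] at hx ⊢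
    have hgN : (g : G) ∈ NN ε i j := by
      rw [hNN]
      exact g.2.2
    exact conj_cent (hnn hgN) hx
  set M : Subgroup (Equiv.Perm {k : Fin (2 ^ m' + 1) // k ≠ i' ∧ k ≠ j'}) := K1.map hy.psi with hM
  have hMn : M.Normal := hK1n.map _ hy.psi_surj
  have hkM : hy.psi ⟨k, hKA hk⟩ ∈ M := ⟨_, hk, rfl⟩
  have hnt : Nontrivial M := by
    rw [nontrivial_iff_exists_ne_one]
    refine ⟨_, hkM, fun h1 => hne ?_⟩
    have h2 := congrArg (fun σ : Equiv.Perm {k : Fin (2 ^ m' + 1) // k ≠ i' ∧ k ≠ j'} => ((σ ⟨a, ha⟩ :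
      {k : Fin (2 ^ m' + 1) // k ≠ i' ∧ k ≠ j'}) : Fin (2 ^ m' + 1))) h1
    change ((hy.psi ⟨k, hKA hk⟩ ⟨a, ha⟩ : {k : Fin (2 ^ m' + 1) // k ≠ i' ∧ k ≠ j'}) : Fin (2 ^ m' + 1)) = a at h2
    rw [hy.psi_apply] at h2
    have h3 := (hy.acts_phi ⟨k, hKA hk⟩).single a
    rw [h2] at h3
    exact h3
  have hcard : 5 ≤ Nat.card {k : Fin (2 ^ m' + 1) // k ≠ i' ∧ k ≠ j'} := by
    rw [Nat.card_eq_fintype_card, hy.card_Lam]
    omega
  have halt := Equiv.Perm.alternatingGroup_le_of_normal hcard hnt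
  refine h.not_cyc hm' hnn' ?_
  intro x b c x1 x2 b1 b2 c1 c2 xb xc bc
  set X : {k : Fin (2 ^ m' + 1) // k ≠ i' ∧ k ≠ j'} := ⟨x, x1, x2⟩ with hX
  set B : {k : Fin (2 ^ m' + 1) // k ≠ i' ∧ k ≠ j'} := ⟨b, b1, b2⟩ with hB
  set C : {k : Fin (2 ^ m' + 1) // k ≠ i' ∧ k ≠ j'} := ⟨c, c1, c2⟩ with hC
  have nXB : X ≠ B := fun h0 => xb (congrArg Subtype.val h0)
  have nXC : X ≠ C := fun h0 => xc (congrArg Subtype.val h0)
  have nBC : B ≠ C := fun h0 => bc (congrArg Subtype.val h0)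
  have hmem : Equiv.swap X B * Equiv.swap B C ∈ M := by
    apply halt
    rw [Equiv.Perm.mem_alternatingGroup, map_mul, Equiv.Perm.sign_swap nXB, Equiv.Perm.sign_swap nBC]
    decide
  obtain ⟨g, hg, hgs⟩ := hmem
  have hgK : (g : G) ∈ centralizer (V : Set G) := hg
  refine ⟨g, hgK, hy.phi g, hy.acts_phi g, ?_, ?_, ?_, ?_, hy.phi_pair g⟩
  · have h1 := hy.psi_apply g X
    rw [hgs] at h1
    change _ = hy.phi g x at h1
    rw [← h1, Equiv.Perm.mul_apply, Equiv.swap_apply_of_ne_of_ne nXB nXC, Equiv.swap_apply_left]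
  · have h1 := hy.psi_apply g B
    rw [hgs] at h1
    change _ = hy.phi g b at h1
    rw [← h1, Equiv.Perm.mul_apply, Equiv.swap_apply_left, Equiv.swap_apply_of_ne_of_ne nXC.symm nBC.symm]
  · have h1 := hy.psi_apply g C
    rw [hgs] at h1
    change _ = hy.phi g c at h1
    rw [← h1, Equiv.Perm.mul_apply, Equiv.swap_apply_right, Equiv.swap_apply_right]
  · intro d d1 d2 d3 d4 d5
    have h1 := hy.psi_apply g ⟨d, d1, d2⟩
    rw [hgs] at h1
    change _ = hy.phi g d at h1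
    have q1 : (⟨d, d1, d2⟩ : {k : Fin (2 ^ m' + 1) // k ≠ i' ∧ k ≠ j'}) ≠ X :=
      fun h0 => d3 (congrArg Subtype.val h0)
    have q2 : (⟨d, d1, d2⟩ : {k : Fin (2 ^ m' + 1) // k ≠ i' ∧ k ≠ j'}) ≠ B :=
      fun h0 => d4 (congrArg Subtype.val h0)
    have q3 : (⟨d, d1, d2⟩ : {k : Fin (2 ^ m' + 1) // k ≠ i' ∧ k ≠ j'}) ≠ C :=
      fun h0 => d5 (congrArg Subtype.val h0)
    rw [← h1, Equiv.Perm.mul_apply, Equiv.swap_apply_of_ne_of_ne q2 q3, Equiv.swap_apply_of_ne_of_ne q1 q2]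

end TT

end Cfsg.Agent.Omega.NSix.RThree
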