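import Cfsg.Agent.Omega.NSix.CosetAct
import Cfsg.Agent.Omega.NSix.Norm
import Cfsg.Agent.MinSimple.VModule

/-!
# OMEGA N6, the end for a pair `V`, `V'` of any two types (#15496 (r3), helper864)

`V`, `V'` are even-subset modules of degrees `2^m + 1`, `2^m' + 1`, acting on each other as one transposition, with
the common pair `r = r_ij = r'_i'j'`.

* `TT.le_of_nn` : `C_G(r) ≤ N_G(V)` implies `m ≤ m'`;
* `TT.false` : `m = m'` and `C_G(r_kl) ≤ N_G(V)`, `C_G(r'_kl) ≤ N_G(V')` for all pairs is impossible.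
-/

set_option autoImplicit false

namespace Cfsg.Agent.Omega.NSix.RThree

open Subgroup Cfsg Cfsg.Agent.ZN Cfsg.Agent.MinSimple.VModule
open Cfsg.Agent.Omega.S5.Def Cfsg.Agent.Omega.S5.Syl Cfsg.Agent.Omega.NSix.Base Cfsg.Agent.Omega.NSix.Basic
open Cfsg.Agent.Omega.NSix.CosetAct

universe u

variable {G : Type u} [Group G]

/-- one member -/
structure Mem (S : Sylow 2 G) (V : Subgroup G) {m : ℕ} (ε : (Fin (2 ^ m + 1) → ZMod 2) → G) : Prop where
  two_le : 2 ≤ m
  ev : EvenSet (2 ^ m + 1) V (normalizer (V : Set G)) ε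
  le : (S : Subgroup G) ≤ normalizer (V : Set G)
  fix0 : Fix0 ε (S : Subgroup G)
  zc : ∀ x : G, x * x = 1 → (∀ s ∈ (S : Subgroup G), s * x = x * s) → x = 1 ∨ x = zz ε 0

/-- a pair acting on each other as transpositions -/
structure TT (S S' : Sylow 2 G) (V V' : Subgroup G) {m m' : ℕ} (ε : (Fin (2 ^ m + 1) → ZMod 2) → G)
    (ε' : (Fin (2 ^ m' + 1) → ZMod 2) → G) (i j : Fin (2 ^ m + 1)) (i' j' : Fin (2 ^ m' + 1)) : Prop where
  mem : Mem S V ε
  mem' : Mem S' V' ε'
  ne : i ≠ j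
  ne' : i' ≠ j'
  act : ∀ b ∈ V', Acts ε b 1 ∨ Acts ε b (Equiv.swap i j)
  mov : ∃ b ∈ V', Acts ε b (Equiv.swap i j)
  act' : ∀ b ∈ V, Acts ε' b 1 ∨ Acts ε' b (Equiv.swap i' j')
  mov' : ∃ b ∈ V, Acts ε' b (Equiv.swap i' j')
  in_ : V ≤ (S' : Subgroup G)
  in' : V' ≤ (S : Subgroup G)

theorem Mem.three {S : Sylow 2 G} {V : Subgroup G} {m : ℕ} {ε : (Fin (2 ^ m + 1) → ZMod 2) → G} (h : Mem S V ε) :
    3 ≤ 2 ^ m + 1 := three_le (by have := h.two_le; omega)

/-- a transposition on `V` -/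
theorem acts_swap' {n : ℕ} {V L : Subgroup G} {ε : (Fin n → ZMod 2) → G} (h : EvenSet n V L ε) {g : G} {i j : Fin n}
    (hg : Acts ε g (Equiv.swap i j)) (x : Fin n → ZMod 2) :
    (x i = x j → g * ε x * g⁻¹ = ε x) ∧ (x i ≠ x j → g * ε x * g⁻¹ = ε x * rr ε i j) := by
  constructor
  · intro h2
    rw [hg]
    congr 1
    funext k
    rw [Function.comp_apply, Equiv.symm_swap]
    by_cases e1 : k = i
    · subst e1; rw [Equiv.swap_apply_left, h2]
    by_cases e2 : k = j
    · subst e2; rw [Equiv.swap_apply_right, h2]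
    rw [Equiv.swap_apply_of_ne_of_ne e1 e2]
  · intro h2
    have hij : i ≠ j := fun h0 => h2 (by rw [h0])
    rw [hg]
    unfold rr zz
    rw [← h.add, ← h.add]
    congr 1
    funext k
    rw [Function.comp_apply, Equiv.symm_swap, Pi.add_apply, Pi.add_apply]
    by_cases e1 : k = i
    · subst e1
      rw [Equiv.swap_apply_left, Pi.single_eq_same, Pi.single_eq_of_ne hij, add_zero]
      exact Norm.z2_ne h2.symm
    by_cases e2 : k = j
    · subst e2
      rw [Equiv.swap_apply_right, Pi.single_eq_same, Pi.single_eq_of_ne e1, zero_add]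
      exact Norm.z2_ne h2
    rw [Equiv.swap_apply_of_ne_of_ne e1 e2, Pi.single_eq_of_ne e1, Pi.single_eq_of_ne e2, add_zero, add_zero]

namespace TT

variable {S S' : Sylow 2 G} {V V' : Subgroup G} {m m' : ℕ} {ε : (Fin (2 ^ m + 1) → ZMod 2) → G}
  {ε' : (Fin (2 ^ m' + 1) → ZMod 2) → G} {i j : Fin (2 ^ m + 1)} {i' j' : Fin (2 ^ m' + 1)}
  (h : TT S S' V V' ε ε' i j i' j')
include h

theorem symm : TT S' S V' V ε' ε i' j' i j :=
  ⟨h.mem', h.mem, h.ne', h.ne, h.act', h.mov', h.act, h.mov, h.in', h.in_⟩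

/-- the common pair -/
theorem rr_eq : rr ε i j = rr ε' i' j' := by
  obtain ⟨b, hb, hb1⟩ := h.mov
  obtain ⟨a, ha, ha1⟩ := h.mov'
  have n1 : b ∉ centralizer (V : Set G) := by
    intro h0
    have h1 := h.mem.ev.acts_unique h.mem.three (h.mem.ev.acts_one_iff.mpr h0) hb1
    exact h.ne (Equiv.swap_eq_one_iff.mp h1.symm)
  -- a common witness: `a` moved by `b`
  obtain ⟨x, rfl⟩ := h.mem.ev.surj a ha
  obtain ⟨y, rfl⟩ := h.mem'.ev.surj b hb
  by_cases hx : x i = x j
  · -- `a` is fixed by `V'`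
    exfalso
    have h1 : ∀ c ∈ V', c * ε x * c⁻¹ = ε x := by
      intro c hc
      rcases h.act c hc with h2 | h2
      · exact h2 x
      · exact (acts_swap' h.mem.ev h2 x).1 hx
    have h2 : ε x ∈ centralizer (V' : Set G) := by
      rw [mem_centralizer_iff]
      intro c hc
      rw [← h1 c hc]
      have h3 := h1 c hc
      rw [h3]
      rw [mul_inv_eq_iff_eq_mul] at h3
      exact h3
    have h3 := h.mem'.ev.acts_unique h.mem'.three (h.mem'.ev.acts_one_iff.mpr h2) ha1
    exact h.ne' (Equiv.swap_eq_one_iff.mp h3.symm)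
  by_cases hy : y i' = y j'
  · exfalso
    have h1 := (acts_swap' h.mem'.ev ha1 y).1 hy
    have h2 := (acts_swap' h.mem.ev hb1 x).2 hx
    have h3 : ε' y * ε x * (ε' y)⁻¹ = ε x := by
      rw [mul_inv_eq_iff_eq_mul] at h1 ⊢
      exact h1.symm
    rw [h3] at h2
    exact rr_ne_one h.mem.ev h.mem.three h.ne (left_eq_mul.mp h2)
  · have h1 := (acts_swap' h.mem'.ev ha1 y).2 hy
    have h2 := (acts_swap' h.mem.ev hb1 x).2 hx
    -- `ε y * ε x * ε y⁻¹ = ε x * r`, `ε x * ε y * ε x⁻¹ = ε y * r'`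
    have e1 : rr ε i j = (ε x)⁻¹ * (ε' y * ε x * (ε' y)⁻¹) := by rw [h2]; group
    have e2 : rr ε' i' j' = (ε' y)⁻¹ * (ε x * ε' y * (ε x)⁻¹) := by rw [h1]; group
    have e3 : (rr ε' i' j')⁻¹ = rr ε' i' j' := rr_inv h.mem'.ev _ _
    rw [← e3, e2, e1, h.mem.ev.inv x]
    have e4 : (ε' y)⁻¹ = ε' y := h.mem'.ev.inv y
    rw [e4]
    simp only [mul_inv_rev, h.mem.ev.inv x, e4]
    group

end TT

/-! ### `m ≤ m'` -/

section count

variable [Finite G]

/-- `|C_S(r_kl)| ≤ |S| / 2^(m-1)` -/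
theorem Mem.card_le {S : Sylow 2 G} {V : Subgroup G} {m : ℕ} {ε : (Fin (2 ^ m + 1) → ZMod 2) → G} (h : Mem S V ε)
    {k l : Fin (2 ^ m + 1)} (hkl : k ≠ l) :
    Nat.card ((S : Subgroup G) ⊓ centralizer {rr ε k l} : Subgroup G) * 2 ^ m ≤ 2 * Nat.card (S : Subgroup G) := by
  classical
  -- one of the letters is not 0
  wlog hk : k ≠ 0 generalizing k l with H
  · have hl : l ≠ 0 := by
      push Not at hk
      intro h0
      exact hkl (hk.trans h0.symm)
    rw [rr_symm h.ev k l]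
    exact H hkl.symm hl
  have hn := h.three
  have hm1 : 1 ≤ m := by have := h.two_le; omega
  let f : S →* Equiv.Perm (Fin (2 ^ m + 1)) := (h.ev.hom hn).comp (Subgroup.inclusion h.le)
  have hf : ∀ s : S, Acts ε (s : G) (f s) := fun s => h.ev.acts_hom hn (Subgroup.inclusion h.le s)
  let act : MulAction S (Fin (2 ^ m + 1)) := MulAction.compHom _ f
  have hact : ∀ (s : S) (a : Fin (2 ^ m + 1)), s • a = f s a := fun _ _ => rfl
  have hS2 : ¬ 2 ∣ (S : Subgroup G).relIndex (normalizer (V : Set G)) := MinSimple.Basic.not_dvd_relIndex S h.le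
  -- the orbit of `k`
  have horb : MulAction.orbit S k = {a | a ≠ 0} := by
    ext a
    constructor
    · rintro ⟨s, rfl⟩
      change f s k ≠ 0
      intro h0
      have h1 := h.fix0 s s.2 _ (hf s)
      exact hk ((f s).injective (h0.trans h1.symm))
    · intro ha
      obtain ⟨s, hs, σ, hσ, h1⟩ := trans hm1 h.ev h.le hS2 h.fix0 hk ha
      refine ⟨⟨s, hs⟩, ?_⟩
      change f ⟨s, hs⟩ k = a
      rw [h.ev.acts_unique hn (hf ⟨s, hs⟩) hσ, h1]
  have hidx : (MulAction.stabilizer S k).index = 2 ^ m := by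
    rw [MulAction.index_stabilizer, horb]
    have h1 : ({a | a ≠ 0} : Set (Fin (2 ^ m + 1))) = {0}ᶜ := by ext; simp
    rw [h1, Set.ncard_compl, Nat.card_fin, Set.ncard_singleton]
    omega
  set H : Subgroup S := ((S : Subgroup G) ⊓ centralizer {rr ε k l}).subgroupOf S with hH
  have hHmem : ∀ s : S, s ∈ H ↔ (s : G) * rr ε k l = rr ε k l * s := by
    intro s
    rw [hH, mem_subgroupOf, mem_inf, mem_centralizer_singleton_iff]
    exact ⟨fun h1 => h1.2, fun h1 => ⟨s.2, h1⟩⟩
  -- the orbit of `k` under `H`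
  have horbH : (MulAction.orbit H k) ⊆ {k, l} := by
    rintro _ ⟨s, rfl⟩
    have h1 := (hHmem s).mp s.2
    have h2 : ((s : S) : G) * rr ε k l * ((s : S) : G)⁻¹ = rr ε k l := by rw [h1, mul_inv_cancel_right]
    rw [rr_conj (hf s)] at h2
    have h4 : ε (Pi.single (f s k) 1 + Pi.single (f s l) 1) = ε (Pi.single k 1 + Pi.single l 1) := by
      rw [h.ev.add, h.ev.add]
      exact h2
    have hne : f (s : S) k ≠ f s l := fun h5 => hkl ((f s).injective h5)
    have h5 : (Pi.single (f s k) 1 + Pi.single (f s l) 1 : Fin (2 ^ m + 1) → ZMod 2) =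
        Pi.single k 1 + Pi.single l 1 := by
      rcases h.ev.eq_iff.mp h4 with h5 | h5
      · exact h5
      · exfalso
        have h6 := congrArg Norm.tot h5
        rw [Norm.tot_add, Norm.tot_add, Norm.tot_add, Norm.tot_single, Norm.tot_single, Norm.tot_single,
          Norm.tot_single, Norm.tot_one (odd_n hm1)] at h6
        revert h6
        decide
    have h6 := congrFun h5 (f s k)
    rw [Pi.add_apply, Pi.single_eq_same, Pi.single_eq_of_ne hne] at h6
    change f (s : S) k ∈ ({k, l} : Set _)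
    by_contra h7
    simp only [Set.mem_insert_iff, Set.mem_singleton_iff, not_or] at h7
    rw [Pi.add_apply, Pi.single_eq_of_ne h7.1, Pi.single_eq_of_ne h7.2] at h6
    revert h6
    decide
  have hidxH : (MulAction.stabilizer H k).index ≤ 2 := by
    rw [MulAction.index_stabilizer]
    refine (Set.ncard_le_ncard horbH (Set.toFinite _)).trans ?_
    exact (Set.ncard_insert_le _ _).trans (by rw [Set.ncard_singleton])
  have hc1 : Nat.card H = Nat.card ((S : Subgroup G) ⊓ centralizer {rr ε k l} : Subgroup G) := by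
    rw [hH]
    exact Nat.card_congr (subgroupOfEquivOfLe inf_le_left).toEquiv
  have hc2 : Nat.card (MulAction.stabilizer H k) * (MulAction.stabilizer H k).index = Nat.card H :=
    Subgroup.card_mul_index _
  have hc3 : Nat.card (MulAction.stabilizer S k) * (MulAction.stabilizer S k).index = Nat.card S :=
    Subgroup.card_mul_index _
  have hc4 : Nat.card (MulAction.stabilizer H k) ≤ Nat.card (MulAction.stabilizer S k) := by
    refine Nat.card_le_card_of_injective (fun x : MulAction.stabilizer H k =>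
      (⟨((x : H) : S), x.2⟩ : MulAction.stabilizer S k)) ?_
    intro x y hxy
    replace hxy : (⟨((x : H) : S), x.2⟩ : MulAction.stabilizer S k) = ⟨((y : H) : S), y.2⟩ := hxy
    have h1 : ((x : H) : S) = ((y : H) : S) := by
      injection hxy
    exact Subtype.ext (Subtype.ext h1)
  rw [← hc1, ← hc2]
  have hc5 : Nat.card (MulAction.stabilizer S k) * 2 ^ m = Nat.card (S : Subgroup G) :=
    (congrArg (fun t => Nat.card (MulAction.stabilizer S k) * t) hidx).symm.trans hc3
  calc Nat.card (MulAction.stabilizer H k) * (MulAction.stabilizer H k).index * 2 ^ m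
      ≤ Nat.card (MulAction.stabilizer S k) * 2 * 2 ^ m := by gcongr
    _ = 2 * (Nat.card (MulAction.stabilizer S k) * 2 ^ m) := by ring
    _ = 2 * Nat.card (S : Subgroup G) := by rw [hc5]

/-- 2-subgroups of `N_G(V)` are conjugate into `S`. -/
theorem Mem.exists_conj {S : Sylow 2 G} {V : Subgroup G} {m : ℕ} {ε : (Fin (2 ^ m + 1) → ZMod 2) → G}
    (h : Mem S V ε) {T : Subgroup G} (hT : IsPGroup 2 T) (hTN : T ≤ normalizer (V : Set G)) :
    ∃ g ∈ normalizer (V : Set G), ∀ t ∈ T, g * t * g⁻¹ ∈ (S : Subgroup G) := by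
  have : Fact (Nat.Prime 2) := ⟨Nat.prime_two⟩
  have hX : IsPGroup 2 (T.subgroupOf (normalizer (V : Set G))) := hT.comap_subtype
  obtain ⟨Q, hQ⟩ := hX.exists_le_sylow
  obtain ⟨g, hg⟩ := MulAction.exists_smul_eq (normalizer (V : Set G)) Q (S.subtype h.le)
  refine ⟨g, g.2, fun t ht => ?_⟩
  have h1 : (⟨t, hTN ht⟩ : normalizer (V : Set G)) ∈ (Q : Subgroup (normalizer (V : Set G))) :=
    hQ (mem_subgroupOf.mpr ht)
  have h2 : g * ⟨t, hTN ht⟩ * g⁻¹ ∈ ((g • Q : Sylow 2 (normalizer (V : Set G))) : Subgroup (normalizer (V : Set G))) := by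
    have := smul_mem_pointwise_smul _ (MulAut.conj g) (Q : Subgroup (normalizer (V : Set G))) h1
    rwa [Sylow.coe_subgroup_smul]
  rw [hg] at h2
  exact h2

/-- The 2-subgroups of `C_G(r)` are small. -/
theorem Mem.card_le' {S : Sylow 2 G} {V : Subgroup G} {m : ℕ} {ε : (Fin (2 ^ m + 1) → ZMod 2) → G} (h : Mem S V ε)
    {i j : Fin (2 ^ m + 1)} (hij : i ≠ j) (hnn : NN ε i j ≤ normalizer (V : Set G)) {T : Subgroup G}
    (hT : IsPGroup 2 T) (hTN : T ≤ NN ε i j) : Nat.card T * 2 ^ m ≤ 2 * Nat.card (S : Subgroup G) := by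
  obtain ⟨g, hg, h1⟩ := h.exists_conj hT (hTN.trans hnn)
  obtain ⟨σ, hσ⟩ := h.ev.perm g hg
  have h2 := h.card_le (k := σ i) (l := σ j) (fun h0 => hij (σ.injective h0))
  refine le_trans (Nat.mul_le_mul_right _ ?_) h2
  refine Nat.card_le_card_of_injective (fun t : T => (⟨g * t * g⁻¹, h1 t t.2, ?_⟩ :
    ((S : Subgroup G) ⊓ centralizer {rr ε (σ i) (σ j)} : Subgroup G))) ?_
  · exact conj_NN hσ (hTN t.2)
  · intro t t' htt
    have h3 : g * (t : G) * g⁻¹ = g * t' * g⁻¹ := congrArg Subtype.val htt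
    exact Subtype.ext (mul_left_cancel (mul_right_cancel h3))

end count

namespace TT

variable {S S' : Sylow 2 G} {V V' : Subgroup G} {m m' : ℕ} {ε : (Fin (2 ^ m + 1) → ZMod 2) → G}
  {ε' : (Fin (2 ^ m' + 1) → ZMod 2) → G} {i j : Fin (2 ^ m + 1)} {i' j' : Fin (2 ^ m' + 1)}
  (h : TT S S' V V' ε ε' i j i' j')
include h

theorem swap_mem : ∃ a ∈ (S : Subgroup G), Acts ε a (Equiv.swap i j) := by
  obtain ⟨b, hb, h1⟩ := h.mov
  exact ⟨b, h.in' hb, h1⟩

theorem V_le : V ≤ (S : Subgroup G) := by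
  have h1 : IsPGroup 2 ((S : Subgroup G) ⊔ V : Subgroup G) := S.isPGroup'.to_sup_of_normal_right' h.mem.ev.isPGroup h.mem.le
  have h2 := S.is_maximal' h1 le_sup_left
  rw [← h2]
  exact le_sup_right

variable [Finite G]

theorem hyp : CosetAct.Hyp V (normalizer (V : Set G)) (S : Subgroup G) ⊥ ε i j where
  even := h.mem.ev
  VP := le_normalizer
  two_le := h.mem.two_le
  le := h.mem.le
  isP := S.isPGroup'
  max T hT := by
    have h2 : Fact (Nat.Prime 2) := ⟨Nat.prime_two⟩
    obtain ⟨R, hR⟩ := hT.exists_le_sylow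
    have h1 : Nat.card (R : Subgroup G) = Nat.card (S : Subgroup G) := by
      rw [R.card_eq_multiplicity, S.card_eq_multiplicity]
    rw [← h1]
    exact Subgroup.card_le_of_le hR
  fix0 := h.mem.fix0
  ne := h.ne
  swap := h.swap_mem
  isPW := IsPGroup.of_bot
  leW := bot_le
  norm := by
    intro g _
    rw [mem_normalizer_iff]
    intro x
    rw [mem_bot, mem_bot]
    constructor
    · rintro rfl
      group
    · intro h1
      have h2 : x = g⁻¹ * (g * x * g⁻¹) * g := by group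
      rw [h2, h1]
      group

/-- **(i)** -/
theorem le_of_nn (hnn : NN ε i j ≤ normalizer (V : Set G)) : m ≤ m' := by
  have h1 : (((S' : Subgroup G) ⊓ centralizer ({rr ε' i' j'} : Set G) : Subgroup G)).relIndex (S' : Subgroup G) ≤
      2 ^ (m' - 1) := h.symm.hyp.relIndex_S_le
  have hT : IsPGroup 2 ((S' : Subgroup G) ⊓ centralizer ({rr ε' i' j'} : Set G) : Subgroup G) :=
    S'.isPGroup'.to_le inf_le_left
  have h2 := h.mem.card_le' h.ne hnn hT (by
    unfold NN
    rw [h.rr_eq]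
    exact inf_le_right)
  have h3 : Nat.card ((S' : Subgroup G) ⊓ centralizer ({rr ε' i' j'} : Set G) : Subgroup G) *
      (((S' : Subgroup G) ⊓ centralizer ({rr ε' i' j'} : Set G) : Subgroup G)).relIndex (S' : Subgroup G) =
      Nat.card (S' : Subgroup G) := Hyp.card_mul_relIndex' inf_le_left
  have h4 : Nat.card (S : Subgroup G) = Nat.card (S' : Subgroup G) := by
    have : Fact (Nat.Prime 2) := ⟨Nat.prime_two⟩
    rw [S.card_eq_multiplicity, S'.card_eq_multiplicity]
  set c := Nat.card ((S' : Subgroup G) ⊓ centralizer ({rr ε' i' j'} : Set G) : Subgroup G) with hc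
  have hc0 : 0 < c := Nat.card_pos
  have h5 : c * 2 ^ m ≤ c * 2 ^ m' := by
    calc c * 2 ^ m ≤ 2 * Nat.card (S : Subgroup G) := h2
      _ = 2 * (c * (((S' : Subgroup G) ⊓ centralizer ({rr ε' i' j'} : Set G) : Subgroup G)).relIndex
          (S' : Subgroup G)) := by rw [h3, h4]
      _ ≤ 2 * (c * 2 ^ (m' - 1)) := by gcongr
      _ = c * (2 ^ (m' - 1) * 2) := by ring
      _ = c * 2 ^ m' := by
        rw [← pow_succ]
        congr 2
        have := h.mem'.two_le
        omega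
  have h6 := Nat.le_of_mul_le_mul_left h5 hc0
  exact (Nat.pow_le_pow_iff_right (by norm_num)).mp h6

end TT


end Cfsg.Agent.Omega.NSix.RThree
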