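import Cfsg.Agent.Omega.NSix.Basic

/-!
# OMEGA N6, (H2): the case `1 ≠ [U_12, U_34] ≤ ⟨r_12, r_34⟩` is impossible (#16652, helper149; #16768, helper456)

`Fs V ε Q`: `V` is the even-subset module for `N_G(V)`, `U_ij = UU ε i j` is abelian and centralises `V`, the
`Q i j ≤ N_ij` are normal, compatible with the permutations and induce `⟨(i j)⟩` on `V`.

`surv` : for odd `n ≥ 7`, if `x u x⁻¹ ∈ u ⟨r_12, r_34⟩` for all `u ∈ U_12`, `x ∈ U_34`, then `[U_12, U_34] = 1`.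
-/

set_option autoImplicit false
set_option linter.dupNamespace false

namespace Cfsg.Agent.Omega.NSix.Surv

open Subgroup Cfsg.Agent.Omega.S5.Def Cfsg.Agent.Omega.NSix.Base Cfsg.Agent.Omega.NSix.Basic

universe u

/-! ### Counting -/

/-- Pairings with values `± 1`: the two kernels have the same index. -/
theorem pairing {A U : Type*} [Group A] [Group U] [Finite A] [Finite U] (χ : A → U → ℤ)
    (h1 : ∀ a a' u, χ (a * a') u = χ a u * χ a' u) (h2 : ∀ a u u', χ a (u * u') = χ a u * χ a u')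
    (h3 : ∀ a, χ a 1 = 1) (h4 : ∀ u, χ 1 u = 1) :
    Nat.card A * Nat.card {u : U // ∀ a, χ a u = 1} = Nat.card U * Nat.card {a : A // ∀ u, χ a u = 1} := by
  classical
  have := Fintype.ofFinite A
  have := Fintype.ofFinite U
  have e1 : ∑ u : U, ∑ a : A, χ a u = (Nat.card A * Nat.card {u : U // ∀ a, χ a u = 1} : ℕ) := by
    have e : ∀ u : U, ∑ a : A, χ a u = if ∀ a, χ a u = 1 then (Nat.card A : ℤ) else 0 := by
      intro u
      let f : A →* ℤ := ⟨⟨fun a => χ a u, h4 u⟩, fun a a' => h1 a a' u⟩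
      have h5 := sum_hom_units f
      have h6 : f = 1 ↔ ∀ a, χ a u = 1 := DFunLike.ext_iff
      rw [Nat.card_eq_fintype_card]
      change ∑ a : A, f a = _
      rw [h5]
      by_cases h7 : f = 1
      · rw [if_pos h7, if_pos (h6.mp h7)]
      · rw [if_neg h7, if_neg fun h8 => h7 (h6.mpr h8), Nat.cast_zero]
    rw [Finset.sum_congr rfl fun u _ => e u, ← Finset.sum_filter, Finset.sum_const, nsmul_eq_mul,
      Nat.card_eq_fintype_card (α := {u : U // ∀ a, χ a u = 1}), Fintype.card_subtype]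
    push_cast
    ring
  have e2 : ∑ a : A, ∑ u : U, χ a u = (Nat.card U * Nat.card {a : A // ∀ u, χ a u = 1} : ℕ) := by
    have e : ∀ a : A, ∑ u : U, χ a u = if ∀ u, χ a u = 1 then (Nat.card U : ℤ) else 0 := by
      intro a
      let f : U →* ℤ := ⟨⟨fun u => χ a u, h3 a⟩, fun u u' => h2 a u u'⟩
      have h5 := sum_hom_units f
      have h6 : f = 1 ↔ ∀ u, χ a u = 1 := DFunLike.ext_iff
      rw [Nat.card_eq_fintype_card]
      change ∑ u : U, f u = _
      rw [h5]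
      by_cases h7 : f = 1
      · rw [if_pos h7, if_pos (h6.mp h7)]
      · rw [if_neg h7, if_neg fun h8 => h7 (h6.mpr h8), Nat.cast_zero]
    rw [Finset.sum_congr rfl fun a _ => e a, ← Finset.sum_filter, Finset.sum_const, nsmul_eq_mul,
      Nat.card_eq_fintype_card (α := {a : A // ∀ u, χ a u = 1}), Fintype.card_subtype]
    push_cast
    ring
  rw [Finset.sum_comm, e2] at e1
  exact_mod_cast e1.symm

variable {G : Type u} [Group G]

/-- A subgroup whose elements move `c` to at most 4 places. -/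
theorem orbit4 [Finite G] {T : Subgroup G} {c p q s t : G}
    (h : ∀ x ∈ T, x * c * x⁻¹ = p ∨ x * c * x⁻¹ = q ∨ x * c * x⁻¹ = s ∨ x * c * x⁻¹ = t) :
    Nat.card T ≤ 4 * Nat.card (T ⊓ centralizer {c} : Subgroup G) := by
  classical
  set C : Subgroup G := T ⊓ centralizer {c} with hC
  have hCT : C ≤ T := inf_le_left
  let f : (T ⧸ C.subgroupOf T) → ({p, q, s, t} : Finset G) := fun x =>
    ⟨(x.out : G) * c * (x.out : G)⁻¹, by
      simp only [Finset.mem_insert, Finset.mem_singleton]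
      exact h _ x.out.2⟩
  have hf : Function.Injective f := by
    intro x y hxy
    have h1 : (x.out : G) * c * (x.out : G)⁻¹ = (y.out : G) * c * (y.out : G)⁻¹ := congrArg Subtype.val hxy
    rw [← x.out_eq, ← y.out_eq]
    refine Quotient.sound ?_
    rw [← Quotient.eq_iff_equiv]
    apply QuotientGroup.eq.mpr
    rw [mem_subgroupOf]
    refine ⟨T.mul_mem (T.inv_mem x.out.2) y.out.2, mem_centralizer_singleton_iff.mpr ?_⟩
    change (x.out : G)⁻¹ * (y.out : G) * c = c * ((x.out : G)⁻¹ * (y.out : G))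
    calc (x.out : G)⁻¹ * (y.out : G) * c = (x.out : G)⁻¹ * ((y.out : G) * c * (y.out : G)⁻¹) * (y.out : G) := by group
      _ = (x.out : G)⁻¹ * ((x.out : G) * c * (x.out : G)⁻¹) * (y.out : G) := by rw [h1]
      _ = _ := by group
  have h2 : Nat.card (T ⧸ C.subgroupOf T) ≤ 4 := by
    refine (Nat.card_le_card_of_injective f hf).trans ?_
    rw [Nat.card_eq_fintype_card, Fintype.card_coe]
    exact Finset.card_le_four
  have h3 : Nat.card T = Nat.card (T ⧸ C.subgroupOf T) * Nat.card (C.subgroupOf T) :=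
    Subgroup.card_eq_card_quotient_mul_card_subgroup _
  have h4 : Nat.card (C.subgroupOf T) = Nat.card C := Nat.card_congr (subgroupOfEquivOfLe hCT).toEquiv
  rw [h3, h4]
  exact Nat.mul_le_mul_right _ h2

/-- Five elements of a group, a subgroup of index at most 4. -/
theorem pigeon [Finite G] {W Y : Subgroup G} (hYW : Y ≤ W) (hc : Nat.card W ≤ 4 * Nat.card Y)
    (f : Fin 5 → G) (hf : ∀ i, f i ∈ W) : ∃ i j, i ≠ j ∧ (f i)⁻¹ * f j ∈ Y := by
  classical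
  have h3 : Nat.card W = Nat.card (W ⧸ Y.subgroupOf W) * Nat.card (Y.subgroupOf W) :=
    Subgroup.card_eq_card_quotient_mul_card_subgroup _
  have h4 : Nat.card (Y.subgroupOf W) = Nat.card Y := Nat.card_congr (subgroupOfEquivOfLe hYW).toEquiv
  rw [h3, h4] at hc
  have h5 : Nat.card (W ⧸ Y.subgroupOf W) ≤ 4 := Nat.le_of_mul_le_mul_right hc Nat.card_pos
  have := Fintype.ofFinite (W ⧸ Y.subgroupOf W)
  obtain ⟨i, j, hij, he⟩ := Fintype.exists_ne_map_eq_of_card_lt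
    (fun i : Fin 5 => (QuotientGroup.mk (⟨f i, hf i⟩ : W) : W ⧸ Y.subgroupOf W)) (by
      rw [Fintype.card_fin, ← Nat.card_eq_fintype_card]
      omega)
  exact ⟨i, j, hij, mem_subgroupOf.mp (QuotientGroup.eq.mp he)⟩

/-! ### The abstract part: `(2')`, `(3)`, `(4)` -/

/-- `x` moves `u` by an element of `⟨r⟩` -/
def Fx (r x u : G) : Prop := x * u * x⁻¹ = u ∨ x * u * x⁻¹ = u * r

theorem sgn_mul {P Q R : Prop} [Decidable P] [Decidable Q] [Decidable R] (h : P ↔ (Q ↔ R)) :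
    (if P then (1 : ℤ) else -1) = (if Q then 1 else -1) * if R then 1 else -1 := by
  by_cases hQ : Q <;> by_cases hR : R
  · rw [if_pos (h.mpr ⟨fun _ => hR, fun _ => hQ⟩), if_pos hQ, if_pos hR, mul_one]
  · rw [if_neg (fun hP => hR ((h.mp hP).mp hQ)), if_pos hQ, if_neg hR, one_mul]
  · rw [if_neg (fun hP => hQ ((h.mp hP).mpr hR)), if_neg hQ, if_pos hR, mul_one]
  · rw [if_pos (h.mpr ⟨fun h0 => absurd h0 hQ, fun h0 => absurd h0 hR⟩), if_neg hQ, if_neg hR]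
    norm_num

/-- membership in `⟨r, e⟩` -/
def Four (r e p : G) : Prop := p = 1 ∨ p = r ∨ p = e ∨ p = e * r

theorem four_mul {r e p q : G} (hr : r * r = 1) (he : e * e = 1) (hre : r * e = e * r) (h1 : e ≠ 1) (h2 : e ≠ r)
    (hp : Four r e p) (hq : Four r e q) : (p * q = 1 ∨ p * q = r) ↔ ((p = 1 ∨ p = r) ↔ (q = 1 ∨ q = r)) := by
  have h3 : e * r ≠ 1 := fun h0 => h2 (by
    rw [eq_inv_of_mul_eq_one_left h0]; exact inv_eq_of_mul_eq_one_left hr)
  have h4 : e * r ≠ r := fun h0 => h1 (by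
    have : e * r = 1 * r := by rw [h0, one_mul]
    exact mul_right_cancel this)
  have a1 : r * (e * r) = e := by rw [← mul_assoc, hre, mul_assoc, hr, mul_one]
  have a2 : e * (e * r) = r := by rw [← mul_assoc, he, one_mul]
  have a3 : e * r * r = e := by rw [mul_assoc, hr, mul_one]
  have a4 : e * r * e = r := by rw [mul_assoc, hre, ← mul_assoc, he, one_mul]
  have a5 : e * r * (e * r) = 1 := by rw [← mul_assoc, a4, hr]
  have ne : ¬ (e = 1 ∨ e = r) := not_or.mpr ⟨h1, h2⟩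
  have ner : ¬ (e * r = 1 ∨ e * r = r) := not_or.mpr ⟨h3, h4⟩
  have t1 : (1 : G) = 1 ∨ (1 : G) = r := Or.inl rfl
  have tr : r = 1 ∨ r = r := Or.inr rfl
  rcases hp with hp | hp | hp | hp <;> rcases hq with hq | hq | hq | hq <;> rw [hp, hq]
  · exact iff_of_true (by rw [one_mul]; exact t1) (iff_of_true t1 t1)
  · exact iff_of_true (by rw [one_mul]; exact tr) (iff_of_true t1 tr)
  · exact iff_of_false (by rw [one_mul]; exact ne) fun h => ne (h.mp t1)
  · exact iff_of_false (by rw [one_mul]; exact ner) fun h => ner (h.mp t1)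
  · exact iff_of_true (by rw [mul_one]; exact tr) (iff_of_true tr t1)
  · exact iff_of_true (by rw [hr]; exact t1) (iff_of_true tr tr)
  · exact iff_of_false (by rw [hre]; exact ner) fun h => ne (h.mp tr)
  · exact iff_of_false (by rw [a1]; exact ne) fun h => ner (h.mp tr)
  · exact iff_of_false (by rw [mul_one]; exact ne) fun h => ne (h.mpr t1)
  · exact iff_of_false ner fun h => ne (h.mpr tr)
  · exact iff_of_true (by rw [he]; exact t1) (iff_of_false ne ne)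
  · exact iff_of_true (by rw [a2]; exact tr) (iff_of_false ne ner)
  · exact iff_of_false (by rw [mul_one]; exact ner) fun h => ner (h.mpr t1)
  · exact iff_of_false (by rw [a3]; exact ne) fun h => ner (h.mpr tr)
  · exact iff_of_true (by rw [a4]; exact tr) (iff_of_false ner ne)
  · exact iff_of_true (by rw [a5]; exact t1) (iff_of_false ner ner)

theorem fx_iff {r x u : G} : Fx r x u ↔ (u⁻¹ * (x * u * x⁻¹) = 1 ∨ u⁻¹ * (x * u * x⁻¹) = r) := by
  unfold Fx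
  rw [inv_mul_eq_one, inv_mul_eq_iff_eq_mul, eq_comm (a := u)]

/-- The pairing `T × W → ⟨r, e⟩ / ⟨r⟩`. -/
theorem pair_count [Finite G] {r e : G} {T W : Subgroup G} (hr : r * r = 1) (he : e * e = 1)
    (hre : r * e = e * r) (h1 : e ≠ 1) (h2 : e ≠ r) (hTr : ∀ x ∈ T, x * r * x⁻¹ = r)
    (hTe : ∀ x ∈ T, x * e * x⁻¹ = e) (hWr : ∀ v ∈ W, v * r = r * v) (hWe : ∀ v ∈ W, v * e = e * v)
    (hc : ∀ x ∈ T, ∀ v ∈ W, Fx r x v ∨ x * v * x⁻¹ = v * e ∨ x * v * x⁻¹ = v * (e * r)) :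
    Nat.card T * Nat.card {v : W // ∀ x : T, Fx r (x : G) (v : G)} =
      Nat.card W * Nat.card {x : T // ∀ v : W, Fx r (x : G) (v : G)} := by
  classical
  let μ : G → G → G := fun x v => v⁻¹ * (x * v * x⁻¹)
  have hμ : ∀ x ∈ T, ∀ v ∈ W, Four r e (μ x v) := by
    intro x hx v hv
    change v⁻¹ * (x * v * x⁻¹) = 1 ∨ v⁻¹ * (x * v * x⁻¹) = r ∨ v⁻¹ * (x * v * x⁻¹) = e ∨
      v⁻¹ * (x * v * x⁻¹) = e * r
    rw [inv_mul_eq_iff_eq_mul (b := x * v * x⁻¹) (c := e), inv_mul_eq_iff_eq_mul (b := x * v * x⁻¹) (c := e * r)]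
    rcases hc x hx v hv with h3 | h3 | h3
    · rcases fx_iff.mp h3 with h3 | h3
      · exact Or.inl h3
      · exact Or.inr (Or.inl h3)
    · exact Or.inr (Or.inr (Or.inl h3))
    · exact Or.inr (Or.inr (Or.inr h3))
  have hμ1 : ∀ x ∈ T, ∀ y ∈ T, ∀ v ∈ W, μ (x * y) v = μ x v * μ y v := by
    intro x hx y hy v hv
    have e1 : x * μ y v * x⁻¹ = μ y v := by
      rcases hμ y hy v hv with h3 | h3 | h3 | h3 <;> rw [h3]
      · group
      · exact hTr x hx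
      · exact hTe x hx
      · calc x * (e * r) * x⁻¹ = (x * e * x⁻¹) * (x * r * x⁻¹) := by group
          _ = _ := by rw [hTe x hx, hTr x hx]
    calc μ (x * y) v = v⁻¹ * (x * v * x⁻¹) * (x * (v⁻¹ * (y * v * y⁻¹)) * x⁻¹) := by
          change v⁻¹ * (x * y * v * (x * y)⁻¹) = _
          group
      _ = μ x v * (x * μ y v * x⁻¹) := rfl
      _ = _ := by rw [e1]
  have hμ2 : ∀ x ∈ T, ∀ v ∈ W, ∀ w ∈ W, μ x (v * w) = μ x v * μ x w := by
    intro x hx v hv w hw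
    have e1 : w * μ x v = μ x v * w := by
      rcases hμ x hx v hv with h3 | h3 | h3 | h3 <;> rw [h3]
      · rw [mul_one, one_mul]
      · exact hWr w hw
      · exact hWe w hw
      · rw [← mul_assoc, hWe w hw, mul_assoc, hWr w hw, mul_assoc]
    calc μ x (v * w) = w⁻¹ * ((v⁻¹ * (x * v * x⁻¹)) * w) * (w⁻¹ * (x * w * x⁻¹)) := by
          change (v * w)⁻¹ * (x * (v * w) * x⁻¹) = _
          group
      _ = w⁻¹ * (μ x v * w) * μ x w := rfl
      _ = _ := by rw [← e1, inv_mul_cancel_left]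
  let χ : T → W → ℤ := fun x v => if Fx r (x : G) (v : G) then 1 else -1
  have hχ : ∀ (x : T) (v : W), χ x v = 1 ↔ Fx r (x : G) (v : G) := by
    intro x v
    change (if Fx r (x : G) (v : G) then (1 : ℤ) else -1) = 1 ↔ _
    by_cases h3 : Fx r (x : G) (v : G)
    · rw [if_pos h3]; exact ⟨fun _ => h3, fun _ => rfl⟩
    · rw [if_neg h3]; exact ⟨fun h4 => absurd h4 (by norm_num), fun h4 => absurd h4 h3⟩
  have key := pairing χ
    (fun x y v => sgn_mul (by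
      rw [fx_iff, fx_iff, fx_iff]
      have h3 := hμ1 x x.2 y y.2 v v.2
      have h4 := four_mul hr he hre h1 h2 (hμ x x.2 v v.2) (hμ y y.2 v v.2)
      rw [← h3] at h4
      exact h4))
    (fun x v w => sgn_mul (by
      rw [fx_iff, fx_iff, fx_iff]
      have h3 := hμ2 x x.2 v v.2 w w.2
      have h4 := four_mul hr he hre h1 h2 (hμ x x.2 v v.2) (hμ x x.2 w w.2)
      rw [← h3] at h4
      exact h4))
    (fun x => (hχ x 1).mpr (Or.inl (by change (x : G) * 1 * (x : G)⁻¹ = 1; group)))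
    (fun v => (hχ 1 v).mpr (Or.inl (by change (1 : G) * (v : G) * (1 : G)⁻¹ = v; group)))
  have k1 : Nat.card {u : W // ∀ a, χ a u = 1} = Nat.card {v : W // ∀ x : T, Fx r (x : G) (v : G)} :=
    Nat.card_congr (Equiv.subtypeEquivRight fun v => forall_congr' fun x => hχ x v)
  have k2 : Nat.card {a : T // ∀ u, χ a u = 1} = Nat.card {x : T // ∀ v : W, Fx r (x : G) (v : G)} :=
    Nat.card_congr (Equiv.subtypeEquivRight fun x => forall_congr' fun v => hχ x v)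
  rw [k1, k2] at key
  exact key

/-- `T c`, `c ∈ K`: a group of "transvections" of `U` modulo `⟨r⟩` with centre `c` -/
structure Ab (N U : Subgroup G) (r : G) (K : Set G) (T : G → Subgroup G) : Prop where
  Un : ∀ g ∈ N, ∀ u ∈ U, g * u * g⁻¹ ∈ U
  Uc : ∀ u ∈ U, ∀ v ∈ U, u * v = v * u
  rN : ∀ g ∈ N, g * r = r * g
  rs : r * r = 1
  rU : r ∈ U
  KU : ∀ c ∈ K, c ∈ U
  K1 : ∀ c ∈ K, c ≠ 1
  Kr : ∀ c ∈ K, c ≠ r
  Ks : ∀ c ∈ K, c * c = 1
  TN : ∀ c ∈ K, T c ≤ N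
  Tc : ∀ c ∈ K, ∀ x ∈ T c, x * c * x⁻¹ = c
  com : ∀ c ∈ K, ∀ x ∈ T c, ∀ u ∈ U, Fx r x u ∨ x * u * x⁻¹ = u * c ∨ x * u * x⁻¹ = u * (c * r)
  conj : ∀ g ∈ N, ∀ c ∈ K, ∀ x ∈ T c, g * x * g⁻¹ ∈ T (g * c * g⁻¹)
  tra : ∀ c ∈ K, ∀ d ∈ K, ∃ g ∈ N, g * c * g⁻¹ = d
  two : ∀ c ∈ K, ∀ u ∈ U, (∀ x ∈ T c, Fx r x u) → ∀ x ∈ T c, x * u * x⁻¹ = u

namespace Ab

variable {N U : Subgroup G} {r : G} {K : Set G} {T : G → Subgroup G} (h : Ab N U r K T)
include h

/-- `X_c = C_U(T c)` -/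
def X (_ : Ab N U r K T) (c : G) : Subgroup G := U ⊓ centralizer (T c : Set G)

theorem mem_X {c u : G} : u ∈ h.X c ↔ u ∈ U ∧ ∀ x ∈ T c, x * u * x⁻¹ = u := by
  unfold X
  rw [mem_inf, mem_centralizer_iff]
  refine and_congr_right fun _ => forall₂_congr fun x _ => ?_
  rw [mul_inv_eq_iff_eq_mul]

theorem mem_X' {c u : G} (hc : c ∈ K) : u ∈ h.X c ↔ u ∈ U ∧ ∀ x ∈ T c, Fx r x u := by
  rw [h.mem_X]
  exact ⟨fun h1 => ⟨h1.1, fun x hx => Or.inl (h1.2 x hx)⟩, fun h1 => ⟨h1.1, h.two c hc u h1.1 h1.2⟩⟩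

theorem rr' : r⁻¹ = r := inv_eq_of_mul_eq_one_left h.rs

/-- **(3), key** -/
theorem key {c d x x' u : G} (hc : c ∈ K) (hd : d ∈ K) (hx' : x' ∈ T c) (hx'd : ¬ Fx r x' d) (hx : x ∈ T d)
    (hxc : x * c * x⁻¹ = c) (hu : u ∈ h.X c) : Fx r x u := by
  by_contra h0
  have huU := (h.mem_X.mp hu).1
  have hdU := h.KU d hd
  have hcU := h.KU c hc
  have hx'N := h.TN c hc hx'
  have hxN := h.TN d hd hx
  -- `x u x⁻¹ = u d ρ`
  obtain ⟨ρ, hρ, e1⟩ : ∃ ρ, (ρ = 1 ∨ ρ = r) ∧ x * u * x⁻¹ = u * (d * ρ) := by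
    rcases h.com d hd x hx u huU with h1 | h1 | h1
    · exact absurd h1 h0
    · exact ⟨1, Or.inl rfl, by rw [mul_one]; exact h1⟩
    · exact ⟨r, Or.inr rfl, h1⟩
  obtain ⟨ρ', hρ', e2⟩ : ∃ ρ', (ρ' = 1 ∨ ρ' = r) ∧ x' * d * x'⁻¹ = d * (c * ρ') := by
    rcases h.com c hc x' hx' d hdU with h1 | h1 | h1
    · exact absurd h1 hx'd
    · exact ⟨1, Or.inl rfl, by rw [mul_one]; exact h1⟩
    · exact ⟨r, Or.inr rfl, h1⟩
  have e3 : x' * ρ * x'⁻¹ = ρ := by
    rcases hρ with rfl | rfl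
    · group
    · rw [h.rN _ hx'N, mul_inv_cancel_right]
  have hρU : ρ ∈ U := by
    rcases hρ with rfl | rfl
    · exact one_mem _
    · exact h.rU
  have e4 : x' * u * x'⁻¹ = u := (h.mem_X.mp hu).2 x' hx'
  -- `x⁻¹ x' x` is in `T c`
  have h5 : x⁻¹ * x' * x ∈ T c := by
    have h6 := h.conj x⁻¹ (inv_mem hxN) c hc x' hx'
    have h7 : x⁻¹ * c * x⁻¹⁻¹ = c := by
      calc x⁻¹ * c * x⁻¹⁻¹ = x⁻¹ * (x * c * x⁻¹) * x := by rw [hxc]; group
        _ = c := by group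
    rwa [h7, inv_inv] at h6
  have e5 := (h.mem_X.mp hu).2 _ h5
  have e6 : x' * (x * u * x⁻¹) * x'⁻¹ = x * u * x⁻¹ := by
    calc x' * (x * u * x⁻¹) * x'⁻¹ = x * ((x⁻¹ * x' * x) * u * (x⁻¹ * x' * x)⁻¹) * x⁻¹ := by group
      _ = _ := by rw [e5]
  rw [e1] at e6
  have e7 : x' * (u * (d * ρ)) * x'⁻¹ = (x' * u * x'⁻¹) * ((x' * d * x'⁻¹) * (x' * ρ * x'⁻¹)) := by group
  rw [e7, e4, e2, e3] at e6
  have e8 := mul_left_cancel e6
  rw [mul_assoc] at e8
  have e9 := mul_left_cancel e8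
  -- `c ρ' ρ = ρ`
  have e10 : c * ρ' = 1 := by
    have : c * ρ' * ρ = 1 * ρ := by rw [e9, one_mul]
    exact mul_right_cancel this
  rcases hρ' with h8 | h8
  · rw [h8, mul_one] at e10
    exact h.K1 c hc e10
  · rw [h8] at e10
    have e11 : c = r⁻¹ := eq_inv_of_mul_eq_one_left e10
    rw [h.rr'] at e11
    exact h.Kr c hc e11

theorem X_conj {g c u : G} (hg : g ∈ N) (hgc : g * c * g⁻¹ ∈ K) (hu : u ∈ h.X c) :
    g * u * g⁻¹ ∈ h.X (g * c * g⁻¹) := by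
  rw [h.mem_X] at hu ⊢
  refine ⟨h.Un g hg u hu.1, fun x hx => ?_⟩
  have h1 := h.conj g⁻¹ (inv_mem hg) _ hgc x hx
  have h2 : g⁻¹ * (g * c * g⁻¹) * g⁻¹⁻¹ = c := by group
  rw [h2, inv_inv] at h1
  have h3 := hu.2 _ h1
  calc x * (g * u * g⁻¹) * x⁻¹ = g * ((g⁻¹ * x * g) * u * (g⁻¹ * x * g)⁻¹) * g⁻¹ := by group
    _ = _ := by rw [h3]

theorem X_le_card [Finite G] {c d : G} (hc : c ∈ K) (hd : d ∈ K) : Nat.card (h.X c) ≤ Nat.card (h.X d) := by
  obtain ⟨g, hg, rfl⟩ := h.tra c hc d hd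
  refine Nat.card_le_card_of_injective (fun u : h.X c => (⟨g * u * g⁻¹, h.X_conj hg hd u.2⟩ : h.X (g * c * g⁻¹)))
    fun u v huv => ?_
  have h1 : g * (u : G) * g⁻¹ = g * (v : G) * g⁻¹ := congrArg Subtype.val huv
  exact Subtype.ext (mul_left_cancel (mul_right_cancel h1))

/-- **(3), SYM** -/
theorem sym [Finite G] {c d : G} (hc : c ∈ K) (hd : d ∈ K) (h1 : c ∈ h.X d) : d ∈ h.X c := by
  by_contra h0
  have h2 : ∃ x' ∈ T c, ¬ Fx r x' d := by
    by_contra h3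
    push Not at h3
    exact h0 ((h.mem_X' hc).mpr ⟨h.KU d hd, h3⟩)
  obtain ⟨x', hx', hx'd⟩ := h2
  have h3 : h.X c ≤ h.X d := by
    intro u hu
    rw [h.mem_X' hd]
    exact ⟨(h.mem_X.mp hu).1, fun x hx => h.key hc hd hx' hx'd hx ((h.mem_X.mp h1).2 x hx) hu⟩
  have h4 : h.X c = h.X d := Subgroup.eq_of_le_of_card_ge h3 (h.X_le_card hd hc)
  apply h0
  rw [h4, h.mem_X]
  exact ⟨h.KU d hd, h.Tc d hd⟩

/-- **(4a)** a subgroup `W` of `U` centralised by `T c`, where `c ∉ X_e`, has `|W : W ∩ X_e| ≤ 4` -/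
theorem four [Finite G] {c e : G} (hc : c ∈ K) (he : e ∈ K) (hce : c ∉ h.X e) {W : Subgroup G} (hW : W ≤ U)
    (hWc : ∀ v ∈ W, ∀ x ∈ T c, x * v * x⁻¹ = v) :
    Nat.card W ≤ 4 * Nat.card (W ⊓ h.X e : Subgroup G) := by
  classical
  have h0 : e ∉ h.X c := fun h1 => hce (h.sym he hc h1)
  obtain ⟨x', hx', hx'e⟩ : ∃ x' ∈ T c, ¬ Fx r x' e := by
    by_contra h3
    push Not at h3
    exact h0 ((h.mem_X' hc).mpr ⟨h.KU e he, h3⟩)
  -- elements of `T e` fixing `c` act on `W` modulo `⟨r⟩` trivially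
  have h1 : ∀ x ∈ T e, x * c * x⁻¹ = c → ∀ v ∈ W, Fx r x v := fun x hx hxc v hv =>
    h.key hc he hx' hx'e hx hxc (h.mem_X.mpr ⟨hW hv, hWc v hv⟩)
  have heU := h.KU e he
  have key := pair_count (T := T e) (W := W) h.rs (h.Ks e he) (h.Uc r h.rU e heU) (h.K1 e he) (h.Kr e he)
    (fun x hx => by rw [h.rN x (h.TN e he hx), mul_inv_cancel_right]) (h.Tc e he)
    (fun v hv => h.Uc v (hW hv) r h.rU) (fun v hv => h.Uc v (hW hv) e heU)
    (fun x hx v hv => h.com e he x hx v (hW hv))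
  -- the two kernels
  have k1 : Nat.card {v : W // ∀ x : T e, Fx r (x : G) (v : G)} = Nat.card (W ⊓ h.X e : Subgroup G) := by
    refine Nat.card_congr ⟨fun v => ⟨v.1, v.1.2, (h.mem_X' he).mpr ⟨hW v.1.2, fun x hx => v.2 ⟨x, hx⟩⟩⟩,
      fun v => ⟨⟨v, v.2.1⟩, fun x => ((h.mem_X' he).mp v.2.2).2 x x.2⟩, fun _ => rfl, fun _ => rfl⟩
  have k2 : Nat.card (T e ⊓ centralizer {c} : Subgroup G) ≤ Nat.card {x : T e // ∀ v : W, Fx r (x : G) (v : G)} := by
    refine Nat.card_le_card_of_injective (fun x : (T e ⊓ centralizer {c} : Subgroup G) =>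
      (⟨⟨x, x.2.1⟩, fun v => h1 x x.2.1 (by
        rw [mul_inv_eq_iff_eq_mul]
        exact mem_centralizer_singleton_iff.mp x.2.2) v v.2⟩ :
        {x : T e // ∀ v : W, Fx r (x : G) (v : G)})) fun x y hxy => ?_
    exact Subtype.ext (congrArg (fun z => ((z.1 : T e) : G)) hxy)
  have k3 : Nat.card (T e) ≤ 4 * Nat.card (T e ⊓ centralizer {c} : Subgroup G) := by
    refine orbit4 (p := c) (q := c * r) (s := c * e) (t := c * (e * r)) fun x hx => ?_
    rcases h.com e he x hx c (h.KU c hc) with (h3 | h3) | h3 | h3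
    · exact Or.inl h3
    · exact Or.inr (Or.inl h3)
    · exact Or.inr (Or.inr (Or.inl h3))
    · exact Or.inr (Or.inr (Or.inr h3))
  rw [k1] at key
  set t := Nat.card (T e)
  set y := Nat.card (W ⊓ h.X e : Subgroup G)
  set w := Nat.card W
  set z := Nat.card {x : T e // ∀ v : W, Fx r (x : G) (v : G)}
  have hz : 0 < z := lt_of_lt_of_le Nat.card_pos k2
  have k4 : t ≤ 4 * z := k3.trans (Nat.mul_le_mul_left _ k2)
  have k5 : w * z ≤ 4 * y * z := by
    rw [← key]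
    calc t * y ≤ 4 * z * y := Nat.mul_le_mul_right _ k4
      _ = 4 * y * z := by ring
  exact Nat.le_of_mul_le_mul_right k5 hz

end Ab

theorem fx_mul {r x u v : G} (hr : r * r = 1) (hv : v * r = r * v) (h1 : Fx r x u) (h2 : Fx r x v) :
    Fx r x (u * v) := by
  have e : x * (u * v) * x⁻¹ = (x * u * x⁻¹) * (x * v * x⁻¹) := by group
  unfold Fx
  rw [e]
  rcases h1 with h1 | h1 <;> rcases h2 with h2 | h2 <;> rw [h1, h2]
  · exact Or.inl rfl
  · exact Or.inr (mul_assoc _ _ _).symm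
  · exact Or.inr (by rw [mul_assoc, ← hv, mul_assoc])
  · exact Or.inl (by rw [mul_assoc, ← mul_assoc r, ← hv, mul_assoc v, hr, mul_one])

theorem fx_inv {r x u : G} (hr : r * r = 1) (hx : x * r * x⁻¹ = r) (h1 : Fx r x u) : Fx r x⁻¹ u := by
  have hr' : r⁻¹ = r := inv_eq_of_mul_eq_one_left hr
  have hx' : x⁻¹ * r * x = r := by
    calc x⁻¹ * r * x = x⁻¹ * (x * r * x⁻¹) * x := by rw [hx]
      _ = r := by group
  unfold Fx
  rcases h1 with h1 | h1
  · left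
    calc x⁻¹ * u * x⁻¹⁻¹ = x⁻¹ * (x * u * x⁻¹) * x := by rw [h1]; group
      _ = u := by group
  · right
    have h2 : u = x⁻¹ * u * x * r := by
      calc u = x⁻¹ * (x * u * x⁻¹) * x := by group
        _ = x⁻¹ * u * x * (x⁻¹ * r * x) := by rw [h1]; group
        _ = _ := by rw [hx']
    rw [inv_inv]
    calc x⁻¹ * u * x = x⁻¹ * u * x * r * r⁻¹ := by group
      _ = u * r := by rw [← h2, hr']

/-! ### Labels -/

variable {n : ℕ}

/-- four different labels -/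
structure Di (a b c d : Fin n) : Prop where
  ab : a ≠ b
  ac : a ≠ c
  ad : a ≠ d
  bc : b ≠ c
  bd : b ≠ d
  cd : c ≠ d

theorem Di.sw {a b c d : Fin n} (h : Di a b c d) : Di c d a b :=
  ⟨h.cd, h.ac.symm, h.bc.symm, h.ad.symm, h.bd.symm, h.ab⟩

theorem exists_perm4 {a b c d a' b' c' d' : Fin n} (h : Di a b c d) (h' : Di a' b' c' d') :
    ∃ σ : Equiv.Perm (Fin n), σ a = a' ∧ σ b = b' ∧ σ c = c' ∧ σ d = d' := by
  obtain ⟨σ, h1, h2, -⟩ := exists_perm h.ab h'.ab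
  have h3 : σ c ≠ σ d := fun h0 => h.cd (σ.injective h0)
  obtain ⟨τ, h4, h5, h6⟩ := exists_perm h3 h'.cd
  refine ⟨τ * σ, ?_, ?_, h4, h5⟩
  · rw [Equiv.Perm.mul_apply, h1]
    refine h6 _ ?_ ?_ h'.ac h'.ad
    · rw [← h1]; exact fun h0 => h.ac (σ.injective h0)
    · rw [← h1]; exact fun h0 => h.ad (σ.injective h0)
  · rw [Equiv.Perm.mul_apply, h2]
    refine h6 _ ?_ ?_ h'.bc h'.bd
    · rw [← h2]; exact fun h0 => h.bc (σ.injective h0)
    · rw [← h2]; exact fun h0 => h.bd (σ.injective h0)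

/-- an equivalence relation on at least 5 labels, not everything, with a class of at least 2 elements -/
theorem comb (hn : 7 ≤ n) {a b : Fin n} {E : Fin n → Fin n → Prop} (hs : ∀ i j, E i j → E j i)
    (ht : ∀ i j k, E i j → E j k → E i k) {c d : Fin n} (hd : Di a b c d) (hcd : ¬ E c d)
    {p q : Fin n} (hpq : Di a b p q) (hE : E p q) :
    ∃ i j k l : Fin n, Di a b i j ∧ Di i j k l ∧ Di a b k l ∧ E i j ∧ ¬ E j k ∧ ¬ E k l := by
  obtain ⟨s, hsa, hsb, hqs⟩ : ∃ s, a ≠ s ∧ b ≠ s ∧ ¬ E q s := by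
    by_contra h0
    push Not at h0
    exact hcd (ht c q d (hs _ _ (h0 c hd.ac hd.bc)) (h0 d hd.ad hd.bd))
  have hps : ¬ E p s := fun h0 => hqs (ht _ _ _ (hs _ _ hE) h0)
  have hqs' : q ≠ s := fun h0 => hps (h0 ▸ hE)
  have hps' : p ≠ s := fun h0 => hqs (h0 ▸ hs _ _ hE)
  -- two more labels
  obtain ⟨t, t', htt, h1, h2⟩ : ∃ t t' : Fin n, t ≠ t' ∧ (t ≠ a ∧ t ≠ b ∧ t ≠ p ∧ t ≠ q ∧ t ≠ s) ∧
      (t' ≠ a ∧ t' ≠ b ∧ t' ≠ p ∧ t' ≠ q ∧ t' ≠ s) := by
    have hc : 1 < (Finset.univ \ ({a, b, p, q, s} : Finset (Fin n))).card := by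
      have h3 := Finset.card_le_five (a := a) (b := b) (c := p) (d := q) (e := s)
      have h4 := Finset.le_card_sdiff ({a, b, p, q, s} : Finset (Fin n)) Finset.univ
      rw [Finset.card_univ, Fintype.card_fin] at h4
      omega
    obtain ⟨t, h3, t', h4, h5⟩ := Finset.one_lt_card.mp hc
    simp only [Finset.mem_sdiff, Finset.mem_univ, true_and, Finset.mem_insert, Finset.mem_singleton,
      not_or] at h3 h4
    exact ⟨t, t', h5, h3, h4⟩
  by_cases h3 : E s t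
  · by_cases h4 : E s t'
    · refine ⟨s, t, p, t', ⟨hpq.ab, hsa, h1.1.symm, hsb, h1.2.1.symm, h1.2.2.2.2.symm⟩,
        ⟨h1.2.2.2.2.symm, hps'.symm, h2.2.2.2.2.symm, h1.2.2.1, htt, h2.2.2.1.symm⟩,
        ⟨hpq.ab, hpq.ac, h2.1.symm, hpq.bc, h2.2.1.symm, h2.2.2.1.symm⟩, h3, ?_, ?_⟩
      · exact fun h5 => hps (hs _ _ (ht _ _ _ h3 h5))
      · exact fun h5 => hps (ht _ _ _ h5 (hs _ _ h4))
    · exact ⟨p, q, s, t', hpq, ⟨hpq.cd, hps', h2.2.2.1.symm, hqs', h2.2.2.2.1.symm, h2.2.2.2.2.symm⟩,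
        ⟨hpq.ab, hsa, h2.1.symm, hsb, h2.2.1.symm, h2.2.2.2.2.symm⟩, hE, hqs, h4⟩
  · exact ⟨p, q, s, t, hpq, ⟨hpq.cd, hps', h1.2.2.1.symm, hqs', h1.2.2.2.1.symm, h1.2.2.2.2.symm⟩,
      ⟨hpq.ab, hsa, h1.1.symm, hsb, h1.2.1.symm, h1.2.2.2.2.symm⟩, hE, hqs, h3⟩

/-- five labels -/
theorem five (hn : 7 ≤ n) (a b : Fin n) : ∃ f : Fin 5 → Fin n, Function.Injective f ∧ ∀ k, a ≠ f k ∧ b ≠ f k := by
  have hc : 5 ≤ (Finset.univ \ ({a, b} : Finset (Fin n))).card := by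
    have h3 := Finset.card_le_two (a := a) (b := b)
    have h4 := Finset.le_card_sdiff ({a, b} : Finset (Fin n)) Finset.univ
    rw [Finset.card_univ, Fintype.card_fin] at h4
    omega
  obtain ⟨s, hs, hs5⟩ := Finset.exists_subset_card_eq hc
  refine ⟨fun k => (s.orderEmbOfFin hs5 k : Fin n), (s.orderEmbOfFin hs5).injective, fun k => ?_⟩
  have h1 := hs (s.orderEmbOfFin_mem hs5 k)
  simp only [Finset.mem_sdiff, Finset.mem_univ, true_and, Finset.mem_insert, Finset.mem_singleton, not_or] at h1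
  exact ⟨Ne.symm h1.1, Ne.symm h1.2⟩

/-! ### The frame -/

/-- the input -/
structure Fs (V : Subgroup G) (ε : (Fin n → ZMod 2) → G) (Q : Fin n → Fin n → Subgroup G) : Prop where
  ev : EvenSet n V (normalizer (V : Set G)) ε
  uc : ∀ {i j}, i ≠ j → ∀ u ∈ UU ε i j, ∀ v ∈ V, u * v = v * u
  ua : ∀ {i j}, i ≠ j → ∀ u ∈ UU ε i j, ∀ v ∈ UU ε i j, u * v = v * u
  qn : ∀ {i j}, i ≠ j → ∀ g ∈ NN ε i j, ∀ x ∈ Q i j, g * x * g⁻¹ ∈ Q i j
  qc : ∀ {g : G} {σ : Equiv.Perm (Fin n)}, Acts ε g σ → ∀ {i j}, i ≠ j → ∀ x ∈ Q i j,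
    g * x * g⁻¹ ∈ Q (σ i) (σ j)
  act : ∀ {i j}, i ≠ j → ∀ q ∈ Q i j, Acts ε q 1 ∨ Acts ε q (Equiv.swap i j)
  mov : ∀ {i j}, i ≠ j → ∃ q ∈ Q i j, Acts ε q (Equiv.swap i j)

/-- `[U_ab, U_cd] ≤ ⟨r_ab, r_cd⟩` -/
def Br (ε : (Fin n → ZMod 2) → G) (a b c d : Fin n) : Prop :=
  ∀ u ∈ UU ε a b, ∀ x ∈ UU ε c d, Fx (rr ε a b) x u ∨ x * u * x⁻¹ = u * rr ε c d ∨
    x * u * x⁻¹ = u * (rr ε c d * rr ε a b)

/-- `U_e`, `e` conjugate to `r_ij` -/
def Tt (ε : (Fin n → ZMod 2) → G) (e : G) : Subgroup G :=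
  closure {x | ∃ (h : G) (i j : Fin n), i ≠ j ∧ e = h * rr ε i j * h⁻¹ ∧ h⁻¹ * x * h ∈ UU ε i j}

/-- the conjugates of the pairs off `a`, `b` under `N_ab` -/
def Kc (ε : (Fin n → ZMod 2) → G) (a b : Fin n) : Set G :=
  {e | ∃ g ∈ NN ε a b, ∃ i j, Di a b i j ∧ e = g * rr ε i j * g⁻¹}

theorem Tt_conj {ε : (Fin n → ZMod 2) → G} {g e x : G} (hx : x ∈ Tt ε e) :
    g * x * g⁻¹ ∈ Tt ε (g * e * g⁻¹) := by
  unfold Tt at hx ⊢
  induction hx using closure_induction with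
  | mem x hx =>
    obtain ⟨h, i, j, hij, he, hx⟩ := hx
    refine subset_closure ⟨g * h, i, j, hij, ?_, ?_⟩
    · rw [he]; group
    · have : (g * h)⁻¹ * (g * x * g⁻¹) * (g * h) = h⁻¹ * x * h := by group
      rwa [this]
  | one => rw [mul_one, mul_inv_cancel]; exact one_mem _
  | mul x y _ _ hx hy =>
    have : g * (x * y) * g⁻¹ = (g * x * g⁻¹) * (g * y * g⁻¹) := by group
    rw [this]; exact mul_mem hx hy
  | inv x _ hx =>
    have : g * x⁻¹ * g⁻¹ = (g * x * g⁻¹)⁻¹ := by group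
    rw [this]; exact inv_mem hx

theorem cj_UU {ε : (Fin n → ZMod 2) → G} {i j : Fin n} {m x : G} (hm : m * rr ε i j * m⁻¹ = rr ε i j)
    (hx : x ∈ UU ε i j) : m * x * m⁻¹ ∈ UU ε i j := UU_normal (mem_NN'.mpr hm) hx

/-- `V` by induction -/
theorem V_induct {V L : Subgroup G} {ε : (Fin n → ZMod 2) → G} (h : EvenSet n V L ε) (P : G → Prop) (h1 : P 1)
    (hz : ∀ k v, v ∈ V → P v → P (zz ε k * v)) : ∀ v ∈ V, P v := by
  classical
  have key : ∀ s : Finset (Fin n), P (ε (∑ k ∈ s, Pi.single k 1)) := by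
    intro s
    induction s using Finset.induction_on with
    | empty => rw [Finset.sum_empty, h.zero]; exact h1
    | insert k s hk ih =>
      rw [Finset.sum_insert hk, h.add]
      exact hz k _ (h.mem _) ih
  intro v hv
  obtain ⟨x, rfl⟩ := h.surj v hv
  have h2 : x = ∑ k ∈ Finset.univ.filter (fun k => x k = 1), Pi.single k 1 := by
    funext i
    rw [Finset.sum_apply]
    by_cases hi : x i = 1
    · rw [Finset.sum_eq_single i]
      · rw [Pi.single_eq_same, hi]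
      · intro k _ hk
        exact Pi.single_eq_of_ne hk.symm _
      · intro h0
        simp [hi] at h0
    · rw [Finset.sum_eq_zero]
      · have : ∀ a : ZMod 2, a ≠ 1 → a = 0 := by decide
        exact this _ hi
      · intro k hk
        rw [Finset.mem_filter] at hk
        refine Pi.single_eq_of_ne ?_ _
        rintro rfl
        exact hi hk.2
  rw [h2]
  exact key _

namespace Fs

variable {V : Subgroup G} {ε : (Fin n → ZMod 2) → G} {Q : Fin n → Fin n → Subgroup G} (F : Fs V ε Q)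
include F

theorem mem_Tt {i j : Fin n} (hij : i ≠ j) {h x : G} :
    x ∈ Tt ε (h * rr ε i j * h⁻¹) ↔ h⁻¹ * x * h ∈ UU ε i j := by
  constructor
  · intro hx
    unfold Tt at hx
    induction hx using closure_induction with
    | mem x hx =>
      obtain ⟨h', i', j', hij', he, hx⟩ := hx
      obtain ⟨σ, h1, h2, -⟩ := exists_perm hij' hij
      obtain ⟨l, -, hl⟩ := F.ev.full σ
      have h3 := UU_conj hl hx
      have h4 := rr_conj hl i' j'
      rw [h1, h2] at h3 h4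
      have h5 : (h⁻¹ * h' * l⁻¹) * rr ε i j * (h⁻¹ * h' * l⁻¹)⁻¹ = rr ε i j := by
        calc (h⁻¹ * h' * l⁻¹) * rr ε i j * (h⁻¹ * h' * l⁻¹)⁻¹
            = h⁻¹ * (h' * (l⁻¹ * (l * rr ε i' j' * l⁻¹) * l) * h'⁻¹) * h := by rw [h4]; group
          _ = h⁻¹ * (h' * rr ε i' j' * h'⁻¹) * h := by group
          _ = h⁻¹ * (h * rr ε i j * h⁻¹) * h := by rw [he]
          _ = _ := by group
      have h6 := cj_UU h5 h3
      have h7 : (h⁻¹ * h' * l⁻¹) * (l * (h'⁻¹ * x * h') * l⁻¹) * (h⁻¹ * h' * l⁻¹)⁻¹ = h⁻¹ * x * h := by group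
      rwa [h7] at h6
    | one => rw [mul_one, inv_mul_cancel]; exact one_mem _
    | mul x y _ _ hx hy =>
      have : h⁻¹ * (x * y) * h = (h⁻¹ * x * h) * (h⁻¹ * y * h) := by group
      rw [this]; exact mul_mem hx hy
    | inv x _ hx =>
      have : h⁻¹ * x⁻¹ * h = (h⁻¹ * x * h)⁻¹ := by group
      rw [this]; exact inv_mem hx
  · intro hx
    exact subset_closure ⟨h, i, j, hij, rfl, hx⟩

theorem mem_Tt' {i j : Fin n} (hij : i ≠ j) {x : G} : x ∈ Tt ε (rr ε i j) ↔ x ∈ UU ε i j := by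
  have h1 := F.mem_Tt hij (h := 1) (x := x)
  have e1 : (1 : G) * rr ε i j * 1⁻¹ = rr ε i j := by group
  have e2 : (1 : G)⁻¹ * x * 1 = x := by group
  rwa [e1, e2] at h1

theorem UU_le_NN {i j a b : Fin n} (hij : i ≠ j) {u : G} (hu : u ∈ UU ε i j) : u ∈ NN ε a b :=
  mem_NN.mpr (F.uc hij u hu _ (rr_mem F.ev a b))

theorem br_conj {a b c d a' b' c' d' : Fin n} (h : Di a b c d) (h' : Di a' b' c' d') (hb : Br ε a b c d) :
    Br ε a' b' c' d' := by
  obtain ⟨σ, h1, h2, h3, h4⟩ := exists_perm4 h' h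
  obtain ⟨l, -, hl⟩ := F.ev.full σ
  intro u hu x hx
  have h5 := UU_conj hl hu
  have h6 := UU_conj hl hx
  have r1 := rr_conj hl a' b'
  have r2 := rr_conj hl c' d'
  rw [h1, h2] at h5 r1
  rw [h3, h4] at h6 r2
  have h7 := hb _ h5 _ h6
  have e1 : l * x * l⁻¹ * (l * u * l⁻¹) * (l * x * l⁻¹)⁻¹ = l * (x * u * x⁻¹) * l⁻¹ := by group
  unfold Fx at h7 ⊢
  rw [e1, ← r1, ← r2] at h7
  rcases h7 with (h7 | h7) | h7 | h7
  · exact Or.inl (Or.inl (mul_left_cancel (mul_right_cancel h7)))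
  · refine Or.inl (Or.inr (mul_left_cancel (mul_right_cancel (b := l⁻¹) (a := l * (x * u * x⁻¹)) (c := l * (u * rr ε a' b')) ?_)))
    rw [h7]; group
  · refine Or.inr (Or.inl (mul_left_cancel (mul_right_cancel (b := l⁻¹) (a := l * (x * u * x⁻¹)) (c := l * (u * rr ε c' d')) ?_)))
    rw [h7]; group
  · refine Or.inr (Or.inr (mul_left_cancel (mul_right_cancel (b := l⁻¹) (a := l * (x * u * x⁻¹)) (c := l * (u * (rr ε c' d' * rr ε a' b'))) ?_)))
    rw [h7]; group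

/-- elements of `Q c d` act on `V` modulo `⟨r_cd⟩` trivially -/
theorem act_mod {c d : Fin n} (hcd : c ≠ d) {w : G} (hw : w ∈ Q c d) : ∀ v ∈ V, Fx (rr ε c d) w v := by
  have hrV := rr_mem F.ev c d
  refine V_induct F.ev _ (Or.inl (by group)) fun k v hv h1 =>
    fx_mul (rr_sq F.ev c d) (F.ev.comm_mem hv hrV) ?_ h1
  rcases F.act hcd w hw with h2 | h2
  · exact Or.inl (zz_conj h2 k)
  · have h3 := zz_conj h2 k
    by_cases hk : k = c
    · subst hk
      rw [Equiv.swap_apply_left] at h3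
      right
      rw [h3]
      unfold rr
      rw [← mul_assoc, zz_sq F.ev, one_mul]
    · by_cases hk' : k = d
      · subst hk'
        rw [Equiv.swap_apply_right] at h3
        right
        rw [h3]
        unfold rr
        rw [zz_comm F.ev c k, ← mul_assoc, zz_sq F.ev, one_mul]
      · rw [Equiv.swap_apply_of_ne_of_ne hk hk'] at h3
        exact Or.inl h3

/-- half of (1) -/
theorem half {a b c d : Fin n} (hcd : c ≠ d) {x : G} (hxN : x ∈ NN ε a b)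
    (hx : ∀ k, k ≠ a → k ≠ b → Fx (rr ε a b) x (zz ε k)) {w : G} (hw : w ∈ Q c d) {k : Fin n} (hka : k ≠ a)
    (hkb : k ≠ b) : Fx (x * rr ε c d * x⁻¹) (x * w * x⁻¹) (zz ε k) := by
  have h1 := fx_inv (rr_sq F.ev a b) (mem_NN'.mp hxN) (hx k hka hkb)
  have h2 : x⁻¹ * zz ε k * x ∈ V := by
    rcases h1 with h1 | h1
    · rw [inv_inv] at h1; rw [h1]; exact zz_mem F.ev k
    · rw [inv_inv] at h1; rw [h1]; exact V.mul_mem (zz_mem F.ev k) (rr_mem F.ev a b)
  have e1 : x * w * x⁻¹ * zz ε k * (x * w * x⁻¹)⁻¹ = x * (w * (x⁻¹ * zz ε k * x) * w⁻¹) * x⁻¹ := by group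
  rcases F.act_mod hcd hw _ h2 with h3 | h3
  · left
    rw [e1, h3]; group
  · right
    rw [e1, h3]; group

omit F in
theorem weight (hn : 7 ≤ n) {L : Subgroup G} (ev : EvenSet n V L ε) {a b c d : Fin n} (h : Di a b c d)
    (m m' : Fin n) : zz ε m * zz ε m' ≠ rr ε a b * rr ε c d := by
  intro h0
  have h1 : ε (Pi.single m 1 + Pi.single m' 1) = ε (Pi.single a 1 + Pi.single b 1 + (Pi.single c 1 + Pi.single d 1)) := by
    rw [ev.add, ev.add, ev.add, ev.add]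
    exact h0
  have hval : ∀ x : Fin n, (Pi.single a 1 + Pi.single b 1 + (Pi.single c 1 + Pi.single d 1) : Fin n → ZMod 2) x =
      if x = a ∨ x = b ∨ x = c ∨ x = d then 1 else 0 := by
    intro x
    simp only [Pi.add_apply, Pi.single_apply]
    by_cases ha : x = a
    · subst ha
      rw [if_pos rfl, if_neg h.ab, if_neg h.ac, if_neg h.ad, if_pos (Or.inl rfl)]
      decide
    by_cases hb : x = b
    · subst hb
      rw [if_neg ha, if_pos rfl, if_neg h.bc, if_neg h.bd, if_pos (Or.inr (Or.inl rfl))]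
      decide
    by_cases hc : x = c
    · subst hc
      rw [if_neg ha, if_neg hb, if_pos rfl, if_neg h.cd, if_pos (Or.inr (Or.inr (Or.inl rfl)))]
      decide
    by_cases hd : x = d
    · subst hd
      rw [if_neg ha, if_neg hb, if_neg hc, if_pos rfl, if_pos (Or.inr (Or.inr (Or.inr rfl)))]
      decide
    · rw [if_neg ha, if_neg hb, if_neg hc, if_neg hd, if_neg (by tauto)]
      decide
  have hval' : ∀ x : Fin n, x ≠ m → x ≠ m' → (Pi.single m 1 + Pi.single m' 1 : Fin n → ZMod 2) x = 0 := by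
    intro x h1 h2
    rw [Pi.add_apply, Pi.single_eq_of_ne h1, Pi.single_eq_of_ne h2, add_zero]
  rcases ev.eq_iff.mp h1 with h2 | h2
  · -- one of `a b c d` is not `m`, `m'`
    obtain ⟨x, hx, hx'⟩ := Finset.exists_mem_notMem_of_card_lt_card (s := ({m, m'} : Finset (Fin n)))
      (t := ({a, b, c, d} : Finset (Fin n))) (by
        have h3 : ({a, b, c, d} : Finset (Fin n)).card = 4 := by
          rw [Finset.card_insert_of_notMem, Finset.card_insert_of_notMem, Finset.card_pair h.cd]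
          · simp [h.bc, h.bd]
          · simp [h.ab, h.ac, h.ad]
        rw [h3]
        exact lt_of_le_of_lt Finset.card_le_two (by norm_num))
    simp only [Finset.mem_insert, Finset.mem_singleton, not_or] at hx hx'
    have h3 := congrFun h2 x
    rw [hval' x hx'.1 hx'.2, hval x, if_pos hx] at h3
    exact zero_ne_one h3
  · -- a label outside
    obtain ⟨x, -, hx'⟩ := Finset.exists_mem_notMem_of_card_lt_card (s := ({m, m', a, b, c, d} : Finset (Fin n)))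
      (t := Finset.univ) (by
        rw [Finset.card_univ, Fintype.card_fin]
        exact lt_of_le_of_lt Finset.card_le_six (by omega))
    simp only [Finset.mem_insert, Finset.mem_singleton, not_or] at hx'
    have h3 := congrFun h2 x
    rw [hval' x hx'.1 hx'.2.1, Pi.add_apply, hval x, if_neg (by tauto), zero_add, Pi.one_apply] at h3
    exact zero_ne_one h3

/-- **(1)** -/
theorem one (hn : 7 ≤ n) {a b c d : Fin n} (h : Di a b c d) {x : G} (hxN : x ∈ NN ε a b)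
    (hx : ∀ k, k ≠ a → k ≠ b → Fx (rr ε a b) x (zz ε k)) : x * rr ε c d * x⁻¹ ≠ rr ε c d * rr ε a b := by
  intro h0
  obtain ⟨σ, s1, s2, s3, s4⟩ := exists_perm4 h h.sw
  obtain ⟨l, -, hl⟩ := F.ev.full σ
  have r1 := rr_conj hl a b
  have r2 := rr_conj hl c d
  rw [s1, s2] at r1
  rw [s3, s4] at r2
  obtain ⟨w, hw, hwA⟩ := F.mov h.cd
  -- `x' = l x l⁻¹`
  set x' := l * x * l⁻¹ with hx'
  have hx'N : x' ∈ NN ε c d := by
    have := conj_NN hl hxN
    rwa [s1, s2] at this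
  have h0' : x' * rr ε a b * x'⁻¹ = rr ε c d * rr ε a b := by
    calc x' * rr ε a b * x'⁻¹ = l * x * (l⁻¹ * rr ε a b * l) * x⁻¹ * l⁻¹ := by rw [hx']; group
      _ = l * x * (l⁻¹ * (l * rr ε c d * l⁻¹) * l) * x⁻¹ * l⁻¹ := by rw [r2]
      _ = l * (x * rr ε c d * x⁻¹) * l⁻¹ := by group
      _ = (l * rr ε c d * l⁻¹) * (l * rr ε a b * l⁻¹) := by rw [h0]; group
      _ = rr ε a b * rr ε c d := by rw [r1, r2]
      _ = _ := F.ev.comm_mem (rr_mem F.ev a b) (rr_mem F.ev c d)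
  have hx'V : ∀ k, k ≠ c → k ≠ d → Fx (rr ε c d) x' (zz ε k) := by
    intro k hkc hkd
    have e1 := zz_conj hl (σ⁻¹ k)
    have e2 : σ (σ⁻¹ k) = k := σ.apply_symm_apply k
    rw [e2] at e1
    have h1 := hx (σ⁻¹ k) (fun h5 => hkc (by rw [← e2, h5, s1])) (fun h5 => hkd (by rw [← e2, h5, s2]))
    rw [← e1]
    unfold Fx
    have e3 : x' * (l * zz ε (σ⁻¹ k) * l⁻¹) * x'⁻¹ = l * (x * zz ε (σ⁻¹ k) * x⁻¹) * l⁻¹ := by rw [hx']; group
    rw [e3]
    rcases h1 with h1 | h1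
    · left; rw [h1]
    · right; rw [h1, ← r1]; group
  -- `w' ∈ Q a b` with `x w x⁻¹ = x' w' x'⁻¹`
  obtain ⟨w', hw', he⟩ : ∃ w' ∈ Q a b, x * w * x⁻¹ = x' * w' * x'⁻¹ := by
    refine ⟨x'⁻¹ * x * w * (x'⁻¹ * x)⁻¹, ?_, by group⟩
    -- `m = l x'⁻¹ x` is in `NN c d`
    have h1 : (l * x'⁻¹ * x) * rr ε c d * (l * x'⁻¹ * x)⁻¹ = rr ε c d := by
      calc (l * x'⁻¹ * x) * rr ε c d * (l * x'⁻¹ * x)⁻¹ = l * (x'⁻¹ * (x * rr ε c d * x⁻¹) * x') * l⁻¹ := by group
        _ = l * (x'⁻¹ * (x' * rr ε a b * x'⁻¹) * x') * l⁻¹ := by rw [h0, h0']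
        _ = l * rr ε a b * l⁻¹ := by group
        _ = _ := r1
    have h2 := F.qn h.cd _ (mem_NN'.mpr h1) w hw
    have h3 := F.qc hl.inv h.cd _ h2
    have e1 : σ⁻¹ c = a := by rw [← s1]; exact σ.symm_apply_apply a
    have e2 : σ⁻¹ d = b := by rw [← s2]; exact σ.symm_apply_apply b
    rw [e1, e2] at h3
    have e3 : l⁻¹ * (l * x'⁻¹ * x * w * (l * x'⁻¹ * x)⁻¹) * l⁻¹⁻¹ = x'⁻¹ * x * w * (x'⁻¹ * x)⁻¹ := by group
    rwa [e3] at h3
  set q := x * w * x⁻¹ with hq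
  set y := rr ε c d * rr ε a b with hy
  have hyV : y ∈ V := V.mul_mem (rr_mem F.ev c d) (rr_mem F.ev a b)
  -- `q` acts on `V` modulo `⟨y⟩` trivially
  have hqz : ∀ k, Fx y q (zz ε k) := by
    intro k
    by_cases hk : k ≠ a ∧ k ≠ b
    · have h1 := F.half h.cd hxN hx hw hk.1 hk.2
      rwa [h0] at h1
    · have hk' : k ≠ c ∧ k ≠ d := by
        constructor
        · rintro rfl; exact hk ⟨h.ac.symm, h.bc.symm⟩
        · rintro rfl; exact hk ⟨h.ad.symm, h.bd.symm⟩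
      have h1 := F.half h.ab hx'N hx'V hw' hk'.1 hk'.2
      rwa [h0', ← he] at h1
  have hqV : ∀ v ∈ V, Fx y q v := V_induct F.ev _ (Or.inl (by group)) fun k v hv h1 =>
    fx_mul (F.ev.sq_mem hyV) (F.ev.comm_mem hv hyV) (hqz k) h1
  have hqy : q * y * q⁻¹ = y := by
    rcases hqV y hyV with h1 | h1
    · exact h1
    · rw [F.ev.sq_mem hyV] at h1
      have h2 : y = 1 := by
        calc y = q⁻¹ * (q * y * q⁻¹) * q := by group
          _ = 1 := by rw [h1]; group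
      rw [h2]; group
  have hqN : q ∈ normalizer (V : Set G) := by
    rw [mem_normalizer_iff]
    have key : ∀ g : G, (∀ v ∈ V, Fx y g v) → ∀ v ∈ V, g * v * g⁻¹ ∈ V := by
      intro g hg v hv
      rcases hg v hv with h1 | h1 <;> rw [h1]
      · exact hv
      · exact V.mul_mem hv hyV
    refine fun v => ⟨key q hqV v, fun hv => ?_⟩
    have h1 := key q⁻¹ (fun v hv => fx_inv (F.ev.sq_mem hyV) hqy (hqV v hv)) _ hv
    have h2 : q⁻¹ * (q * v * q⁻¹) * q⁻¹⁻¹ = v := by group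
    rwa [h2] at h1
  obtain ⟨τ, hτ⟩ := F.ev.perm q hqN
  have hτ1 : ∀ k, τ k = k := by
    intro k
    by_contra hk
    have h1 := zz_conj hτ k
    rcases hqz k with h2 | h2
    · exact hk (F.ev.single_inj (by omega) (h1.symm.trans h2))
    · rw [h1] at h2
      apply weight hn F.ev h.sw k (τ k)
      rw [h2, ← mul_assoc, zz_sq F.ev, one_mul]
  have hqc : ∀ k, q * zz ε k * q⁻¹ = zz ε k := fun k => by rw [zz_conj hτ k, hτ1]
  have hqcV : ∀ v ∈ V, q * v * q⁻¹ = v := V_induct F.ev _ (by group) fun k v _ h1 => by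
    calc q * (zz ε k * v) * q⁻¹ = (q * zz ε k * q⁻¹) * (q * v * q⁻¹) := by group
      _ = _ := by rw [hqc, h1]
  -- but `w` moves `z_c`
  have h1 : x * zz ε c * x⁻¹ ∈ V := by
    rcases hx c h.ac.symm h.bc.symm with h1 | h1 <;> rw [h1]
    · exact zz_mem F.ev c
    · exact V.mul_mem (zz_mem F.ev c) (rr_mem F.ev a b)
  have h2 := hqcV _ h1
  have h3 : w * zz ε c * w⁻¹ = zz ε c := by
    calc w * zz ε c * w⁻¹ = x⁻¹ * (q * (x * zz ε c * x⁻¹) * q⁻¹) * x := by rw [hq]; group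
      _ = _ := by rw [h2]; group
  rw [zz_conj hwA, Equiv.swap_apply_left] at h3
  exact h.cd (F.ev.single_inj (by omega) h3).symm

omit F in
/-- the points off `a`, `b` are generated by `r_ab` and the pairs off `a`, `b` (`n` odd) -/
theorem gen (hodd : Odd n) {L : Subgroup G} (ev : EvenSet n V L ε) {a b : Fin n} (hab : a ≠ b) {H : Subgroup G}
    (h1 : rr ε a b ∈ H) (h2 : ∀ i j, Di a b i j → rr ε i j ∈ H) {k : Fin n} (hka : k ≠ a) (hkb : k ≠ b) :
    zz ε k ∈ H := by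
  have hp : ∀ i j, i ≠ a → i ≠ b → j ≠ a → j ≠ b → rr ε i j ∈ H := by
    intro i j i1 i2 j1 j2
    rcases eq_or_ne i j with rfl | hij
    · unfold rr
      rw [zz_sq ev]
      exact one_mem _
    · exact h2 i j ⟨hab, i1.symm, j1.symm, i2.symm, j2.symm, hij⟩
  have key := compl_rr ev hab (fun t x => if Even t then x ∈ H else zz ε k * x ∈ H)
    (by rw [if_pos (by decide : Even 0)]; exact one_mem _)
    (by
      intro m m1 m2 t x hx
      by_cases ht : Even t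
      · rw [if_pos ht] at hx
        rw [if_neg (by rw [Nat.even_add_one]; exact fun h0 => h0 ht), ← mul_assoc]
        exact H.mul_mem (hp k m hka hkb m1 m2) hx
      · rw [if_neg ht] at hx
        rw [if_pos (by rw [Nat.even_add_one]; exact ht)]
        have e : zz ε m * x = (zz ε m * zz ε k) * (zz ε k * x) := by
          rw [mul_assoc, ← mul_assoc (zz ε k), zz_sq ev, one_mul]
        rw [e]
        exact H.mul_mem (hp m k m1 m2 hka hkb) hx)
  have hn2 : ¬ Even (n - 2) := by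
    rw [Nat.not_even_iff_odd]
    obtain ⟨t, ht⟩ := hodd
    rcases t with _ | t
    · exfalso
      have h3 := a.2
      have h4 := b.2
      exact hab (Fin.ext (by omega))
    · exact ⟨t, by omega⟩
  rw [if_neg hn2] at key
  have e : zz ε k = (zz ε k * rr ε a b) * rr ε a b := by rw [mul_assoc, rr_sq ev, mul_one]
  rw [e]
  exact H.mul_mem key h1

/-- `U_ab` from `r_ab` and the conjugates of the pairs off `a`, `b` -/
theorem UU_gen (hodd : Odd n) {a b : Fin n} (hab : a ≠ b) {H : Subgroup G} (h1 : rr ε a b ∈ H)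
    (h2 : ∀ e ∈ Kc ε a b, e ∈ H) : UU ε a b ≤ H := by
  have h3 : ∀ g ∈ NN ε a b, ∀ k, k ≠ a → k ≠ b → g * zz ε k * g⁻¹ ∈ H := by
    intro g hg k hka hkb
    have h4 : zz ε k ∈ H.comap (MulAut.conj g).toMonoidHom := by
      refine gen hodd F.ev hab ?_ ?_ hka hkb
      · change g * rr ε a b * g⁻¹ ∈ H
        rw [mem_NN'.mp hg]
        exact h1
      · intro i j hd
        change g * rr ε i j * g⁻¹ ∈ H
        exact h2 _ ⟨g, hg, i, j, hd, rfl⟩
    exact h4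
  unfold UU
  rw [closure_le]
  rintro x ⟨g, hg, k, hka, hkb, rfl⟩
  exact h3 g hg k hka hkb

/-- **(2)** -/
theorem two (hn : 7 ≤ n) (hodd : Odd n) {a b : Fin n} (hab : a ≠ b) {x : G} (hxN : x ∈ NN ε a b)
    (hx : ∀ u ∈ UU ε a b, Fx (rr ε a b) x u) : ∀ u ∈ UU ε a b, x * u * x⁻¹ = u := by
  have h1 : UU ε a b ≤ centralizer ({x} : Set G) := by
    refine F.UU_gen hodd hab (mem_centralizer_singleton_iff.mpr (mem_NN.mp hxN).symm) ?_
    rintro e ⟨g, hg, i, j, hd, rfl⟩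
    rw [mem_centralizer_singleton_iff]
    have hu : g * rr ε i j * g⁻¹ ∈ UU ε a b :=
      UU_normal hg (rr_mem_UU hd.ac.symm hd.bc.symm hd.ad.symm hd.bd.symm)
    rcases hx _ hu with h2 | h2
    · rw [← mul_inv_eq_iff_eq_mul.mp h2]
    · exfalso
      have hx'N : g⁻¹ * x * g ∈ NN ε a b := mul_mem (mul_mem (inv_mem hg) hxN) hg
      refine F.one hn hd hx'N (fun k hka hkb => ?_) ?_
      · have h3 := hx _ (UU_normal hg (zz_mem_UU hka hkb))
        unfold Fx at h3 ⊢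
        have e1 : g⁻¹ * x * g * zz ε k * (g⁻¹ * x * g)⁻¹ = g⁻¹ * (x * (g * zz ε k * g⁻¹) * x⁻¹) * g := by group
        rw [e1]
        rcases h3 with h3 | h3
        · left; rw [h3]; group
        · right
          rw [h3]
          calc g⁻¹ * (g * zz ε k * g⁻¹ * rr ε a b) * g = zz ε k * (g⁻¹ * rr ε a b * g⁻¹⁻¹) := by group
            _ = _ := by rw [mem_NN'.mp (inv_mem hg)]
      · calc g⁻¹ * x * g * rr ε i j * (g⁻¹ * x * g)⁻¹ = g⁻¹ * (x * (g * rr ε i j * g⁻¹) * x⁻¹) * g := by group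
          _ = g⁻¹ * (g * rr ε i j * g⁻¹ * rr ε a b) * g := by rw [h2]
          _ = rr ε i j * (g⁻¹ * rr ε a b * g⁻¹⁻¹) := by group
          _ = _ := by rw [mem_NN'.mp (inv_mem hg)]
  intro u hu
  have h2 := mem_centralizer_singleton_iff.mp (h1 hu)
  rw [← h2, mul_inv_cancel_right]

/-- **(2')** -/
theorem two' [Finite G] (hn : 7 ≤ n) (hodd : Odd n) {a b c d : Fin n} (h : Di a b c d) (hb : Br ε a b c d) {u : G}
    (hu : u ∈ UU ε a b) (hx : ∀ x ∈ UU ε c d, Fx (rr ε a b) x u) : ∀ x ∈ UU ε c d, x * u * x⁻¹ = u := by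
  have hab := h.ab
  have hcd := h.cd
  have hrs := rr_sq F.ev a b
  have hes := rr_sq F.ev c d
  have hre : rr ε a b * rr ε c d = rr ε c d * rr ε a b := F.ev.comm_mem (rr_mem F.ev a b) (rr_mem F.ev c d)
  have he1 : rr ε c d ≠ 1 := rr_ne_one F.ev (by omega) hcd
  have her : rr ε c d ≠ rr ε a b := by
    intro h0
    refine weight hn F.ev h a a ?_
    rw [h0, zz_sq F.ev, rr_sq F.ev]
  have key := pair_count (T := UU ε c d) (W := UU ε a b) hrs hes hre he1 her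
    (fun x hx => by rw [F.uc hcd x hx _ (rr_mem F.ev a b), mul_inv_cancel_right])
    (fun x hx => by rw [F.uc hcd x hx _ (rr_mem F.ev c d), mul_inv_cancel_right])
    (fun v hv => F.uc hab v hv _ (rr_mem F.ev a b)) (fun v hv => F.uc hab v hv _ (rr_mem F.ev c d))
    (fun x hx v hv => hb v hv x hx)
  -- the swap `12 ↔ 34`
  obtain ⟨σ, s1, s2, s3, s4⟩ := exists_perm4 h h.sw
  obtain ⟨l, -, hl⟩ := F.ev.full σ
  have m1 : ∀ v, v ∈ UU ε a b → l * v * l⁻¹ ∈ UU ε c d := fun v hv => by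
    have := UU_conj hl hv; rwa [s1, s2] at this
  have m2 : ∀ v, v ∈ UU ε c d → l * v * l⁻¹ ∈ UU ε a b := fun v hv => by
    have := UU_conj hl hv; rwa [s3, s4] at this
  have inj : ∀ v w : G, l * v * l⁻¹ = l * w * l⁻¹ → v = w := fun v w h0 => mul_left_cancel (mul_right_cancel h0)
  have c1 : Nat.card (UU ε a b) = Nat.card (UU ε c d) := le_antisymm
    (Nat.card_le_card_of_injective (fun v : UU ε a b => (⟨l * v * l⁻¹, m1 v v.2⟩ : UU ε c d))
      fun v w h0 => Subtype.ext (inj _ _ (congrArg Subtype.val h0)))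
    (Nat.card_le_card_of_injective (fun v : UU ε c d => (⟨l * v * l⁻¹, m2 v v.2⟩ : UU ε a b))
      fun v w h0 => Subtype.ext (inj _ _ (congrArg Subtype.val h0)))
  rw [c1] at key
  have key' := Nat.eq_of_mul_eq_mul_left Nat.card_pos key
  -- `C_U(A)` and `C_A(U)`
  set C1 : Subgroup G := UU ε a b ⊓ centralizer (UU ε c d : Set G) with hC1
  set C2 : Subgroup G := UU ε c d ⊓ centralizer (UU ε a b : Set G) with hC2
  have k2 : Nat.card {x : UU ε c d // ∀ v : UU ε a b, Fx (rr ε a b) (x : G) (v : G)} ≤ Nat.card C2 := by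
    refine Nat.card_le_card_of_injective (fun x => (⟨x.1, x.1.2, mem_centralizer_iff.mpr fun v hv => ?_⟩ : C2))
      fun x y h0 => Subtype.ext (Subtype.ext (congrArg (fun z : C2 => (z : G)) h0))
    have h3 := F.two hn hodd hab (F.UU_le_NN hcd x.1.2) (fun u hu => x.2 ⟨u, hu⟩) v hv
    exact (mul_inv_eq_iff_eq_mul.mp h3).symm
  have k3 : Nat.card C2 ≤ Nat.card C1 := by
    refine Nat.card_le_card_of_injective (fun x : C2 => (⟨l * x * l⁻¹, m2 _ x.2.1, mem_centralizer_iff.mpr fun v hv => ?_⟩ : C1))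
      fun x y h0 => Subtype.ext (inj _ _ (congrArg Subtype.val h0))
    have hl' : l⁻¹ * v * l⁻¹⁻¹ ∈ UU ε a b := by
      have := UU_conj hl.inv hv
      have e1 : σ⁻¹ c = a := by rw [← s1]; exact σ.symm_apply_apply a
      have e2 : σ⁻¹ d = b := by rw [← s2]; exact σ.symm_apply_apply b
      rwa [e1, e2] at this
    have h3 := mem_centralizer_iff.mp x.2.2 _ hl'
    calc v * (l * (x : G) * l⁻¹) = l * ((l⁻¹ * v * l⁻¹⁻¹) * x) * l⁻¹ := by group
      _ = l * (x * (l⁻¹ * v * l⁻¹⁻¹)) * l⁻¹ := by rw [h3]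
      _ = _ := by group
  -- so the right kernel is `C1`
  let R := {v : UU ε a b // ∀ x : UU ε c d, Fx (rr ε a b) (x : G) (v : G)}
  let ι : C1 → R := fun v => ⟨⟨v, v.2.1⟩, fun x => Or.inl (by
    rw [mul_inv_eq_iff_eq_mul]
    exact mem_centralizer_iff.mp v.2.2 x x.2)⟩
  have hι : Function.Injective ι := fun v w h0 => Subtype.ext (congrArg (fun z : R => ((z.1 : UU ε a b) : G)) h0)
  have hcard : Nat.card R ≤ Nat.card C1 := by
    calc Nat.card R = _ := key'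
      _ ≤ Nat.card C2 := k2
      _ ≤ _ := k3
  have hbij : Function.Bijective ι := by
    have h4 : Nat.card C1 = Nat.card R := le_antisymm (Nat.card_le_card_of_injective ι hι) hcard
    exact (Nat.bijective_iff_injective_and_card ι).mpr ⟨hι, h4⟩
  obtain ⟨v, hv⟩ := hbij.2 ⟨⟨u, hu⟩, fun x => hx x x.2⟩
  have hvu : (v : G) = u := congrArg (fun z : R => ((z.1 : UU ε a b) : G)) hv
  intro x hxU
  rw [mul_inv_eq_iff_eq_mul, ← hvu]
  exact mem_centralizer_iff.mp v.2.2 x hxU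

omit F in
theorem Kc_pair {a b c d : Fin n} (h : Di a b c d) : rr ε c d ∈ Kc ε a b :=
  ⟨1, one_mem _, c, d, h, by group⟩

/-- the abstract structure -/
theorem ab [Finite G] (hn : 7 ≤ n) (hodd : Odd n) {a b c d : Fin n} (h : Di a b c d) (hb : Br ε a b c d) :
    Ab (NN ε a b) (UU ε a b) (rr ε a b) (Kc ε a b) (Tt ε) where
  Un g hg u hu := UU_normal hg hu
  Uc := F.ua h.ab
  rN g hg := mem_NN.mp hg
  rs := rr_sq F.ev a b
  rU := rr_self_mem_UU F.ev h.ab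
  KU := by
    rintro e ⟨g, hg, i, j, hd, rfl⟩
    exact UU_normal hg (rr_mem_UU hd.ac.symm hd.bc.symm hd.ad.symm hd.bd.symm)
  K1 := by
    rintro e ⟨g, hg, i, j, hd, rfl⟩ h0
    exact rr_ne_one F.ev (by omega) hd.cd (by
      calc rr ε i j = g⁻¹ * (g * rr ε i j * g⁻¹) * g := by group
        _ = 1 := by rw [h0]; group)
  Kr := by
    rintro e ⟨g, hg, i, j, hd, rfl⟩ h0
    have h1 : rr ε i j = rr ε a b := by
      calc rr ε i j = g⁻¹ * (g * rr ε i j * g⁻¹) * g⁻¹⁻¹ := by group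
        _ = g⁻¹ * rr ε a b * g⁻¹⁻¹ := by rw [h0]
        _ = _ := mem_NN'.mp (inv_mem hg)
    refine weight hn F.ev hd a a ?_
    rw [h1, zz_sq F.ev, rr_sq F.ev]
  Ks := by
    rintro e ⟨g, hg, i, j, hd, rfl⟩
    calc g * rr ε i j * g⁻¹ * (g * rr ε i j * g⁻¹) = g * (rr ε i j * rr ε i j) * g⁻¹ := by group
      _ = 1 := by rw [rr_sq F.ev]; group
  TN := by
    rintro e ⟨g, hg, i, j, hd, rfl⟩ x hx
    have h1 := F.UU_le_NN (a := a) (b := b) hd.cd ((F.mem_Tt hd.cd).mp hx)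
    have h2 := mul_mem (mul_mem hg h1) (inv_mem hg)
    have e1 : g * (g⁻¹ * x * g) * g⁻¹ = x := by group
    rwa [e1] at h2
  Tc := by
    rintro e ⟨g, hg, i, j, hd, rfl⟩ x hx
    have h1 := F.uc hd.cd _ ((F.mem_Tt hd.cd).mp hx) _ (rr_mem F.ev i j)
    calc x * (g * rr ε i j * g⁻¹) * x⁻¹ = g * ((g⁻¹ * x * g) * rr ε i j) * (g⁻¹ * x * g)⁻¹ * g⁻¹ := by group
      _ = g * (rr ε i j * (g⁻¹ * x * g)) * (g⁻¹ * x * g)⁻¹ * g⁻¹ := by rw [h1]
      _ = _ := by group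
  com := by
    rintro e ⟨g, hg, i, j, hd, rfl⟩ x hx u hu
    have h1 := (F.mem_Tt hd.cd).mp hx
    have h2 : g⁻¹ * u * g ∈ UU ε a b := by
      have := UU_normal (inv_mem hg) hu
      rwa [inv_inv] at this
    have h3 := F.br_conj h hd hb _ h2 _ h1
    have hr := mem_NN'.mp hg
    have e1 : g⁻¹ * x * g * (g⁻¹ * u * g) * (g⁻¹ * x * g)⁻¹ = g⁻¹ * (x * u * x⁻¹) * g := by group
    have e2 : ∀ y z : G, g⁻¹ * y * g = z → y = g * z * g⁻¹ := by
      intro y z h0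
      rw [← h0]; group
    unfold Fx at h3 ⊢
    rw [e1] at h3
    rcases h3 with (h3 | h3) | h3 | h3
    · left; left
      rw [e2 _ _ h3]; group
    · left; right
      rw [e2 _ _ h3]
      calc g * (g⁻¹ * u * g * rr ε a b) * g⁻¹ = u * (g * rr ε a b * g⁻¹) := by group
        _ = _ := by rw [hr]
    · right; left
      rw [e2 _ _ h3]; group
    · right; right
      rw [e2 _ _ h3]
      calc g * (g⁻¹ * u * g * (rr ε i j * rr ε a b)) * g⁻¹ = u * ((g * rr ε i j * g⁻¹) * (g * rr ε a b * g⁻¹)) := by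
            group
        _ = _ := by rw [hr]
  conj g _ e _ x hx := Tt_conj hx
  tra := by
    rintro e ⟨g, hg, i, j, hd, rfl⟩ e' ⟨g', hg', i', j', hd', rfl⟩
    obtain ⟨σ, s1, s2, s3, s4⟩ := exists_perm4 hd hd'
    obtain ⟨l, -, hl⟩ := F.ev.full σ
    have hlN : l ∈ NN ε a b := by
      rw [mem_NN', rr_conj hl, s1, s2]
    have h1 := rr_conj hl i j
    rw [s3, s4] at h1
    refine ⟨g' * l * g⁻¹, mul_mem (mul_mem hg' hlN) (inv_mem hg), ?_⟩
    rw [← h1]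
    group
  two := by
    rintro e ⟨g, hg, i, j, hd, rfl⟩ u hu hx x hxT
    have hr := mem_NN'.mp hg
    have h2 : g⁻¹ * u * g ∈ UU ε a b := by
      have := UU_normal (inv_mem hg) hu
      rwa [inv_inv] at this
    have h3 := F.two' hn hodd hd (F.br_conj h hd hb) h2 (fun y hy => by
      have h4 : g * y * g⁻¹ ∈ Tt ε (g * rr ε i j * g⁻¹) := Tt_conj ((F.mem_Tt' hd.cd).mpr hy)
      have h5 := hx _ h4
      unfold Fx at h5 ⊢
      have e1 : y * (g⁻¹ * u * g) * y⁻¹ = g⁻¹ * (g * y * g⁻¹ * u * (g * y * g⁻¹)⁻¹) * g := by group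
      rw [e1]
      rcases h5 with h5 | h5
      · left; rw [h5]
      · right
        rw [h5]
        calc g⁻¹ * (u * rr ε a b) * g = g⁻¹ * u * g * (g⁻¹ * rr ε a b * g⁻¹⁻¹) := by group
          _ = _ := by rw [mem_NN'.mp (inv_mem hg)])
    have h6 := h3 _ ((F.mem_Tt hd.cd).mp hxT)
    calc x * u * x⁻¹ = g * (g⁻¹ * x * g * (g⁻¹ * u * g) * (g⁻¹ * x * g)⁻¹) * g⁻¹ := by group
      _ = u := by rw [h6]; group

/-- **#16652** -/
theorem surv [Finite G] (hn : 7 ≤ n) (hodd : Odd n) {a b c d : Fin n} (h : Di a b c d) (hb : Br ε a b c d) :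
    ∀ u ∈ UU ε a b, ∀ x ∈ UU ε c d, u * x = x * u := by
  by_contra hcon
  have H := F.ab hn hodd h hb
  have hcd := Kc_pair (ε := ε) h
  have hrV := rr_mem F.ev a b
  -- `e ∈ K`, `e ∉ X_cd`
  obtain ⟨e, he, hex⟩ : ∃ e ∈ Kc ε a b, e ∉ H.X (rr ε c d) := by
    by_contra h0
    push Not at h0
    apply hcon
    have h1 : UU ε a b ≤ H.X (rr ε c d) := by
      refine F.UU_gen hodd h.ab ?_ h0
      rw [H.mem_X]
      exact ⟨H.rU, fun x hx => by rw [H.rN x (H.TN _ hcd hx), mul_inv_cancel_right]⟩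
    intro u hu x hx
    have h2 := (H.mem_X.mp (h1 hu)).2 x ((F.mem_Tt' h.cd).mpr hx)
    exact (mul_inv_eq_iff_eq_mul.mp h2).symm
  have hcx : rr ε c d ∉ H.X e := fun h0 => hex (H.sym hcd he h0)
  -- the equivalence relation
  have hs : ∀ i j, rr ε i j ∈ H.X e → rr ε j i ∈ H.X e := fun i j h0 => rr_symm F.ev i j ▸ h0
  have ht : ∀ i j k, rr ε i j ∈ H.X e → rr ε j k ∈ H.X e → rr ε i k ∈ H.X e := fun i j k h0 h1 => by
    have h2 := mul_mem h0 h1
    exact rr_add F.ev i j k ▸ h2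
  -- (4)
  obtain ⟨p, q, hpq, hE⟩ : ∃ p q, Di a b p q ∧ rr ε p q ∈ H.X e := by
    have hW : V ⊓ UU ε a b ≤ UU ε a b := inf_le_right
    have h4 := H.four hcd he hcx hW (fun v hv x hx => by
      rw [F.uc h.cd x ((F.mem_Tt' h.cd).mp hx) v hv.1, mul_inv_cancel_right])
    obtain ⟨f, hf, hfab⟩ := five hn a b
    have hrW : ∀ i j, rr ε (f i) (f j) ∈ V ⊓ UU ε a b := fun i j =>
      ⟨rr_mem F.ev _ _, rr_mem_UU (hfab i).1.symm (hfab i).2.symm (hfab j).1.symm (hfab j).2.symm⟩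
    obtain ⟨i, j, hij, h5⟩ := pigeon (W := V ⊓ UU ε a b) (Y := (V ⊓ UU ε a b) ⊓ H.X e) inf_le_left h4
      (fun k => rr ε (f 0) (f k)) (fun k => hrW 0 k)
    refine ⟨f i, f j, ⟨h.ab, (hfab i).1, (hfab j).1, (hfab i).2, (hfab j).2, fun h0 => hij (hf h0)⟩, ?_⟩
    have e1 : (rr ε (f 0) (f i))⁻¹ * rr ε (f 0) (f j) = rr ε (f i) (f j) := by
      rw [rr_inv F.ev, rr_symm F.ev (f 0) (f i), rr_add F.ev]
    have h6 := h5.2
    rw [e1] at h6
    exact h6
  obtain ⟨p, q, s, t, hpq, hpqst, hst, hE1, hE2, hE3⟩ := comb hn hs ht h hcx hpq hE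
  have hqs : Di a b q s := ⟨h.ab, hpq.ad, hst.ac, hpq.bd, hst.bc, hpqst.bc⟩
  have hKqs := Kc_pair (ε := ε) hqs
  have hKst := Kc_pair (ε := ε) hst
  -- (5)
  let Y : Subgroup G := UU ε a b ⊓ centralizer (Q p q : Set G)
  have hY : ∀ {u}, u ∈ Y ↔ u ∈ UU ε a b ∧ ∀ w ∈ Q p q, w * u = u * w := by
    intro u
    exact and_congr_right fun _ => mem_centralizer_iff
  have hYn : ∀ x ∈ NN ε a b, x ∈ NN ε p q → ∀ u ∈ Y, x * u * x⁻¹ ∈ Y := by
    intro x hx hx' u hu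
    rw [hY] at hu ⊢
    refine ⟨UU_normal hx hu.1, fun w hw => ?_⟩
    have h1 := F.qn hpq.cd _ (inv_mem hx') w hw
    have h2 := hu.2 _ h1
    calc w * (x * u * x⁻¹) = x * ((x⁻¹ * w * x⁻¹⁻¹) * u) * x⁻¹ := by group
      _ = x * (u * (x⁻¹ * w * x⁻¹⁻¹)) * x⁻¹ := by rw [h2]
      _ = _ := by group
  -- the pairs fixed by `Q p q`
  have hYp : ∀ i j, i ≠ p → i ≠ q → j ≠ p → j ≠ q → ∀ w ∈ Q p q, w * rr ε i j = rr ε i j * w := by
    intro i j i1 i2 j1 j2 w hw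
    rw [← mul_inv_eq_iff_eq_mul]
    rcases F.act hpq.cd w hw with h1 | h1
    · exact rr_conj h1 i j
    · rw [rr_conj h1, Equiv.swap_apply_of_ne_of_ne i1 i2, Equiv.swap_apply_of_ne_of_ne j1 j2]
  have hYr : rr ε a b ∈ Y := hY.mpr ⟨H.rU, hYp a b hpq.ac hpq.ad hpq.bc hpq.bd⟩
  have hYst : rr ε s t ∈ Y := hY.mpr ⟨H.KU _ hKst,
    hYp s t hpqst.ac.symm hpqst.bc.symm hpqst.ad.symm hpqst.bd.symm⟩
  have hYqs : rr ε q s ∉ Y := by
    intro h0
    obtain ⟨w, hw, hwA⟩ := F.mov hpq.cd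
    have h1 := (hY.mp h0).2 w hw
    rw [← mul_inv_eq_iff_eq_mul, rr_conj hwA, Equiv.swap_apply_right,
      Equiv.swap_apply_of_ne_of_ne hpqst.ac.symm hpqst.bc.symm] at h1
    have h2 : zz ε p = zz ε q := mul_right_cancel h1
    exact hpq.cd (F.ev.single_inj (by omega) h2)
  -- `e ∈ Y`
  have heY : e ∈ Y := by
    obtain ⟨x, hx, hx1⟩ : ∃ x ∈ Tt ε e, ¬ Fx (rr ε a b) x (rr ε s t) := by
      by_contra h0
      push Not at h0
      exact hE3 ((H.mem_X' he).mpr ⟨H.KU _ hKst, h0⟩)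
    have hxN := H.TN e he hx
    have hxN' : x ∈ NN ε p q := mem_NN'.mpr ((H.mem_X.mp hE1).2 x hx)
    have h1 := hYn x hxN hxN' _ hYst
    rcases H.com e he x hx _ (H.KU _ hKst) with h2 | h2 | h2
    · exact absurd h2 hx1
    · rw [h2] at h1
      exact (Subgroup.mul_mem_cancel_left _ hYst).mp h1
    · rw [h2] at h1
      exact (Subgroup.mul_mem_cancel_right _ hYr).mp ((Subgroup.mul_mem_cancel_left _ hYst).mp h1)
  -- `r_qs ∈ Y`
  have heX : e ∉ H.X (rr ε q s) := fun h0 => hE2 (H.sym he hKqs h0)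
  obtain ⟨x, hx, hx1⟩ : ∃ x ∈ Tt ε (rr ε q s), ¬ Fx (rr ε a b) x e := by
    by_contra h0
    push Not at h0
    exact heX ((H.mem_X' hKqs).mpr ⟨H.KU _ he, h0⟩)
  have hxU := (F.mem_Tt' hqs.cd).mp hx
  have h1 := hYn x (F.UU_le_NN hqs.cd hxU) (F.UU_le_NN hqs.cd hxU) _ heY
  rcases H.com _ hKqs x hx _ (H.KU _ he) with h2 | h2 | h2
  · exact hx1 h2
  · rw [h2] at h1
    exact hYqs ((Subgroup.mul_mem_cancel_left _ heY).mp h1)
  · rw [h2] at h1
    exact hYqs ((Subgroup.mul_mem_cancel_right _ hYr).mp ((Subgroup.mul_mem_cancel_left _ heY).mp h1))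

end Fs

end Cfsg.Agent.Omega.NSix.Surv
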