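import Cfsg.Agent.Omega.NSix.Surv
import Cfsg.Agent.Omega.NSix.Engine.Inst
import Cfsg.Agent.Omega.NSix.Norm

/-!
# OMEGA N6, (H2): #16652 in the group

`fs` : the frame of `Surv` from helper821's `Engine.Hyp V P ε` and `EvenSet n V (N_G(V)) ε` (e.g. `Norm.evenSet'`);
`comm` : `n ≥ 7`, `[U_ab, U_cd] ≤ ⟨r_ab, r_cd⟩` for one pair of disjoint pairs ⇒ all `U_ij`, `U_kl` (disjoint pairs)
commute; `h2` : ⇒ `U_ij ≤ O₂(C_G(r_kl))`.
-/

set_option autoImplicit false
set_option linter.dupNamespace false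

namespace Cfsg.Agent.Omega.NSix.SurvInst

open Subgroup Cfsg
open Cfsg.Agent.ZN (o2)
open Cfsg.Agent.MinSimple.VModule (le_normalizer_o2)
open Cfsg.Agent.Omega.S5.Def Cfsg.Agent.Omega.NSix.Base Cfsg.Agent.Omega.NSix.Basic
open Cfsg.Agent.Omega.NSix.Surv Cfsg.Agent.Omega.NSix.Zero
open Cfsg.Agent.Omega.NSix.Engine (Hyp D4)

universe u

variable {G : Type u} [Group G] {n : ℕ} {V P : Subgroup G} {ε : (Fin n → ZMod 2) → G}

theorem di {a b c d : Fin n} (h : D4 a b c d) : Di a b c d := ⟨h.ij, h.ik, h.il, h.jk, h.jl, h.kl⟩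

/-- the frame -/
theorem fs (h : Hyp V P ε) (hN : EvenSet n V (normalizer (V : Set G)) ε) :
    Fs V ε (fun i j => o2 (NN ε i j)) where
  ev := hN
  uc hij u hu v hv := by
    have h1 := h.UK hij hu
    obtain ⟨x, rfl⟩ := h.ev.surj v hv
    exact Engine.mem_KK'.mp h1 x
  ua hij u hu v hv := h.Uab hij hu hv
  qn hij g hg x hx := (mem_normalizer_iff.mp (le_normalizer_o2 _ hg) x).mp hx
  qc hg _ _ _ x hx := o2_NN_conj hg hx
  act hij q hq := h.QA hij hq
  mov hij := by
    obtain ⟨w, hw, hwA⟩ := h.exists_w hij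
    exact ⟨w, h.W2_leQ hij hw, hwA⟩

/-- `⟨r, s⟩` for commuting involutions -/
theorem mem_four {r s x : G} (hr : r * r = 1) (hs : s * s = 1) (hrs : r * s = s * r)
    (hx : x ∈ closure ({r, s} : Set G)) : x = 1 ∨ x = r ∨ x = s ∨ x = s * r := by
  have hr' : r⁻¹ = r := inv_eq_of_mul_eq_one_left hr
  have hs' : s⁻¹ = s := inv_eq_of_mul_eq_one_left hs
  have a1 : r * (s * r) = s := by rw [← mul_assoc, hrs, mul_assoc, hr, mul_one]
  have a2 : s * (s * r) = r := by rw [← mul_assoc, hs, one_mul]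
  induction hx using closure_induction_left with
  | one => exact Or.inl rfl
  | mul_left y hy x _ h1 =>
    rcases hy with rfl | hy
    · rcases h1 with rfl | rfl | rfl | rfl
      · right; left; rw [mul_one]
      · left; exact hr
      · right; right; right; exact hrs
      · right; right; left; exact a1
    · rw [Set.mem_singleton_iff] at hy
      subst hy
      rcases h1 with rfl | rfl | rfl | rfl
      · right; right; left; rw [mul_one]
      · right; right; right; rfl
      · left; exact hs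
      · right; left; exact a2
  | inv_mul_cancel y hy x _ h1 =>
    rcases hy with rfl | hy
    · rw [hr']
      rcases h1 with rfl | rfl | rfl | rfl
      · right; left; rw [mul_one]
      · left; exact hr
      · right; right; right; exact hrs
      · right; right; left; exact a1
    · rw [Set.mem_singleton_iff] at hy
      subst hy
      rw [hs']
      rcases h1 with rfl | rfl | rfl | rfl
      · right; right; left; rw [mul_one]
      · right; right; right; rfl
      · left; exact hs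
      · right; left; exact a2

/-- `Br` from commutators -/
theorem br_of {L : Subgroup G} (h : EvenSet n V L ε) {a b c d : Fin n}
    (hb : ∀ u ∈ UU ε a b, ∀ x ∈ UU ε c d, u * x * u⁻¹ * x⁻¹ ∈ closure ({rr ε a b, rr ε c d} : Set G)) :
    Br ε a b c d := by
  intro u hu x hx
  have h1 : x * u * x⁻¹ = u * (u⁻¹ * x * u * x⁻¹) := by group
  have h2 := hb _ (inv_mem hu) x hx
  rw [inv_inv] at h2
  unfold Fx
  rw [h1]
  rcases mem_four (rr_sq h a b) (rr_sq h c d) (h.comm_mem (rr_mem h a b) (rr_mem h c d)) h2 with h3 | h3 | h3 | h3 <;>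
    rw [h3]
  · left; left; rw [mul_one]
  · left; right; rfl
  · right; left; rfl
  · right; right; rfl

/-- **#16652** -/
theorem comm [Finite G] (h : Hyp V P ε) (hN : EvenSet n V (normalizer (V : Set G)) ε) (hn : 7 ≤ n)
    {a b c d : Fin n} (hd : D4 a b c d)
    (hb : ∀ u ∈ UU ε a b, ∀ x ∈ UU ε c d, u * x * u⁻¹ * x⁻¹ ∈ closure ({rr ε a b, rr ε c d} : Set G))
    {i j k l : Fin n} (hD : D4 i j k l) : ∀ u ∈ UU ε i j, ∀ x ∈ UU ε k l, u * x = x * u :=
  h.comm_transfer hd hD ((fs h hN).surv hn h.odd (di hd) (br_of h.ev hb))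

/-- **(H2)** from `[U_ab, U_cd] ≤ ⟨r_ab, r_cd⟩` -/
theorem h2 [Finite G] (h : Hyp V P ε) (hN : EvenSet n V (normalizer (V : Set G)) ε) (hn : 7 ≤ n)
    {a b c d : Fin n} (hd : D4 a b c d)
    (hb : ∀ u ∈ UU ε a b, ∀ x ∈ UU ε c d, u * x * u⁻¹ * x⁻¹ ∈ closure ({rr ε a b, rr ε c d} : Set G))
    {i j k l : Fin n} (hD : D4 i j k l) : UU ε i j ≤ o2 (NN ε k l) :=
  h.hq_of_comm (fun hD' => comm h hN hn hd hb hD') hD

end Cfsg.Agent.Omega.NSix.SurvInst
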