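import Mathlib

/-!
# N6, (H2): (1b) of helper150's text (bb OMEGA 16633)

`Λ` = the letters `3 .. n`, `|Λ| = 2 ^ m - 1`.  `W = (Λ → ZMod 2)` = `V_12` (the vector `Pi.single k 1` is
the point `k`, the vector `1` is `r_12`).  `K` = the group induced on `V_12` by its normaliser in `N_12`; it
contains the permutations, and its 2-subgroups have order at most `2 ^ (m - 1) * |Sym Λ|_2`.
Then the only maps `x ↦ x + (b ⬝ x) c` (`b` even) in `K` are the obvious ones.

Author: helper705 (text: helper150).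
-/

namespace Cfsg.Agent.Omega.NSix.SymF

open Finset

set_option linter.unusedSectionVars false

variable {Λ : Type*}

/-- the group `GL(W)` -/
abbrev GV (Λ : Type*) := (Λ → ZMod 2) ≃ₗ[ZMod 2] (Λ → ZMod 2)

/-- the permutation of coordinates -/
def pm : Equiv.Perm Λ →* GV Λ where
  toFun σ :=
    { toFun := fun x => x ∘ σ.symm
      invFun := fun x => x ∘ σ
      left_inv := fun x => by ext i; simp
      right_inv := fun x => by ext i; simp
      map_add' := fun x y => rfl
      map_smul' := fun a x => rfl }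
  map_one' := rfl
  map_mul' := fun σ τ => by ext x i; rfl

@[simp] theorem pm_apply (σ : Equiv.Perm Λ) (x : Λ → ZMod 2) (i : Λ) :
    pm σ x i = x (σ.symm i) := rfl

variable [Fintype Λ] [DecidableEq Λ]

theorem pm_injective : Function.Injective (pm : Equiv.Perm Λ →* GV Λ) := by
  intro σ τ h
  ext i
  have h1 : pm σ (Pi.single i 1) = pm τ (Pi.single i 1) := by rw [h]
  have h2 := congrFun h1 (σ i)
  rw [pm_apply, pm_apply, Equiv.symm_apply_apply, Pi.single_eq_same] at h2
  by_contra hne
  have : τ.symm (σ i) ≠ i := by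
    intro h3
    apply hne
    rw [Equiv.symm_apply_eq] at h3
    exact h3
  rw [Pi.single_eq_of_ne this] at h2
  exact one_ne_zero h2

/-- `k` is the map `x ↦ x + (b ⬝ x) c` -/
def IsT (k : GV Λ) (b c : Λ → ZMod 2) : Prop :=
  ∀ x, k x = x + (∑ i, b i * x i) • c

/-- pairing -/
def dt (b x : Λ → ZMod 2) : ZMod 2 := ∑ i, b i * x i

theorem dt_add (b x y : Λ → ZMod 2) : dt b (x + y) = dt b x + dt b y := by
  simp only [dt, Pi.add_apply, mul_add, Finset.sum_add_distrib]

theorem add_dt (b c x : Λ → ZMod 2) : dt (b + c) x = dt b x + dt c x := by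
  simp only [dt, Pi.add_apply, add_mul, Finset.sum_add_distrib]

theorem dt_smul (b x : Λ → ZMod 2) (a : ZMod 2) : dt b (a • x) = a * dt b x := by
  simp only [dt, Pi.smul_apply, smul_eq_mul, Finset.mul_sum]
  exact Finset.sum_congr rfl fun i _ => by ring

theorem smul_dt (b x : Λ → ZMod 2) (a : ZMod 2) : dt (a • b) x = a * dt b x := by
  simp only [dt, Pi.smul_apply, smul_eq_mul, Finset.mul_sum]
  exact Finset.sum_congr rfl fun i _ => by ring

theorem dt_comm (b x : Λ → ZMod 2) : dt b x = dt x b := by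
  simp only [dt]
  exact Finset.sum_congr rfl fun i _ => mul_comm _ _

theorem dt_zero (b : Λ → ZMod 2) : dt b 0 = 0 := by simp [dt]

theorem zero_dt (b : Λ → ZMod 2) : dt 0 b = 0 := by simp [dt]

theorem dt_single (b : Λ → ZMod 2) (i : Λ) : dt b (Pi.single i 1) = b i := by
  simp only [dt]
  rw [Finset.sum_eq_single i]
  · simp
  · intro j _ hj
    rw [Pi.single_eq_of_ne hj, mul_zero]
  · intro h; exact absurd (Finset.mem_univ i) h

theorem single_dt (b : Λ → ZMod 2) (i : Λ) : dt (Pi.single i 1) b = b i := by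
  rw [dt_comm, dt_single]

theorem dt_one (b : Λ → ZMod 2) : dt b 1 = ∑ i, b i := by simp [dt]

theorem dt_self (b : Λ → ZMod 2) : dt b b = ∑ i, b i := by
  simp only [dt]
  refine Finset.sum_congr rfl fun i _ => ?_
  generalize b i = a
  revert a; decide

theorem z_one_one : (1 + 1 : ZMod 2) = 0 := by decide

theorem z_three : (1 + 1 + 1 : ZMod 2) ≠ 0 := by decide

theorem z_three' : (1 + 1 + 1 : ZMod 2) ≠ 1 + 1 := by decide

theorem two_cases (a : ZMod 2) : a = 0 ∨ a = 1 := by revert a; decide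

theorem add_self_W (x : Λ → ZMod 2) : x + x = 0 := by
  ext i
  simp only [Pi.add_apply, Pi.zero_apply]
  generalize x i = a
  revert a; decide

theorem IsT_iff {k : GV Λ} {b c : Λ → ZMod 2} :
    IsT k b c ↔ ∀ x, k x = x + dt b x • c := Iff.rfl

theorem IsT.apply {k : GV Λ} {b c : Λ → ZMod 2} (h : IsT k b c) (x : Λ → ZMod 2) :
    k x = x + dt b x • c := h x

/-- `b ⬝ c = 0` is forced -/
theorem IsT.dt_eq {k : GV Λ} {b c : Λ → ZMod 2} (h : IsT k b c) (hc : c ≠ 0) :
    dt b c = 0 := by
  rcases two_cases (dt b c) with h0 | h1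
  · exact h0
  · exfalso
    have h2 := h.apply c
    rw [h1, one_smul, add_self_W] at h2
    exact hc (k.injective (by rw [h2, map_zero]))

theorem IsT.mul {k l : GV Λ} {b d c : Λ → ZMod 2} (h : IsT k b c) (h' : IsT l d c)
    (hc : c ≠ 0) : IsT (k * l) (b + d) c := by
  intro x
  change k (l x) = _
  rw [h'.apply, h.apply]
  change _ = x + dt (b + d) x • c
  rw [dt_add, dt_smul, h.dt_eq hc, mul_zero, add_zero, add_dt, add_smul]
  abel

theorem IsT.sq {k : GV Λ} {b c : Λ → ZMod 2} (h : IsT k b c) (hc : c ≠ 0) :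
    k * k = 1 := by
  ext x i
  have h1 := (h.mul h hc).apply x
  rw [add_self_W, zero_dt, zero_smul, add_zero] at h1
  rw [h1]; rfl

theorem IsT.conj {k g : GV Λ} {b c b' : Λ → ZMod 2} (h : IsT k b c)
    (hb : ∀ x, dt b' x = dt b (g⁻¹ x)) : IsT (g * k * g⁻¹) b' (g c) := by
  intro x
  change g (k (g⁻¹ x)) = x + dt b' x • g c
  rw [h.apply, map_add, hb]
  have h1 : g (g⁻¹ x) = x := by
    change (g * g⁻¹) x = x
    rw [mul_inv_cancel]; rfl
  rw [h1]
  rw [map_smul]

theorem IsT.unique {k : GV Λ} {b d c : Λ → ZMod 2} (h : IsT k b c) (h' : IsT k d c)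
    (hc : c ≠ 0) : b = d := by
  obtain ⟨j, hj⟩ : ∃ j, c j ≠ 0 := by
    by_contra h0
    push Not at h0
    exact hc (funext h0)
  ext i
  have h1 := h.apply (Pi.single i 1)
  rw [h'.apply, dt_single, dt_single] at h1
  have h2 := congrFun h1 j
  simp only [Pi.add_apply, Pi.smul_apply, smul_eq_mul] at h2
  have h3 : c j = 1 := by
    rcases two_cases (c j) with h4 | h4
    · exact absurd h4 hj
    · exact h4
  rw [h3, mul_one, mul_one] at h2
  exact (add_left_cancel h2).symm

theorem IsT.ext {k l : GV Λ} {b c : Λ → ZMod 2} (h : IsT k b c) (h' : IsT l b c) :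
    k = l := by
  ext x i
  rw [h.apply, h'.apply]

theorem IsT.zero_left {k : GV Λ} {c : Λ → ZMod 2} (h : IsT k 0 c) : k = 1 := by
  ext x i
  rw [h.apply, zero_dt, zero_smul, add_zero]; rfl

theorem dt_pm (σ : Equiv.Perm Λ) (b x : Λ → ZMod 2) : dt (pm σ b) (pm σ x) = dt b x := by
  simp only [dt, pm_apply]
  exact Equiv.sum_comp σ.symm (fun i => b i * x i)

theorem sum_pm (σ : Equiv.Perm Λ) (b : Λ → ZMod 2) : ∑ i, pm σ b i = ∑ i, b i := by
  simp only [pm_apply]
  exact Equiv.sum_comp σ.symm (fun i => b i)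

theorem IsT.conj_pm {k : GV Λ} {b c : Λ → ZMod 2} (h : IsT k b c)
    (σ : Equiv.Perm Λ) : IsT (pm σ * k * (pm σ)⁻¹) (pm σ b) (pm σ c) := by
  refine h.conj fun x => ?_
  have h1 : pm σ ((pm σ)⁻¹ x) = x := by
    change (pm σ * (pm σ)⁻¹) x = x
    rw [mul_inv_cancel]; rfl
  conv_lhs => rw [← h1]
  rw [dt_pm]

/-- the transposition `(i j)` -/
theorem isT_swap (i j : Λ) (hij : i ≠ j) :
    IsT (pm (Equiv.swap i j)) (Pi.single i 1 + Pi.single j 1) (Pi.single i 1 + Pi.single j 1) := by
  intro x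
  change _ = x + dt (Pi.single i 1 + Pi.single j 1) x • _
  rw [add_dt, single_dt, single_dt]
  ext l
  rw [pm_apply, Equiv.symm_swap]
  simp only [Pi.add_apply, Pi.smul_apply, smul_eq_mul]
  by_cases hi : l = i
  · subst hi
    rw [Equiv.swap_apply_left, Pi.single_eq_same, Pi.single_eq_of_ne hij]
    generalize x j = u
    generalize x l = v
    revert u v; decide
  · by_cases hj : l = j
    · subst hj
      rw [Equiv.swap_apply_right, Pi.single_eq_same, Pi.single_eq_of_ne hi]
      generalize x i = u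
      generalize x l = v
      revert u v; decide
    · rw [Equiv.swap_apply_of_ne_of_ne hi hj, Pi.single_eq_of_ne hi, Pi.single_eq_of_ne hj]
      simp

/-- a permutation of the form `x ↦ x + (b ⬝ x) c` is trivial or a transposition with `c = {i, j}` -/
theorem isT_pm {σ : Equiv.Perm Λ} {b c : Λ → ZMod 2} (h : IsT (pm σ) b c) :
    σ = 1 ∨ ∃ i j, i ≠ j ∧ b i = 1 ∧ c = Pi.single i 1 + Pi.single j 1 := by
  by_cases hσ : σ = 1
  · exact Or.inl hσ
  · right
    obtain ⟨i, hi⟩ : ∃ i, σ i ≠ i := by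
      by_contra h0
      push Not at h0
      exact hσ (Equiv.ext h0)
    have h1 := h.apply (Pi.single i 1)
    rw [dt_single] at h1
    have h2 : pm σ (Pi.single i 1) = Pi.single (σ i) 1 := by
      ext l
      rw [pm_apply]
      by_cases hl : l = σ i
      · subst hl
        rw [Equiv.symm_apply_apply, Pi.single_eq_same, Pi.single_eq_same]
      · rw [Pi.single_eq_of_ne hl, Pi.single_eq_of_ne]
        intro h3
        rw [Equiv.symm_apply_eq] at h3
        exact hl h3
    rw [h2] at h1
    rcases two_cases (b i) with hb | hb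
    · exfalso
      rw [hb, zero_smul, add_zero] at h1
      have h3 := congrFun h1 i
      rw [Pi.single_eq_of_ne hi.symm, Pi.single_eq_same] at h3
      exact zero_ne_one h3
    · rw [hb, one_smul] at h1
      refine ⟨i, σ i, hi.symm, hb, ?_⟩
      rw [h1, ← add_assoc, add_self_W, zero_add]

/-! ### indicators -/

/-- the indicator of a set of points -/
def ind (s : Finset Λ) : Λ → ZMod 2 := fun i => if i ∈ s then 1 else 0

/-- the support -/
def spt (x : Λ → ZMod 2) : Finset Λ := univ.filter fun i => x i ≠ 0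

theorem mem_spt {x : Λ → ZMod 2} {i : Λ} : i ∈ spt x ↔ x i ≠ 0 := by simp [spt]

theorem ind_apply (s : Finset Λ) (i : Λ) : ind s i = if i ∈ s then 1 else 0 := rfl

theorem ind_of_mem {s : Finset Λ} {i : Λ} (h : i ∈ s) : ind s i = 1 := if_pos h

theorem ind_of_not_mem {s : Finset Λ} {i : Λ} (h : i ∉ s) : ind s i = 0 := if_neg h

theorem spt_ind (s : Finset Λ) : spt (ind s) = s := by
  ext i
  rw [mem_spt, ind_apply]
  split <;> simp_all

theorem ind_spt (x : Λ → ZMod 2) : ind (spt x) = x := by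
  ext i
  by_cases h : i ∈ spt x
  · rw [ind_of_mem h]
    rw [mem_spt] at h
    rcases two_cases (x i) with h0 | h1
    · exact absurd h0 h
    · exact h1.symm
  · rw [ind_of_not_mem h]
    rw [mem_spt, not_not] at h
    exact h.symm

theorem ind_injective : Function.Injective (ind : Finset Λ → Λ → ZMod 2) := by
  intro s t h
  rw [← spt_ind s, h, spt_ind]

theorem pm_ind (σ : Equiv.Perm Λ) (s : Finset Λ) : pm σ (ind s) = ind (s.map σ.toEmbedding) := by
  ext i
  rw [pm_apply, ind_apply, ind_apply]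
  congr 1
  rw [Finset.mem_map_equiv]

theorem sum_ind (s : Finset Λ) : ∑ i, ind s i = (s.card : ZMod 2) := by
  simp [ind]

theorem even_iff (x : Λ → ZMod 2) : ∑ i, x i = 0 ↔ Even (spt x).card := by
  conv_lhs => rw [← ind_spt x]
  rw [sum_ind, ZMod.natCast_eq_zero_iff_even]

/-- two sets of the same size are conjugate -/
theorem exists_perm {s t : Finset Λ} (h : s.card = t.card) :
    ∃ σ : Equiv.Perm Λ, pm σ (ind s) = ind t := by
  let e : {i // i ∈ s} ≃ {i // i ∈ t} := Finset.equivOfCardEq h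
  refine ⟨e.extendSubtype, ?_⟩
  rw [pm_ind]
  congr 1
  apply Finset.eq_of_subset_of_card_le
  · intro i hi
    rw [Finset.mem_map] at hi
    obtain ⟨j, hj, rfl⟩ := hi
    exact e.extendSubtype_mem j hj
  · rw [Finset.card_map, h]

/-- `2 ^ m - 1` choose anything is odd -/
theorem choose_odd (m : ℕ) : ∀ a ≤ 2 ^ m - 1, ¬ 2 ∣ (2 ^ m - 1).choose a := by
  intro a
  induction a with
  | zero => intro _; simp
  | succ a ih =>
    intro ha hd
    have h1 := ih (by omega)
    have h2 : 2 ∣ (2 ^ m).choose (a + 1) :=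
      Nat.Prime.dvd_choose_pow Nat.prime_two (by omega) (by omega)
    have h3 : (2 ^ m).choose (a + 1) = (2 ^ m - 1).choose a + (2 ^ m - 1).choose (a + 1) := by
      obtain ⟨r, hr⟩ : ∃ r, 2 ^ m = r + 1 := ⟨2 ^ m - 1, by have := Nat.one_le_two_pow (n := m); omega⟩
      rw [hr]; simp [Nat.choose_succ_succ]
    rw [h3] at h2
    exact h1 ((Nat.dvd_add_iff_left hd).mpr h2)

open scoped Pointwise in
/-- every vector is fixed by a Sylow 2-subgroup of `Sym Λ` -/
theorem exists_sylow {m : ℕ} (hcard : Fintype.card Λ + 1 = 2 ^ m) (c : Λ → ZMod 2) :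
    ∃ T : Subgroup (Equiv.Perm Λ), IsPGroup 2 T ∧
      Nat.card T = 2 ^ ((Fintype.card Λ).factorial.factorization 2) ∧ ∀ τ ∈ T, pm τ c = c := by
  have : Fact (Nat.Prime 2) := ⟨Nat.prime_two⟩
  obtain ⟨P⟩ : Nonempty (Sylow 2 (Equiv.Perm Λ)) := inferInstance
  set a := (spt c).card with ha
  have ha' : a ≤ 2 ^ m - 1 := by
    have : a ≤ Fintype.card Λ := Finset.card_le_univ _
    omega
  have hnd : ¬ 2 ∣ Nat.card (Set.powersetCard Λ a) := by
    rw [Set.powersetCard.card, Nat.card_eq_fintype_card]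
    have : Fintype.card Λ = 2 ^ m - 1 := by omega
    rw [this]
    exact choose_odd m a ha'
  have hP : IsPGroup 2 (P : Subgroup (Equiv.Perm Λ)) := P.isPGroup'
  obtain ⟨s, hs⟩ := hP.nonempty_fixed_point_of_prime_not_dvd_card (Set.powersetCard Λ a) hnd
  obtain ⟨σ, hσ⟩ := exists_perm (s := (s : Finset Λ)) (t := spt c) (by rw [s.2])
  rw [ind_spt] at hσ
  refine ⟨(P : Subgroup (Equiv.Perm Λ)).map (MulAut.conj σ).toMonoidHom, hP.map _, ?_, ?_⟩
  · rw [Subgroup.card_map_of_injective (MulAut.conj σ).injective, P.card_eq_multiplicity,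
      Nat.card_perm, Nat.card_eq_fintype_card]
  · rintro _ ⟨τ, hτ, rfl⟩
    have h1 : pm τ (ind (s : Finset Λ)) = ind (s : Finset Λ) := by
      have h2 := hs ⟨τ, hτ⟩
      have h3 : (τ • (s : Finset Λ) : Finset Λ) = s := congrArg Subtype.val h2
      rw [pm_ind]
      congr 1
      conv_rhs => rw [← h3]
      ext i
      rw [Finset.mem_map, Finset.mem_smul_finset]
      rfl
    change pm (σ * τ * σ⁻¹) c = c
    rw [map_mul, map_mul, map_inv]
    change pm σ (pm τ ((pm σ)⁻¹ c)) = c
    have h4 : (pm σ)⁻¹ c = ind (s : Finset Λ) := by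
      rw [← hσ]
      change ((pm σ)⁻¹ * pm σ) _ = _
      rw [inv_mul_cancel]; rfl
    rw [h4, h1, hσ]

/-! ### the hypotheses -/

/-- the hypotheses on the group `K` induced on `V_12` -/
structure Hyp (K : Subgroup (GV Λ)) (m : ℕ) : Prop where
  hm : 3 ≤ m
  card : Fintype.card Λ + 1 = 2 ^ m
  perm : ∀ σ : Equiv.Perm Λ, pm σ ∈ K
  count : ∀ R : Subgroup (GV Λ), R ≤ K → IsPGroup 2 R →
    Nat.card R ≤ 2 ^ (m - 1) * 2 ^ ((Fintype.card Λ).factorial.factorization 2)

instance finite_GV : Finite (GV Λ) := DFunLike.finite (GV Λ)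

/-- the even `b` such that `x ↦ x + (b ⬝ x) c` is in `K` -/
def Rc (K : Subgroup (GV Λ)) (b c : Λ → ZMod 2) : Prop :=
  ∑ i, b i = 0 ∧ ∃ k ∈ K, IsT k b c

variable {K : Subgroup (GV Λ)} {m : ℕ}

theorem Rc.add {b d c : Λ → ZMod 2} (h : Rc K b c) (h' : Rc K d c) (hc : c ≠ 0) :
    Rc K (b + d) c := by
  obtain ⟨h1, k, hk, h2⟩ := h
  obtain ⟨h3, l, hl, h4⟩ := h'
  refine ⟨?_, k * l, K.mul_mem hk hl, h2.mul h4 hc⟩
  simp only [Pi.add_apply, Finset.sum_add_distrib, h1, h3, add_zero]

theorem Rc.zero (c : Λ → ZMod 2) : Rc K 0 c := by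
  refine ⟨by simp, 1, K.one_mem, fun x => ?_⟩
  change x = x + dt 0 x • c
  rw [zero_dt, zero_smul, add_zero]

theorem Rc.dt_eq {b c : Λ → ZMod 2} (h : Rc K b c) (hc : c ≠ 0) : dt b c = 0 := by
  obtain ⟨_, k, _, h2⟩ := h
  exact h2.dt_eq hc

theorem Hyp.rc_pm (H : Hyp K m) {b c : Λ → ZMod 2} (h : Rc K b c) (σ : Equiv.Perm Λ) :
    Rc K (pm σ b) (pm σ c) := by
  obtain ⟨h1, k, hk, h2⟩ := h
  refine ⟨by rw [sum_pm, h1], pm σ * k * (pm σ)⁻¹, ?_, h2.conj_pm σ⟩
  exact K.mul_mem (K.mul_mem (H.perm σ) hk) (K.inv_mem (H.perm σ))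

/-- the group of all `b` -/
def RcS (K : Subgroup (GV Λ)) (c : Λ → ZMod 2) (hc : c ≠ 0) : AddSubgroup (Λ → ZMod 2) where
  carrier := {b | Rc K b c}
  add_mem' := fun h h' => Rc.add h h' hc
  zero_mem' := Rc.zero c
  neg_mem' := by
    intro b h
    have : -b = b := by
      rw [neg_eq_iff_add_eq_zero]; exact add_self_W b
    rw [this]; exact h

theorem mem_RcS {b c : Λ → ZMod 2} {hc : c ≠ 0} : b ∈ RcS K c hc ↔ Rc K b c := Iff.rfl

/-- twisting with a transposition -/
theorem Hyp.twist (H : Hyp K m) {i j : Λ} (hij : i ≠ j) {c : Λ → ZMod 2} (hcij : c i = c j)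
    (h : Rc K (Pi.single i 1 + Pi.single j 1) c) :
    Rc K (Pi.single i 1 + Pi.single j 1) (c + (Pi.single i 1 + Pi.single j 1)) := by
  obtain ⟨h1, k, hk, h2⟩ := h
  refine ⟨h1, pm (Equiv.swap i j) * k, K.mul_mem (H.perm _) hk, fun x => ?_⟩
  change pm (Equiv.swap i j) (k x) = x + dt (Pi.single i 1 + Pi.single j 1) x • _
  rw [(isT_swap i j hij).apply, h2.apply, dt_add, dt_smul]
  have h3 : dt (Pi.single i 1 + Pi.single j 1) c = 0 := by
    rw [add_dt, single_dt, single_dt, hcij]
    generalize c j = u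
    revert u; decide
  rw [h3, mul_zero, add_zero]
  generalize dt (Pi.single i 1 + Pi.single j 1) x = a
  generalize (Pi.single i 1 + Pi.single j 1 : Λ → ZMod 2) = w
  rw [smul_add, add_assoc]

/-- the bound -/
theorem Hyp.bound (H : Hyp K m) {c : Λ → ZMod 2} (hc : c ≠ 0) (D : AddSubgroup (Λ → ZMod 2))
    (hD : ∀ b ∈ D, Rc K b c)
    (hinv : ∀ b ∈ D, ∀ σ : Equiv.Perm Λ, pm σ c = c → pm σ b ∈ D)
    (hper : ∀ b ∈ D, ∀ σ : Equiv.Perm Λ, IsT (pm σ) b c → σ = 1) :
    Nat.card D ≤ 2 ^ (m - 1) := by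
  have : Fact (Nat.Prime 2) := ⟨Nat.prime_two⟩
  obtain ⟨T, hT, hTc, hTf⟩ := exists_sylow H.card c
  let A : Subgroup (GV Λ) :=
    { carrier := {k | k ∈ K ∧ ∃ b ∈ D, IsT k b c}
      mul_mem' := by
        rintro k l ⟨hk, b, hb, h1⟩ ⟨hl, d, hd, h2⟩
        exact ⟨K.mul_mem hk hl, b + d, D.add_mem hb hd, h1.mul h2 hc⟩
      one_mem' := by
        refine ⟨K.one_mem, 0, D.zero_mem, fun x => ?_⟩
        change x = x + dt 0 x • c
        rw [zero_dt, zero_smul, add_zero]
      inv_mem' := by
        rintro k ⟨hk, b, hb, h1⟩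
        have h2 : k⁻¹ = k := by
          rw [inv_eq_iff_mul_eq_one]; exact h1.sq hc
        rw [h2]; exact ⟨hk, b, hb, h1⟩ }
  have hAK : A ≤ K := fun k hk => hk.1
  have hA2 : IsPGroup 2 A := by
    intro k
    obtain ⟨_, b, _, h1⟩ := k.2
    refine ⟨1, ?_⟩
    ext1
    rw [pow_one, pow_two]
    exact h1.sq hc
  let B : Subgroup (GV Λ) := T.map pm
  have hBK : B ≤ K := by
    rintro _ ⟨τ, _, rfl⟩
    exact H.perm τ
  have hB2 : IsPGroup 2 B := hT.map pm
  have hBc : Nat.card B = 2 ^ ((Fintype.card Λ).factorial.factorization 2) := by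
    rw [← hTc]
    exact Subgroup.card_map_of_injective pm_injective
  have hAc : Nat.card D ≤ Nat.card A := by
    have h1 : ∀ b : D, ∃ k ∈ K, IsT k b.1 c := fun b => (hD b.1 b.2).2
    choose f hf hf' using h1
    refine Nat.card_le_card_of_injective (fun b : D => (⟨f b, hf b, b.1, b.2, hf' b⟩ : A)) ?_
    intro b d hbd
    have h2 : f b = f d := congrArg Subtype.val hbd
    ext1
    refine (hf' b).unique ?_ hc
    rw [h2]; exact hf' d
  have hconj : ∀ τ ∈ T, ∀ k ∈ A, pm τ * k * (pm τ)⁻¹ ∈ A := by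
    rintro τ hτ k ⟨hk, b, hb, h1⟩
    refine ⟨K.mul_mem (K.mul_mem (H.perm τ) hk) (K.inv_mem (H.perm τ)), pm τ b,
      hinv b hb τ (hTf τ hτ), ?_⟩
    have h2 := h1.conj_pm τ
    rwa [hTf τ hτ] at h2
  have hnorm : B ≤ Subgroup.normalizer (A : Set (GV Λ)) := by
    rintro _ ⟨τ, hτ, rfl⟩
    rw [Subgroup.mem_normalizer_iff]
    intro k
    refine ⟨fun hk => hconj τ hτ k hk, fun hk => ?_⟩
    have h2 := hconj τ⁻¹ (T.inv_mem hτ) _ hk
    have h3 : pm τ⁻¹ * (pm τ * k * (pm τ)⁻¹) * (pm τ⁻¹)⁻¹ = k := by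
      rw [map_inv]; group
    rwa [h3] at h2
  have hdis : Disjoint A B := by
    rw [Subgroup.disjoint_def]
    rintro _ ⟨_, b, hb, h1⟩ ⟨τ, _, rfl⟩
    rw [hper b hb τ h1, map_one]
  have hR2 : IsPGroup 2 (A ⊔ B : Subgroup (GV Λ)) := hA2.to_sup_of_normal_left' hB2 hnorm
  have hRK : A ⊔ B ≤ K := sup_le hAK hBK
  have h5 := H.count _ hRK hR2
  have h6 : Nat.card A * Nat.card B ≤ Nat.card (A ⊔ B : Subgroup (GV Λ)) := by
    rw [← Nat.card_prod]
    refine Nat.card_le_card_of_injective
      (fun g : A × B => (⟨g.1 * g.2, Subgroup.mul_mem_sup g.1.2 g.2.2⟩ : (A ⊔ B : Subgroup (GV Λ)))) ?_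
    intro g g' hg
    exact Subgroup.mul_injective_of_disjoint hdis (congrArg Subtype.val hg)
  rw [hBc] at h6
  have h7 : Nat.card A * 2 ^ ((Fintype.card Λ).factorial.factorization 2) ≤
      2 ^ (m - 1) * 2 ^ ((Fintype.card Λ).factorial.factorization 2) := h6.trans h5
  exact hAc.trans (Nat.le_of_mul_le_mul_right h7 (by positivity))

theorem single_add_apply {i j l : Λ} (hij : i ≠ j) :
    (Pi.single i 1 + Pi.single j 1 : Λ → ZMod 2) l = 1 ↔ l = i ∨ l = j := by
  rw [Pi.add_apply]
  by_cases hi : l = i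
  · subst hi
    rw [Pi.single_eq_same, Pi.single_eq_of_ne hij]; simp
  · by_cases hj : l = j
    · subst hj
      rw [Pi.single_eq_same, Pi.single_eq_of_ne hi]; simp
    · rw [Pi.single_eq_of_ne hi, Pi.single_eq_of_ne hj]; simp [hi, hj]

theorem single_add_ne {i j l : Λ} (hi : l ≠ i) (hj : l ≠ j) :
    (Pi.single i 1 + Pi.single j 1 : Λ → ZMod 2) l = 0 := by
  rw [Pi.add_apply, Pi.single_eq_of_ne hi, Pi.single_eq_of_ne hj, add_zero]

theorem pm_swap_self {j l : Λ} {c : Λ → ZMod 2} (h : c j = c l) : pm (Equiv.swap j l) c = c := by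
  ext r
  rw [pm_apply, Equiv.symm_swap]
  by_cases h1 : r = j
  · subst h1; rw [Equiv.swap_apply_left, h]
  · by_cases h2 : r = l
    · subst h2; rw [Equiv.swap_apply_right, h]
    · rw [Equiv.swap_apply_of_ne_of_ne h1 h2]

theorem pm_single (σ : Equiv.Perm Λ) (i : Λ) : pm σ (Pi.single i 1) = Pi.single (σ i) 1 := by
  ext l
  rw [pm_apply]
  by_cases hl : l = σ i
  · subst hl
    rw [Equiv.symm_apply_apply, Pi.single_eq_same, Pi.single_eq_same]
  · rw [Pi.single_eq_of_ne hl, Pi.single_eq_of_ne]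
    intro h3
    rw [Equiv.symm_apply_eq] at h3
    exact hl h3

/-- (B): if `{i, j}` is inside a class of `c` and the map is in `K`, the class is small -/
theorem Hyp.small (H : Hyp K m) {c : Λ → ZMod 2} {i j : Λ} (hij : i ≠ j) (hcij : c i = c j)
    (hc : c ≠ 0) (hc' : c ≠ Pi.single i 1 + Pi.single j 1)
    (h : Rc K (Pi.single i 1 + Pi.single j 1) c) :
    (univ.filter fun l => c l = c i).card ≤ m := by
  set A : Finset Λ := univ.filter fun l => c l = c i with hA
  have hmA : ∀ l, l ∈ A ↔ c l = c i := fun l => by simp [hA]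
  -- the group of even vectors supported in `A`
  let D : AddSubgroup (Λ → ZMod 2) :=
    { carrier := {b | ∑ l, b l = 0 ∧ ∀ l, l ∉ A → b l = 0}
      add_mem' := by
        rintro b d ⟨h1, h2⟩ ⟨h3, h4⟩
        refine ⟨?_, fun l hl => ?_⟩
        · simp only [Pi.add_apply, Finset.sum_add_distrib, h1, h3, add_zero]
        · rw [Pi.add_apply, h2 l hl, h4 l hl, add_zero]
      zero_mem' := ⟨by simp, fun _ _ => rfl⟩
      neg_mem' := by
        rintro b ⟨h1, h2⟩
        refine ⟨?_, fun l hl => ?_⟩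
        · simp only [Pi.neg_apply, Finset.sum_neg_distrib, h1, neg_zero]
        · rw [Pi.neg_apply, h2 l hl, neg_zero] }
  have hpair : ∀ l ∈ A, l ≠ i → Rc K (Pi.single i 1 + Pi.single l 1) c := by
    intro l hl hli
    by_cases hlj : l = j
    · subst hlj; exact h
    · have h1 := H.rc_pm h (Equiv.swap j l)
      rw [pm_swap_self (c := c) (by rw [(hmA l).1 hl, hcij]), map_add, pm_single, pm_single,
        Equiv.swap_apply_left, Equiv.swap_apply_of_ne_of_ne hij (Ne.symm hli)] at h1
      exact h1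
  have hD : ∀ b ∈ D, Rc K b c := by
    rintro b ⟨hb1, hb2⟩
    have h1 : b = ∑ l ∈ A.erase i, b l • (Pi.single i 1 + Pi.single l 1 : Λ → ZMod 2) := by
      ext r
      rw [Finset.sum_apply]
      simp only [Pi.smul_apply, Pi.add_apply, smul_eq_mul]
      by_cases hr : r = i
      · subst hr
        have h2 : ∑ l ∈ A.erase r, b l * ((Pi.single r 1 : Λ → ZMod 2) r + (Pi.single l 1 : Λ → ZMod 2) r) =
            ∑ l ∈ A.erase r, b l := by
          refine Finset.sum_congr rfl fun l hl => ?_
          rw [Pi.single_eq_same, Pi.single_eq_of_ne (Finset.ne_of_mem_erase hl).symm, add_zero, mul_one]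
        rw [h2]
        have h3 : ∑ l, b l = ∑ l ∈ A, b l := by
          symm
          apply Finset.sum_subset (Finset.subset_univ _)
          intro l _ hl
          exact hb2 l hl
        have h4 : r ∈ A := by rw [hmA]
        rw [h3, ← Finset.add_sum_erase A b h4] at hb1
        generalize (∑ l ∈ A.erase r, b l) = u at hb1 ⊢
        generalize b r = v at hb1 ⊢
        revert u v; decide
      · by_cases hrA : r ∈ A
        · rw [Finset.sum_eq_single r]
          · rw [Pi.single_eq_of_ne hr, Pi.single_eq_same, zero_add, mul_one]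
          · intro l _ hlr
            rw [Pi.single_eq_of_ne hr, Pi.single_eq_of_ne (Ne.symm hlr), add_zero, mul_zero]
          · intro hr2
            exact absurd (Finset.mem_erase.2 ⟨hr, hrA⟩) hr2
        · rw [hb2 r hrA, Finset.sum_eq_zero]
          intro l hl
          have hlr : r ≠ l := by
            rintro rfl
            exact hrA (Finset.mem_of_mem_erase hl)
          rw [Pi.single_eq_of_ne hr, Pi.single_eq_of_ne hlr, add_zero, mul_zero]
    have h2 : b ∈ RcS K c hc := by
      rw [h1]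
      apply AddSubgroup.sum_mem
      intro l hl
      rcases two_cases (b l) with h0 | h0
      · rw [h0, zero_smul]; exact (RcS K c hc).zero_mem
      · rw [h0, one_smul]
        exact hpair l (Finset.mem_of_mem_erase hl) (Finset.ne_of_mem_erase hl)
    exact h2
  have hinv : ∀ b ∈ D, ∀ σ : Equiv.Perm Λ, pm σ c = c → pm σ b ∈ D := by
    rintro b ⟨hb1, hb2⟩ σ hσ
    refine ⟨by rw [sum_pm, hb1], fun l hl => ?_⟩
    rw [pm_apply]
    apply hb2
    intro hl2
    apply hl
    rw [hmA] at hl2 ⊢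
    have := congrFun hσ l
    rw [pm_apply] at this
    rw [← this, hl2]
  have hper : ∀ b ∈ D, ∀ σ : Equiv.Perm Λ, IsT (pm σ) b c → σ = 1 := by
    rintro b ⟨hb1, hb2⟩ σ hσ
    rcases isT_pm hσ with h1 | ⟨i', j', hij', hbi, hcc⟩
    · exact h1
    · exfalso
      have h2 : i' ∈ A := by
        by_contra h3
        rw [hb2 i' h3] at hbi
        exact zero_ne_one hbi
      have h3 : c i' = 1 := by
        rw [hcc, single_add_apply hij']; exact Or.inl rfl
      rw [hmA] at h2
      have h4 : c i = 1 := by rw [← h2, h3]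
      have h5 : c j = 1 := by rw [← hcij, h4]
      rw [hcc, single_add_apply hij'] at h4 h5
      apply hc'
      rcases h4 with h4 | h4 <;> rcases h5 with h5 | h5
      · exact absurd (h4.trans h5.symm) hij
      · rw [hcc, h4, h5]
      · rw [hcc, h4, h5, add_comm]
      · exact absurd (h4.trans h5.symm) hij
  have h1 := H.bound hc D hD hinv hper
  have hiA : i ∈ A := by rw [hmA]
  have h2 : 2 ^ (A.card - 1) ≤ Nat.card D := by
    rw [← Finset.card_erase_of_mem hiA, ← Finset.card_powerset, ← Nat.card_eq_finsetCard]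
    refine Nat.card_le_card_of_injective
      (fun s : {s // s ∈ (A.erase i).powerset} =>
        (⟨ind s.1 + (s.1.card : ZMod 2) • Pi.single i 1, ?_, ?_⟩ : D)) ?_
    · have h3 : ∑ l, (Pi.single i 1 : Λ → ZMod 2) l = 1 := by simp
      simp only [Pi.add_apply, Finset.sum_add_distrib, sum_ind, Pi.smul_apply, smul_eq_mul,
        ← Finset.mul_sum, h3, mul_one]
      generalize (s.1.card : ZMod 2) = u
      revert u; decide
    · intro l hl
      have h3 : l ∉ s.1 := fun h4 =>
        hl (Finset.mem_of_mem_erase (Finset.mem_powerset.1 s.2 h4))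
      have h4 : l ≠ i := by
        rintro rfl
        exact hl hiA
      rw [Pi.add_apply, Pi.smul_apply, Pi.single_eq_of_ne h4, ind_of_not_mem h3, smul_zero, add_zero]
    · intro s t hst
      have h3 : ind s.1 + (s.1.card : ZMod 2) • Pi.single i 1 =
        ind t.1 + (t.1.card : ZMod 2) • Pi.single i 1 := congrArg Subtype.val hst
      ext1
      apply ind_injective
      ext l
      by_cases hl : l = i
      · subst hl
        rw [ind_of_not_mem, ind_of_not_mem]
        · intro h4
          exact Finset.notMem_erase l A (Finset.mem_powerset.1 t.2 h4)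
        · intro h4
          exact Finset.notMem_erase l A (Finset.mem_powerset.1 s.2 h4)
      · have h5 := congrFun h3 l
        rw [Pi.add_apply, Pi.smul_apply, Pi.add_apply, Pi.smul_apply, Pi.single_eq_of_ne hl,
          smul_zero, smul_zero, add_zero, add_zero] at h5
        exact h5
  have h3 := h2.trans h1
  have h4 : A.card - 1 ≤ m - 1 := (Nat.pow_le_pow_iff_right (by norm_num)).1 h3
  have h5 : 0 < A.card := Finset.card_pos.2 ⟨i, hiA⟩
  have := H.hm
  omega

/-- (C) -/
theorem Hyp.pair (H : Hyp K m) {c : Λ → ZMod 2} {i j : Λ} (hij : i ≠ j) (hcij : c i = c j)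
    (h : Rc K (Pi.single i 1 + Pi.single j 1) c) :
    c = 0 ∨ c = Pi.single i 1 + Pi.single j 1 := by
  by_contra hcon
  push Not at hcon
  obtain ⟨hc, hc'⟩ := hcon
  set w : Λ → ZMod 2 := Pi.single i 1 + Pi.single j 1 with hw
  have h1 := H.small hij hcij hc hc' h
  have hwi : w i = 1 := (single_add_apply hij).2 (Or.inl rfl)
  have hwj : w j = 1 := (single_add_apply hij).2 (Or.inr rfl)
  have h2 := H.small (c := c + w) hij (by rw [Pi.add_apply, Pi.add_apply, hwi, hwj, hcij])
    (fun h3 => hc' (by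
      have h4 := congrArg (fun x => x + w) h3
      simpa [add_assoc, add_self_W] using h4))
    (fun h3 => hc (by
      have h4 := congrArg (fun x => x + w) h3
      change c + w + w = w + w at h4
      rwa [add_assoc, add_self_W, add_zero] at h4))
    (H.twist hij hcij h)
  have h3 : univ ⊆ (univ.filter fun l => c l = c i) ∪ (univ.filter fun l => (c + w) l = (c + w) i) := by
    intro l _
    rw [Finset.mem_union, Finset.mem_filter, Finset.mem_filter]
    by_cases hl : c l = c i
    · exact Or.inl ⟨Finset.mem_univ _, hl⟩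
    · right
      refine ⟨Finset.mem_univ _, ?_⟩
      have h4 : l ≠ i := by rintro rfl; exact hl rfl
      have h5 : l ≠ j := by rintro rfl; exact hl hcij.symm
      rw [Pi.add_apply, Pi.add_apply, hwi, hw, single_add_ne h4 h5]
      generalize c l = u at hl ⊢
      generalize c i = v at hl ⊢
      revert u v; decide
  have h4 := (Finset.card_le_card h3).trans (Finset.card_union_le _ _)
  rw [Finset.card_univ] at h4
  have h5 := H.card
  have h6 := H.hm
  have h7 : 2 * m + 1 < 2 ^ m := by
    clear_value w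
    clear h1 h2 h3 h4 h5 h hcij hwi hwj hc hc' hw H
    induction m, h6 using Nat.le_induction with
    | base => norm_num
    | succ n hn ih => rw [pow_succ]; omega
  omega

/-- first part of (1b) -/
theorem Hyp.first (H : Hyp K m) {b c : Λ → ZMod 2} (h : Rc K b c) :
    b = 0 ∨ c = 0 ∨ c = b ∨ c = b + 1 := by
  by_cases hc : c = 0
  · exact Or.inr (Or.inl hc)
  by_cases hb : b = 0
  · exact Or.inl hb
  right; right
  -- `b` is constant on the classes of `c`
  have hconst : ∀ i j, c i = c j → b i = b j := by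
    intro i j hcij
    by_contra hbij
    have hij : i ≠ j := fun h0 => hbij (by rw [h0])
    have h1 := H.rc_pm h (Equiv.swap i j)
    rw [pm_swap_self hcij] at h1
    have h2 := h.add h1 hc
    have h3 : b + pm (Equiv.swap i j) b = Pi.single i 1 + Pi.single j 1 := by
      have hsum : b i + b j = 1 := by
        generalize b i = u at hbij ⊢
        generalize b j = v at hbij ⊢
        revert u v; decide
      ext l
      rw [Pi.add_apply, pm_apply, Equiv.symm_swap]
      by_cases hl : l = i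
      · subst hl
        rw [Equiv.swap_apply_left, hsum]
        exact ((single_add_apply hij).2 (Or.inl rfl)).symm
      · by_cases hl2 : l = j
        · subst hl2
          rw [Equiv.swap_apply_right, add_comm, hsum]
          exact ((single_add_apply hij).2 (Or.inr rfl)).symm
        · rw [Equiv.swap_apply_of_ne_of_ne hl hl2, single_add_ne hl hl2]
          generalize b l = u
          revert u; decide
    rw [h3] at h2
    rcases H.pair hij hcij h2 with h4 | h4
    · exact hc h4
    · have h5 := h.dt_eq hc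
      rw [h4, dt_add, dt_single, dt_single] at h5
      generalize b i = u at hbij h5
      generalize b j = v at hbij h5
      revert u v; decide
  -- `b` is not constant
  obtain ⟨hb0, _⟩ := h
  have hodd : ¬ Even (Fintype.card Λ) := by
    have h1 := H.card
    have h2 := H.hm
    intro h3
    have h4 : Even (2 ^ m) := (Nat.even_pow).2 ⟨even_two, by omega⟩
    rw [← h1] at h4
    exact (Nat.even_add_one.1 h4) h3
  obtain ⟨i, hi⟩ : ∃ i, b i ≠ 0 := by
    by_contra h0
    push Not at h0
    exact hb (funext h0)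
  have hi1 : b i = 1 := (two_cases _).resolve_left hi
  obtain ⟨j, hj⟩ : ∃ j, b j = 0 := by
    by_contra h0
    push Not at h0
    apply hodd
    rw [even_iff] at hb0
    have : spt b = univ := by
      ext l; rw [mem_spt]; simp [h0 l]
    rwa [this, Finset.card_univ] at hb0
  have hcij : c i ≠ c j := fun h1 => by
    have h2 := hconst i j h1
    rw [hi1, hj] at h2
    exact one_ne_zero h2
  rcases two_cases (c i) with h1 | h1
  · right
    have h2 : c j = 1 := (two_cases _).resolve_left (fun h3 => hcij (by rw [h1, h3]))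
    ext l
    rw [Pi.add_apply, Pi.one_apply]
    rcases two_cases (c l) with h3 | h3
    · rw [hconst l i (by rw [h3, h1]), hi1, h3]; decide
    · rw [hconst l j (by rw [h3, h2]), hj, h3]; decide
  · left
    have h2 : c j = 0 := (two_cases _).resolve_right (fun h3 => hcij (by rw [h1, h3]))
    ext l
    rcases two_cases (c l) with h3 | h3
    · rw [hconst l j (by rw [h3, h2]), hj, h3]
    · rw [hconst l i (by rw [h3, h1]), hi1, h3]

/-! ### the weight of `b` -/

/-- the even `b` such that `x ↦ x + (b ⬝ x) (b + ε)` is in `K` for some `ε` -/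
def Cen (K : Subgroup (GV Λ)) (b : Λ → ZMod 2) : Prop :=
  ∑ i, b i = 0 ∧ ∃ k ∈ K, ∃ e : ZMod 2, IsT k b (b + e • 1)

theorem Cen.add {b d : Λ → ZMod 2} (h : Cen K b) (h' : Cen K d) (hbd : dt b d = 1) :
    Cen K (b + d) := by
  obtain ⟨hb, k, hk, e, h1⟩ := h
  obtain ⟨hd, l, hl, z, h2⟩ := h'
  have hb1 : dt b 1 = 0 := by rw [dt_one, hb]
  have hd1 : dt d 1 = 0 := by rw [dt_one, hd]
  have hbb : dt b b = 0 := by rw [dt_self, hb]
  have hdb : dt d b = 1 := by rw [dt_comm, hbd]
  refine ⟨?_, k * l * k⁻¹, K.mul_mem (K.mul_mem hk hl) (K.inv_mem hk), z + e, ?_⟩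
  · simp only [Pi.add_apply, Finset.sum_add_distrib, hb, hd, add_zero]
  · have h3 : ∀ x, dt (b + d) x = dt d (k⁻¹ x) := by
      intro x
      have h4 : k (k⁻¹ x) = x := by
        change (k * k⁻¹) x = x
        rw [mul_inv_cancel]; rfl
      conv_lhs => rw [← h4, h1.apply]
      rw [add_dt, dt_add, dt_add, dt_smul, dt_smul, dt_add, dt_add, dt_smul, dt_smul, hbb, hb1,
        hdb, hd1, mul_zero, add_zero, add_zero, mul_one, mul_zero, add_zero]
      generalize dt b (k⁻¹ x) = u
      generalize dt d (k⁻¹ x) = v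
      revert u v; decide
    have h4 := h2.conj h3
    have h5 : k (d + z • 1) = b + d + (z + e) • 1 := by
      rw [h1.apply, dt_add, dt_smul, hb1, hbd, mul_zero, add_zero, one_smul, add_smul]
      abel
    rwa [h5] at h4

theorem Hyp.cen_pm (H : Hyp K m) {b : Λ → ZMod 2} (h : Cen K b) (σ : Equiv.Perm Λ) :
    Cen K (pm σ b) := by
  obtain ⟨h1, k, hk, e, h2⟩ := h
  refine ⟨by rw [sum_pm, h1], pm σ * k * (pm σ)⁻¹,
    K.mul_mem (K.mul_mem (H.perm σ) hk) (K.inv_mem (H.perm σ)), e, ?_⟩
  have h3 := h2.conj_pm σ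
  rw [map_add, map_smul] at h3
  exact h3

theorem dt_ind (s t : Finset Λ) : dt (ind s) (ind t) = ((s ∩ t).card : ZMod 2) := by
  rw [← sum_ind]
  simp only [dt, ind_apply, Finset.mem_inter]
  refine Finset.sum_congr rfl fun i _ => ?_
  by_cases h1 : i ∈ s <;> by_cases h2 : i ∈ t <;> simp [h1, h2]

/-- all vectors of weight `a` are in `Cen` -/
def CW (K : Subgroup (GV Λ)) (a : ℕ) : Prop := ∀ s : Finset Λ, s.card = a → Cen K (ind s)

theorem Hyp.cw_of (H : Hyp K m) {s : Finset Λ} (h : Cen K (ind s)) : CW K s.card := by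
  intro t ht
  obtain ⟨σ, hσ⟩ := exists_perm ht.symm
  rw [← hσ]
  exact H.cen_pm h σ

theorem Hyp.cw_step (H : Hyp K m) {a a' t : ℕ} (h : CW K a) (h' : CW K a') (ht : Odd t)
    (hta : t ≤ a) (hta' : t ≤ a') (hc : a + a' ≤ Fintype.card Λ + t) :
    CW K (a + a' - 2 * t) := by
  obtain ⟨T, _, hT⟩ := Finset.exists_subset_card_eq (s := (univ : Finset Λ)) (n := t)
    (by rw [Finset.card_univ]; omega)
  obtain ⟨U, hU1, hU⟩ := Finset.exists_subset_card_eq (s := (univ \ T : Finset Λ)) (n := a - t)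
    (by rw [Finset.card_sdiff_of_subset (Finset.subset_univ _), Finset.card_univ]; omega)
  obtain ⟨V, hV1, hV⟩ := Finset.exists_subset_card_eq (s := ((univ \ T) \ U : Finset Λ)) (n := a' - t)
    (by
      rw [Finset.card_sdiff_of_subset hU1, Finset.card_sdiff_of_subset (Finset.subset_univ _),
        Finset.card_univ]; omega)
  have hTU : Disjoint T U := by
    rw [Finset.disjoint_left]
    intro i hi hi2
    exact (Finset.mem_sdiff.1 (hU1 hi2)).2 hi
  have hTV : Disjoint T V := by
    rw [Finset.disjoint_left]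
    intro i hi hi2
    exact (Finset.mem_sdiff.1 (Finset.mem_sdiff.1 (hV1 hi2)).1).2 hi
  have hUV : Disjoint U V := by
    rw [Finset.disjoint_left]
    intro i hi hi2
    exact (Finset.mem_sdiff.1 (hV1 hi2)).2 hi
  have h1 : Cen K (ind (T ∪ U)) := h _ (by rw [Finset.card_union_of_disjoint hTU]; omega)
  have h2 : Cen K (ind (T ∪ V)) := h' _ (by rw [Finset.card_union_of_disjoint hTV]; omega)
  have h3 : (T ∪ U) ∩ (T ∪ V) = T := by
    rw [← Finset.union_inter_distrib_left, Finset.disjoint_iff_inter_eq_empty.1 hUV,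
      Finset.union_empty]
  have h4 : dt (ind (T ∪ U)) (ind (T ∪ V)) = 1 := by
    rw [dt_ind, h3, hT]
    exact (ZMod.natCast_eq_one_iff_odd).2 ht
  have h5 := h1.add h2 h4
  have h6 : ind (T ∪ U) + ind (T ∪ V) = (ind (U ∪ V) : Λ → ZMod 2) := by
    ext i
    rw [Pi.add_apply, ind_apply, ind_apply, ind_apply]
    simp only [Finset.mem_union]
    by_cases hiT : i ∈ T
    · have hiU := Finset.disjoint_left.1 hTU hiT
      have hiV := Finset.disjoint_left.1 hTV hiT
      simp only [hiT, hiU, hiV, or_false, if_true, if_false]; decide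
    · by_cases hiU : i ∈ U
      · have hiV := Finset.disjoint_left.1 hUV hiU
        simp [hiT, hiU, hiV]
      · simp [hiT, hiU]
  rw [h6] at h5
  have h7 := H.cw_of h5
  rw [Finset.card_union_of_disjoint hUV, hU, hV] at h7
  have h8 : a + a' - 2 * t = a - t + (a' - t) := by omega
  rw [h8]; exact h7

theorem Hyp.cw_top (H : Hyp K m) {a : ℕ} (ha : Even a) (ha4 : 4 ≤ a) (ha' : a + 2 ≤ 2 ^ m)
    (h : CW K a) : CW K (2 ^ m - 2) := by
  have hcard := H.card
  have hm := H.hm
  have h8 : 8 ∣ 2 ^ m := ⟨2 ^ (m - 3), by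
    rw [show (8 : ℕ) = 2 ^ 3 from rfl, ← pow_add]; congr 1; omega⟩
  obtain ⟨q, hq⟩ := h8
  obtain ⟨a1, ha1⟩ := ha
  by_cases h0 : a + 2 = 2 ^ m
  · have : 2 ^ m - 2 = a := by omega
    rw [this]; exact h
  · have h6 : CW K 6 := by
      have h1 := H.cw_step (t := a - 3) h h (by
        rw [Nat.odd_iff]; omega) (by omega) (by omega) (by omega)
      have h2 : a + a - 2 * (a - 3) = 6 := by omega
      rwa [h2] at h1
    have hr : ∀ r, 6 + 4 * r + 2 ≤ 2 ^ m → CW K (6 + 4 * r) := by
      intro r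
      induction r with
      | zero => intro _; exact h6
      | succ r ih =>
        intro h1
        have h2 := H.cw_step (t := 1) (ih (by omega)) h6 odd_one (by omega) (by omega) (by omega)
        have h3 : 6 + 4 * r + 6 - 2 * 1 = 6 + 4 * (r + 1) := by omega
        rwa [h3] at h2
    have h1 := hr (2 * q - 2) (by omega)
    have h2 : 6 + 4 * (2 * q - 2) = 2 ^ m - 2 := by omega
    rwa [h2] at h1

/-! ### the full symmetric group on `Option Λ` is too big -/

theorem dt_one_add_single (k : Λ) (x : Λ → ZMod 2) :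
    dt (1 + Pi.single k 1) x = (∑ i, x i) + x k := by
  rw [add_dt, single_dt, dt_comm, dt_one]

theorem pm_one_vec (σ : Equiv.Perm Λ) : pm σ (1 : Λ → ZMod 2) = 1 := by
  ext i; rw [pm_apply]; rfl

/-- (1b), the final count -/
theorem Hyp.no_top (H : Hyp K m) (h : CW K (2 ^ m - 2)) : False := by
  have hp2 : Fact (Nat.Prime 2) := ⟨Nat.prime_two⟩
  have hcard := H.card
  have hm := H.hm
  have h8 : 8 ≤ 2 ^ m := by
    calc 8 = 2 ^ 3 := by norm_num
      _ ≤ 2 ^ m := Nat.pow_le_pow_right (by norm_num) hm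
  have hn1 : ((Fintype.card Λ : ℕ) : ZMod 2) = 1 := by
    rw [ZMod.natCast_eq_one_iff_odd, Nat.odd_iff]
    have h9 : 2 ∣ 2 ^ m := dvd_pow_self 2 (by omega)
    omega
  have hsone : ∑ i : Λ, (1 : Λ → ZMod 2) i = 1 := by
    simp only [Pi.one_apply, Finset.sum_const, Finset.card_univ, nsmul_eq_mul, mul_one]
    exact hn1
  have hssingle : ∀ k : Λ, ∑ i : Λ, (Pi.single k 1 : Λ → ZMod 2) i = 1 := fun k => by simp
  obtain ⟨k0⟩ : Nonempty Λ := Fintype.card_pos_iff.1 (by omega)
  -- the complement of a point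
  have hind : ∀ k : Λ, ind (univ.erase k) = (1 + Pi.single k 1 : Λ → ZMod 2) := by
    intro k; ext i
    rw [ind_apply, Pi.add_apply, Pi.one_apply]
    by_cases hi : i = k
    · subst hi; rw [Pi.single_eq_same, if_neg (Finset.notMem_erase _ _)]
      exact z_one_one.symm
    · rw [Pi.single_eq_of_ne hi, if_pos (Finset.mem_erase.2 ⟨hi, Finset.mem_univ _⟩), add_zero]
  have hcen : Cen K (1 + Pi.single k0 1 : Λ → ZMod 2) := by
    rw [← hind]
    apply h
    rw [Finset.card_erase_of_mem (Finset.mem_univ _), Finset.card_univ]; omega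
  obtain ⟨_, t0, ht0, e, he⟩ := hcen
  have hall : ∀ k : Λ, ∃ t ∈ K, IsT t (1 + Pi.single k 1) (1 + Pi.single k 1 + e • 1) := by
    intro k
    refine ⟨pm (Equiv.swap k0 k) * t0 * (pm (Equiv.swap k0 k))⁻¹,
      K.mul_mem (K.mul_mem (H.perm _) ht0) (K.inv_mem (H.perm _)), ?_⟩
    have h1 := he.conj_pm (Equiv.swap k0 k)
    rwa [map_add, map_add, map_add, map_smul, pm_single, pm_one_vec, Equiv.swap_apply_left] at h1
  choose t htK ht using hall
  have he2 := two_cases e
  -- the centre `c k`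
  have hcne : ∀ k : Λ, (1 + Pi.single k 1 + e • 1 : Λ → ZMod 2) ≠ 0 := by
    intro k h1
    rcases he2 with h2 | h2
    · rw [h2, zero_smul, add_zero, ← hind] at h1
      have h3 := congrArg (fun x => (spt x).card) h1
      simp only [spt_ind] at h3
      rw [Finset.card_erase_of_mem (Finset.mem_univ _), Finset.card_univ] at h3
      have h4 : (spt (0 : Λ → ZMod 2)).card = 0 := by simp [spt]
      omega
    · rw [h2, one_smul] at h1
      have h3 := congrFun h1 k
      rw [Pi.add_apply, Pi.add_apply, Pi.single_eq_same, Pi.one_apply, Pi.zero_apply] at h3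
      exact z_three h3
  have hcpair : ∀ k i j : Λ, i ≠ j →
      (1 + Pi.single k 1 + e • 1 : Λ → ZMod 2) ≠ Pi.single i 1 + Pi.single j 1 := by
    intro k i j hij h1
    rcases he2 with h2 | h2
    · rw [h2, zero_smul, add_zero, ← hind] at h1
      have h3 : (Pi.single i 1 + Pi.single j 1 : Λ → ZMod 2) = ind {i, j} := by
        ext l
        rw [ind_apply]
        by_cases hl : l = i ∨ l = j
        · rw [(single_add_apply hij).2 hl, if_pos (by simpa using hl)]
        · push Not at hl
          rw [single_add_ne hl.1 hl.2, if_neg (by simpa using hl)]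
      rw [h3] at h1
      have h4 := congrArg Finset.card (ind_injective h1)
      rw [Finset.card_erase_of_mem (Finset.mem_univ _), Finset.card_univ,
        Finset.card_pair hij] at h4
      omega
    · have h3 := congrArg (fun x : Λ → ZMod 2 => ∑ l, x l) h1
      simp only [h2, one_smul, Pi.add_apply, Finset.sum_add_distrib, hssingle, hsone] at h3
      exact z_three' h3
  have htpm : ∀ (k : Λ) (σ : Equiv.Perm Λ), pm σ ≠ t k := by
    intro k σ h1
    have h2 := ht k
    rw [← h1] at h2
    rcases isT_pm h2 with h3 | ⟨i, j, hij, _, h3⟩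
    · rw [h3] at h2
      obtain ⟨l, hl⟩ : ∃ l : Λ, l ≠ k := by
        have : 1 < Fintype.card Λ := by omega
        obtain ⟨l, hl⟩ := Fintype.exists_ne_of_one_lt_card this k
        exact ⟨l, hl⟩
      have h4 := h2.apply (Pi.single l 1)
      rw [map_one, dt_single, Pi.add_apply, Pi.single_eq_of_ne hl, add_zero, Pi.one_apply,
        one_smul] at h4
      apply hcne k
      change (Pi.single l 1 : Λ → ZMod 2) = _ at h4
      exact (left_eq_add.1 h4)
    · exact hcpair k i j hij h3
  have hsq : ∀ k, t k * t k = 1 := fun k => (ht k).sq (hcne k)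
  have hconj : ∀ (σ : Equiv.Perm Λ) (k : Λ), pm σ * t k * (pm σ)⁻¹ = t (σ k) := by
    intro σ k
    have h1 := (ht k).conj_pm σ
    rw [map_add, map_add, map_add, map_smul, pm_single, pm_one_vec] at h1
    exact h1.ext (ht (σ k))
  have hconj' : ∀ (σ : Equiv.Perm Λ) (k : Λ), t k * pm σ = pm σ * t (σ⁻¹ k) := by
    intro σ k
    rw [← hconj σ⁻¹ k, map_inv]; group
  have hmul : ∀ k l : Λ, k ≠ l → t k * t l = pm (Equiv.swap k l) * t k := by
    intro k l hkl
    ext1 x
    change t k (t l x) = pm (Equiv.swap k l) (t k x)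
    have h1 : dt (1 + Pi.single k 1) (1 : Λ → ZMod 2) = 0 := by
      rw [dt_one_add_single, hsone]; exact z_one_one
    have h2 : dt (1 + Pi.single l 1) (1 : Λ → ZMod 2) = 0 := by
      rw [dt_one_add_single, hsone]; exact z_one_one
    have h3 : dt (1 + Pi.single k 1) (1 + Pi.single l 1 : Λ → ZMod 2) = 1 := by
      rw [dt_add, h1, dt_one_add_single, hssingle, Pi.single_eq_of_ne hkl, zero_add, add_zero]
    have h4 : dt (1 + Pi.single k 1) (1 + Pi.single k 1 : Λ → ZMod 2) = 0 := by
      rw [dt_add, h1, dt_one_add_single, hssingle, Pi.single_eq_same, zero_add]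
      exact z_one_one
    have h5 : dt (1 + Pi.single l 1) (1 + Pi.single k 1 : Λ → ZMod 2) = 1 := by
      rw [dt_comm, h3]
    have hw : (Pi.single k 1 + Pi.single l 1 : Λ → ZMod 2) =
        (1 + Pi.single k 1) + (1 + Pi.single l 1) := by
      rw [add_add_add_comm, add_self_W, zero_add]
    rw [(isT_swap k l hkl).apply, (ht k).apply x, (ht l).apply, (ht k).apply, hw]
    generalize (1 + Pi.single k 1 : Λ → ZMod 2) = sk at h1 h3 h4 h5 ⊢
    generalize (1 + Pi.single l 1 : Λ → ZMod 2) = sl at h2 h3 h5 ⊢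
    simp only [dt_add, add_dt, dt_smul, h1, h2, h3, h4, h5, mul_one, mul_zero, add_zero, zero_add]
    generalize dt sk x = u
    generalize dt sl x = v
    have h6 : u + v + u = v := by
      have : u + v + u = v + (u + u) := by ring
      rw [this, CharTwo.add_self_eq_zero, add_zero]
    rw [h6]
    ext i
    simp only [Pi.add_apply, Pi.smul_apply, smul_eq_mul, Pi.one_apply]
    have h7 : v * e + v * e = 0 := CharTwo.add_self_eq_zero _
    linear_combination h7
  -- the group of order `|Λ|! * (|Λ| + 1)`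
  let f : Equiv.Perm Λ × Option Λ → GV Λ := fun p => pm p.1 * p.2.elim 1 t
  have hf : Function.Injective f := by
    rintro ⟨σ, a⟩ ⟨τ, b⟩ hab
    change pm σ * a.elim 1 t = pm τ * b.elim 1 t at hab
    rcases a with _ | k <;> rcases b with _ | l
    · change pm σ * 1 = pm τ * 1 at hab
      rw [mul_one, mul_one] at hab
      rw [pm_injective hab]
    · exfalso
      change pm σ * 1 = pm τ * t l at hab
      apply htpm l (τ⁻¹ * σ)
      rw [map_mul, map_inv, ← mul_one (pm σ), hab, inv_mul_cancel_left]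
    · exfalso
      change pm σ * t k = pm τ * 1 at hab
      apply htpm k (σ⁻¹ * τ)
      rw [map_mul, map_inv, ← mul_one (pm τ), ← hab, inv_mul_cancel_left]
    · change pm σ * t k = pm τ * t l at hab
      by_cases hkl : k = l
      · subst hkl
        rw [pm_injective (mul_right_cancel hab)]
      · exfalso
        -- `t k t l = pm (σ⁻¹ τ)`
        have h1 : t k * t l = pm (σ⁻¹ * τ) := by
          have h2 : t l * t l = 1 := hsq l
          have h3 : t k = (pm σ)⁻¹ * (pm τ * t l) := by rw [← hab, inv_mul_cancel_left]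
          rw [h3, map_mul, map_inv, mul_assoc, mul_assoc, h2, mul_one]
        rw [hmul k l hkl] at h1
        apply htpm k ((Equiv.swap k l)⁻¹ * (σ⁻¹ * τ))
        rw [map_mul, ← h1, map_inv, inv_mul_cancel_left]
  let X : Subgroup (GV Λ) :=
    { carrier := Set.range f
      mul_mem' := by
        rintro _ _ ⟨⟨σ, a⟩, rfl⟩ ⟨⟨τ, b⟩, rfl⟩
        rcases a with _ | k
        · refine ⟨⟨σ * τ, b⟩, ?_⟩
          change pm (σ * τ) * b.elim 1 t = pm σ * 1 * (pm τ * b.elim 1 t)
          rw [map_mul, mul_one, mul_assoc]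
        · rcases b with _ | l
          · refine ⟨⟨σ * τ, some (τ⁻¹ k)⟩, ?_⟩
            change pm (σ * τ) * t (τ⁻¹ k) = pm σ * t k * (pm τ * 1)
            rw [mul_one, mul_assoc, hconj', map_mul, mul_assoc]
          · by_cases hkl : τ⁻¹ k = l
            · refine ⟨⟨σ * τ, none⟩, ?_⟩
              change pm (σ * τ) * 1 = pm σ * t k * (pm τ * t l)
              rw [mul_one, mul_assoc, ← mul_assoc (t k), hconj', hkl, mul_assoc (pm τ), hsq,
                mul_one, map_mul]
            · refine ⟨⟨σ * τ * Equiv.swap (τ⁻¹ k) l, some (τ⁻¹ k)⟩, ?_⟩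
              change pm (σ * τ * Equiv.swap (τ⁻¹ k) l) * t (τ⁻¹ k) = pm σ * t k * (pm τ * t l)
              rw [mul_assoc (pm σ) (t k), ← mul_assoc (t k), hconj', mul_assoc (pm τ), hmul _ _ hkl,
                map_mul, map_mul]
              simp only [mul_assoc]
      one_mem' := ⟨⟨1, none⟩, by change pm 1 * 1 = 1; rw [map_one, mul_one]⟩
      inv_mem' := by
        rintro _ ⟨⟨σ, a⟩, rfl⟩
        rcases a with _ | k
        · refine ⟨⟨σ⁻¹, none⟩, ?_⟩
          change pm σ⁻¹ * 1 = (pm σ * 1)⁻¹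
          rw [mul_one, mul_one, map_inv]
        · refine ⟨⟨σ⁻¹, some (σ k)⟩, ?_⟩
          change pm σ⁻¹ * t (σ k) = (pm σ * t k)⁻¹
          have h1 : (t k)⁻¹ = t k := by rw [inv_eq_iff_mul_eq_one]; exact hsq k
          rw [mul_inv_rev, h1, ← map_inv, hconj', inv_inv] }
  have hXK : X ≤ K := by
    rintro _ ⟨⟨σ, a⟩, rfl⟩
    rcases a with _ | k
    · exact K.mul_mem (H.perm σ) K.one_mem
    · exact K.mul_mem (H.perm σ) (htK k)
  have hXc : Nat.card X = (Fintype.card Λ).factorial * 2 ^ m := by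
    have h1 : Nat.card X = Nat.card (Equiv.Perm Λ × Option Λ) :=
      (Nat.card_congr (Equiv.ofInjective f hf)).symm
    rw [h1, Nat.card_prod, Nat.card_perm, Nat.card_eq_fintype_card, Nat.card_eq_fintype_card,
      Fintype.card_option, H.card]
  obtain ⟨P⟩ : Nonempty (Sylow 2 X) := inferInstance
  have hPc : Nat.card P = 2 ^ ((Fintype.card Λ).factorial.factorization 2 + m) := by
    rw [P.card_eq_multiplicity, hXc, Nat.factorization_mul (Nat.factorial_ne_zero _) (by positivity)]
    congr 1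
    rw [Finsupp.add_apply, Nat.Prime.factorization_pow Nat.prime_two, Finsupp.single_eq_same]
  have h1 := H.count ((P : Subgroup X).map X.subtype) ((Subgroup.map_subtype_le _).trans hXK)
    (P.isPGroup'.map _)
  rw [Subgroup.card_map_of_injective X.subtype_injective] at h1
  change Nat.card P ≤ _ at h1
  rw [hPc, ← pow_add] at h1
  have h2 := (Nat.pow_le_pow_iff_right (by norm_num)).1 h1
  omega

/-- **(1a) and (1b)** -/
theorem Hyp.main (H : Hyp K m) {k : GV Λ} {b c : Λ → ZMod 2} (hk : k ∈ K) (hb : ∑ i, b i = 0)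
    (hkb : ∀ x, k x = x + (∑ i, b i * x i) • c) :
    b = 0 ∨ c = 0 ∨ ((c = b ∨ c = b + 1) ∧ ∃ i j, i ≠ j ∧ b = Pi.single i 1 + Pi.single j 1) := by
  by_cases hb0 : b = 0
  · exact Or.inl hb0
  by_cases hc0 : c = 0
  · exact Or.inr (Or.inl hc0)
  right; right
  have h1 : Rc K b c := ⟨hb, k, hk, hkb⟩
  have h2 : c = b ∨ c = b + 1 := by
    rcases H.first h1 with h | h | h
    · exact absurd h hb0
    · exact absurd h hc0
    · exact h
  refine ⟨h2, ?_⟩
  have hcen : Cen K b := by
    rcases h2 with h3 | h3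
    · refine ⟨hb, k, hk, 0, ?_⟩
      rw [zero_smul, add_zero]
      subst h3; exact hkb
    · refine ⟨hb, k, hk, 1, ?_⟩
      rw [one_smul]
      subst h3; exact hkb
  have heven := (even_iff b).1 hb
  have hpos : (spt b).card ≠ 0 := by
    intro h3
    apply hb0
    rw [Finset.card_eq_zero] at h3
    rw [← ind_spt b, h3]
    ext i; rw [ind_of_not_mem (Finset.notMem_empty i)]; rfl
  by_cases h4 : (spt b).card = 2
  · obtain ⟨i, j, hij, h5⟩ := Finset.card_eq_two.1 h4
    refine ⟨i, j, hij, ?_⟩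
    rw [← ind_spt b, h5]
    ext l
    rw [ind_apply]
    by_cases hl : l = i ∨ l = j
    · rw [(single_add_apply hij).2 hl, if_pos (by simpa using hl)]
    · push Not at hl
      rw [single_add_ne hl.1 hl.2, if_neg (by simpa using hl)]
  · exfalso
    have h5 : (spt b).card ≤ Fintype.card Λ := Finset.card_le_univ _
    have h6 := H.card
    have h7 : 2 ∣ 2 ^ m := dvd_pow_self 2 (by have := H.hm; omega)
    have h8 : CW K (spt b).card := by
      apply H.cw_of
      rw [ind_spt]; exact hcen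
    have h9 := heven
    obtain ⟨r, hr⟩ := h9
    exact H.no_top (H.cw_top heven (by omega) (by omega) h8)

end Cfsg.Agent.Omega.NSix.SymF
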