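import Cfsg.Agent.Omega.NSix.TLg

/-!
# OMEGA N6 (H2): (COUNT) of #16633

`KV ε i j` : the group of linear maps induced by `N_ij` on `V_ij` (labels `Lt i j → ZMod 2`);
`count` : its 2-subgroups have order at most `2 ^ (m - 1)` times the 2-part of `(n - 2)!`, `n = 2 ^ m + 1`.
-/

set_option autoImplicit false
set_option linter.unusedSectionVars false

namespace Cfsg.Agent.Omega.NSix.TLCount

open Subgroup Cfsg.Agent.Omega.S5.Def Cfsg.Agent.Omega.NSix.Base Cfsg.Agent.Omega.NSix.Basic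
open Cfsg.Agent.Omega.NSix.Tv (z2 z2_one z2_zero z2_add)
open Cfsg.Agent.Omega.NSix.TL Cfsg.Agent.Omega.NSix.ThreeA Cfsg.Agent.Omega.NSix.TLg
open Cfsg.Agent.Omega.NSix.Engine (D4 KK)

universe u

variable {G : Type u} [Group G] {n : ℕ} {V P : Subgroup G} {ε : (Fin n → ZMod 2) → G} {i j : Fin n}

/-- linear automorphisms -/
abbrev GV (Λ : Type*) := (Λ → ZMod 2) ≃ₗ[ZMod 2] (Λ → ZMod 2)

/-- `g` induces `k` on `V_ij` -/
def Ind (ε : (Fin n → ZMod 2) → G) (i j : Fin n) (g : G) (k : GV (Lt i j)) : Prop :=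
  ∀ x, g * ε (ext i j x) * g⁻¹ = ε (ext i j (k x))

theorem Ind.mul {g g' : G} {k k' : GV (Lt i j)} (h : Ind ε i j g k) (h' : Ind ε i j g' k') :
    Ind ε i j (g * g') (k * k') := fun x => by
  have e : g * g' * ε (ext i j x) * (g * g')⁻¹ = g * (g' * ε (ext i j x) * g'⁻¹) * g⁻¹ := by group
  rw [e, h', h]
  rfl

theorem Ind.inv {g : G} {k : GV (Lt i j)} (h : Ind ε i j g k) : Ind ε i j g⁻¹ k⁻¹ := fun x => by
  have h1 := h (k⁻¹ x)
  have h2 : k (k⁻¹ x) = x := LinearEquiv.apply_symm_apply k x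
  rw [h2] at h1
  rw [← h1]; group

theorem Ind.one : Ind ε i j 1 1 := fun x => by
  rw [one_mul, inv_one, mul_one]; rfl

/-- the group induced on `V_ij` -/
def KV (ε : (Fin n → ZMod 2) → G) (i j : Fin n) : Subgroup (GV (Lt i j)) where
  carrier := {k | ∃ g ∈ NN ε i j, Ind ε i j g k}
  mul_mem' := by
    rintro _ _ ⟨g, hg, h⟩ ⟨g', hg', h'⟩
    exact ⟨_, mul_mem hg hg', h.mul h'⟩
  one_mem' := ⟨1, one_mem _, Ind.one⟩
  inv_mem' := by
    rintro _ ⟨g, hg, h⟩
    exact ⟨_, inv_mem hg, h.inv⟩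

theorem ind_unique (h : Engine.Hyp V P ε) {g : G} {k k' : GV (Lt i j)} (h1 : Ind ε i j g k)
    (h2 : Ind ε i j g k') : k = k' := by
  apply LinearEquiv.ext
  intro x
  exact eps_inj_ext h ((h1 x).symm.trans (h2 x))

/-- the preimage of a subgroup of linear maps -/
def Pre (ε : (Fin n → ZMod 2) → G) (i j : Fin n) (R : Subgroup (GV (Lt i j))) : Subgroup G where
  carrier := {g | g ∈ NN ε i j ∧ ∃ k ∈ R, Ind ε i j g k}
  mul_mem' := by
    rintro _ _ ⟨hg, k, hk, h⟩ ⟨hg', k', hk', h'⟩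
    exact ⟨mul_mem hg hg', _, mul_mem hk hk', h.mul h'⟩
  one_mem' := ⟨one_mem _, 1, one_mem _, Ind.one⟩
  inv_mem' := by
    rintro _ ⟨hg, k, hk, h⟩
    exact ⟨inv_mem hg, _, inv_mem hk, h.inv⟩

/-- the homomorphism `Pre R → GL` -/
noncomputable def preHom (h : Engine.Hyp V P ε) (R : Subgroup (GV (Lt i j))) :
    Pre ε i j R →* GV (Lt i j) where
  toFun g := g.2.2.choose
  map_one' := ind_unique h (1 : Pre ε i j R).2.2.choose_spec.2 Ind.one
  map_mul' a b := ind_unique h (a * b).2.2.choose_spec.2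
    (a.2.2.choose_spec.2.mul b.2.2.choose_spec.2)

theorem preHom_spec (h : Engine.Hyp V P ε) (R : Subgroup (GV (Lt i j))) (g : Pre ε i j R) :
    preHom h R g ∈ R ∧ Ind ε i j (g : G) (preHom h R g) := g.2.2.choose_spec

theorem preHom_range (h : Engine.Hyp V P ε) {R : Subgroup (GV (Lt i j))} (hR : R ≤ KV ε i j) :
    (preHom h R).range = R := by
  apply le_antisymm
  · rintro _ ⟨g, rfl⟩
    exact (preHom_spec h R g).1
  · intro k hk
    obtain ⟨g, hg, h1⟩ := hR hk
    refine ⟨⟨g, hg, k, hk, h1⟩, ?_⟩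
    exact ind_unique h (preHom_spec h R _).2 h1

/-- `C_G(V_ij)` -/
def CV (ε : (Fin n → ZMod 2) → G) (i j : Fin n) : Subgroup G where
  carrier := {g | ∀ x : Lt i j → ZMod 2, g * ε (ext i j x) = ε (ext i j x) * g}
  mul_mem' := by
    intro a b ha hb x
    rw [mul_assoc, hb, ← mul_assoc, ha, mul_assoc]
  one_mem' := fun x => by rw [one_mul, mul_one]
  inv_mem' := by
    intro a ha x
    have h1 := ha x
    calc a⁻¹ * ε (ext i j x) = a⁻¹ * (ε (ext i j x) * a) * a⁻¹ := by group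
      _ = ε (ext i j x) * a⁻¹ := by rw [← h1]; group

theorem mem_CV {g : G} : g ∈ CV ε i j ↔ ∀ x : Lt i j → ZMod 2, g * ε (ext i j x) = ε (ext i j x) * g :=
  Iff.rfl

theorem CV_le_NN (h : Engine.Hyp V P ε) (hij : i ≠ j) : CV ε i j ≤ NN ε i j := by
  intro g hg
  rw [mem_NN, ← val_zt_one h hij, val_zt]
  exact hg 1

theorem ind_one_iff {g : G} : Ind ε i j g 1 ↔ g ∈ CV ε i j := by
  rw [mem_CV]
  refine forall_congr' fun x => ?_
  change g * ε (ext i j x) * g⁻¹ = ε (ext i j x) ↔ _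
  rw [mul_inv_eq_iff_eq_mul]

/-- `|Pre R| = |R| |C_G(V_ij)|` -/
theorem card_pre [Finite G] (h : Engine.Hyp V P ε) (hij : i ≠ j) {R : Subgroup (GV (Lt i j))}
    (hR : R ≤ KV ε i j) : Nat.card (Pre ε i j R) = Nat.card R * Nat.card (CV ε i j) := by
  have h1 : Nat.card (preHom h R).ker * Nat.card (preHom h R).range = Nat.card (Pre ε i j R) := by
    rw [← index_ker, card_mul_index]
  rw [preHom_range h hR] at h1
  rw [← h1, mul_comm]
  congr 1
  have hle : CV ε i j ≤ Pre ε i j R := fun g hg =>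
    ⟨CV_le_NN h hij hg, 1, one_mem _, ind_one_iff.2 hg⟩
  refine Nat.card_congr
    { toFun := fun g => ⟨(g : Pre ε i j R), ?_⟩
      invFun := fun g => ⟨⟨g, hle g.2⟩, ?_⟩
      left_inv := fun g => rfl
      right_inv := fun g => rfl }
  · have h2 : preHom h R g = 1 := g.2
    have h3 := (preHom_spec h R g).2
    rw [h2] at h3
    exact ind_one_iff.1 h3
  · rw [MonoidHom.mem_ker]
    exact ind_unique h (preHom_spec h R _).2 (ind_one_iff.2 g.2)

/-- the 2-part -/
def w2 (k : ℕ) : ℕ := k.factorization 2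

theorem w2_mul {a b : ℕ} (ha : a ≠ 0) (hb : b ≠ 0) : w2 (a * b) = w2 a + w2 b := by
  rw [w2, Nat.factorization_mul ha hb]; rfl

theorem w2_le {a b : ℕ} (hb : b ≠ 0) (h : a ∣ b) : w2 a ≤ w2 b :=
  (Nat.factorization_le_iff_dvd (ne_zero_of_dvd_ne_zero hb h) hb).2 h 2

theorem w2_pow (k : ℕ) : w2 (2 ^ k) = k := by
  rw [w2, Nat.Prime.factorization_pow Nat.prime_two, Finsupp.single_eq_same]

theorem w2_odd {a : ℕ} (h : ¬ 2 ∣ a) : w2 a = 0 := Nat.factorization_eq_zero_of_not_dvd h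

/-- `|f⁻¹(K)| = |ker f| |K|` -/
theorem card_comap {A B : Type*} [Group A] [Group B] [Finite A] [Finite B] (f : A →* B)
    (hf : Function.Surjective f) (K : Subgroup B) :
    Nat.card (K.comap f) = Nat.card f.ker * Nat.card K := by
  have h1 : Nat.card (K.comap f) * K.index = Nat.card A := by
    rw [← index_comap_of_surjective K hf, card_mul_index]
  have h2 : Nat.card f.ker * Nat.card B = Nat.card A := by
    have h3 := card_mul_index f.ker
    rw [index_ker, MonoidHom.range_eq_top_of_surjective f hf, card_top] at h3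
    exact h3
  have h3 := card_mul_index K
  have h4 : K.index ≠ 0 := K.index_ne_zero_of_finite
  apply Nat.eq_of_mul_eq_mul_right (Nat.pos_of_ne_zero h4)
  rw [h1, mul_assoc, h3, h2]

/-- the permutations trivial on the other letters -/
def Hs (i j : Fin n) : Subgroup (Equiv.Perm (Fin n)) where
  carrier := {σ | ∀ x : Lt i j → ZMod 2, ext i j x ∘ σ = ext i j x}
  mul_mem' := by
    intro a b ha hb x
    have h1 : ext i j x ∘ (a * b : Equiv.Perm (Fin n)) = (ext i j x ∘ a) ∘ b := rfl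
    rw [h1, ha, hb]
  one_mem' := fun x => rfl
  inv_mem' := by
    intro a ha x
    have h1 : (ext i j x ∘ a) ∘ (a⁻¹ : Equiv.Perm (Fin n)) = ext i j x := by
      funext k
      simp
    rw [ha] at h1
    exact h1

theorem swap_mem_Hs : Equiv.swap i j ∈ Hs i j := by
  intro x
  funext k
  rw [Function.comp_apply]
  by_cases h1 : k = i
  · subst h1
    rw [Equiv.swap_apply_left, ext_i, ext_j]
  · by_cases h2 : k = j
    · subst h2
      rw [Equiv.swap_apply_right, ext_i, ext_j]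
    · rw [Equiv.swap_apply_of_ne_of_ne h1 h2]

theorem two_dvd_Hs (hij : i ≠ j) : 2 ∣ Nat.card (Hs i j) := by
  have h1 : orderOf (⟨Equiv.swap i j, swap_mem_Hs⟩ : Hs i j) ∣ Nat.card (Hs i j) :=
    orderOf_dvd_natCard _
  have h2 : orderOf (⟨Equiv.swap i j, swap_mem_Hs⟩ : Hs i j) = 2 := by
    rw [← orderOf_coe]
    refine orderOf_eq_prime ?_ ?_
    · rw [pow_two, Equiv.swap_mul_self]
    · intro h
      have h3 := congrArg (fun σ : Equiv.Perm (Fin n) => σ i) h
      simp only [Equiv.swap_apply_left, Equiv.Perm.coe_one, id] at h3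
      exact hij h3.symm
  rwa [h2] at h1

open scoped Nat in
/-- **(COUNT)** -/
theorem count [Finite G] (h : Engine.Hyp V P ε) (hij : i ≠ j) (S : Sylow 2 G)
    (hS : (S : Subgroup G) ≤ P) {m : ℕ} (hm : 1 ≤ m) (hn : n = 2 ^ m + 1)
    (R : Subgroup (GV (Lt i j))) (hR : R ≤ KV ε i j) (hRp : IsPGroup 2 R) :
    Nat.card R ≤ 2 ^ (m - 1) * 2 ^ ((Fintype.card (Lt i j))!.factorization 2) := by
  have n3 := h.n3
  have hfin : Finite (GV (Lt i j)) :=
    Finite.of_injective (fun k : GV (Lt i j) => (k : (Lt i j → ZMod 2) → (Lt i j → ZMod 2)))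
      DFunLike.coe_injective
  -- the order of `P`
  have hsur := h.ev.hom_surjective n3
  have hP := card_comap (h.ev.hom n3) hsur ⊤
  rw [comap_top, card_top, card_top, Nat.card_perm, Nat.card_fin] at hP
  have hH := card_comap (h.ev.hom n3) hsur (Hs i j)
  have hk0 : Nat.card (h.ev.hom n3).ker ≠ 0 := Nat.card_pos.ne'
  -- the 2-part of `|C_G(V_ij)|`
  have hC : w2 (Nat.card (h.ev.hom n3).ker) + 1 ≤ w2 (Nat.card (CV ε i j)) := by
    have h1 : ((Hs i j).comap (h.ev.hom n3)).map P.subtype ≤ CV ε i j := by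
      rintro _ ⟨g, hg, rfl⟩ x
      have h2 := h.ev.acts_hom n3 g (ext i j x)
      have h3 := inv_mem (show h.ev.hom n3 g ∈ Hs i j from hg)
      have h4 : ext i j x ∘ (h.ev.hom n3 g).symm = ext i j x := h3 x
      rw [h4] at h2
      rw [mul_inv_eq_iff_eq_mul] at h2
      exact h2
    have h2 := card_dvd_of_le h1
    rw [card_map_of_injective (subtype_injective P), hH] at h2
    have h3 := w2_le (Nat.card_pos.ne') h2
    obtain ⟨c, hc⟩ := two_dvd_Hs hij
    have hc0 : c ≠ 0 := by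
      rintro rfl
      rw [mul_zero] at hc
      exact (Nat.card_pos (α := Hs i j)).ne' hc
    rw [hc, w2_mul hk0 (mul_ne_zero two_ne_zero hc0), w2_mul two_ne_zero hc0] at h3
    have h4 : w2 2 = 1 := by
      have := w2_pow 1
      rwa [pow_one] at this
    omega
  -- the 2-part of `|G|`
  have hG : w2 (Nat.card G) = w2 (Nat.card P) := by
    have h1 := card_mul_index P
    have h2 : ¬ 2 ∣ P.index := fun hd =>
      S.not_dvd_index (hd.trans (index_dvd_of_le hS))
    rw [← h1, w2_mul Nat.card_pos.ne' P.index_ne_zero_of_finite, w2_odd h2, add_zero]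
  have h1 : w2 (Nat.card R) + w2 (Nat.card (CV ε i j)) ≤ w2 (Nat.card G) := by
    rw [← w2_mul Nat.card_pos.ne' Nat.card_pos.ne', ← card_pre h hij hR]
    exact w2_le Nat.card_pos.ne' (card_subgroup_dvd_card _)
  rw [hG, hP, w2_mul hk0 (Nat.factorial_ne_zero n)] at h1
  have h2 : w2 (Nat.card R) + 1 ≤ w2 (n !) := by omega
  have hfac : n ! = n * ((n - 1) * (n - 2)!) := by
    have e1 : n = (n - 2) + 1 + 1 := by omega
    conv_lhs => rw [e1, Nat.factorial_succ, Nat.factorial_succ]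
    have e2 : n - 2 + 1 + 1 = n := by omega
    have e3 : n - 2 + 1 = n - 1 := by omega
    rw [e2, e3]
  have h2m : 2 ∣ 2 ^ m := dvd_pow_self 2 (by omega)
  have hno : ¬ 2 ∣ n := by
    rw [hn]; omega
  rw [hfac, w2_mul (by omega) (mul_ne_zero (by omega) (Nat.factorial_ne_zero _)), w2_odd hno,
    zero_add, w2_mul (by omega) (Nat.factorial_ne_zero _)] at h2
  have e4 : n - 1 = 2 ^ m := by omega
  rw [e4, w2_pow] at h2
  obtain ⟨k, hk⟩ := IsPGroup.iff_card.1 hRp
  rw [hk, w2_pow] at h2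
  rw [hk, ← pow_add, card_Lt hij]
  refine Nat.pow_le_pow_right (by norm_num) ?_
  change k ≤ m - 1 + w2 (n - 2)!
  omega

end Cfsg.Agent.Omega.NSix.TLCount
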