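import Cfsg.Agent.Omega.NSix.ThreeA
import Cfsg.Agent.Omega.NSix.Engine.Irr

/-!
# OMEGA N6 (H2): #16633 (2), (3) in the group

`AM M hc h2` : the elementary abelian 2-subgroup `M` as an `F₂`-space; `HH N` : the automorphisms induced by `N`;
`zt` : the labels `ε` on `V_ij` as a map `ζ : (Λ → ZMod 2) →+ AM (U_ij)`, `Λ` = the letters different from `i`, `j`;
* `dat` : `TL.Dat` from `Engine.Hyp V P ε` and `OneB ε i j` (= (1b) of #16633);
* `o2_of_irr` : the consequence of `O₂(N_12/C_12) = 1` used in (3) from (IRR) and (1b);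
* `no_tv` : **#16633 (3)**: if an element of `N_ij` acts on `U_ij` as a transvection `≠ 1` with centre in
  `V_ij - ⟨r_ij⟩` which kills `V_ij`, then all disjoint `U_ab`, `U_cd` commute.
-/

set_option autoImplicit false
set_option linter.unusedSectionVars false

namespace Cfsg.Agent.Omega.NSix.TLg

open Subgroup Cfsg.Agent.Omega.S5.Def Cfsg.Agent.Omega.NSix.Base Cfsg.Agent.Omega.NSix.Basic
open Cfsg.Agent.Omega.NSix.Tv (z2 z2_one z2_zero z2_add)
open Cfsg.Agent.Omega.NSix.TL Cfsg.Agent.Omega.NSix.ThreeA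
open Cfsg.Agent.Omega.NSix.Engine (D4 KK)

universe u

section abs

variable {Λ : Type*} [Fintype Λ] [DecidableEq Λ]
variable {U : Type*} [AddCommGroup U] [Module (ZMod 2) U]

/-- `O₂(H) = 1` in the form used in (3), from the irreducibility of `U / ⟨ζ 1⟩` and (1b) -/
theorem o2_of_irr {H : Set (U ≃+ U)} {ζ : (Λ → ZMod 2) →+ U} (D : Dat H ζ)
    (irr : ∀ R : AddSubgroup U, (∀ g ∈ H, ∀ r ∈ R, g r ∈ R) → ζ 1 ∈ R →
      (∃ u ∈ R, u ≠ 0 ∧ u ≠ ζ 1) → ∀ u, u ∈ R)
    (R : AddSubgroup U) (hR : ∀ g ∈ H, ∀ r ∈ R, g r ∈ R) (h : U ≃+ U) (hh : h ∈ H)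
    (h1 : ∀ u, h u + u ∈ R) (h2 : ∀ r ∈ R, h r = r) (u : U) : h u = u := by
  by_cases hex : ∃ u ∈ R, u ≠ 0 ∧ u ≠ ζ 1
  · -- `R + ⟨ζ 1⟩ = U`
    let R' : AddSubgroup U := R ⊔ AddSubgroup.closure {ζ 1}
    have h3 := irr R' (fun g hg r hr => by
      obtain ⟨a, ha, b, hb, rfl⟩ := AddSubgroup.mem_sup.1 hr
      rw [map_add]
      refine AddSubgroup.mem_sup.2 ⟨g a, hR g hg a ha, g b, ?_, rfl⟩
      refine AddSubgroup.closure_induction (p := fun b _ => g b ∈ AddSubgroup.closure {ζ 1})
        ?_ ?_ ?_ ?_ hb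
      · rintro x rfl
        rw [D.fix g hg]
        exact AddSubgroup.subset_closure rfl
      · rw [map_zero]; exact zero_mem _
      · intro x y _ _ hx hy
        rw [map_add]; exact add_mem hx hy
      · intro x _ hx
        rw [map_neg]; exact neg_mem hx)
      (AddSubgroup.mem_sup_right (AddSubgroup.subset_closure rfl))
      (by obtain ⟨u, hu, h0⟩ := hex; exact ⟨u, AddSubgroup.mem_sup_left hu, h0⟩) u
    obtain ⟨a, ha, b, hb, rfl⟩ := AddSubgroup.mem_sup.1 h3
    rw [map_add, h2 a ha]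
    congr 1
    refine AddSubgroup.closure_induction (p := fun b _ => h b = b) ?_ ?_ ?_ ?_ hb
    · rintro x rfl
      exact D.fix h hh
    · exact map_zero h
    · intro x y _ _ hx hy
      rw [map_add, hx, hy]
    · intro x _ hx
      rw [map_neg, hx]
  · push Not at hex
    have h3 : ∀ u, h u = u ∨ h u = u + ζ 1 := by
      intro u
      by_cases h0 : h u + u = 0
      · exact Or.inl (add_eq_zero' h0)
      · right
        have h4 := hex _ (h1 u) h0
        rw [← h4, add_comm (h u), ← add_assoc, TL.two, zero_add]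
    have h1ne : (1 : Λ → ZMod 2) ≠ 0 := by
      have h7 := D.seven
      obtain ⟨a, -⟩ := ex_not ([] : List Λ) (by simp; omega)
      intro h0
      have := congrFun h0 a
      rw [Pi.one_apply, Pi.zero_apply] at this
      exact absurd this (by decide)
    have key : ∀ g ∈ H, ∀ x, h (g (ζ x)) = g (ζ x) := by
      intro g hg
      have hk : (g.trans h).trans g.symm ∈ H := D.tr _ (D.tr _ hg _ hh) _ (D.sm _ hg)
      have ap : ∀ u, ((g.trans h).trans g.symm) u = g.symm (h (g u)) := fun u => rfl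
      have gz : g.symm (ζ 1) = ζ 1 := D.fix _ (D.sm _ hg)
      have h4 : ∀ u, ((g.trans h).trans g.symm) u = u ∨
          ((g.trans h).trans g.symm) u = u + ζ 1 := by
        intro u
        rw [ap]
        rcases h3 (g u) with h5 | h5
        · left; rw [h5, AddEquiv.symm_apply_apply]
        · right; rw [h5, map_add, AddEquiv.symm_apply_apply, gz]
      generalize (g.trans h).trans g.symm = k at hk ap h4
      classical
      let b : Λ → ZMod 2 := fun l => if k (ζ (Pi.single l 1)) = ζ (Pi.single l 1) then 0 else 1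
      have hb : ∀ l, k (ζ (Pi.single l 1)) = ζ (Pi.single l 1) + b l • ζ 1 := by
        intro l
        by_cases h5 : k (ζ (Pi.single l 1)) = ζ (Pi.single l 1)
        · have : b l = 0 := if_pos h5
          rw [this, zero_smul, add_zero, h5]
        · have : b l = 1 := if_neg h5
          rw [this, one_smul]
          exact (h4 _).resolve_left h5
      have hx : ∀ x, k (ζ x) = ζ (x + dt b x • (1 : Λ → ZMod 2)) := by
        intro x
        have e : x = ∑ l, Pi.single l (x l) := (Finset.univ_sum_single x).symm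
        have e1 : k (ζ x) = ∑ l, k (ζ (Pi.single l (x l))) := by
          conv_lhs => rw [e]
          rw [map_sum, map_sum]
        have e2 : ∀ l, k (ζ (Pi.single l (x l))) = ζ (Pi.single l (x l)) + (b l * x l) • ζ 1 := by
          intro l
          rcases z2 (x l) with h5 | h5 <;> rw [h5]
          · rw [Pi.single_zero, map_zero, map_zero, mul_zero, zero_smul, add_zero]
          · rw [mul_one, hb]
        rw [e1, Finset.sum_congr rfl fun l _ => e2 l, Finset.sum_add_distrib, ← map_sum, ← e,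
          ← Finset.sum_smul, map_add, ← smul_zeta]
        rfl
      have hs : dt b 1 = 0 := by
        have h5 := hx 1
        rw [D.fix k hk] at h5
        have h6 := D.inj h5
        by_contra h7
        rw [z2_one h7, one_smul] at h6
        exact h1ne (by simpa using h6)
      have hb0 : b = 0 := by
        rcases D.oneb k hk b 1 (by rw [← dt_one, hs]) h1ne hx with h5 | ⟨h5, i, j, hij, h6⟩
        · exact h5
        · exfalso
          have h7 := D.seven
          obtain ⟨l, hl⟩ := ex_not [i, j] (by simp; omega)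
          simp only [List.mem_cons, List.not_mem_nil, or_false, forall_eq_or_imp, forall_eq] at hl
          rcases h5 with h5 | h5
          · have := congrFun h5 l
            rw [h6, Pi.add_apply, Pi.single_eq_of_ne hl.1, Pi.single_eq_of_ne hl.2,
              Pi.one_apply] at this
            exact absurd this (by decide)
          · have := congrFun h5 i
            rw [h6, Pi.add_apply, Pi.add_apply, Pi.single_eq_same, Pi.single_eq_of_ne hij,
              Pi.one_apply] at this
            exact absurd this (by decide)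
      intro x
      have h5 := hx x
      rw [hb0, zero_dt, zero_smul, add_zero, ap] at h5
      rw [AddEquiv.symm_apply_eq] at h5
      exact h5
    refine AddSubgroup.closure_induction (p := fun u _ => h u = u) ?_ ?_ ?_ ?_ (D.gen u)
    · rintro _ ⟨g, hg, x, rfl⟩
      exact key g hg x
    · exact map_zero h
    · intro x y _ _ hx hy
      rw [map_add, hx, hy]
    · intro x _ hx
      rw [map_neg, hx]

end abs

variable {G : Type u} [Group G]

/-- an elementary abelian 2-subgroup as a vector space -/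
def AM (M : Subgroup G) (_ : ∀ u ∈ M, ∀ v ∈ M, u * v = v * u) (_ : ∀ u ∈ M, u * u = 1) : Type u :=
  Additive M

section AM

variable {M : Subgroup G} {hc : ∀ u ∈ M, ∀ v ∈ M, u * v = v * u} {h2 : ∀ u ∈ M, u * u = 1}

noncomputable instance : AddCommGroup (AM M hc h2) :=
  { (inferInstance : AddGroup (Additive M)) with
    add_comm := fun x y => Additive.toMul.injective (Subtype.ext
      (hc _ (Additive.toMul x).2 _ (Additive.toMul y).2)) }

/-- the group element -/
def val (a : AM M hc h2) : G := ((Additive.toMul a : M) : G)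

/-- the vector -/
def mk (hc : ∀ u ∈ M, ∀ v ∈ M, u * v = v * u) (h2 : ∀ u ∈ M, u * u = 1) {u : G} (hu : u ∈ M) :
    AM M hc h2 := Additive.ofMul (⟨u, hu⟩ : M)

theorem val_mk {u : G} (hu : u ∈ M) : val (mk hc h2 hu) = u := rfl

theorem val_mem (a : AM M hc h2) : val a ∈ M := (Additive.toMul a : M).2

theorem val_add (a a' : AM M hc h2) : val (a + a') = val a * val a' := rfl

theorem val_zero : val (0 : AM M hc h2) = 1 := rfl

theorem val_inj {a a' : AM M hc h2} (h : val a = val a') : a = a' :=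
  Additive.toMul.injective (Subtype.ext h)

noncomputable instance : Module (ZMod 2) (AM M hc h2) :=
  AddCommGroup.zmodModule (n := 2) fun a => val_inj (by
    rw [two_nsmul, val_add, val_zero]
    exact h2 _ (val_mem a))

instance [Finite G] : Finite (AM M hc h2) := inferInstanceAs (Finite M)

/-- conjugation by an element of the normaliser -/
def cjE {g : G} (h : ∀ u ∈ M, g * u * g⁻¹ ∈ M) (h' : ∀ u ∈ M, g⁻¹ * u * g ∈ M) :
    AM M hc h2 ≃+ AM M hc h2 where
  toFun a := mk hc h2 (h _ (val_mem a))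
  invFun a := mk hc h2 (h' _ (val_mem a))
  left_inv a := val_inj (by rw [val_mk, val_mk]; group)
  right_inv a := val_inj (by rw [val_mk, val_mk]; group)
  map_add' a b := val_inj (by
    change g * (val a * val b) * g⁻¹ = (g * val a * g⁻¹) * (g * val b * g⁻¹)
    group)

theorem val_cjE {g : G} (h : ∀ u ∈ M, g * u * g⁻¹ ∈ M) (h' : ∀ u ∈ M, g⁻¹ * u * g ∈ M)
    (a : AM M hc h2) : val (cjE h h' a) = g * val a * g⁻¹ := rfl

/-- the automorphisms of `M` induced by the elements of `N` -/
def HH (hc : ∀ u ∈ M, ∀ v ∈ M, u * v = v * u) (h2 : ∀ u ∈ M, u * u = 1) (N : Subgroup G) :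
    Set (AM M hc h2 ≃+ AM M hc h2) := {e | ∃ g ∈ N, ∀ a, val (e a) = g * val a * g⁻¹}

theorem hh_tr {N : Subgroup G} {e f : AM M hc h2 ≃+ AM M hc h2} (he : e ∈ HH hc h2 N)
    (hf : f ∈ HH hc h2 N) : e.trans f ∈ HH hc h2 N := by
  obtain ⟨g, hg, h1⟩ := he
  obtain ⟨k, hk, h3⟩ := hf
  exact ⟨k * g, mul_mem hk hg, fun a => by rw [AddEquiv.trans_apply, h3, h1]; group⟩

theorem hh_sm {N : Subgroup G} {e : AM M hc h2 ≃+ AM M hc h2} (he : e ∈ HH hc h2 N) :
    e.symm ∈ HH hc h2 N := by
  obtain ⟨g, hg, h1⟩ := he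
  refine ⟨g⁻¹, inv_mem hg, fun a => ?_⟩
  have h3 := h1 (e.symm a)
  rw [AddEquiv.apply_symm_apply] at h3
  rw [h3]; group

theorem hh_rf (N : Subgroup G) : AddEquiv.refl (AM M hc h2) ∈ HH hc h2 N :=
  ⟨1, one_mem _, fun a => by rw [AddEquiv.refl_apply]; group⟩

theorem hh_ex {N : Subgroup G} (hN : ∀ g ∈ N, ∀ u ∈ M, g * u * g⁻¹ ∈ M) {g : G} (hg : g ∈ N) :
    ∃ e ∈ HH hc h2 N, ∀ a, val (e a) = g * val a * g⁻¹ := by
  refine ⟨cjE (hN g hg) (fun u hu => ?_), ⟨g, hg, fun a => rfl⟩, fun a => rfl⟩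
  have := hN g⁻¹ (inv_mem hg) u hu
  rwa [inv_inv] at this

end AM

section inst

variable {n : ℕ} {V P : Subgroup G} {ε : (Fin n → ZMod 2) → G} {i j : Fin n}

/-- the other letters -/
abbrev Lt (i j : Fin n) : Type := {k : Fin n // k ≠ i ∧ k ≠ j}

/-- extension by zero -/
def ext (i j : Fin n) (x : Lt i j → ZMod 2) (k : Fin n) : ZMod 2 :=
  if h : k ≠ i ∧ k ≠ j then x ⟨k, h⟩ else 0

theorem ext_i (x : Lt i j → ZMod 2) : ext i j x i = 0 := dif_neg fun h => h.1 rfl

theorem ext_j (x : Lt i j → ZMod 2) : ext i j x j = 0 := dif_neg fun h => h.2 rfl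

theorem ext_of (x : Lt i j → ZMod 2) (k : Lt i j) : ext i j x (k : Fin n) = x k := dif_pos k.2

theorem ext_add (x y : Lt i j → ZMod 2) : ext i j (x + y) = ext i j x + ext i j y := by
  funext k
  by_cases h : k ≠ i ∧ k ≠ j
  · simp only [ext, Pi.add_apply, dif_pos h]
  · simp only [ext, Pi.add_apply, dif_neg h, add_zero]

theorem ext_single (k : Lt i j) : ext i j (Pi.single k 1) = Pi.single (k : Fin n) 1 := by
  funext l
  by_cases h : l ≠ i ∧ l ≠ j
  · have h1 : ext i j (Pi.single k 1) l = (Pi.single k 1 : Lt i j → ZMod 2) ⟨l, h⟩ := dif_pos h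
    rw [h1]
    by_cases hl : l = k
    · subst hl
      rw [Pi.single_eq_same, Pi.single_eq_same]
    · rw [Pi.single_eq_of_ne hl, Pi.single_eq_of_ne fun h' => hl (congrArg Subtype.val h')]
  · have h1 : ext i j (Pi.single k 1) l = 0 := dif_neg h
    rw [h1, Pi.single_eq_of_ne]
    rintro rfl
    exact h k.2

theorem ext_one (hij : i ≠ j) : ext i j 1 = Pi.single i 1 + Pi.single j 1 + 1 := by
  funext l
  rw [Pi.add_apply, Pi.add_apply, Pi.one_apply]
  by_cases h1 : l = i
  · subst h1
    rw [ext_i, Pi.single_eq_same, Pi.single_eq_of_ne hij]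
    decide
  · by_cases h2 : l = j
    · subst h2
      rw [ext_j, Pi.single_eq_same, Pi.single_eq_of_ne h1]
      decide
    · have h3 : ext i j 1 l = 1 := dif_pos ⟨h1, h2⟩
      rw [h3, Pi.single_eq_of_ne h1, Pi.single_eq_of_ne h2]
      decide

/-- restriction -/
def res (i j : Fin n) (x : Fin n → ZMod 2) (k : Lt i j) : ZMod 2 := x k

theorem ext_res {x : Fin n → ZMod 2} (hi : x i = 0) (hj : x j = 0) : ext i j (res i j x) = x := by
  funext l
  by_cases h1 : l = i
  · subst h1; rw [ext_i, hi]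
  · by_cases h2 : l = j
    · subst h2; rw [ext_j, hj]
    · exact dif_pos ⟨h1, h2⟩

theorem card_Lt (hij : i ≠ j) : Fintype.card (Lt i j) = n - 2 := by
  rw [Fintype.card_subtype]
  have h1 : (Finset.univ.filter fun k : Fin n => k ≠ i ∧ k ≠ j) = Finset.univ \ {i, j} := by
    ext k
    simp
  rw [h1, Finset.card_sdiff_of_subset (Finset.subset_univ _), Finset.card_univ, Fintype.card_fin,
    Finset.card_pair hij]

/-- (1b) of #16633 for `V_ij` -/
def OneB (ε : (Fin n → ZMod 2) → G) (i j : Fin n) : Prop :=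
  ∀ g ∈ NN ε i j, ∀ b c : Lt i j → ZMod 2, ∑ k, b k = 0 → c ≠ 0 →
    (∀ x, g * ε (ext i j x) * g⁻¹ = ε (ext i j (x + dt b x • c))) →
    b = 0 ∨ ((c = b ∨ c = b + 1) ∧ ∃ k l, k ≠ l ∧ b = Pi.single k 1 + Pi.single l 1)

variable (h : Engine.Hyp V P ε) (hij : i ≠ j)

/-- the vector space `U_ij` -/
abbrev UA (h : Engine.Hyp V P ε) (hij : i ≠ j) : Type u :=
  AM (UU ε i j) (fun _ hu _ hv => h.Uab hij hu hv) (fun _ hu => h.Usq hij hu)

/-- the group of automorphisms of `U_ij` induced by `N` -/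
abbrev HA (h : Engine.Hyp V P ε) (hij : i ≠ j) (N : Subgroup G) : Set (UA h hij ≃+ UA h hij) :=
  HH (M := UU ε i j) (fun _ hu _ hv => h.Uab hij hu hv) (fun _ hu => h.Usq hij hu) N

/-- the labels of `V_ij` -/
noncomputable def zt (h : Engine.Hyp V P ε) (hij : i ≠ j) : (Lt i j → ZMod 2) →+ UA h hij :=
  AddMonoidHom.mk' (fun x => mk _ _ ((h.eU hij (ext i j x)).2 (by rw [ext_i, ext_j])))
    fun x y => val_inj (by
      change ε (ext i j (x + y)) = ε (ext i j x) * ε (ext i j y)
      rw [ext_add, h.ev.add])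

theorem val_zt (x : Lt i j → ZMod 2) : val (zt h hij x) = ε (ext i j x) := rfl

theorem val_zt_one : val (zt h hij 1) = rr ε i j := by
  rw [val_zt, ext_one hij, h.ev.add, h.ev.add, h.ev.one, mul_one]
  rfl

include h in
theorem eps_inj_ext {x y : Lt i j → ZMod 2} (he : ε (ext i j x) = ε (ext i j y)) : x = y := by
  have h1 : ext i j x = ext i j y := by
    rcases h.ev.eq_iff.1 he with h1 | h1
    · exact h1
    · exfalso
      have := congrFun h1 i
      rw [Pi.add_apply, ext_i, ext_i, Pi.one_apply] at this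
      exact absurd this (by decide)
  funext k
  rw [← ext_of x k, ← ext_of y k, h1]

theorem zt_inj : Function.Injective (zt h hij) := fun _ _ hxy =>
  eps_inj_ext h (congrArg val hxy)

/-- the extension of a permutation of the other letters -/
theorem exists_perm_ext (σ : Equiv.Perm (Lt i j)) : ∃ τ : Equiv.Perm (Fin n), τ i = i ∧ τ j = j ∧
    ∀ x, ext i j x ∘ τ = ext i j (x ∘ σ) := by
  refine ⟨Equiv.Perm.ofSubtype σ, Equiv.Perm.ofSubtype_apply_of_not_mem σ (fun h => h.1 rfl),
    Equiv.Perm.ofSubtype_apply_of_not_mem σ (fun h => h.2 rfl), fun x => ?_⟩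
  funext l
  rw [Function.comp_apply]
  by_cases hl : l ≠ i ∧ l ≠ j
  · rw [Equiv.Perm.ofSubtype_apply_of_mem σ hl, ext_of]
    have h3 : ext i j (x ∘ σ) l = (x ∘ σ) ⟨l, hl⟩ := dif_pos hl
    rw [h3]
    rfl
  · rw [Equiv.Perm.ofSubtype_apply_of_not_mem σ hl]
    have h1 : ∀ x : Lt i j → ZMod 2, ext i j x l = 0 := fun x => dif_neg hl
    rw [h1, h1]

theorem nn_norm {g : G} (hg : g ∈ NN ε i j) (u : G) (hu : u ∈ UU ε i j) : g * u * g⁻¹ ∈ UU ε i j :=
  UU_normal hg hu

/-- the instance of `TL.Dat` -/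
theorem dat [Finite G] (hn : 9 ≤ n) (hO : OneB ε i j) : Dat (HA h hij (NN ε i j)) (zt h hij) where
  fin := inferInstance
  tr := fun _ he _ hf => hh_tr he hf
  sm := fun _ he => hh_sm he
  rf := hh_rf _
  inj := zt_inj h hij
  odd := by
    rw [card_Lt hij]
    obtain ⟨m, hm⟩ := h.odd
    exact ⟨m - 1, by omega⟩
  seven := by rw [card_Lt hij]; omega
  fix := by
    rintro e ⟨g, hg, he⟩
    apply val_inj
    rw [he, val_zt_one]
    exact mem_NN'.1 hg
  sym := by
    intro σ
    obtain ⟨τ, ti, tj, ht⟩ := exists_perm_ext σ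
    obtain ⟨g, hg, hga⟩ := h.ev.full τ⁻¹
    have hgN : g ∈ NN ε i j := by
      refine h.acts_NN hga ?_ ?_
      · rw [Equiv.Perm.inv_eq_iff_eq, ti]
      · rw [Equiv.Perm.inv_eq_iff_eq, tj]
    obtain ⟨e, he, he1⟩ := hh_ex (M := UU ε i j) (hc := fun _ hu _ hv => h.Uab hij hu hv)
      (h2 := fun _ hu => h.Usq hij hu) (N := NN ε i j) (fun g hg => nn_norm hg) hgN
    refine ⟨e, he, fun x => val_inj ?_⟩
    rw [he1, val_zt, val_zt, ← ht x]
    exact hga _
  gen := by
    intro u
    have key : ∀ y, ∀ hy : y ∈ UU ε i j, (mk (fun _ hu _ hv => h.Uab hij hu hv)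
        (fun _ hu => h.Usq hij hu) hy : UA h hij) ∈ AddSubgroup.closure
          {v | ∃ e ∈ HA h hij (NN ε i j), ∃ x, v = e (zt h hij x)} := by
      intro y hy
      refine Subgroup.closure_induction (p := fun y hy =>
        (mk (fun _ hu _ hv => h.Uab hij hu hv) (fun _ hu => h.Usq hij hu) hy : UA h hij) ∈
          AddSubgroup.closure {v | ∃ e ∈ HA h hij (NN ε i j), ∃ x, v = e (zt h hij x)})
        ?_ ?_ ?_ ?_ hy
      · rintro _ ⟨g, hg, k, hki, hkj, rfl⟩
        apply AddSubgroup.subset_closure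
        obtain ⟨e, he, he1⟩ := hh_ex (M := UU ε i j) (hc := fun _ hu _ hv => h.Uab hij hu hv)
          (h2 := fun _ hu => h.Usq hij hu) (N := NN ε i j) (fun g hg => nn_norm hg) hg
        refine ⟨e, he, Pi.single ⟨k, hki, hkj⟩ 1, val_inj ?_⟩
        rw [he1, val_zt, ext_single]
        rfl
      · exact zero_mem _
      · intro x y _ _ hx hy
        exact add_mem hx hy
      · intro x _ hx
        exact neg_mem hx
    exact key _ (val_mem u)
  oneb := by
    rintro e ⟨g, hg, he⟩ b c hb hc hx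
    refine hO g hg b c hb hc fun x => ?_
    have h1 := congrArg val (hx x)
    rw [he, val_zt, val_zt] at h1
    exact h1

/-- (IRR) for the vector space -/
theorem irr [Finite G] (R : AddSubgroup (UA h hij))
    (hR : ∀ g ∈ HA h hij (NN ε i j), ∀ r ∈ R, g r ∈ R) (h1 : zt h hij 1 ∈ R)
    (hne : ∃ u ∈ R, u ≠ 0 ∧ u ≠ zt h hij 1) (u : UA h hij) : u ∈ R := by
  let R' : Subgroup G :=
    { carrier := {x | ∃ a ∈ R, val a = x}
      mul_mem' := by
        rintro _ _ ⟨a, ha, rfl⟩ ⟨b, hb, rfl⟩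
        exact ⟨a + b, add_mem ha hb, rfl⟩
      one_mem' := ⟨0, zero_mem _, rfl⟩
      inv_mem' := by
        rintro _ ⟨a, ha, rfl⟩
        exact ⟨-a, neg_mem ha, rfl⟩ }
  have hle : R' ≤ UU ε i j := by
    rintro _ ⟨a, _, rfl⟩
    exact val_mem a
  have hr : rr ε i j ∈ R' := ⟨_, h1, val_zt_one h hij⟩
  have hN : ∀ g ∈ NN ε i j, ∀ x ∈ R', g * x * g⁻¹ ∈ R' := by
    rintro g hg _ ⟨a, ha, rfl⟩
    obtain ⟨e, he, he1⟩ := hh_ex (M := UU ε i j) (hc := fun _ hu _ hv => h.Uab hij hu hv)
      (h2 := fun _ hu => h.Usq hij hu) (N := NN ε i j) (fun g hg => nn_norm hg) hg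
    exact ⟨e a, hR e he a ha, he1 a⟩
  have hx : ∃ x ∈ R', x ≠ 1 ∧ x ≠ rr ε i j := by
    obtain ⟨a, ha, h2, h3⟩ := hne
    refine ⟨val a, ⟨a, ha, rfl⟩, fun h4 => h2 (val_inj h4), fun h4 => h3 (val_inj ?_)⟩
    rw [h4, val_zt_one]
  have h4 := h.irr hij hle hr hN hx
  have h5 : val u ∈ R' := by rw [h4]; exact val_mem u
  obtain ⟨a, ha, h6⟩ := h5
  rwa [← val_inj h6]

include h in
/-- a labelled element of `V_ij` is `ζ x` -/
theorem exists_zt {v : Fin n → ZMod 2} (hv : v i = v j) : ∃ γ : Lt i j → ZMod 2,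
    ε (ext i j γ) = ε v := by
  rcases z2 (v i) with h0 | h0
  · exact ⟨res i j v, by rw [ext_res h0 (hv ▸ h0)]⟩
  · refine ⟨res i j (v + 1), ?_⟩
    have h1 : ∀ k, v k = 1 → (v + 1) k = 0 := fun k hk => by
      rw [Pi.add_apply, hk, Pi.one_apply]; decide
    rw [ext_res (h1 i h0) (h1 j (hv ▸ h0)), h.ev.add, h.ev.one, mul_one]

include h hij in
/-- **#16633 (3)** -/
theorem no_tv [Finite G] (hn : 9 ≤ n) (hO : OneB ε i j) {g : G} (hg : g ∈ NN ε i j)
    {v : Fin n → ZMod 2} (hv : v i = v j) (hv1 : ε v ≠ 1) (hv2 : ε v ≠ rr ε i j)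
    (hu : ∀ u ∈ UU ε i j, g * u * g⁻¹ = u ∨ g * u * g⁻¹ = u * ε v)
    (hk : ∀ y : Fin n → ZMod 2, y i = y j → g * ε y = ε y * g)
    (hne : ∃ u ∈ UU ε i j, g * u ≠ u * g) {k l : Fin n} (hD : D4 i j k l) {u y : G}
    (huU : u ∈ UU ε i j) (hy : y ∈ UU ε k l) : u * y = y * u := by
  classical
  have D := dat h hij hn hO
  obtain ⟨γ, hγ⟩ := exists_zt h hv
  have zγ : val (zt h hij γ) = ε v := hγ
  obtain ⟨e, he, he1⟩ := hh_ex (M := UU ε i j) (hc := fun _ hu _ hv => h.Uab hij hu hv)
    (h2 := fun _ hu => h.Usq hij hu) (N := NN ε i j) (fun g hg => nn_norm hg) hg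
  -- the functional
  have e2 : ∀ a : UA h hij, e a = a ∨ e a = a + zt h hij γ := by
    intro a
    rcases hu _ (val_mem a) with h1 | h1
    · exact Or.inl (val_inj (by rw [he1, h1]))
    · exact Or.inr (val_inj (by rw [he1, h1, val_add, zγ]))
  have hz0 : zt h hij γ ≠ 0 := fun h0 => hv1 (by rw [← zγ, h0]; rfl)
  let f : UA h hij → ZMod 2 := fun a => if e a = a then 0 else 1
  have hf : ∀ a, e a = a + f a • zt h hij γ := by
    intro a
    by_cases h1 : e a = a
    · have : f a = 0 := if_pos h1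
      rw [this, zero_smul, add_zero, h1]
    · have : f a = 1 := if_neg h1
      rw [this, one_smul]
      exact (e2 a).resolve_left h1
  have hun : ∀ a (t : ZMod 2), e a = a + t • zt h hij γ → f a = t := by
    intro a t ht
    rw [hf a] at ht
    have h1 := add_left_cancel ht
    rcases z2 (f a) with h2 | h2 <;> rcases z2 t with h3 | h3 <;> rw [h2, h3] at h1 ⊢
    · rw [zero_smul, one_smul] at h1
      exact absurd h1.symm hz0
    · rw [zero_smul, one_smul] at h1
      exact absurd h1 hz0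
  let f0 : UA h hij →+ ZMod 2 := AddMonoidHom.mk' f fun a b => hun _ _ (by
    rw [map_add, hf a, hf b, add_smul, add_add_add_comm])
  have hf0 : ∀ a, e a = a + f0 a • zt h hij γ := hf
  have ez : ∀ x, e (zt h hij x) = zt h hij x := by
    intro x
    apply val_inj
    rw [he1, val_zt, hk _ (by rw [ext_i, ext_j])]
    group
  have fz : ∀ x, f0 (zt h hij x) = 0 := fun x => hun _ _ (by rw [ez, zero_smul, add_zero])
  have hγ0 : γ ≠ 0 := by
    rintro rfl
    exact hz0 (map_zero _)
  have hγ1 : γ ≠ 1 := by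
    rintro rfl
    exact hv2 (by rw [← zγ, val_zt_one])
  have s : Sit (HA h hij (NN ε i j)) (zt h hij) γ f0 :=
    { D with
      i0 := by
        by_contra hc
        push Not at hc
        exact hγ0 (funext fun k => z2_zero (hc k))
      j0 := by
        by_contra hc
        push Not at hc
        exact hγ1 (funext fun k => z2_one (hc k))
      mem := ⟨fz γ, e, he, hf0⟩
      ne := by
        intro h0
        obtain ⟨u, hu, h1⟩ := hne
        apply h1
        have h2 := he1 (mk _ _ hu)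
        rw [hf0, h0, AddMonoidHom.zero_apply, zero_smul, add_zero, val_mk] at h2
        rw [eq_mul_inv_iff_mul_eq] at h2
        exact h2.symm
      kill := by
        funext k
        exact fz _ }
  have hkl : k ≠ l := hD.kl
  let p : Lt i j := ⟨k, hD.ik.symm, hD.jk.symm⟩
  let q : Lt i j := ⟨l, hD.il.symm, hD.jl.symm⟩
  have ze : val (zt h hij (ee p q)) = rr ε k l := by
    rw [val_zt, ee, ext_add, ext_single, ext_single, h.ev.add]
    rfl
  have hUK : UU ε k l ≤ KK ε := h.UK hkl
  have hUN : UU ε k l ≤ NN ε i j := hUK.trans (h.KK_le_NN i j)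
  have hKz : ∀ x ∈ KK ε, ∀ y : Fin n → ZMod 2, x * ε y * x⁻¹ = ε y := fun x hx y => by
    rw [Engine.mem_KK'.1 hx y]; group
  have t : Thr (HA h hij (NN ε i j)) (zt h hij) (HA h hij (UU ε k l)) (HA h hij (KK ε)) p q :=
    { pq := fun h' => hkl (congrArg Subtype.val h')
      sub := fun α hα => by
        obtain ⟨x, hx, h1⟩ := hα
        exact ⟨x, hUN hx, h1⟩
      mul := fun _ hα _ hβ => hh_tr hα hβ
      sq := fun α hα a => by
        obtain ⟨x, hx, h1⟩ := hα
        apply val_inj
        rw [h1, h1]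
        have h2 := h.Usq hkl hx
        have h3 : x⁻¹ = x := inv_eq_of_mul_eq_one_left h2
        rw [h3]
        calc x * (x * val a * x) * x = (x * x) * val a * (x * x) := by group
          _ = val a := by rw [h2, one_mul, mul_one]
      fz := fun α hα x => by
        obtain ⟨w, hw, h1⟩ := hα
        apply val_inj
        rw [h1, val_zt, hKz w (hUK hw)]
      nrm := fun y hy hye α hα => by
        obtain ⟨w, hw, h1⟩ := hα
        obtain ⟨c, hc, h2⟩ := hy
        have h3 := congrArg val hye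
        rw [h2, ze] at h3
        have hc' : c ∈ NN ε k l := mem_NN'.2 h3
        refine ⟨c * w * c⁻¹, UU_normal hc' hw, fun a => ?_⟩
        have h4 := h2 (y.symm a)
        rw [AddEquiv.apply_symm_apply] at h4
        rw [AddEquiv.trans_apply, AddEquiv.trans_apply, h2, h1, h4]
        group
      o2 := fun R hR w hw h1 h2 => o2_of_irr D (fun R hR h1 hne => irr h hij R hR h1 hne) R hR w hw h1 h2
      qsub := fun _ hg => by
        obtain ⟨x, hx, h1⟩ := hg
        exact ⟨x, h.KK_le_NN i j hx, h1⟩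
      qz := fun _ hg x => by
        obtain ⟨w, hw, h1⟩ := hg
        apply val_inj
        rw [h1, val_zt, hKz w hw]
      cen := fun a ha => by
        obtain ⟨x, xi, xj, hx⟩ := h.fix_V hij (val_mem a) (fun m hmi hmj y hy => by
          left
          have hyK : y ∈ KK ε := h.UK hmi.symm hy
          obtain ⟨e', he', he1'⟩ := hh_ex (M := UU ε i j) (hc := fun _ hu _ hv => h.Uab hij hu hv)
            (h2 := fun _ hu => h.Usq hij hu) (N := KK ε)
            (fun g hg => nn_norm (h.KK_le_NN i j hg)) hyK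
          have h1 := he1' a
          rw [ha e' he'] at h1
          rw [eq_mul_inv_iff_mul_eq] at h1
          exact Cfsg.Agent.Omega.TTn.Di.cm_one_iff.2 h1)
        exact ⟨res i j x, val_inj (by rw [hx, val_zt, ext_res xi xj])⟩ }
  obtain ⟨α, hα, h1⟩ := hh_ex (M := UU ε i j) (hc := fun _ hu _ hv => h.Uab hij hu hv)
    (h2 := fun _ hu => h.Usq hij hu) (N := UU ε k l) (fun g hg => nn_norm (hUN hg)) hy
  have h2 := h1 (mk _ _ huU)
  rw [three s t hα, val_mk] at h2
  rw [eq_mul_inv_iff_mul_eq] at h2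
  exact h2

end inst

end Cfsg.Agent.Omega.NSix.TLg
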