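import Cfsg.Agent.Omega.NSix.TL

/-!
# OMEGA N6 (H2): (3) of #16633 (helper150)

`three`: in the situation of TL (a transvection of `H` with centre in `V_12 - <12>` which kills
`V_12`), a subgroup `A` of `H` of exponent two, trivial on `V_12` and normalised by `C_H(pq)`, is
trivial.  For `A` = the image of `U_pq` this gives `[U_12, U_pq] = 1`.
-/

set_option autoImplicit false
set_option linter.unusedSectionVars false

namespace Cfsg.Agent.Omega.NSix.ThreeA

open Tv TL

variable {Λ : Type*} [Fintype Λ] [DecidableEq Λ]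
variable {U : Type*} [AddCommGroup U] [Module (ZMod 2) U]

/-- the pair `pq` -/
def ee (p q : Λ) : Λ → ZMod 2 := Pi.single p 1 + Pi.single q 1

/-- the hypotheses of (3) -/
structure Thr (H : Set (U ≃+ U)) (ζ : (Λ → ZMod 2) →+ U) (A Q : Set (U ≃+ U)) (p q : Λ) : Prop where
  pq : p ≠ q
  sub : ∀ α ∈ A, α ∈ H
  mul : ∀ α ∈ A, ∀ β ∈ A, α.trans β ∈ A
  sq : ∀ α ∈ A, ∀ u, α (α u) = u
  fz : ∀ α ∈ A, ∀ x, α (ζ x) = ζ x
  nrm : ∀ y ∈ H, y (ζ (ee p q)) = ζ (ee p q) → ∀ α ∈ A, (y.symm.trans α).trans y ∈ A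
  o2 : ∀ R : AddSubgroup U, (∀ g ∈ H, ∀ r ∈ R, g r ∈ R) → ∀ h ∈ H, (∀ u, h u + u ∈ R) →
    (∀ r ∈ R, h r = r) → ∀ u, h u = u
  qsub : ∀ g ∈ Q, g ∈ H
  qz : ∀ g ∈ Q, ∀ x, g (ζ x) = ζ x
  cen : ∀ u, (∀ g ∈ Q, g u = u) → ∃ x, u = ζ x

/-- the situation -/
structure All (H : Set (U ≃+ U)) (ζ : (Λ → ZMod 2) →+ U) (A Q : Set (U ≃+ U)) (p q : Λ) (δ : ZMod 2)
    (r : Λ) (f0 : U →+ ZMod 2) (B : U →+ U →+ ZMod 2) : Prop where
  s : Sit H ζ (pv Λ δ r) f0
  b : Frm H ζ (ζ (pv Λ δ r)) B
  t : Thr H ζ A Q p q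

theorem z2ne {a b : ZMod 2} (h : a ≠ b) : (a = 1 ∧ b = 0) ∨ (a = 0 ∧ b = 1) := by
  rcases z2 a with h1 | h1 <;> rcases z2 b with h2 | h2
  · exact absurd (h1.trans h2.symm) h
  · exact Or.inr ⟨h1, h2⟩
  · exact Or.inl ⟨h1, h2⟩
  · exact absurd (h1.trans h2.symm) h

theorem add_eq_zero' {u v : U} (h : u + v = 0) : u = v := by
  have h1 : u + v + v = u := by rw [add_assoc, two, add_zero]
  rw [← h1, h, zero_add]

namespace All

variable {H : Set (U ≃+ U)} {ζ : (Λ → ZMod 2) →+ U} {A Q : Set (U ≃+ U)} {p q : Λ} {δ : ZMod 2}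
  {r : Λ} {f0 : U →+ ZMod 2} {B : U →+ U →+ ZMod 2}

/-- the value of the form on `V_12` -/
theorem bz (_a : All H ζ A Q p q δ r f0 B) (d : U) (x : Λ → ZMod 2) :
    B d (ζ x) = dt (bt ζ (B d)) x := f_zeta ζ (B d) x

theorem ainv (a : All H ζ A Q p q δ r f0 B) {α : U ≃+ U} (hα : α ∈ A) (u v : U) :
    B (α u) v = B u (α v) := by
  rw [← a.b.inv α (a.t.sub α hα) u (α v), a.t.sq α hα]

theorem aK (a : All H ζ A Q p q δ r f0 B) {α : U ≃+ U} (hα : α ∈ A) {d : U}
    (hd : d ∈ KK H (ζ (pv Λ δ r))) : α d ∈ KK H (ζ (pv Λ δ r)) := a.s.kk_mv hd (a.t.sub α hα)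

theorem add_mem (a : All H ζ A Q p q δ r f0 B) {d e : U} (hd : d ∈ KK H (ζ (pv Λ δ r)))
    (he : e ∈ KK H (ζ (pv Λ δ r))) (h : B e d = 1) : d + e ∈ KK H (ζ (pv Λ δ r)) :=
  a.s.move hd (a.b.mem e he) h

/-- `t_d t_{α d}` is in `A` -/
theorem prod0 (a : All H ζ A Q p q δ r f0 B) {α : U ≃+ U} (hα : α ∈ A) {d : U}
    (hd : d ∈ KK H (ζ (pv Λ δ r))) (h0 : B d (ζ (ee p q)) = 0) :
    ∃ β ∈ A, ∀ u, β u = u + B (α d) u • α d + (B d u + B (α d) u * B d (α d)) • d := by
  obtain ⟨dd, t, ht, ht1⟩ := a.b.mem d hd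
  have e1 : t (ζ (ee p q)) = ζ (ee p q) := by rw [ht1, h0, zero_smul, add_zero]
  have e2 := a.t.nrm t ht e1 α hα
  refine ⟨_, a.t.mul α hα _ e2, fun u => ?_⟩
  have e3 : t.symm (α u) = α u + B d (α u) • d := by
    rw [AddEquiv.symm_apply_eq, ht1, map_add, f_sm, dd, mul_zero, add_zero, add_assoc, two,
      add_zero]
  have e4 : α (α u + B d (α u) • d) = u + B (α d) u • α d := by
    rw [map_add, a.t.sq α hα, ← a.ainv hα]
    congr 1
    exact map_sm α.toAddMonoidHom _ _
  rw [AddEquiv.trans_apply, AddEquiv.trans_apply, AddEquiv.trans_apply, e3, e4, ht1, map_add,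
    f_sm]

/-- ... and `(d, α d) = 0` -/
theorem prod (a : All H ζ A Q p q δ r f0 B) {α : U ≃+ U} (hα : α ∈ A) {d : U}
    (hd : d ∈ KK H (ζ (pv Λ δ r))) (h0 : B d (ζ (ee p q)) = 0) :
    B d (α d) = 0 ∧ ∃ β ∈ A, ∀ u, β u = u + B (α d) u • α d + B d u • d := by
  obtain ⟨β, hβ, h1⟩ := a.prod0 hα hd h0
  have k : B d (α d) = 0 := by
    by_contra hne
    have h2 := z2_one hne
    have e1 : β d = α d := by
      rw [h1, a.b.alt, a.b.symm (α d) d, h2, one_smul, zero_add, one_mul, one_smul,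
        add_comm d, add_assoc, two, add_zero]
    have e2 : β (α d) = α d + d := by
      rw [h1, a.b.alt, h2, zero_smul, add_zero, zero_mul, add_zero, one_smul]
    have e3 := a.t.sq β hβ d
    rw [e1, e2] at e3
    exact a.s.kne (a.aK hα hd) (by simpa using e3)
  refine ⟨k, β, hβ, fun u => ?_⟩
  rw [h1, k, mul_zero, add_zero]

/-- (3a) -/
theorem a3 (a : All H ζ A Q p q δ r f0 B) {α : U ≃+ U} (hα : α ∈ A) {d : U}
    (hd : d ∈ KK H (ζ (pv Λ δ r))) (h0 : B d (ζ (ee p q)) = 0) {x : Λ → ZMod 2}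
    (hx : B d (ζ x) = 1) : α d = d := by
  obtain ⟨-, β, hβ, h1⟩ := a.prod hα hd h0
  have h2 := a.t.fz β hβ x
  rw [h1, a.ainv hα, a.t.fz α hα, hx, one_smul, one_smul, add_assoc] at h2
  exact add_eq_zero' (by simpa using h2)

/-- (3b), the basic case -/
theorem b3 (a : All H ζ A Q p q δ r f0 B) {α : U ≃+ U} (hα : α ∈ A) {d d' : U}
    (hd : d ∈ KK H (ζ (pv Λ δ r))) (hd' : d' ∈ KK H (ζ (pv Λ δ r)))
    (h1 : B d (ζ (ee p q)) = 1) (h1' : B d' (ζ (ee p q)) = 1)
    (hne : bt ζ (B d) ≠ bt ζ (B d')) {k : Λ} (hk : bt ζ (B d) k = 1) (hk' : bt ζ (B d') k = 1) :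
    α (d + d') = d + d' := by
  obtain ⟨x, hx⟩ : ∃ x, B d (ζ x) + B d' (ζ x) = 1 := by
    by_contra hc
    push Not at hc
    apply hne
    funext l
    have h2 := z2_zero (hc (Pi.single l 1))
    change bt ζ (B d) l + bt ζ (B d') l = 0 at h2
    rcases z2 (bt ζ (B d) l) with h1 | h1 <;> rcases z2 (bt ζ (B d') l) with h3 | h3 <;>
      rw [h1, h3] at h2 ⊢ <;> exact absurd h2 (by decide)
  have one : ∀ d ∈ KK H (ζ (pv Λ δ r)), dt (bt ζ (B d)) 1 = 0 := fun d hd => by
    rw [← f_zeta, a.s.one hd (a.b.mem d hd)]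
  rcases z2 (B d' d) with h2 | h2
  · have ck := a.s.ck k
    have c1 : B (ζ (pv Λ δ k)) d = 1 := by
      rw [a.b.symm, a.bz, dt_pv _ (one d hd), hk]
    have c2 : B d' (ζ (pv Λ δ k)) = 1 := by rw [a.bz, dt_pv _ (one d' hd'), hk']
    have m1 := a.add_mem hd ck c1
    have m2 := a.add_mem m1 hd' (by rw [map_add, h2, c2, zero_add])
    have iso := a.b.iso (pv Λ δ k)
    have e1 : B (d + ζ (pv Λ δ k) + d') (ζ (ee p q)) = 0 := by
      rw [map_add, map_add, AddMonoidHom.add_apply, AddMonoidHom.add_apply, iso, h1, h1']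
      decide
    have e2 : B (d + ζ (pv Λ δ k) + d') (ζ x) = 1 := by
      rw [map_add, map_add, AddMonoidHom.add_apply, AddMonoidHom.add_apply, iso, add_zero, hx]
    have e3 := a.a3 hα m2 e1 e2
    have e4 : d + d' = (d + ζ (pv Λ δ k) + d') + ζ (pv Λ δ k) := by
      rw [add_right_comm d, add_assoc (d + d'), two, add_zero]
    rw [e4, map_add, e3, a.t.fz α hα]
  · have m1 := a.add_mem hd hd' h2
    exact a.a3 hα m1 (by rw [map_add, AddMonoidHom.add_apply, h1, h1']; decide)
      (by rw [map_add, AddMonoidHom.add_apply, hx])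

/-- the pair `b_d` of a `d` with `(d, pq) = 1` -/
theorem shape (a : All H ζ A Q p q δ r f0 B) {d : U} (hd : d ∈ KK H (ζ (pv Λ δ r)))
    (h1 : B d (ζ (ee p q)) = 1) : ∃ i s, (i = p ∨ i = q) ∧ s ≠ p ∧ s ≠ q ∧
      bt ζ (B d) = Pi.single i 1 + Pi.single s 1 := by
  have hb : bt ζ (B d) ≠ 0 := by
    intro h
    rw [a.bz, h, zero_dt] at h1
    exact absurd h1 (by decide)
  obtain ⟨x, y, hxy, h2⟩ := a.s.pair hd (a.b.mem d hd) hb
  rw [a.bz, ee, dt_add, dt_single, dt_single, h2] at h1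
  have hpq := a.t.pq
  simp only [Pi.add_apply, Pi.single_apply] at h1
  by_cases e1 : p = x
  · refine ⟨x, y, Or.inl e1.symm, ?_, ?_, h2⟩
    · rw [e1]; exact hxy.symm
    · rintro rfl
      rw [if_pos e1, if_neg (e1 ▸ hxy), if_neg (e1 ▸ hxy.symm), if_pos rfl] at h1
      exact absurd h1 (by decide)
  · by_cases e2 : p = y
    · refine ⟨y, x, Or.inl e2.symm, ?_, ?_, by rw [h2, add_comm]⟩
      · rw [e2]; exact hxy
      · rintro rfl
        rw [if_neg e1, if_pos e2, if_pos rfl, if_neg hxy] at h1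
        exact absurd h1 (by decide)
    · rw [if_neg e1, if_neg e2, add_zero, zero_add] at h1
      by_cases e3 : q = x
      · exact ⟨x, y, Or.inr e3.symm, Ne.symm e2, by rw [e3]; exact hxy.symm, h2⟩
      · by_cases e4 : q = y
        · exact ⟨y, x, Or.inr e4.symm, Ne.symm e1, by rw [e4]; exact hxy, by rw [h2, add_comm]⟩
        · rw [if_neg e3, if_neg e4, add_zero] at h1
          exact absurd h1 (by decide)

/-- all pairs occur -/
theorem exd (a : All H ζ A Q p q δ r f0 B) {i j : Λ} (hij : i ≠ j) :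
    ∃ d ∈ KK H (ζ (pv Λ δ r)), bt ζ (B d) = Pi.single i 1 + Pi.single j 1 := by
  obtain ⟨d, hd, g, hg, hb⟩ := a.s.all_pairs hij
  refine ⟨d, hd, ?_⟩
  have hg0 : g ≠ 0 := by
    rintro rfl
    have := congrFun hb i
    rw [bt_zero, Pi.add_apply, Pi.single_eq_same, Pi.single_eq_of_ne hij] at this
    exact absurd this (by simp)
  rw [← a.s.uniq' hd hg (a.b.mem d hd) hg0 (a.b.ne d hd), hb]

/-- (3b) -/
theorem b3c (a : All H ζ A Q p q δ r f0 B) {α : U ≃+ U} (hα : α ∈ A) {d d' : U}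
    (hd : d ∈ KK H (ζ (pv Λ δ r))) (hd' : d' ∈ KK H (ζ (pv Λ δ r)))
    (h1 : B d (ζ (ee p q)) = 1) (h1' : B d' (ζ (ee p q)) = 1) : α (d + d') = d + d' := by
  obtain ⟨i, s, hi, sp, sq, hb⟩ := a.shape hd h1
  obtain ⟨i', s', hi', sp', sq', hb'⟩ := a.shape hd' h1'
  have hpq := a.t.pq
  have h7 := a.s.seven
  obtain ⟨t, ht⟩ := ex_not [p, q, s, s'] (by simp; omega)
  simp only [List.mem_cons, List.not_mem_nil, or_false, forall_eq_or_imp, forall_eq] at ht
  obtain ⟨tp, tq, ts, ts'⟩ := ht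
  have ti : ∀ i, (i = p ∨ i = q) → t ≠ i := by
    rintro i (rfl | rfl)
    · exact tp
    · exact tq
  have ve : ∀ i, (i = p ∨ i = q) → dt (Pi.single i 1 + Pi.single t 1) (ee p q) = 1 := by
    rintro i (rfl | rfl)
    · rw [add_dt, single_dt, single_dt, ee, Pi.add_apply, Pi.add_apply, Pi.single_eq_same,
        Pi.single_eq_of_ne hpq, Pi.single_eq_of_ne tp, Pi.single_eq_of_ne tq]
      decide
    · rw [add_dt, single_dt, single_dt, ee, Pi.add_apply, Pi.add_apply, Pi.single_eq_same,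
        Pi.single_eq_of_ne hpq.symm, Pi.single_eq_of_ne tp, Pi.single_eq_of_ne tq]
      decide
  have key : ∀ d ∈ KK H (ζ (pv Λ δ r)), ∀ e ∈ KK H (ζ (pv Λ δ r)), ∀ i s, B d (ζ (ee p q)) = 1 →
      (i = p ∨ i = q) → s ≠ p → s ≠ q → t ≠ s → bt ζ (B d) = Pi.single i 1 + Pi.single s 1 →
      bt ζ (B e) = Pi.single i 1 + Pi.single t 1 → α (d + e) = d + e := by
    intro d hd e he i s h1 hi hsp hsq hts hb hbe
    have ti' := ti i hi
    have si : s ≠ i := by rcases hi with rfl | rfl <;> assumption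
    refine a.b3 hα hd he h1 ?_ ?_ (k := i) ?_ ?_
    · rw [a.bz, hbe, ve i hi]
    · intro h
      have h2 := congrFun h t
      rw [hb, hbe, Pi.add_apply, Pi.add_apply, Pi.single_eq_same, Pi.single_eq_of_ne ti',
        Pi.single_eq_of_ne hts] at h2
      exact absurd h2 (by decide)
    · rw [hb, Pi.add_apply, Pi.single_eq_same, Pi.single_eq_of_ne si.symm, add_zero]
    · rw [hbe, Pi.add_apply, Pi.single_eq_same, Pi.single_eq_of_ne ti'.symm, add_zero]
  obtain ⟨e, he, hbe⟩ := a.exd (ti i hi).symm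
  have k1 := key d hd e he i s h1 hi sp sq ts hb hbe
  by_cases hii : i = i'
  · subst hii
    have k2 := key d' hd' e he i s' h1' hi' sp' sq' ts' hb' hbe
    have h3 : d + d' = (d + e) + (d' + e) := by
      rw [add_add_add_comm, two, add_zero]
    rw [h3, map_add, k1, k2]
  · obtain ⟨e', he', hbe'⟩ := a.exd (ti i' hi').symm
    have k2 := key d' hd' e' he' i' s' h1' hi' sp' sq' ts' hb' hbe'
    have k3 : α (e + e') = e + e' := by
      refine a.b3 hα he he' ?_ ?_ ?_ (k := t) ?_ ?_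
      · rw [a.bz, hbe, ve i hi]
      · rw [a.bz, hbe', ve i' hi']
      · intro h
        have h2 := congrFun h i
        rw [hbe, hbe', Pi.add_apply, Pi.add_apply, Pi.single_eq_same,
          Pi.single_eq_of_ne (ti i hi).symm, Pi.single_eq_of_ne hii] at h2
        exact absurd h2 (by decide)
      · rw [hbe, Pi.add_apply, Pi.single_eq_same, Pi.single_eq_of_ne (ti i hi), zero_add]
      · rw [hbe', Pi.add_apply, Pi.single_eq_same, Pi.single_eq_of_ne (ti i' hi'), zero_add]
    have h3 : d + d' = (d + e) + (d' + e') + (e + e') := by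
      have : (d + e) + (d' + e') + (e + e') = d + d' + ((e + e) + (e' + e')) := by abel
      rw [this, two, two, add_zero, add_zero]
    rw [h3, map_add, map_add, k1, k2, k3]

theorem comm (a : All H ζ A Q p q δ r f0 B) {α β : U ≃+ U} (hα : α ∈ A) (hβ : β ∈ A) (u : U) :
    α (β u) = β (α u) := by
  have h := a.t.sq _ (a.t.mul α hα β hβ) u
  rw [AddEquiv.trans_apply, AddEquiv.trans_apply] at h
  have h1 := congrArg β h
  rw [a.t.sq β hβ] at h1
  have h2 := congrArg α h1
  rw [a.t.sq α hα] at h2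
  exact h2.symm

/-- the radical -/
theorem o2' (a : All H ζ A Q p q δ r f0 B) {h : U ≃+ U} (hh : h ∈ H)
    (h1 : ∀ u, B (h u + u) = 0) (h2 : ∀ u, B u = 0 → h u = u) (u : U) : h u = u := by
  refine a.t.o2 B.ker (fun g hg r hr => ?_) h hh (fun u => h1 u) (fun r hr => h2 r hr) u
  rw [AddMonoidHom.mem_ker] at hr ⊢
  ext v
  have e := a.b.inv g hg r (g.symm v)
  rw [AddEquiv.apply_symm_apply, hr] at e
  exact e

/-- (3c) -/
theorem c3 (a : All H ζ A Q p q δ r f0 B) {α : U ≃+ U} (hα : α ∈ A) {d : U}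
    (hd : d ∈ KK H (ζ (pv Λ δ r))) (h0 : ∀ x, B d (ζ x) = 0) : α d = d := by
  obtain ⟨κ, β, hβ, hb⟩ := a.prod hα hd (h0 _)
  by_contra hne
  have hd' := a.aK hα hd
  have d0 := a.s.kne hd
  have d0' := a.s.kne hd'
  have κ' : B (α d) d = 0 := by rw [a.b.symm, κ]
  have key : ∀ e ∈ KK H (ζ (pv Λ δ r)), B d e = B (α d) e := by
    intro e he
    by_contra hde
    rcases z2 (B e (ζ (ee p q))) with he0 | he1
    · by_cases hx : ∃ x, B e (ζ x) = 1
      · obtain ⟨x, hx⟩ := hx
        have h1 := a.a3 hα he he0 hx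
        apply hde
        rw [a.ainv hα, h1]
      · obtain ⟨ee', t, ht, ht1⟩ := a.b.mem e he
        have e1 : t (ζ (ee p q)) = ζ (ee p q) := by rw [ht1, he0, zero_smul, add_zero]
        have e2 := a.t.nrm t ht e1 β hβ
        have ts : ∀ u, t.symm u = u + B e u • e := by
          intro u
          rw [AddEquiv.symm_apply_eq, ht1, map_add, f_sm, ee', mul_zero, add_zero, add_assoc, two,
            add_zero]
        have te : t e = e := by rw [ht1, ee', zero_smul, add_zero]
        have fin : ∀ d d' : U, d ≠ 0 → B e d = 1 → B e d' = 0 → B d d' = 0 → B d d = 0 →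
            (∀ u, β u = u + B d' u • d' + B d u • d) → False := by
          intro d d' d0 h1 h2 h3 h4 h5
          have c := a.comm hβ e2 d
          have b1 : β d = d := by
            rw [h5, h4, a.b.symm, h3, zero_smul, add_zero, zero_smul, add_zero]
          have b2 : β (d + e) = e := by
            rw [h5, map_add, map_add, a.b.symm d' d, h3, a.b.symm d' e, h2, h4, a.b.symm d e, h1,
              add_zero, zero_smul, add_zero, zero_add, one_smul, add_comm d e, add_assoc, two,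
              add_zero]
          have b3 : β e = e + d := by
            rw [h5, a.b.symm d' e, h2, a.b.symm d e, h1, zero_smul, add_zero, one_smul]
          rw [AddEquiv.trans_apply, AddEquiv.trans_apply, ts, h1, one_smul, b2, te, b3, b1,
            AddEquiv.trans_apply, AddEquiv.trans_apply, ts, h1, one_smul, b2, te] at c
          exact d0 (by simpa using c)
        rcases z2ne hde with ⟨h1, h2⟩ | ⟨h1, h2⟩
        · exact fin d (α d) d0 (by rw [a.b.symm, h1]) (by rw [a.b.symm, h2]) κ (a.b.alt d) hb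
        · refine fin (α d) d d0' (by rw [a.b.symm, h2]) (by rw [a.b.symm, h1]) κ' (a.b.alt _) ?_
          intro u
          rw [hb, add_right_comm]
    · have h1 : B (α e) (ζ (ee p q)) = 1 := by rw [a.ainv hα, a.t.fz α hα, he1]
      have h2 := a.b3c hβ he (a.aK hα he) he1 h1
      rw [map_add, hb, hb, ← a.ainv hα, ← a.ainv hα, a.t.sq α hα] at h2
      have h3 : (B (α d) e • α d + B d e • d) + (B d e • α d + B (α d) e • d) = 0 := by
        have : e + B (α d) e • α d + B d e • d + (α e + B d e • α d + B (α d) e • d) =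
            (e + α e) + ((B (α d) e • α d + B d e • d) + (B d e • α d + B (α d) e • d)) := by abel
        rw [this] at h2
        simpa using h2
      rcases z2ne hde with ⟨h4, h5⟩ | ⟨h4, h5⟩
      · rw [h4, h5, zero_smul, zero_smul, one_smul, one_smul, zero_add, add_zero] at h3
        exact hne (add_eq_zero' h3).symm
      · rw [h4, h5, zero_smul, zero_smul, one_smul, one_smul, zero_add, add_zero] at h3
        exact hne (add_eq_zero' h3)
  have rad : B (d + α d) = 0 := by
    refine a.s.sep (fun e he => ?_) ?_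
    · rw [map_add, AddMonoidHom.add_apply, key e he, z2_add]
    · rw [map_add, AddMonoidHom.add_apply, a.ainv hα, a.t.fz α hα, z2_add]
  have hs : ∀ u, B (α d) u = B d u := by
    intro u
    have := DFunLike.congr_fun rad u
    rw [map_add, AddMonoidHom.add_apply, AddMonoidHom.zero_apply] at this
    rcases z2 (B d u) with h1 | h1 <;> rcases z2 (B (α d) u) with h2 | h2 <;>
      rw [h1, h2] at this ⊢ <;> exact absurd this (by decide)
  have h1 := a.o2' (a.t.sub β hβ) (fun u => by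
    rw [hb, hs]
    rcases z2 (B d u) with h1 | h1 <;> rw [h1]
    · rw [zero_smul, zero_smul, add_zero, add_zero, two, map_zero]
    · rw [one_smul, one_smul]
      have : u + α d + d + u = (u + u) + (d + α d) := by abel
      rw [this, two, zero_add, rad]) (fun u hu => by
      rw [hb, hs, a.b.symm, hu, AddMonoidHom.zero_apply, zero_smul, zero_smul, add_zero, add_zero])
  have h2 : B d ≠ 0 := a.b.ne d hd
  apply h2
  ext u
  have h3 := h1 u
  rw [hb, hs] at h3
  rcases z2 (B d u) with h4 | h4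
  · exact h4
  · rw [h4, one_smul, one_smul, add_assoc] at h3
    exact absurd (add_eq_zero' (by simpa using h3)) hne

/-- a member of `A` is `u ↦ u + (u, pq) w` -/
theorem form (a : All H ζ A Q p q δ r f0 B) {α : U ≃+ U} (hα : α ∈ A) :
    ∃ w, (∀ u, α u = u + B u (ζ (ee p q)) • w) ∧ ((∃ u, α u ≠ u) → B (w + ζ (ee p q)) = 0) := by
  have hpq := a.t.pq
  have h7 := a.s.seven
  obtain ⟨t, ht⟩ := ex_not [p, q] (by simp; omega)
  simp only [List.mem_cons, List.not_mem_nil, or_false, forall_eq_or_imp, forall_eq] at ht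
  obtain ⟨d, hd, hb⟩ := a.exd ht.1
  have h1 : B d (ζ (ee p q)) = 1 := by
    rw [a.bz, hb, add_dt, single_dt, single_dt, ee, Pi.add_apply, Pi.add_apply,
      Pi.single_eq_same, Pi.single_eq_of_ne hpq, Pi.single_eq_of_ne ht.1, Pi.single_eq_of_ne ht.2]
    decide
  have main : ∀ u, α u = u + B u (ζ (ee p q)) • (d + α d) := by
    refine a.s.ind ?_ ?_ ?_ ?_
    · rw [map_zero, map_zero, AddMonoidHom.zero_apply, zero_smul, add_zero]
    · intro u v hu hv
      rw [map_add, map_add, AddMonoidHom.add_apply, hu, hv, add_smul, add_add_add_comm]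
    · intro e he
      rcases z2 (B e (ζ (ee p q))) with h2 | h2
      · rw [h2, zero_smul, add_zero]
        by_cases hx : ∃ x, B e (ζ x) = 1
        · obtain ⟨x, hx⟩ := hx
          exact a.a3 hα he h2 hx
        · push Not at hx
          exact a.c3 hα he fun x => z2_zero (hx x)
      · have h3 := a.b3c hα he hd h2 h1
        rw [map_add] at h3
        rw [h2, one_smul]
        have h4 : α e = (α e + α d) + α d := by rw [add_assoc, two, add_zero]
        rw [h4, h3, add_assoc]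
    · rw [a.b.iso, zero_smul, add_zero, a.t.fz α hα]
  refine ⟨d + α d, main, ?_⟩
  rintro ⟨u0, hu0⟩
  have hw : ∀ v, B (d + α d) v = B v (ζ (ee p q)) * B (d + α d) d := by
    intro v
    have h2 := a.b.inv α (a.t.sub α hα) d v
    rw [main d, main v, h1, one_smul] at h2
    have h3 : B (d + (d + α d)) (v + B v (ζ (ee p q)) • (d + α d)) = B d v + B (d + α d) v +
        B v (ζ (ee p q)) * B (d + α d) d := by
      have e1 : B d (d + α d) = B (d + α d) d := a.b.symm _ _
      rw [map_add B d, AddMonoidHom.add_apply, map_add (B d) v, map_add (B (d + α d)) v, f_sm, f_sm,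
        a.b.alt, mul_zero, add_zero, e1]
      exact add_right_comm _ _ _
    rw [h3] at h2
    have h4 : B (d + α d) v + B v (ζ (ee p q)) * B (d + α d) d = 0 := by
      rw [add_assoc] at h2
      simpa using h2
    rcases z2 (B (d + α d) v) with h5 | h5 <;>
      rcases z2 (B v (ζ (ee p q)) * B (d + α d) d) with h6 | h6 <;>
      rw [h5, h6] at h4 ⊢ <;> exact absurd h4 (by decide)
  rcases z2 (B (d + α d) d) with h2 | h2
  · exfalso
    have h3 : B (d + α d) = 0 := by
      ext v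
      rw [hw, h2, mul_zero]; rfl
    apply hu0
    refine a.o2' (a.t.sub α hα) (fun u => ?_) (fun u hu => ?_) u0
    · rw [main u]
      rcases z2 (B u (ζ (ee p q))) with h4 | h4 <;> rw [h4]
      · rw [zero_smul, add_zero, two, map_zero]
      · rw [one_smul, add_right_comm, two, zero_add, h3]
    · rw [main u, hu, AddMonoidHom.zero_apply, zero_smul, add_zero]
  · ext v
    rw [map_add, AddMonoidHom.add_apply, hw, h2, mul_one, a.b.symm v, z2_add]; rfl

/-- (3), end -/
theorem three' (a : All H ζ A Q p q δ r f0 B) {α : U ≃+ U} (hα : α ∈ A) (u : U) : α u = u := by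
  by_contra hne
  obtain ⟨w, hw, hw'⟩ := a.form hα
  have hwr := hw' ⟨u, hne⟩
  have hpq := a.t.pq
  have h7 := a.s.seven
  obtain ⟨t, ht⟩ := ex_not [p, q] (by simp; omega)
  obtain ⟨t', ht'⟩ := ex_not [p, q, t] (by simp; omega)
  simp only [List.mem_cons, List.not_mem_nil, or_false, forall_eq_or_imp, forall_eq] at ht ht'
  obtain ⟨d, hd, hb⟩ := a.exd ht.1
  have h1 : B d (ζ (ee p q)) = 1 := by
    rw [a.bz, hb, add_dt, single_dt, single_dt, ee, Pi.add_apply, Pi.add_apply,
      Pi.single_eq_same, Pi.single_eq_of_ne hpq, Pi.single_eq_of_ne ht.1, Pi.single_eq_of_ne ht.2]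
    decide
  have hw0 : w ≠ 0 := by
    rintro rfl
    apply hne
    rw [hw, smul_zero, add_zero]
  -- two members of `A`
  have two' : ∀ α' ∈ A, ∀ w', (∀ u, α' u = u + B u (ζ (ee p q)) • w') → w' ≠ 0 → w = w' := by
    intro α' hα' w' hw1 hw1'
    obtain ⟨w'', hw2, hw3⟩ := a.form hα'
    have e1 : w'' = w' := by
      have h2 := hw1 d
      rw [hw2 d, h1, one_smul, one_smul] at h2
      exact add_left_cancel h2
    subst e1
    have hr := hw3 ⟨d, by
      rw [hw1 d, h1, one_smul]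
      intro h
      exact hw1' (by simpa using h)⟩
    have hs : B (w + w'') = 0 := by
      have : w + w'' = (w + ζ (ee p q)) + (w'' + ζ (ee p q)) := by
        rw [add_add_add_comm, two, add_zero]
      rw [this, map_add, hwr, hr, add_zero]
    have hmul : ∀ u, (α.trans α') u = u + B u (ζ (ee p q)) • (w + w'') := by
      intro u
      rw [AddEquiv.trans_apply, hw2, a.ainv hα, a.t.fz α hα, hw, smul_add, add_assoc]
    have h2 := a.o2' (a.t.sub _ (a.t.mul α hα α' hα')) (fun u => by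
      rw [hmul]
      rcases z2 (B u (ζ (ee p q))) with h4 | h4 <;> rw [h4]
      · rw [zero_smul, add_zero, two, map_zero]
      · rw [one_smul, add_right_comm, two, zero_add, hs]) (fun u hu => by
        rw [hmul, hu, AddMonoidHom.zero_apply, zero_smul, add_zero]) d
    rw [hmul, h1, one_smul] at h2
    exact add_eq_zero' (by simpa using h2)
  obtain ⟨x, hx⟩ := a.t.cen w fun g hg => by
    have gH := a.t.qsub g hg
    have h2 := a.t.nrm g gH (a.t.qz g hg _) α hα
    refine (two' _ h2 (g w) (fun u => ?_) (fun h => hw0 ?_)).symm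
    · have h3 := a.b.inv g gH (g.symm u) (ζ (ee p q))
      rw [AddEquiv.apply_symm_apply, a.t.qz g hg] at h3
      rw [AddEquiv.trans_apply, AddEquiv.trans_apply, hw, map_add, AddEquiv.apply_symm_apply, h3]
      congr 1
      exact map_sm g.toAddMonoidHom _ _
    · exact g.injective (h.trans (map_zero g).symm)
  subst hx
  -- `x` is `pq` or its complement
  have hc : ∀ i j, i ≠ j → (x + ee p q) i = (x + ee p q) j := by
    intro i j hij
    obtain ⟨e, he, hbe⟩ := a.exd hij
    have h2 := DFunLike.congr_fun hwr e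
    rw [← map_add, a.b.symm, a.bz, hbe, add_dt, single_dt, single_dt,
      AddMonoidHom.zero_apply] at h2
    rcases z2 ((x + ee p q) i) with h3 | h3 <;> rcases z2 ((x + ee p q) j) with h4 | h4 <;>
      rw [h3, h4] at h2 ⊢ <;> exact absurd h2 (by decide)
  have ep : ee p q p = 1 := by rw [ee, Pi.add_apply, Pi.single_eq_same, Pi.single_eq_of_ne hpq]; decide
  have eq : ee p q q = 1 := by
    rw [ee, Pi.add_apply, Pi.single_eq_same, Pi.single_eq_of_ne hpq.symm]; decide
  have et : ∀ t, t ≠ p → t ≠ q → ee p q t = 0 := fun t h1 h2 => by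
    rw [ee, Pi.add_apply, Pi.single_eq_of_ne h1, Pi.single_eq_of_ne h2, add_zero]
  have f1 := a.b.iso (ee p q)
  have mem : B (ζ (ee p q)) ∈ FF H (ζ x) :=
    ⟨f1 x, α, a.t.sub α hα, fun u => by rw [hw, a.b.symm u]⟩
  have kill : bt ζ (B (ζ (ee p q))) = 0 := by
    funext k
    exact f1 _
  have ne : B (ζ (ee p q)) ≠ 0 := by
    intro h
    have h2 := DFunLike.congr_fun h d
    rw [a.b.symm, h1, AddMonoidHom.zero_apply] at h2
    exact absurd h2 (by decide)
  have c1 := hc p q hpq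
  have c2 := hc p t ht.1.symm
  have c3 := hc p t' ht'.1.symm
  rw [Pi.add_apply, Pi.add_apply, ep] at c1 c2 c3
  rw [eq] at c1
  rw [et t ht.1 ht.2] at c2
  rw [et t' ht'.1 ht'.2.1] at c3
  rcases z2 (x p) with hp | hp
  · rw [hp] at c1 c2 c3
    have v1 : x q = 0 := by
      rcases z2 (x q) with h | h
      · exact h
      · rw [h] at c1; exact absurd c1 (by decide)
    have v2 : x t = 1 := by rw [add_zero, zero_add] at c2; exact c2.symm
    have v3 : x t' = 1 := by rw [add_zero, zero_add] at c3; exact c3.symm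
    have S : Sit H ζ x (B (ζ (ee p q))) := ⟨a.s.toDat, ⟨t, v2⟩, ⟨p, hp⟩, mem, ne, kill⟩
    refine S.tl0 (a := ![t, p, t', q]) ?_ v2 hp v3 v1
    have q1 := ht.1
    have q2 := ht.2
    have q3 := ht'.1
    have q4 := ht'.2.1
    have q5 := ht'.2.2
    have q1' := q1.symm
    have q2' := q2.symm
    have q3' := q3.symm
    have q4' := q4.symm
    have q5' := q5.symm
    have hqp := hpq.symm
    intro x y hxy
    fin_cases x <;> fin_cases y <;> simp_all
  · rw [hp] at c1 c2 c3
    have v1 : x q = 1 := by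
      rcases z2 (x q) with h | h
      · rw [h] at c1; exact absurd c1 (by decide)
      · exact h
    have v2 : x t = 0 := by rw [add_zero, z2_add] at c2; exact c2.symm
    have v3 : x t' = 0 := by rw [add_zero, z2_add] at c3; exact c3.symm
    have S : Sit H ζ x (B (ζ (ee p q))) := ⟨a.s.toDat, ⟨p, hp⟩, ⟨t, v2⟩, mem, ne, kill⟩
    refine S.tl0 (a := ![p, t, q, t']) ?_ hp v2 v1 v3
    have q1 := ht.1
    have q2 := ht.2
    have q3 := ht'.1
    have q4 := ht'.2.1
    have q5 := ht'.2.2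
    have q1' := q1.symm
    have q2' := q2.symm
    have q3' := q3.symm
    have q4' := q4.symm
    have q5' := q5.symm
    have hqp := hpq.symm
    intro x y hxy
    fin_cases x <;> fin_cases y <;> simp_all

end All

/-- **(3) of #16633** -/
theorem three {H : Set (U ≃+ U)} {ζ : (Λ → ZMod 2) →+ U} {γ : Λ → ZMod 2} {f0 : U →+ ZMod 2}
    (s : Sit H ζ γ f0) {A Q : Set (U ≃+ U)} {p q : Λ} (t : Thr H ζ A Q p q) {α : U ≃+ U}
    (hα : α ∈ A) (u : U) : α u = u := by
  obtain ⟨δ, r, rfl⟩ := s.points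
  obtain ⟨B, b⟩ := s.frm
  exact All.three' ⟨s, b, t⟩ hα u

end Cfsg.Agent.Omega.NSix.ThreeA
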