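import Mathlib

/-!
# OMEGA N6 (`S_n` on even subsets, T-T): sets of transvections, #13256 (helper140), (1)-(3)

`Sys K F`: `K` is a set of vectors of the `F₂`-space `U`, `F c` (for `c ∈ K`) is a space of
functionals vanishing at `c` (the transvections `u ↦ u + f u • c`, `f ∈ F c`), no `F d` is properly
contained in `F c` (equal dimensions), and a transvection `t(d, g)` which fixes `c` normalises the
group of transvections with centre `c` (`star`).

* `Sys.sym`: `F c` does not vanish at `d` ⇒ `F d` does not vanish at `c`;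
* `Sys.le`: then the members of `F d` vanishing at `c` are in `F c`;
* `Sys.nonadj`: `c`, `c'` not adjacent, `d` adjacent to both ⇒ `F d` vanishes at `c + c'`;
* `Sys.dead`: (3), with the vectors `p i + p j` for `i ≠ j` in a set of at least five letters.
-/

set_option autoImplicit false

namespace Cfsg.Agent.Omega.NSix.Tv

theorem z2 (c : ZMod 2) : c = 0 ∨ c = 1 := by
  fin_cases c
  · exact Or.inl rfl
  · exact Or.inr rfl

theorem z2_one {c : ZMod 2} (h : c ≠ 0) : c = 1 := (z2 c).resolve_left h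

theorem z2_zero {c : ZMod 2} (h : c ≠ 1) : c = 0 := (z2 c).resolve_right h

theorem z2_add (c : ZMod 2) : c + c = 0 := by rcases z2 c with h | h <;> subst h <;> decide

variable {U : Type*} [AddCommGroup U]

/-- a system of transvection groups -/
structure Sys (K : Set U) (F : U → Set (U →+ ZMod 2)) : Prop where
  two : ∀ u : U, u + u = 0
  add : ∀ c ∈ K, ∀ f ∈ F c, ∀ g ∈ F c, f + g ∈ F c
  eq : ∀ c ∈ K, ∀ d ∈ K, F d ⊆ F c → F c ⊆ F d
  self : ∀ c ∈ K, ∀ f ∈ F c, f c = 0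
  star : ∀ c ∈ K, ∀ d ∈ K, ∀ g ∈ F d, g c = 0 → ∀ f ∈ F c, f d = 1 → f + g ∈ F c

/-- adjacency -/
def Adj (F : U → Set (U →+ ZMod 2)) (c d : U) : Prop := ∃ f ∈ F c, f d = 1

namespace Sys

variable {K : Set U} {F : U → Set (U →+ ZMod 2)}

theorem not_adj {c d : U} (h : ¬ Adj F c d) {f : U →+ ZMod 2} (hf : f ∈ F c) : f d = 0 :=
  z2_zero fun h1 => h ⟨f, hf, h1⟩

theorem le (s : Sys K F) {c d : U} (hc : c ∈ K) (hd : d ∈ K) (h : Adj F c d) {g : U →+ ZMod 2}
    (hg : g ∈ F d) (h0 : g c = 0) : g ∈ F c := by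
  obtain ⟨f, hf, hfd⟩ := h
  have h1 := s.add c hc f hf _ (s.star c hc d hd g hg h0 f hf hfd)
  have h2 : f + (f + g) = g := by
    ext u
    rw [AddMonoidHom.add_apply, AddMonoidHom.add_apply, ← add_assoc, z2_add, zero_add]
  rwa [h2] at h1

theorem sym (s : Sys K F) {c d : U} (hc : c ∈ K) (hd : d ∈ K) (h : Adj F c d) : Adj F d c := by
  by_contra hn
  have h1 : F d ⊆ F c := fun g hg => s.le hc hd h hg (not_adj hn hg)
  obtain ⟨f, hf, hfd⟩ := h
  have h2 := s.self d hd f (s.eq c hc d hd h1 hf)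
  rw [h2] at hfd
  exact absurd hfd (by decide)

theorem nonadj (s : Sys K F) {c c' d : U} (hc : c ∈ K) (hc' : c' ∈ K) (hd : d ∈ K)
    (hn : ¬ Adj F c c') (h : Adj F c d) (h' : Adj F c' d) {g : U →+ ZMod 2} (hg : g ∈ F d) :
    g (c + c') = 0 := by
  have hn' : ¬ Adj F c' c := fun h1 => hn (s.sym hc' hc h1)
  rw [map_add]
  by_cases h0 : g c = 0
  · rw [h0, not_adj hn (s.le hc hd h hg h0), add_zero]
  · have h1 : g c' ≠ 0 := fun h2 => h0 (not_adj hn' (s.le hc' hd h' hg h2))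
    rw [z2_one h0, z2_one h1, z2_add]

/-- (3), first half: a functional of `F (p i + p j)` which kills all `p k + p l` is in all
`F (p k + p l)`.  `Q`: the letters in use. -/
theorem mem_all (s : Sys K F) {ι : Type*} {Q : ι → Prop} {p : ι → U}
    (hr : ∀ i j, Q i → Q j → i ≠ j → p i + p j ∈ K)
    (hadj : ∀ i j k, Q i → Q j → Q k → i ≠ j → j ≠ k → i ≠ k → Adj F (p i + p j) (p j + p k))
    {i j : ι} (qi : Q i) (qj : Q j) (hij : i ≠ j) {f : U →+ ZMod 2} (hf : f ∈ F (p i + p j))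
    (hf0 : ∀ k l, Q k → Q l → k ≠ l → f (p k + p l) = 0) {k l : ι} (qk : Q k) (ql : Q l)
    (hkl : k ≠ l) : f ∈ F (p k + p l) := by
  have step : ∀ i j k, Q i → Q j → Q k → i ≠ j → j ≠ k → i ≠ k → f ∈ F (p i + p j) →
      f ∈ F (p j + p k) := by
    intro i j k q1 q2 q3 h1 h2 h3 h4
    exact s.le (hr j k q2 q3 h2) (hr i j q1 q2 h1) (s.sym (hr i j q1 q2 h1) (hr j k q2 q3 h2)
      (hadj i j k q1 q2 q3 h1 h2 h3)) h4 (hf0 j k q2 q3 h2)
  have hf' : f ∈ F (p j + p i) := by rw [add_comm]; exact hf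
  have hi : ∀ k, Q k → k ≠ i → f ∈ F (p i + p k) := by
    intro k qk hk
    by_cases hj : k = j
    · subst hj; exact hf
    · exact step j i k qj qi qk hij.symm hk.symm (Ne.symm hj) hf'
  by_cases h1 : k = i
  · subst h1; exact hi l ql hkl.symm
  by_cases h2 : l = i
  · subst h2; rw [add_comm]; exact hi k qk h1
  exact step i k l qi qk ql (Ne.symm h1) hkl (Ne.symm h2) (hi k qk h1)

/-- (3): a functional of `F (p i + p j)` which kills all `p k + p l` is zero: five letters -/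
theorem dead (s : Sys K F) {ι : Type*} {Q : ι → Prop} {p : ι → U}
    (hr : ∀ i j, Q i → Q j → i ≠ j → p i + p j ∈ K)
    (hadj : ∀ i j k, Q i → Q j → Q k → i ≠ j → j ≠ k → i ≠ k → Adj F (p i + p j) (p j + p k))
    (hdis : ∀ i j k l, Q i → Q j → Q k → Q l → i ≠ j → k ≠ l → i ≠ k → i ≠ l → j ≠ k → j ≠ l →
      ¬ Adj F (p i + p j) (p k + p l))
    {a : Fin 5 → ι} (ha : Function.Injective a) (qa : ∀ x, Q (a x))
    {i j : ι} (qi : Q i) (qj : Q j) (hij : i ≠ j) {f : U →+ ZMod 2} (hf : f ∈ F (p i + p j))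
    (hf0 : ∀ k l, Q k → Q l → k ≠ l → f (p k + p l) = 0) (hsep : (∀ d ∈ K, f d = 0) → f = 0) :
    f = 0 := by
  by_contra hne
  have : ∃ d ∈ K, f d = 1 := by
    by_contra hc
    push Not at hc
    exact hne (hsep fun d hd => z2_zero (hc d hd))
  obtain ⟨d, hd, hfd⟩ := this
  have A : ∀ k l, Q k → Q l → k ≠ l → Adj F (p k + p l) d := fun k l qk ql h =>
    ⟨f, s.mem_all hr hadj qi qj hij hf hf0 qk ql h, hfd⟩
  have ne : ∀ x y : Fin 5, x ≠ y → a x ≠ a y := fun x y h h' => h (ha h')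
  have key : ∀ g ∈ F d, g (p (a 3) + p (a 4)) = 0 := by
    intro g hg
    have e1 := s.nonadj (hr _ _ (qa 0) (qa 1) (ne 0 1 (by decide)))
      (hr _ _ (qa 2) (qa 3) (ne 2 3 (by decide))) hd
      (hdis _ _ _ _ (qa 0) (qa 1) (qa 2) (qa 3) (ne 0 1 (by decide)) (ne 2 3 (by decide))
        (ne 0 2 (by decide)) (ne 0 3 (by decide)) (ne 1 2 (by decide)) (ne 1 3 (by decide)))
      (A _ _ (qa 0) (qa 1) (ne 0 1 (by decide))) (A _ _ (qa 2) (qa 3) (ne 2 3 (by decide))) hg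
    have e2 := s.nonadj (hr _ _ (qa 0) (qa 1) (ne 0 1 (by decide)))
      (hr _ _ (qa 2) (qa 4) (ne 2 4 (by decide))) hd
      (hdis _ _ _ _ (qa 0) (qa 1) (qa 2) (qa 4) (ne 0 1 (by decide)) (ne 2 4 (by decide))
        (ne 0 2 (by decide)) (ne 0 4 (by decide)) (ne 1 2 (by decide)) (ne 1 4 (by decide)))
      (A _ _ (qa 0) (qa 1) (ne 0 1 (by decide))) (A _ _ (qa 2) (qa 4) (ne 2 4 (by decide))) hg
    have e3 : p (a 3) + p (a 4) = (p (a 0) + p (a 1) + (p (a 2) + p (a 3))) +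
        (p (a 0) + p (a 1) + (p (a 2) + p (a 4))) := by
      have h1 := s.two (p (a 0))
      have h2 := s.two (p (a 1))
      have h3 := s.two (p (a 2))
      have : (p (a 0) + p (a 1) + (p (a 2) + p (a 3))) + (p (a 0) + p (a 1) + (p (a 2) + p (a 4)))
          = (p (a 0) + p (a 0)) + (p (a 1) + p (a 1)) + (p (a 2) + p (a 2)) +
            (p (a 3) + p (a 4)) := by abel
      rw [this, h1, h2, h3]; simp
    rw [e3, map_add, e1, e2, add_zero]
  obtain ⟨g, hg, hg1⟩ := s.sym (hr _ _ (qa 3) (qa 4) (ne 3 4 (by decide))) hd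
    (A _ _ (qa 3) (qa 4) (ne 3 4 (by decide)))
  rw [key g hg] at hg1
  exact absurd hg1 (by decide)

end Sys

end Cfsg.Agent.Omega.NSix.Tv
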