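import Cfsg.Agent.Omega.TV.Group

/-!
# OMEGA N6, #16862 (helper556) / #16318 (helper324) (2): TV on `U = ⟨r₁₂^X⟩ ≥ V`  (helper537)

`ρ : H →* GL(U)`, `e : 𝔽₂ⁿ → U` with kernel `{0, 1}`, `n` odd, the pairs `e {i, j}` are points (in the orbit `Om`)
and centres of transvections which act on `e(𝔽₂ⁿ)` as `(i j)`.

* `Dat.big_mem` : if there are two transvections with the same centre, every non-trivial even set is a point;
* `Dat.small_mem` : otherwise `U = e(𝔽₂ⁿ)`, provided that a 2-subgroup which normalises `e(𝔽₂ⁿ)` has its fixed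
  points in `e(𝔽₂ⁿ)`.
-/

set_option autoImplicit false

namespace Cfsg.Agent.Omega.NSix.TvEnd

open Module Cfsg.Agent.Omega.TV

variable {H : Type*} [Group H] {U : Type*} [AddCommGroup U] [Module (ZMod 2) U]
  {ρ : H →* (U ≃ₗ[ZMod 2] U)} {Om : Set U} {n : ℕ}

/-- the pair `{i, j}` -/
def pr (i j : Fin n) : Fin n → ZMod 2 := Pi.single i 1 + Pi.single j 1

theorem pr_apply (i j k : Fin n) : pr i j k = (if k = i then 1 else 0) + (if k = j then 1 else 0) := by
  simp [pr, Pi.single_apply]

theorem pr_self (i : Fin n) : pr i i = 0 := by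
  funext k
  rw [pr_apply]
  exact z2_add_self _

theorem pr_comm (i j : Fin n) : pr i j = pr j i := add_comm _ _

theorem sum_one (hn : Odd n) : ∑ _l : Fin n, (1 : ZMod 2) = 1 := by
  rw [Finset.sum_const, Finset.card_univ, Fintype.card_fin, nsmul_eq_mul, mul_one]
  obtain ⟨k, rfl⟩ := hn
  push_cast
  rw [show (2 : ZMod 2) = 0 from rfl]
  ring

theorem sum_pr (i j : Fin n) : ∑ l, pr i j l = 0 := by
  simp only [Finset.sum_add_distrib, pr_apply]
  rw [Finset.sum_ite_eq' Finset.univ i, Finset.sum_ite_eq' Finset.univ j,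
    if_pos (Finset.mem_univ _), if_pos (Finset.mem_univ _)]
  decide

/-- The data. -/
structure Dat (ρ : H →* (U ≃ₗ[ZMod 2] U)) (Om : Set U) (e : (Fin n → ZMod 2) →ₗ[ZMod 2] U) : Prop where
  sys : Sys ρ Om
  one : e 1 = 0
  mem : ∀ i j, i ≠ j → e (pr i j) ∈ Om
  fn : ∀ i j, i ≠ j → ∃ φ, Fn ρ (e (pr i j)) φ ∧ ∀ x, φ (e x) = x i + x j

namespace Dat

variable {e : (Fin n → ZMod 2) →ₗ[ZMod 2] U} (h : Dat ρ Om e)
include h

theorem adj {i j : Fin n} (hij : i ≠ j) {x : Fin n → ZMod 2} (hx : x i + x j = 1) :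
    Adj ρ (e (pr i j)) (e x) := by
  obtain ⟨φ, h1, h2⟩ := h.fn i j hij
  exact ⟨φ, h1, by rw [h2, hx]⟩

/-- **Big case.** -/
theorem big_mem [Finite U] (hn : Odd n) (hb : Sys.Big ρ Om) :
    ∀ (k : ℕ) (x : Fin n → ZMod 2), (Finset.univ.filter fun i => x i = 1).card = k →
      ∑ i, x i = 0 → x ≠ 0 → e x ∈ Om := by
  intro k
  induction k using Nat.strong_induction_on with
  | _ k IH =>
    intro x hk hx hx0
    classical
    -- two elements of the support
    obtain ⟨i, hi⟩ : ∃ i, x i = 1 := by
      by_contra hcon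
      push Not at hcon
      exact hx0 (funext fun i => z2_ne_one (hcon i))
    obtain ⟨j, hji, hj⟩ : ∃ j, j ≠ i ∧ x j = 1 := by
      by_contra hcon
      push Not at hcon
      have h1 : ∑ l, x l = x i := by
        rw [← Finset.add_sum_erase _ _ (Finset.mem_univ i)]
        rw [Finset.sum_eq_zero (fun l hl => z2_ne_one (hcon l (Finset.ne_of_mem_erase hl))), add_zero]
      rw [hx, hi] at h1
      exact zero_ne_one h1
    have hij : i ≠ j := hji.symm
    set y := x + pr i j with hy
    by_cases hy0 : y = 0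
    · have : x = pr i j := v_eq_of_add hy0
      rw [this]
      exact h.mem i j hij
    have hyi : y i = 0 := by
      rw [hy, Pi.add_apply, pr_apply, hi, if_pos rfl, if_neg hij]; decide
    have hyj : y j = 0 := by
      rw [hy, Pi.add_apply, pr_apply, hj, if_pos rfl, if_neg hji]; decide
    have hyk : ∀ l, l ≠ i → l ≠ j → y l = x l := by
      intro l h1 h2
      rw [hy, Pi.add_apply, pr_apply, if_neg h1, if_neg h2, add_zero, add_zero]
    have hsum : ∑ l, y l = 0 := by
      rw [hy]
      simp only [Pi.add_apply, Finset.sum_add_distrib, hx, sum_pr, zero_add]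
    have hsub : (Finset.univ.filter fun l => y l = 1) ⊂ (Finset.univ.filter fun l => x l = 1) := by
      rw [Finset.ssubset_iff_subset_ne]
      constructor
      · intro l hl
        rw [Finset.mem_filter] at hl ⊢
        refine ⟨hl.1, ?_⟩
        have h1 : l ≠ i := by rintro rfl; rw [hyi] at hl; exact zero_ne_one hl.2
        have h2 : l ≠ j := by rintro rfl; rw [hyj] at hl; exact zero_ne_one hl.2
        rw [← hyk l h1 h2]; exact hl.2
      · intro he
        have h1 : i ∈ (Finset.univ.filter fun l => y l = 1) := by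
          rw [he, Finset.mem_filter]; exact ⟨Finset.mem_univ _, hi⟩
        rw [Finset.mem_filter, hyi] at h1
        exact zero_ne_one h1.2
    have hyOm : e y ∈ Om := IH _ (by rw [← hk]; exact Finset.card_lt_card hsub) y rfl hsum hy0
    obtain ⟨l, hl⟩ : ∃ l, y l = 1 := by
      by_contra hcon
      push Not at hcon
      exact hy0 (funext fun i => z2_ne_one (hcon i))
    have hli : i ≠ l := by rintro rfl; rw [hyi] at hl; exact zero_ne_one hl
    have hlj : j ≠ l := by rintro rfl; rw [hyj] at hl; exact zero_ne_one hl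
    have hp := h.mem i j hij
    have hq := h.mem i l hli
    have a1 : Adj ρ (e (pr i l)) (e y) := h.adj hli (by rw [hyi, hl, zero_add])
    have a2 : Adj ρ (e (pr i l)) (e (pr i j)) := h.adj hli (by
      rw [pr_apply, pr_apply, if_pos rfl, if_neg hij, if_neg hli.symm, if_neg hlj.symm]; decide)
    have hne : e y ≠ e (pr i j) := by
      intro he
      have hy1 : ∀ a b : Fin n, a ≠ b → y a + y b = pr i j a + pr i j b := by
        intro a b hab
        obtain ⟨κ, -, hκ⟩ := h.fn a b hab
        rw [← hκ y, ← hκ (pr i j), he]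
      -- then `x = y + {i, j}` is constant
      have hx1 : ∀ a b : Fin n, x a = x b := by
        intro a b
        by_cases hab : a = b
        · rw [hab]
        have h4 := hy1 a b hab
        rw [hy, Pi.add_apply, Pi.add_apply] at h4
        have h5 : x a + x b = 0 := by
          have h6 : x a + x b = (x a + pr i j a + (x b + pr i j b)) + (pr i j a + pr i j b) := by
            calc x a + x b = x a + x b + (pr i j a + pr i j a) + (pr i j b + pr i j b) := by
                  rw [z2_add_self, z2_add_self, add_zero, add_zero]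
              _ = _ := by ring
          rw [h6, h4, z2_add_self]
        exact v_eq_of_add h5
      have hx2 : ∑ l, x l = 1 := by
        rw [Finset.sum_congr rfl (fun l _ => (hx1 l i).trans hi), sum_one hn]
      rw [hx] at hx2
      exact zero_ne_one hx2
    have hnear : Sys.Near ρ Om (e y) (e (pr i j)) := ⟨_, hq, h.sys.symm hq hyOm a1, a2⟩
    have hadj := h.sys.adj_of_near hb hyOm hp hne hnear
    have h1 := h.sys.add_mem hp hadj
    have h2 : e (pr i j) + e y = e x := by
      rw [← map_add, hy, add_comm x, ← add_assoc, v_add_self, zero_add]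
    rwa [h2] at h1

omit h in
/-- a fixed vector of a 2-group in an invariant non-trivial submodule -/
theorem exists_fixed [Finite U] {S : Subgroup H} (hS : IsPGroup 2 S) (W : Submodule (ZMod 2) U)
    (hW : ∀ s ∈ S, ∀ w ∈ W, ρ s w ∈ W) (hne : W ≠ ⊥) :
    ∃ w ∈ W, w ≠ 0 ∧ ∀ s ∈ S, ρ s w = w := by
  have : Fact (Nat.Prime 2) := ⟨Nat.prime_two⟩
  let act : MulAction S W :=
    { smul := fun s w => ⟨ρ s w, hW s s.2 w w.2⟩
      one_smul := fun w => Subtype.ext (by
        change ρ ((1 : S) : H) (w : U) = w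
        rw [OneMemClass.coe_one, map_one]; rfl)
      mul_smul := fun s t w => Subtype.ext (by
        change ρ ((s * t : S) : H) (w : U) = ρ s (ρ t w)
        rw [Subgroup.coe_mul, rmul]) }
  have h2 : 2 ∣ Nat.card W := by
    obtain ⟨w, hw, hw0⟩ := W.ne_bot_iff.1 hne
    have : Finite W := Finite.of_injective (fun w : W => (w : U)) Subtype.val_injective
    have h3 : addOrderOf (⟨w, hw⟩ : W) = 2 := by
      refine addOrderOf_eq_prime ?_ (fun e => hw0 (congrArg Subtype.val e))
      rw [two_nsmul]
      exact Subtype.ext (v_add_self w)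
    exact h3.symm.dvd.trans (addOrderOf_dvd_natCard (⟨w, hw⟩ : W))
  have : Finite W := Finite.of_injective (fun w : W => (w : U)) Subtype.val_injective
  have h0 : (0 : W) ∈ MulAction.fixedPoints S W := by
    intro s
    exact Subtype.ext (map_zero (ρ s))
  obtain ⟨b, hb, hb0⟩ := hS.exists_fixed_point_of_prime_dvd_card_of_fixed_point W h2 h0
  refine ⟨b, b.2, fun e => hb0 (Subtype.ext e.symm), fun s hs => ?_⟩
  exact congrArg Subtype.val (hb ⟨s, hs⟩)

/-- **Small case.** -/
theorem small_mem [Finite U] [NeZero n] (hn : Odd n) (hs : Sys.Small ρ Om) {S : Subgroup H}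
    (hS : IsPGroup 2 S) (hfix : ∀ u, (∀ s ∈ S, ρ s u = u) → ∃ x, e x = u)
    (hinv : ∀ s ∈ S, ∀ x, ∃ y, ρ s (e x) = e y) (u : U) : ∃ x, e x = u := by
  classical
  obtain ⟨f, hf⟩ := h.sys.exists_form hs
  have hfp : ∀ i j, ∀ x, f (e (pr i j)) (e x) = x i + x j := by
    intro i j x
    by_cases hij : i = j
    · rw [hij, pr_self, map_zero, map_zero, LinearMap.zero_apply, z2_add_self]
    obtain ⟨φ, h1, h2⟩ := h.fn i j hij
    have h3 : φ ≠ 0 := by
      intro h0
      have h4 := h2 (Pi.single i 1)
      rw [h0, LinearMap.zero_apply, Pi.single_eq_same, Pi.single_eq_of_ne (Ne.symm hij), add_zero] at h4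
      exact zero_ne_one h4
    rw [← hf.uniq _ (h.mem i j hij) φ h3 h1]
    exact h2 x
  -- an even vector is a sum of pairs `{0, i}`
  have hev : ∀ y : Fin n → ZMod 2, ∑ i, y i = 0 → y = ∑ i, y i • pr 0 i := by
    intro y hy
    funext k
    rw [Finset.sum_apply]
    simp only [Pi.smul_apply, smul_eq_mul, pr_apply, mul_add, Finset.sum_add_distrib]
    rw [← Finset.sum_mul, hy, zero_mul, zero_add]
    simp
  have hfe : ∀ y : Fin n → ZMod 2, ∑ i, y i = 0 → ∀ w : U,
      f (e y) w = ∑ i, y i * f (e (pr 0 i)) w := by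
    intro y hy w
    conv_lhs => rw [hev y hy]
    simp only [map_sum, map_smul, LinearMap.sum_apply, LinearMap.smul_apply, smul_eq_mul]
  have hodd : ∀ y : Fin n → ZMod 2, ∃ y', e y' = e y ∧ ∑ i, y' i = 0 := by
    intro y
    rcases z2 (∑ i, y i) with h1 | h1
    · exact ⟨y, rfl, h1⟩
    · refine ⟨y + 1, by rw [map_add, h.one, add_zero], ?_⟩
      simp only [Pi.add_apply, Pi.one_apply, Finset.sum_add_distrib, h1, sum_one hn]
      decide
  let W : Submodule (ZMod 2) U :=
    { carrier := {w | ∀ x, f (e x) w = 0}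
      zero_mem' := fun x => map_zero _
      add_mem' := fun ha hb x => by rw [map_add, ha x, hb x, add_zero]
      smul_mem' := fun c w hw x => by rw [map_smul, hw x, smul_zero] }
  have hWinv : ∀ s ∈ S, ∀ w ∈ W, ρ s w ∈ W := by
    intro s hs w hw x
    obtain ⟨y, hy⟩ := hinv s⁻¹ (inv_mem hs) x
    have h1 := hf.inv s⁻¹ (e x) (ρ s w)
    rw [rinv, hy] at h1
    rw [← h1]
    exact hw y
  have hW : W = ⊥ := by
    by_contra hne
    obtain ⟨w, hw, hw0, hws⟩ := exists_fixed hS W hWinv hne
    obtain ⟨x, rfl⟩ := hfix w hws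
    apply hw0
    have h1 : ∀ i, x i = x 0 := by
      intro i
      have h2 := hw (pr i 0)
      rw [hfp] at h2
      exact v_eq_of_add h2
    rcases z2 (x 0) with h2 | h2
    · have : x = 0 := funext fun i => (h1 i).trans h2
      rw [this, map_zero]
    · have : x = 1 := funext fun i => (h1 i).trans h2
      rw [this, h.one]
  set x : Fin n → ZMod 2 := fun i => f (e (pr 0 i)) u with hx
  have hx0 : x 0 = 0 := by
    change f (e (pr 0 0)) u = 0
    rw [pr_self, map_zero, map_zero, LinearMap.zero_apply]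
  refine ⟨x, ?_⟩
  have h1 : u + e x ∈ W := by
    intro y
    obtain ⟨y', hy', hy0⟩ := hodd y
    rw [← hy', hfe y' hy0]
    have h2 : ∀ i, y' i * f (e (pr 0 i)) (u + e x) = 0 := by
      intro i
      rw [map_add, hfp, hx0, zero_add]
      change y' i * (x i + x i) = 0
      rw [z2_add_self, mul_zero]
    rw [Finset.sum_congr rfl (fun i _ => h2 i), Finset.sum_const_zero]
  rw [hW, Submodule.mem_bot] at h1
  exact (v_eq_of_add h1).symm

end Dat

end Cfsg.Agent.Omega.NSix.TvEnd
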